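/-
Eigenvalues of automorphisms on sections of order `p`, and diagonal automorphisms of essential subgroups.
-/
import Cfsg.Agent.Lib.Fus3.Pearl
import Cfsg.Agent.Lib.Fus.SmallE

set_option autoImplicit false
set_option linter.unusedSectionVars false

namespace Cfsg.Lib.Layer.P5

open Cfsg Cfsg.FusionSystem Equiv Subgroup Cfsg.Lib.Fus
open scoped commutatorElement

variable {Ω : Type*} [Group Ω] {p : ℕ} [hp : Fact p.Prime]

/-- additive on a subgroup -/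
def Ad (θ : Ω → ZMod p) (A : Subgroup Ω) : Prop := ∀ u ∈ A, ∀ v ∈ A, θ (u * v) = θ u + θ v

/-- `α` acts on the section `A / B` as multiplication by `k`. -/
structure Ev (α : Perm Ω) (B A : Subgroup Ω) (k : ZMod p) : Prop where
  mA : ∀ u ∈ A, α u ∈ A
  mB : ∀ u ∈ B, α u ∈ B
  ev : ∀ θ : Ω → ZMod p, Ad θ A → (∀ u ∈ B, θ u = 0) → ∀ u ∈ A, θ (α u) = k * θ u

variable {α : Perm Ω} {A B H A₁ A₂ A₃ B₁ B₂ B₃ S : Subgroup Ω} {k k₁ k₂ k₃ : ZMod p} {x : Ω}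

theorem Ad.mono {θ : Ω → ZMod p} (h : Ad θ A) (hH : H ≤ A) : Ad θ H := fun u hu v hv => h u (hH hu) v (hH hv)

theorem ev_of_co (h : Ip p B A) (hα : HomOn A α) (mA : ∀ u ∈ A, α u ∈ A) (mB : ∀ u ∈ B, α u ∈ B)
    {φ : Ω → ZMod p} (hφ : Ad φ A) (h2 : ∀ u ∈ A, φ u = 0 ↔ u ∈ B) (hx : x ∈ A) (hx' : x ∉ B)
    (e : φ (α x) = k * φ x) : Ev α B A k := by
  refine ⟨mA, mB, fun θ hθ h0 u hu => ?_⟩
  have h1 : φ x ≠ 0 := fun e => hx' ((h2 x hx).mp e)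
  have a1 : Ad (fun u => φ u / φ x) A := fun u hu v hv => by simp only [hφ u hu v hv]; ring
  have k1 : ∀ u ∈ A, φ u / φ x = 0 ↔ u ∈ B := fun u hu => by rw [div_eq_zero_iff, or_iff_left h1, h2 u hu]
  have e1 := h.co_eq_mul (φ := fun u => φ u / φ x) hθ a1 h0 k1 hx (div_self h1) hu
  have e2 := h.co_eq_mul (φ := fun u => φ u / φ x) hθ a1 h0 k1 hx (div_self h1) (mA u hu)
  have e3 := h.co_eq_mul (θ := fun u => φ (α u)) (φ := fun u => φ u / φ x) (fun u hu v hv => by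
    simp only [hα.map_mul hu hv, hφ _ (mA u hu) _ (mA v hv)]) a1
    (fun u hu => (h2 _ (h.le (mB u hu))).mpr (mB u hu)) k1 hx (div_self h1) hu
  rw [e2, e3, e, e1]; field_simp

theorem exists_ev (h : Ip p B A) (hα : HomOn A α) (mA : ∀ u ∈ A, α u ∈ A) (mB : ∀ u ∈ B, α u ∈ B) :
    ∃ k : ZMod p, Ev α B A k := by
  obtain ⟨x, hx, hx'⟩ := h.exists_not_mem
  obtain ⟨φ, h1, h2, h3⟩ := h.exists_co hx hx'
  exact ⟨φ (α x), ev_of_co h hα mA mB h1 h2 hx hx' (by rw [h3, mul_one])⟩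

theorem Ev.ne_zero [Finite A] (e : Ev α B A k) (h : Ip p B A) (hα : HomOn A α) : k ≠ 0 := fun h0 => by
  obtain ⟨x, hx, hx'⟩ := h.exists_not_mem
  obtain ⟨φ, h1, h2, h3⟩ := h.exists_co hx hx'
  have hy := hα.inv_mapsTo e.mA x hx
  have := e.ev φ h1 (fun u hu => (h2 u (h.le hu)).mpr hu) _ hy
  rw [perm_apply_inv_self, h3, h0, zero_mul] at this
  exact one_ne_zero this

theorem Ev.unique (e : Ev α B A k) (e' : Ev α B A k₁) (h : Ip p B A) : k = k₁ := by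
  obtain ⟨x, hx, hx'⟩ := h.exists_not_mem
  obtain ⟨φ, h1, h2, h3⟩ := h.exists_co hx hx'
  have h0 := fun u hu => (h2 u (h.le hu)).mpr hu
  have a := e.ev φ h1 h0 x hx
  rw [e'.ev φ h1 h0 x hx, h3, mul_one, mul_one] at a
  exact a.symm

/-- comparison of two sections sharing an element -/
theorem Ev.eq_of_le (e : Ev α B A k) (e' : Ev α B₁ A₁ k₁) (h : Ip p B A) (h1 : A₁ ≤ A) (h2 : B₁ ≤ B)
    (hx : x ∈ A₁) (hx' : x ∉ B) : k = k₁ := by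
  obtain ⟨φ, a1, a2, a3⟩ := h.exists_co (h1 hx) hx'
  have h0 := fun u hu => (a2 u (h.le hu)).mpr hu
  have a := e.ev φ a1 h0 x (h1 hx)
  rw [e'.ev φ (Ad.mono a1 h1) (fun u hu => h0 u (h2 hu)) x hx, a3, mul_one, mul_one] at a
  exact a.symm

theorem Ev.triv (e : Ev α B A (1 : ZMod p)) (h : Ip p B A) (hx : x ∈ A) : x⁻¹ * α x ∈ B := by
  obtain ⟨y, hy, hy'⟩ := h.exists_not_mem
  obtain ⟨φ, h1, h2, -⟩ := h.exists_co hy hy'
  refine (h2 _ (A.mul_mem (A.inv_mem hx) (e.mA x hx))).mp ?_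
  rw [h1 _ (A.inv_mem hx) _ (e.mA x hx), co_inv h1 hx, e.ev φ h1 (fun u hu => (h2 u (h.le hu)).mpr hu) x hx]; ring

theorem Ev.neg (e : Ev α B A (-1 : ZMod p)) (h : Ip p B A) (hx : x ∈ A) : x * α x ∈ B := by
  obtain ⟨y, hy, hy'⟩ := h.exists_not_mem
  obtain ⟨φ, h1, h2, -⟩ := h.exists_co hy hy'
  refine (h2 _ (A.mul_mem hx (e.mA x hx))).mp ?_
  rw [h1 _ hx _ (e.mA x hx), e.ev φ h1 (fun u hu => (h2 u (h.le hu)).mpr hu) x hx]; ring

theorem ev_one_of (mA : ∀ u ∈ A, α u ∈ A) (mB : ∀ u ∈ B, α u ∈ B) (hBA : B ≤ A)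
    (h : ∀ u ∈ A, u⁻¹ * α u ∈ B) : Ev α B A (1 : ZMod p) :=
  ⟨mA, mB, fun θ hθ h0 u hu => by
    have := hθ u hu _ (hBA (h u hu))
    rw [mul_inv_cancel_left, h0 _ (h u hu)] at this
    rw [this]; ring⟩

/-- The eigenvalue on a commutator is the product of the eigenvalues. -/
theorem ev_pair (hα : HomOn S α) (l1 : A₁ ≤ S) (l2 : A₂ ≤ S) (e1 : Ev α B₁ A₁ k₁) (e2 : Ev α B₂ A₂ k₂)
    (e3 : Ev α B₃ A₃ k₃) (i3 : Ip p B₃ A₃) (c : ∀ u ∈ A₁, ∀ v ∈ A₂, ⁅u, v⁆ ∈ A₃)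
    (c1 : ∀ u ∈ B₁, ∀ v ∈ A₂, ⁅u, v⁆ ∈ B₃) (c2 : ∀ u ∈ A₁, ∀ v ∈ B₂, ⁅u, v⁆ ∈ B₃)
    (c3 : ∀ u ∈ A₃, ∀ g ∈ S, ⁅u, g⁆ ∈ B₃) {u v : Ω} (hu : u ∈ A₁) (hv : v ∈ A₂) (hne : ⁅u, v⁆ ∉ B₃) :
    k₃ = k₁ * k₂ := by
  obtain ⟨θ, h1, h2, h3⟩ := i3.exists_co (c u hu v hv) hne
  have h0 := fun u hu => (h2 u (i3.le hu)).mpr hu
  have cj : ∀ g ∈ S, ∀ y ∈ A₃, θ (g * y * g⁻¹) = θ y := fun g hg y hy =>
    co_conj h1 h0 i3.le hy (c3 _ (A₃.inv_mem hy) g hg)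
  have cm : ∀ g ∈ S, ∀ y ∈ A₃, g * y * g⁻¹ ∈ A₃ := fun g hg y hy => by
    have := A₃.mul_mem hy (i3.le (c3 _ (A₃.inv_mem hy) g hg))
    simpa [commutatorElement_def, mul_assoc] using this
  have a1 : ∀ v ∈ A₂, Ad (fun u => θ ⁅u, v⁆) A₁ := fun v hv a ha b hb => by
    have : ⁅a * b, v⁆ = a * ⁅b, v⁆ * a⁻¹ * ⁅a, v⁆ := by simp [commutatorElement_def, mul_assoc]
    simp only
    rw [this, h1 _ (cm a (l1 ha) _ (c b hb v hv)) _ (c a ha v hv), cj a (l1 ha) _ (c b hb v hv), add_comm]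
  have a2 : ∀ u ∈ A₁, Ad (fun v => θ ⁅u, v⁆) A₂ := fun u hu a ha b hb => by
    have : ⁅u, a * b⁆ = ⁅u, a⁆ * (a * ⁅u, b⁆ * a⁻¹) := by simp [commutatorElement_def, mul_assoc]
    simp only
    rw [this, h1 _ (c u hu a ha) _ (cm a (l2 ha) _ (c u hu b hb)), cj a (l2 ha) _ (c u hu b hb)]
  have f1 := e1.ev _ (a1 _ (e2.mA v hv)) (fun w hw => h0 _ (c1 w hw _ (e2.mA v hv))) u hu
  have f2 := e2.ev _ (a2 u hu) (fun w hw => h0 _ (c2 u hu w hw)) v hv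
  have f3 := e3.ev θ h1 h0 _ (c u hu v hv)
  rw [hα.map_commutatorElement (l1 hu) (l2 hv), f1, f2, h3] at f3
  rw [← mul_one k₃, ← f3]; ring

variable {E D Y L U R N : Subgroup Ω} [Finite S] {F : FusionSystem S} {σ τ : Perm Ω} {s : Ω} {φ ψ : Ω → ZMod p}

/-- A subgroup invariant under the automizer. -/
def Inv (F : FusionSystem S) (E Y : Subgroup Ω) : Prop := ∀ τ, Iso F E E τ → ∀ u ∈ Y, τ u ∈ Y

theorem Inv.norm (h : Inv F E Y) (hY : Y ≤ E) (hE : E ≤ S) : normalizerIn S E ≤ normalizer (Y : Set Ω) :=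
  fun _ hg => mem_normalizer_of_inv hY h hE hg

/-- Data of a plane `E / Y` above a line `Y / D` above the Frattini subgroup. -/
structure Gd (p : ℕ) (F : FusionSystem S) (E D Y : Subgroup Ω) : Prop where
  fr : D ≤ (frattini E).map E.subtype
  le1 : D ≤ Y
  le2 : Y ≤ E
  iD : Inv F E D
  iY : Inv F E Y
  comm : ∀ u ∈ Y, ∀ v ∈ Y, u⁻¹ * (v * u * v⁻¹) ∈ D
  c1 : Nat.card Y ≤ p * Nat.card D

namespace Gd

variable (h : Gd p F E D Y)
include h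

theorem nD : Y ≤ normalizer (D : Set Ω) := le_normalizer_of_conj_mem fun g hg x hx => by
  have := D.mul_mem hx (h.comm x (h.le1 hx) g hg)
  rwa [mul_inv_cancel_left] at this

theorem mem_opP (hS : IsPGroup p S) (hσ : Iso F E E σ) (h1 : ∀ y ∈ Y, y⁻¹ * σ y ∈ D)
    (h2 : ∀ u ∈ E, u⁻¹ * σ u ∈ Y) : σ ∈ opP p F E :=
  mem_opP_of_chain_frattini hS (fun i => match i with | 0 => D | 1 => Y | _ + 2 => E) 2 h.fr rfl
    (fun i => match i with | 0 => h.le1.trans h.le2 | 1 => h.le2 | _ + 2 => le_rfl)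
    (fun i => match i with | 0 => h.le1 | 1 => h.le2 | _ + 2 => le_rfl)
    (fun i => match i with | 0 => h.iD | 1 => h.iY | _ + 2 => fun _ k _ hu => k.mem hu) hσ
    (fun i hi => match i, hi with | 0, _ => h1 | 1, _ => h2)

theorem cj_triv (hS : IsPGroup p S) (hES : E ≤ S) {g : Ω} (hg : g ∈ normalizerIn S E) :
    ∀ y ∈ Y, y⁻¹ * cj g y ∈ D := fun _ hy =>
  inv_mul_conj_mem_of_card hS h.le1 (h.le2.trans hES) h.nD h.c1 hg.1 (h.iD.norm (h.le1.trans h.le2) hES hg)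
    (h.iY.norm h.le2 hES hg) hy

theorem mul_triv (h1 : ∀ y ∈ Y, y⁻¹ * σ y ∈ D) (h2 : ∀ y ∈ Y, y⁻¹ * τ y ∈ D) :
    ∀ y ∈ Y, y⁻¹ * (σ * τ) y ∈ D := fun y hy => by
  have m : τ y ∈ Y := by simpa using Y.mul_mem hy (h.le1 (h2 y hy))
  simpa [mul_assoc] using D.mul_mem (h2 y hy) (h1 _ m)

theorem pow_triv (h1 : ∀ y ∈ Y, y⁻¹ * σ y ∈ D) : ∀ n : ℕ, ∀ y ∈ Y, y⁻¹ * (σ ^ n) y ∈ D
  | 0 => fun y _ => by simp
  | n + 1 => by rw [pow_succ]; exact h.mul_triv (pow_triv h1 n) h1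

theorem conj_triv (hσ : Iso F E E σ) (hτ : Iso F E E τ) (h1 : ∀ y ∈ Y, y⁻¹ * τ y ∈ D) :
    ∀ y ∈ Y, y⁻¹ * (σ * τ * σ⁻¹) y ∈ D := fun y hy => by
  have m := hσ.inv_mapsTo h.le2 (h.iY σ hσ) y hy
  have := h.iD σ hσ _ (h1 _ m)
  rwa [hσ.homOn.map_mul (E.inv_mem (h.le2 m)) (hτ.mem (h.le2 m)), hσ.homOn.map_inv (h.le2 m),
    perm_apply_inv_self] at this

theorem not_inv_line (hF : Sat p F) (hE : F.IsEssential p E) (h1 : Ip p Y L) (h2 : Ip p L E) : ¬ Inv F E L :=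
  fun hL => hF.not_flag hE (fun i => match i with | 0 => D | 1 => Y | 2 => L | _ + 3 => E) 3 h.fr rfl
    (fun i => match i with | 0 => h.le1.trans h.le2 | 1 => h.le2 | 2 => h2.le | _ + 3 => le_rfl)
    (fun i => match i with | 0 => h.le1 | 1 => h1.le | 2 => h2.le | _ + 3 => le_rfl)
    (fun i => match i with | 0 => h.iD | 1 => h.iY | 2 => hL | _ + 3 => fun _ k _ hu => k.mem hu)
    (fun i hi => match i, hi with | 0, _ => h.c1 | 1, _ => h1.card.le | 2, _ => h2.card.le)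

end Gd

/-- The output of the diagonal lemma. -/
structure Dg (p : ℕ) [Fact p.Prime] (F : FusionSystem S) (E D Y L : Subgroup Ω) (s x : Ω) (φ ψ : Ω → ZMod p) :
    Prop where
  pl : Pl p Y L E s x φ ψ
  nL : normalizerIn S E ≤ normalizer (L : Set Ω)
  ip : Ip p E (normalizerIn S E)
  ne : ∀ a ∈ normalizerIn S E, a ∉ E → φ (a * x * a⁻¹) ≠ 0
  act : ∀ a ∈ normalizerIn S E, PAct Y E φ ψ (cj a) 1 (φ (a * x * a⁻¹)) 0 1
  ex : ∃ σ, Iso F E E σ ∧ σ s = x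
  diag : ∀ d : ZMod p, d ≠ 0 → ∃ h, Iso F (normalizerIn S E) (normalizerIn S E) h ∧ Iso F E E h ∧
    (∀ y ∈ Y, y⁻¹ * h y ∈ D) ∧ PAct Y E φ ψ h d⁻¹ 0 0 d

theorem Gd.exists_dg (h : Gd p F E D Y) (hF : Sat p F) (hE : F.IsEssential p E)
    (hc : Nat.card E = p ^ 2 * Nat.card Y) :
    ∃ L s x φ ψ, Dg p F E D Y L s x φ ψ := by
  have hES : E ≤ S := hE.1.1
  have hS := hF.pg
  have hYU := h.le2
  have hY := h.iY
  obtain ⟨N, hN⟩ : ∃ N, N = normalizerIn S E := ⟨_, rfl⟩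
  have hNS : N ≤ S := hN ▸ normalizerIn_le S E
  have hEN : E ≤ N := hN ▸ le_normalizerIn hES
  have hNn : N ≤ Subgroup.normalizer (E : Set Ω) := hN ▸ normalizerIn_le_normalizer S E
  have := finite_of_le (hYU.trans hES)
  have := finite_of_le hNS
  have := finite_of_le hES
  have nY : N ≤ Subgroup.normalizer (Y : Set Ω) := hN ▸ hY.norm hYU hES
  have hYc : ∀ g ∈ N, ∀ y ∈ Y, y⁻¹ * cj g y ∈ D := fun g hg => h.cj_triv hS hES (hN ▸ hg)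
  have hp1 := hp.out.one_lt
  have hlt : Y < E := lt_of_le_of_ne hYU fun e => by
    rw [e] at hc
    have := Nat.card_pos (α := E)
    nlinarith [Nat.one_lt_pow (two_ne_zero) hp1]
  obtain ⟨L, h1, h2, nL⟩ : ∃ L, Ip p Y L ∧ Ip p L E ∧ N ≤ Subgroup.normalizer (L : Set Ω) := by
    obtain ⟨L, i1, l1, n1⟩ := exists_ip_normal (hS.to_le hNS) hlt hEN nY hNn
    exact ⟨L, i1, ip_of_card (hS.to_le hES) l1 (by rw [i1.card, hc]; ring), n1⟩
  have hLE := h2.le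
  have := finite_of_le (hLE.trans hES)
  obtain ⟨σ, hσ, s, hs, hx⟩ : ∃ σ, Iso F E E σ ∧ ∃ s ∈ L, σ s ∉ L := by
    have := h.not_inv_line hF hE h1 h2
    unfold Inv at this
    push Not at this
    exact this
  have hσL := hσ.homOn.mono hLE
  have iY := hσ.inv_mapsTo hYU (hY σ hσ)
  have iU : ∀ u ∈ E, σ⁻¹ u ∈ E := fun u hu => hσ.inv_mem hu
  have l2 : img σ L ≤ E := img_le_iff.mpr fun y hy => hσ.mem (h2.le hy)
  have h3 : Ip p (img σ L) E := ip_of_card (hS.to_le hES) l2 (by rw [hσL.card_img, h2.card])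
  have hYL' : Y ≤ img σ L := fun y hy => hσL.mem_img_iff_inv.mpr (h1.le (iY y hy))
  have hsY : s ∉ Y := fun e => hx (h1.le (hY σ hσ s e))
  have hs' : s ∉ img σ L := fun e => by
    have := finite_of_le l2
    have e' := eq_of_le_of_card_le' (h1.le_of_mem hs hsY hYL' e) hσL.card_img.le
    exact hx (e' ▸ apply_mem_img σ hs)
  obtain ⟨φ, ψ, hP, hφ⟩ := exists_pl h1 h2 h3 hYL' hs hs' (apply_mem_img σ hs) hx
  obtain ⟨x, hxe⟩ : ∃ x, x = σ s := ⟨_, rfl⟩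
  rw [← hxe] at hP
  have act : ∀ g ∈ N, PAct Y E φ ψ (cj g) 1 (φ (g * x * g⁻¹)) 0 1 := fun g hg =>
    hP.act_cj hS hES (hNS hg) (nY hg) (nL hg) (hNn hg)
  have isoN : ∀ g ∈ N, Iso F E E (cj g) := fun g hg => iso_cj F hES (hNS hg) (hNn hg)
  have memE : ∀ g ∈ N, φ (g * x * g⁻¹) = 0 → g ∈ E := fun g hg e =>
    essential_mem hS hE (hNS hg) (h.mem_opP hS (isoN g hg) (hYc g hg)
      fun u hu => ((act g hg).congr rfl e rfl rfl).triv hP hu)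
  obtain ⟨a, haS, haE, han, hap⟩ := hF.exists_normalizing hE
  have ha : a ∈ N := hN ▸ ⟨haS, han⟩
  obtain ⟨b, hb⟩ : ∃ b, b = φ (a * x * a⁻¹) := ⟨_, rfl⟩
  have hb0 : b ≠ 0 := fun e => haE (memE a ha (hb ▸ e))
  have actA : PAct Y E φ ψ (cj a) 1 b 0 1 := hb ▸ act a ha
  have adj : ∀ {τ t c d}, c ≠ 0 → PAct Y E φ ψ τ c t 0 d → ∃ k : ℕ, PAct Y E φ ψ (τ * cj (a ^ k)) c 0 0 d :=
    fun {τ t c d} hc k => ⟨(-t / (c * b)).val, by
      rw [map_pow]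
      exact (k.mul (actA.pow_up _)).congr (by ring) (by simp; field_simp; ring) (by ring) (by ring)⟩
  refine ⟨L, s, x, φ, ψ, hP, hN ▸ nL, hN ▸ ?_, fun g hg hg' e => hg' (memE g (hN ▸ hg) e),
    fun g hg => act g (hN ▸ hg), ⟨σ, hσ, hxe.symm⟩, fun d hd => ?_⟩
  · refine ip_of_gen hEN ha haE han hap fun g hg => ?_
    obtain ⟨k, hk⟩ := adj one_ne_zero (act g hg)
    have m := N.mul_mem hg (N.pow_mem ha k)
    rw [← map_mul] at hk
    refine ⟨_, memE _ m ?_, -(k : ℤ), by group⟩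
    have := hk.e1 x hP.hx
    rw [cj_apply, hP.φx] at this
    simpa only [mul_zero, zero_mul, add_zero] using this
  rw [← hN]
  obtain ⟨B, hB⟩ : ∃ B, B = σ * cj a * σ⁻¹ := ⟨_, rfl⟩
  have isoB : Iso F E E B := hB ▸ hσ.conj (isoN a ha)
  have conjB : ∀ u ∈ E, u⁻¹ * B u = σ ((σ⁻¹ u)⁻¹ * (a * σ⁻¹ u * a⁻¹)) := fun u hu => by
    have m := iU u hu
    rw [hσ.homOn.map_mul (E.inv_mem m) (conj_mem_of_mem_normalizer han m), hσ.homOn.map_inv m,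
      perm_apply_inv_self, hB]
    rfl
  have fixB : ∀ y ∈ Y, y⁻¹ * B y ∈ D := hB ▸ h.conj_triv hσ (isoN a ha) (hYc a ha)
  have BU : ∀ u ∈ E, B u ∈ E := fun u hu => isoB.mem hu
  have Bx : x⁻¹ * B x ∈ Y := by
    rw [conjB x hP.hx, hxe, perm_inv_apply_self]
    exact hY σ hσ _ (inv_mul_conj_mem_of_card hS h1.le (hLE.trans hES) h1.norm h1.card.le haS (nY ha) (nL ha) hs)
  have Bs : s⁻¹ * B s ∈ img σ L := by
    rw [conjB s hP.sU]
    exact apply_mem_img σ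
      (inv_mul_conj_mem_of_card hS h2.le hES h2.norm h2.card.le haS (nL ha) (hNn ha) (iU s hP.sU))
  obtain ⟨c, hc'⟩ : ∃ c, c = ψ (B s) := ⟨_, rfl⟩
  have actB : PAct Y E φ ψ B 1 0 c 1 := by
    refine (hP.act isoB.homOn BU (hY B isoB)).congr ?_ ?_ hc'.symm ?_
    · have := (hφ _ (l2 Bs)).mpr Bs
      rw [hP.add1 _ (E.inv_mem hP.sU) _ (BU s hP.sU), co_inv hP.add1 hP.sU, hP.φs] at this
      linear_combination this
    · rw [hP.eq1 hP.hx (BU x hP.hx) Bx, hP.φx]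
    · rw [hP.eq2 hP.hx (BU x hP.hx) (h1.le Bx), hP.ψx]
  have hc0 : c ≠ 0 := fun e => by
    have := h.mem_opP hS isoB fixB fun u hu => (actB.congr rfl rfl e rfl).triv hP hu
    rw [hB, hσ.conj_mem_opP] at this
    exact haE (essential_mem hS hE haS this)
  obtain ⟨n, hn⟩ : ∃ n : ℕ, (n : ZMod p) = (d - 1) / (b * c) := ⟨_, ZMod.natCast_zmod_val _⟩
  obtain ⟨m, hm⟩ : ∃ m : ℕ, (m : ZMod p) = -d⁻¹ := ⟨_, ZMod.natCast_zmod_val _⟩
  obtain ⟨g, hg⟩ : ∃ g, g = B * cj a ^ n * B ^ m := ⟨_, rfl⟩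
  have isog : Iso F E E g := hg ▸ (isoB.pow m).trans (((isoN a ha).pow n).trans isoB)
  have fixg : ∀ y ∈ Y, y⁻¹ * g y ∈ D := by
    rw [hg]
    exact h.mul_triv (h.mul_triv fixB (h.pow_triv (hYc a ha) n)) (h.pow_triv fixB m)
  have actg : PAct Y E φ ψ g d⁻¹ (n * b) 0 d := by
    rw [hg]
    refine ((actB.mul (actA.pow_up n)).mul (actB.pow_low m)).congr ?_ (by ring) ?_ ?_
    · rw [hn, hm]; field_simp; ring
    · rw [hn, hm]; field_simp; ring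
    · rw [hn]; field_simp; ring
  have gU : ∀ u ∈ E, g⁻¹ u ∈ E := fun u hu => isog.inv_mem hu
  have hext : N ≤ extP S E g := fun t ht => by
    refine (mem_extP_iff_autS isog.mem_iff).mpr ⟨hNS ht, hNn ht, ?_⟩
    have isoC := isog.conj (isoN t ht)
    have actC : PAct Y E φ ψ (g * cj t * g⁻¹) 1 (d⁻¹ * d⁻¹ * φ (t * x * t⁻¹)) 0 1 := by
      have k := actg.mul (act t ht)
      refine ⟨fun u hu => isoC.mem hu, fun u hu => ?_, fun u hu => ?_⟩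
      · have e1 := actg.e1 _ (gU u hu)
        have e2 := actg.e2 _ (gU u hu)
        rw [perm_apply_inv_self] at e1 e2
        rw [Perm.mul_apply, k.e1 _ (gU u hu), e1, e2]
        field_simp; ring
      · have e2 := actg.e2 _ (gU u hu)
        rw [perm_apply_inv_self] at e2
        rw [Perm.mul_apply, k.e2 _ (gU u hu), e2]
        ring
    obtain ⟨k, hk⟩ := adj one_ne_zero actC
    have ak := N.pow_mem ha k
    have := h.mem_opP hS ((isoN _ ak).trans isoC) (h.mul_triv (h.conj_triv isog (isoN t ht) (hYc t ht)) (hYc _ ak))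
      fun u hu => hk.triv hP hu
    have m1 := autS_mono hES E (radical_opP_le (radical_of_essential hS hE) this)
    simpa using (autS S E).mul_mem m1 ((autS S E).inv_mem (cj_mem_autS (hNS ak) (hNn ak)))
  obtain ⟨τ, hτ, e⟩ := hF.extend isog (centric_isFullyCentralized hE.1) hext
  have isoτ := isog.congr e
  have hτN := hτ.mono (le_sup_right : N ≤ E ⊔ N)
  have isoN' : Iso F N N τ := hτN.iso_self fun t ht => by
    have := hτN.mem_normalizerIn_img hEN ht (hNn ht)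
    rwa [isoτ.img_eq, ← hN] at this
  have actτ : PAct Y E φ ψ τ d⁻¹ (n * b) 0 d := ⟨fun u hu => isoτ.mem hu,
    fun u hu => by rw [e u hu]; exact actg.e1 u hu, fun u hu => by rw [e u hu]; exact actg.e2 u hu⟩
  obtain ⟨k, hk⟩ := adj (inv_ne_zero hd) actτ
  have ak := N.pow_mem ha k
  exact ⟨_, (iso_cj F hNS (hNS ak) (le_normalizer ak)).trans isoN', (isoN _ ak).trans isoτ,
    h.mul_triv (fun y hy => by rw [e y (hYU hy)]; exact fixg y hy) (hYc _ ak), hk⟩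

end Cfsg.Lib.Layer.P5
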