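/-
Essential subgroups with a natural `SL₂(p)` section: extension to `S` and invariant characters.
-/
import Cfsg.Agent.Lib.Layer.P5a

set_option autoImplicit false
set_option linter.unusedSectionVars false

namespace Cfsg.Lib.Layer.P5

open Cfsg Cfsg.FusionSystem Equiv Subgroup Cfsg.Lib.Fus
open scoped commutatorElement

variable {Ω : Type*} [Group Ω] {p : ℕ} [hp : Fact p.Prime]
variable {S E E' D Y L R N Q P : Subgroup Ω} {σ τ ρ g : Perm Ω} {s x : Ω} {φ ψ : Ω → ZMod p}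

theorem comm_le_fr [Finite P] (hP : IsPGroup p P) : ⁅P, P⁆ ≤ (frattini P).map P.subtype := by
  rw [← map_subtype_commutator]
  exact map_mono (PGrp.commutator_le_frattini hP)

omit hp in
theorem comm_le_self (P : Subgroup Ω) : ⁅P, P⁆ ≤ P :=
  commutator_le.mpr fun a ha b hb => mul_mem (mul_mem (mul_mem ha hb) (inv_mem ha)) (inv_mem hb)

variable [Finite S] {F : FusionSystem S}

omit hp in
theorem inv_comm (F : FusionSystem S) (P : Subgroup Ω) : Inv F P ⁅P, P⁆ :=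
  fun _ h _ hu => h.homOn.mem_commutator (fun _ hx => h.mem hx) hu

omit hp in
theorem inv_center (F : FusionSystem S) (P : Subgroup Ω) : Inv F P (centralizerIn P P) :=
  fun _ h u hu => (h.mem_centralizerIn_iff le_rfl h u).mpr hu

omit hp in
theorem inv_bot (F : FusionSystem S) (P : Subgroup Ω) : Inv F P ⊥ :=
  fun _ h u hu => by rw [mem_bot.mp hu, h.homOn.map_one]; exact one_mem _

theorem gd_comm (hS : IsPGroup p S) (hR : R ≤ S) (h1 : ⁅R, R⁆ ≤ Y) (h2 : Y ≤ R) (h3 : Inv F R Y)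
    (h4 : Nat.card Y ≤ p * Nat.card ↥⁅R, R⁆) : Gd p F R ⁅R, R⁆ Y :=
  have := finite_of_le hR
  ⟨comm_le_fr (hS.to_le hR), h1, h2, inv_comm F R, h3, fun _ hu _ hv => comm_mem' (h2 hu) (h2 hv), h4⟩

theorem Gd.inv_triv (h : Gd p F E D Y) (hg : Iso F E E g) (h1 : ∀ y ∈ Y, y⁻¹ * g y ∈ D) :
    ∀ y ∈ Y, y⁻¹ * g⁻¹ y ∈ D := fun y hy => by
  have m := hg.inv_mapsTo h.le2 (h.iY g hg) y hy
  have := D.inv_mem (h1 _ m)
  rwa [perm_apply_inv_self, mul_inv_rev, inv_inv] at this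

/-- An automorphism inverting `R / Y` and centralizing `Y / [R, R]` is central modulo inner ones. -/
theorem Gd.comm_inv (h : Gd p F R ⁅R, R⁆ Y) (hS : IsPGroup p S) (hr : F.IsRadical p R) (hg : Iso F R R g)
    (h1 : ∀ x ∈ R, x * g x ∈ Y) (h2 : ∀ y ∈ Y, y⁻¹ * g y ∈ ⁅R, R⁆) (hρ : Iso F R R ρ) :
    ∀ x ∈ R, (ρ (g x))⁻¹ * g (ρ x) ∈ ⁅R, R⁆ := fun x hx => by
  have hκ : Iso F R R (g * (ρ * g⁻¹ * ρ⁻¹)) := (hρ.conj hg.symm).trans hg
  have k := h.mem_opP hS hκ (h.mul_triv h2 (h.conj_triv hρ hg.symm (h.inv_triv hg h2))) fun u hu => by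
    have m := hg.inv_mem (hρ.inv_mem hu)
    have a1 := h.iY ρ hρ _ (h1 _ m)
    rw [perm_apply_inv_self, hρ.homOn.map_mul m (hρ.inv_mem hu), perm_apply_inv_self] at a1
    have a2 := h1 _ (hρ.mem m)
    simpa [mul_assoc] using Y.mul_mem (Y.inv_mem a1) a2
  obtain ⟨t, ht, e⟩ := mem_autS_self.mp (radical_opP_le hr k)
  have m := hρ.mem (hg.mem hx)
  have := comm_mem' m ht
  rw [← e _ m] at this
  simpa using this

namespace Dg

variable (h : Dg p F E D Y L s x φ ψ)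
include h

/-- The automizer is transitive on the lines of the plane. -/
theorem exists_iso (hG : Gd p F E D Y) (hES : E ≤ S) (h1 : Ip p Y E') (h2 : E' ≤ E) :
    ∃ ρ, Iso F E E ρ ∧ Iso F E' L ρ := by
  have := finite_of_le (h.pl.ip2.le.trans hES)
  have key : ∀ ρ, Iso F E E ρ → ∀ e ∈ E', e ∉ Y → ρ e ∈ L → Iso F E' L ρ := fun ρ hρ e he he' hL =>
    (hρ.mor.mono h2).iso_of_card_le (fun u hu => by
      have hm := (hρ.homOn.mono h2)
      exact (hm.mem_pre.mp (h1.le_of_mem he he' (fun y hy => hm.mem_pre.mpr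
        ⟨h1.le hy, h.pl.ip1.le (hG.iY ρ hρ y hy)⟩) (hm.mem_pre.mpr ⟨he, hL⟩) hu)).2)
      (by rw [h1.card, h.pl.ip1.card])
  obtain ⟨e, he, he'⟩ := h1.exists_not_mem
  by_cases h0 : ψ e = 0
  · exact ⟨1, iso_one F hES, key 1 (iso_one F hES) e he he' ((h.pl.ker2 e (h2 he)).mp h0)⟩
  obtain ⟨a, ha, ha'⟩ := h.ip.exists_not_mem
  obtain ⟨σ, hσ, hs⟩ := h.ex
  have b0 := h.ne a ha ha'
  obtain ⟨k, hk⟩ : ∃ k : ℕ, (k : ZMod p) = -φ e / (φ (a * x * a⁻¹) * ψ e) := ⟨_, ZMod.natCast_zmod_val _⟩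
  have act := (h.act a ha).pow_up k
  have i1 : Iso F E E (cj a ^ k) := (iso_cj F hES ha.1 ha.2).pow k
  refine ⟨σ⁻¹ * cj a ^ k, i1.trans hσ.symm, key _ (i1.trans hσ.symm) e he he' ?_⟩
  have m := i1.mem (h2 he)
  have e1 : φ ((cj a ^ k) e) = 0 := by rw [act.e1 e (h2 he), hk]; field_simp; ring
  obtain ⟨y, hy, e2⟩ := h.pl.dec m
  rw [e1, ZMod.val_zero, pow_zero, one_mul] at e2
  rw [Perm.mul_apply, e2, hσ.symm.homOn.map_mul (E.pow_mem h.pl.hx _) (hG.le2 hy),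
    hσ.symm.homOn.map_pow h.pl.hx, ← hs, perm_inv_apply_self]
  exact L.mul_mem (L.pow_mem h.pl.hs _) (h.pl.ip1.le (hG.iY _ hσ.symm y hy))

theorem exists_neg : ∃ g, Iso F (normalizerIn S E) (normalizerIn S E) g ∧ Iso F E E g ∧
    (∀ y ∈ Y, y⁻¹ * g y ∈ D) ∧ ∀ u ∈ E, u * g u ∈ Y := by
  obtain ⟨g, h1, h2, h3, h4⟩ := h.diag (-1) (neg_ne_zero.mpr one_ne_zero)
  refine ⟨g, h1, h2, h3, fun u hu => h.pl.mem_Y (E.mul_mem hu (h2.mem hu)) ?_ ?_⟩
  · rw [h.pl.add1 _ hu _ (h2.mem hu), h4.e1 u hu, inv_neg, inv_one]; ring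
  · rw [h.pl.add2 _ hu _ (h2.mem hu), h4.e2 u hu]; ring

end Dg

/-- All essential subgroups carry a plane over a central subgroup. -/
def AllGd (p : ℕ) (F : FusionSystem S) : Prop :=
  ∀ R, F.IsEssential p R → ∃ Y, Gd p F R ⁅R, R⁆ Y ∧ Y ≤ centralizerIn R R ∧ Nat.card R = p ^ 2 * Nat.card Y

theorem AllGd.ext_top (h : AllGd p F) (hF : Sat p F) (hE : F.IsEssential p E) (hQ : E < Q) (hτ : Mor F Q τ) :
    ∃ α, Iso F S S α ∧ ∀ x ∈ Q, α x = τ x := by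
  refine hF.ext_top_of hτ fun σ R hσ hR hm => ?_
  obtain ⟨Y, hG, hY, hc⟩ := h R hR
  obtain ⟨L, s, x, φ, ψ, hD⟩ := hG.exists_dg hF hR hc
  obtain ⟨YE, hGE, -, hcE⟩ := h E hE
  obtain ⟨_, _, _, _, _, hDE⟩ := hGE.exists_dg hF hE hcE
  have hS := hF.pg
  have hRS := hR.1.1
  have := finite_of_le hRS
  have iE := hσ.iso_of_le hQ.le
  have l1 : img σ E < img σ Q := hσ.homOn.img_lt_img hQ
  have l2 : img σ Q ≤ R := img_le_iff.mpr hm
  have cen := centric_centralizerIn_le (iE.isCentric hE.1)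
  have l0 : Y ≤ img σ E := fun y hy => cen (mem_centralizerIn'.mpr ⟨hRS (hY hy).1, fun u hu =>
    (mem_centralizerIn'.mp (hY hy)).2 u (l2 (l1.le hu))⟩)
  have l0' : Y < img σ E := lt_of_le_of_ne l0 fun e => l1.not_ge fun u hu => cen
    (mem_centralizerIn'.mpr ⟨hRS (l2 hu), fun y hy => center_conj (hY (e ▸ hy)) (l2 hu)⟩)
  have := finite_of_le (l1.le.trans l2)
  have := finite_of_le l2
  have c1 := mul_card_le_of_lt' ((hS.to_le hRS).to_le (l1.le.trans l2)) l0'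
  have c2 := mul_card_le_of_lt' (hS.to_le hRS) (l1.trans_le l2)
  have hp0 := hp.out.pos
  have i1 : Ip p Y (img σ E) := ip_of_card_le ((hS.to_le hRS).to_le (l1.le.trans l2)) l0'
    (Nat.le_of_mul_le_mul_left (by rw [hc] at c2; nlinarith) hp0)
  obtain ⟨ρ, -, hρ⟩ := hD.exists_iso hG hRS i1 (l1.le.trans l2)
  have f := (isFullyNormalized_iff.mp hE.2.1).2 L _ (iE.trans hρ)
  have := finite_of_le (normalizerIn_le S L)
  have c3 : Nat.card (normalizerIn S R) ≤ Nat.card (normalizerIn S L) :=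
    card_le_of_le fun g hg => ⟨hg.1, hD.nL hg⟩
  rw [hD.ip.card, hc] at c3
  rw [hDE.ip.card, iE.card_eq, i1.card] at f
  have := finite_of_le (hG.le2.trans hRS)
  have := Nat.card_pos (α := Y)
  have h1 := hp.out.one_lt
  have : p * (p ^ 2 * Nat.card Y) ≤ p * (p * Nat.card Y) := c3.trans f
  have := Nat.le_of_mul_le_mul_right (Nat.le_of_mul_le_mul_left this hp0) ‹_›
  nlinarith

theorem AllGd.focal_le (h : AllGd p F) (hF : Sat p F) (hp2 : p ≠ 2) {θ : Ω → ZMod p} (hθ : Ad θ S)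
    (h0 : ∀ α, Iso F S S α → ∀ u ∈ S, θ (α u) = θ u) {M : Subgroup Ω} (hM : ∀ u ∈ S, θ u = 0 → u ∈ M) :
    F.focalSubgroup ≤ M := by
  have hS := hF.pg
  have t2 : (2 : ZMod p) ≠ 0 := fun e =>
    hp2 ((Nat.prime_dvd_prime_iff_eq hp.out Nat.prime_two).mp ((ZMod.natCast_eq_zero_iff 2 p).mp e))
  have θc : ∀ u ∈ ⁅S, S⁆, θ u = 0 := fun u hu => by
    let K : Subgroup Ω :=
      { carrier := {u | u ∈ S ∧ θ u = 0}
        one_mem' := ⟨S.one_mem, co_one hθ⟩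
        mul_mem' := fun {a b} ha hb => ⟨S.mul_mem ha.1 hb.1, by rw [hθ a ha.1 b hb.1, ha.2, hb.2, add_zero]⟩
        inv_mem' := fun {a} ha => ⟨S.inv_mem ha.1, by rw [co_inv hθ ha.1, ha.2, neg_zero]⟩ }
    refine ((commutator_le.mpr fun a ha b hb => ?_ : ⁅S, S⁆ ≤ K) hu).2
    have m1 := S.mul_mem ha hb
    have m2 := S.mul_mem m1 (S.inv_mem ha)
    refine ⟨S.mul_mem m2 (S.inv_mem hb), ?_⟩
    rw [commutatorElement_def, hθ _ m2 _ (S.inv_mem hb), hθ _ m1 _ (S.inv_mem ha), hθ _ ha _ hb, co_inv hθ ha,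
      co_inv hθ hb]; ring
  suffices k : ∀ R, (R = S ∨ F.IsEssential p R) → ∀ τ, Iso F R R τ → ∀ x ∈ R, θ (τ x) = θ x from
    hF.focal_le_of_essential fun R hR τ hτ x hx => by
      have m := hτ.le hx
      refine hM _ (S.mul_mem (S.inv_mem m) (hτ.mor.mem hx)) ?_
      rw [hθ _ (S.inv_mem m) _ (hτ.mor.mem hx), k R hR τ hτ x hx, co_inv hθ m]; ring
  rintro R (rfl | hR) τ hτ
  · exact h0 τ hτ
  have hRS := hR.1.1
  obtain ⟨Y, hG, hY, hc⟩ := h R hR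
  obtain ⟨L, s, x, φ, ψ, hD⟩ := hG.exists_dg hF hR hc
  obtain ⟨g, g1, g2, g3, g4⟩ := hD.exists_neg
  have θD : ∀ u ∈ ⁅R, R⁆, θ u = 0 := fun u hu => θc u (commutator_mono hRS hRS hu)
  have θeq : ∀ u ∈ S, ∀ v ∈ S, u⁻¹ * v ∈ ⁅R, R⁆ → θ v = θ u := fun u hu v hv e => by
    have := θD _ e
    rw [hθ _ (S.inv_mem hu) _ hv, co_inv hθ hu] at this
    linear_combination this
  have θg : ∀ u ∈ R, θ (g u) = θ u := fun u hu => by
    obtain ⟨α, a1, a2⟩ := h.ext_top hF hR hD.ip.lt g1.mor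
    rw [← a2 u (hD.ip.le hu), h0 α a1 u (hRS hu)]
  let Kθ : Subgroup (Perm Ω) :=
    { carrier := {ρ | Iso F R R ρ ∧ ∀ u ∈ R, θ (ρ u) = θ u}
      one_mem' := ⟨iso_one F hRS, fun _ _ => rfl⟩
      mul_mem' := fun {a b} ha hb => ⟨hb.1.trans ha.1, fun u hu => by
        rw [Perm.mul_apply, ha.2 _ (hb.1.mem hu), hb.2 u hu]⟩
      inv_mem' := fun {a} ha => ⟨ha.1.symm, fun u hu => by
        rw [← ha.2 _ (ha.1.inv_mem hu), perm_apply_inv_self]⟩ }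
  let K : Subgroup (Perm Ω) :=
    { carrier := {ρ | Iso F R R ρ ∧ ∀ y ∈ Y, y⁻¹ * ρ y ∈ ⁅R, R⁆}
      one_mem' := ⟨iso_one F hRS, fun _ _ => by simp⟩
      mul_mem' := fun {a b} ha hb => ⟨hb.1.trans ha.1, hG.mul_triv ha.2 hb.2⟩
      inv_mem' := fun {a} ha => ⟨ha.1.symm, hG.inv_triv ha.1 ha.2⟩ }
  have hK : autS S R ≤ K := fun ρ hρ => by
    obtain ⟨t, ht, hn, e⟩ := mem_autS.mp hρ
    exact ⟨(iso_cj F hRS ht hn).congr e, fun y hy => by
      rw [e y (hG.le2 hy)]; exact hG.cj_triv hS hRS ⟨ht, hn⟩ y hy⟩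
  have k1 : K ≤ Kθ := fun ρ hρ => ⟨hρ.1, fun u hu => by
    have c := hG.comm_inv hS (radical_of_essential hS hR) g2 g4 g3 hρ.1 u hu
    have m1 := hρ.1.mem hu
    have m2 := hρ.1.mem (g2.mem hu)
    have e1 := θeq _ (hRS m2) _ (hRS (g2.mem m1)) c
    have e2 := θeq _ (hRS (hG.le2 (g4 u hu))) _ (hRS (hρ.1.mem (hG.le2 (g4 u hu)))) (hρ.2 _ (g4 u hu))
    rw [hρ.1.homOn.map_mul hu (g2.mem hu), hθ _ (hRS m1) _ (hRS m2), hθ _ (hRS hu) _ (hRS (g2.mem hu)), ← e1,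
      θg _ m1, θg _ hu] at e2
    exact mul_left_cancel₀ t2 (by linear_combination e2)⟩
  have k2 : extAut F R ≤ Kθ := fun ρ hρ => by
    obtain ⟨α, a1, a2⟩ := exists_ext_top hRS (fun Q τ hQ hτ => h.ext_top hF hR hQ hτ) hρ
    exact ⟨(mem_autP hRS).mp (extAut_le F R hρ), fun u hu => by rw [← a2 u hu, h0 α a1 u (hRS hu)]⟩
  obtain ⟨a, ha, ha'⟩ := hD.ip.exists_not_mem
  exact (sup_le k1 k2 (hF.autP_le_sup_extAut hR.2.1 ((autS_mono hRS R).trans hK) (fun ρ hρ => hρ.1.mem_autP)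
    (le_normalizer_of_conj_mem fun ρ hρ κ hκ => ⟨((mem_autP hRS).mp hρ).conj hκ.1,
      hG.conj_triv ((mem_autP hRS).mp hρ) hκ.1 hκ.2⟩)
    (fun e => ha' (mem_of_cj_mem_inn (centric_centralizerIn_le hR.1) ha.1 hRS
      (e ⟨cj_mem_autS ha.1 ha.2, hK (cj_mem_autS ha.1 ha.2)⟩))) hτ.mem_autP)).2

/-- The final contradiction with `hyp(F) = S`. -/
theorem AllGd.hyp_ne (h : AllGd p F) (hF : Sat p F) (hp2 : p ≠ 2) (h1 : Ip p ⁅S, S⁆ Y) (h2 : Y ≤ S)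
    (h3 : ∀ α, Iso F S S α → Ev α ⁅S, S⁆ Y (1 : ZMod p)) (hg : Iso F S S g) (h4 : ∀ u ∈ S, u * g u ∈ Y) :
    F.hyperfocalSubgroup p ≠ S := fun hh => by
  have hS := hF.pg
  have t2 : (2 : ZMod p) ≠ 0 := fun e =>
    hp2 ((Nat.prime_dvd_prime_iff_eq hp.out Nat.prime_two).mp ((ZMod.natCast_eq_zero_iff 2 p).mp e))
  have hG : Gd p F S ⁅S, S⁆ Y := gd_comm hS le_rfl h1.le h2 (fun α hα => (h3 α hα).mA) h1.card.le
  obtain ⟨y, hy, hy'⟩ := h1.exists_not_mem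
  obtain ⟨η, e1, e2, e3⟩ := h1.exists_co hy hy'
  have e0 := fun u hu => (e2 u (h1.le hu)).mpr hu
  have ad : Ad (fun u => η (u * g u)) S := fun u hu v hv => by
    have m : (g u)⁻¹ * (v * g u * v⁻¹) ∈ ⁅S, S⁆ := comm_mem' (hg.mem hu) hv
    have : u * v * g (u * v) = u * g u * ((g u)⁻¹ * (v * g u * v⁻¹)) * (v * g v) := by
      rw [hg.homOn.map_mul hu hv]; group
    simp only
    rw [this, e1 _ (Y.mul_mem (h4 u hu) (h1.le m)) _ (h4 v hv), e1 _ (h4 u hu) _ (h1.le m), e0 _ m, add_zero]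
  let M : Subgroup Ω :=
    { carrier := {u | u ∈ S ∧ η (u * g u) = 0}
      one_mem' := ⟨S.one_mem, co_one (φ := fun u => η (u * g u)) ad⟩
      mul_mem' := fun {a b} ha hb => ⟨S.mul_mem ha.1 hb.1, by
        have := ad a ha.1 b hb.1
        simp only at this
        rw [this, ha.2, hb.2, add_zero]⟩
      inv_mem' := fun {a} ha => ⟨S.inv_mem ha.1, by
        have := co_inv (φ := fun u => η (u * g u)) ad ha.1
        rw [this, ha.2, neg_zero]⟩ }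
  have k := h.focal_le hF hp2 ad (M := M) (fun α hα u hu => by
    have c := hG.comm_inv hS hF.radical_top hg h4 (fun y hy => (h3 g hg).triv h1 hy) hα u hu
    have m := (h3 α hα).mA _ (h4 u hu)
    have : α u * g (α u) = α (u * g u) * ((α (g u))⁻¹ * g (α u)) := by
      rw [hα.homOn.map_mul hu (hg.mem hu)]; group
    rw [this, e1 _ m _ (h1.le c), e0 _ c, (h3 α hα).ev η e1 e0 _ (h4 u hu)]; ring) fun u hu e => ⟨hu, e⟩
  have := (k (hyp_le_focal F p (hh.symm ▸ h2 hy))).2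
  rw [e1 _ hy _ ((h3 g hg).mA y hy), (h3 g hg).ev η e1 e0 y hy, e3] at this
  exact t2 (by linear_combination this)

end Cfsg.Lib.Layer.P5
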