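/-
Essential subgroups of a group of order `p ^ 5` without abelian subgroups of index `p`.
-/
import Cfsg.Agent.Lib.Layer.P5b

set_option autoImplicit false
set_option linter.unusedSectionVars false

namespace Cfsg.Lib.Layer.P5

open Cfsg Cfsg.FusionSystem Equiv Subgroup Cfsg.Lib.Fus
open scoped commutatorElement

variable {Ω : Type*} [Group Ω] {p : ℕ} [hp : Fact p.Prime]
variable {S E E' D Y L R N Q P H : Subgroup Ω} {σ τ ρ g : Perm Ω} {s x a : Ω} {φ ψ : Ω → ZMod p}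

omit hp in
theorem conj_eq_of_comm (h : IsMulCommutative E) {u v : Ω} (hu : u ∈ E) (hv : v ∈ E) : u * v * u⁻¹ = v := by
  have := congrArg Subtype.val (h.is_comm.comm ⟨u, hu⟩ ⟨v, hv⟩)
  simp only [coe_mul] at this
  rw [this, mul_inv_cancel_right]

omit hp in
theorem comm_of_conj (h : ∀ u ∈ E, ∀ v ∈ E, u * v * u⁻¹ = v) : IsMulCommutative E :=
  ⟨⟨fun u v => Subtype.ext (mul_inv_eq_iff_eq_mul.mp (h u u.2 v v.2))⟩⟩

omit hp in
/-- The elements fixed by conjugation with `a`. -/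
theorem conj_eq_iff {u : Ω} : u ∈ centralizer ({a} : Set Ω) ↔ a * u * a⁻¹ = u := by
  rw [mem_centralizer_singleton_iff, mul_inv_eq_iff_eq_mul, eq_comm]

omit hp in
theorem conj_symm {u v : Ω} (h : u * v * u⁻¹ = v) : v * u * v⁻¹ = u := by
  rw [mul_inv_eq_iff_eq_mul] at h ⊢; exact h.symm

omit hp in
theorem comm_of_ip (h : Ip p H E) (hH : ∀ u ∈ H, ∀ v ∈ E, u * v * u⁻¹ = v) : IsMulCommutative E := by
  obtain ⟨x, hx, hx'⟩ := SetLike.not_le_iff_exists.mp h.ne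
  refine comm_of_conj fun u hu v hv => ?_
  obtain ⟨k, hk, i, rfl⟩ := h.dec x hx hx' u hu
  obtain ⟨l, hl, j, rfl⟩ := h.dec x hx hx' v hv
  have c1 : Commute k x := mul_inv_eq_iff_eq_mul.mp (hH k hk x hx)
  have c2 : Commute l x := mul_inv_eq_iff_eq_mul.mp (hH l hl x hx)
  have c3 : Commute k l := mul_inv_eq_iff_eq_mul.mp (hH k hk l (h.le hl))
  have : Commute (k * x ^ i) (l * x ^ j) :=
    (c3.mul_right (c1.zpow_right j)).mul_left ((c2.symm.zpow_left i).mul_right (Commute.zpow_zpow_self x i j))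
  exact mul_inv_eq_iff_eq_mul.mpr this

variable [Finite S] {F : FusionSystem S}

theorem exists_W (hF : Sat p F) (hE : F.IsEssential p E) (hab : IsMulCommutative E) (hexp : ∀ u ∈ E, u ^ p = 1)
    (hH : Ip p H E) (ha : a ∈ normalizerIn S E) (ha' : a ∉ E) (hc : ∀ u ∈ H, a * u * a⁻¹ = u) :
    ∃ W, Inv F E W ∧ Ip p W H := by
  have hS := hF.pg
  have hES := hE.1.1
  have := finite_of_le hES
  have := finite_of_le (hH.le.trans hES)
  have cen := centric_centralizerIn_le hE.1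
  have hle := autS_le_extAut F (hF.essential_lt hE)
  have cjx : ∀ t ∈ normalizerIn S E, cj t ∈ extAut F E := fun t ht => hle (cj_mem_autS ht.1 ht.2)
  have N2 : ∀ t ∈ normalizerIn S E, t ∉ E → (∀ u ∈ H, t * u * t⁻¹ = u) → ∀ r ∈ E, t * r * t⁻¹ = r → r ∈ H :=
    fun t ht ht' h r hr e => by
      by_contra hr'
      exact ht' (cen (mem_centralizerIn'.mpr ⟨ht.1, fun u hu => conj_eq_iff.mp
        (hH.le_of_mem hr hr' (fun u hu => conj_eq_iff.mpr (h u hu)) (conj_eq_iff.mpr e) hu)⟩))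
  obtain ⟨x₀, hx₀, hx₀'⟩ := hH.exists_not_mem
  obtain ⟨s, hs⟩ : ∃ s, s = x₀⁻¹ * (a * x₀ * a⁻¹) := ⟨_, rfl⟩
  have hsH : s ∈ H := hs ▸ inv_mul_conj_mem_of_card hS hH.le hES hH.norm hH.card.le ha.1
    (mem_normalizer_of_conj_mem_finite fun u hu => (hc u hu).symm ▸ hu) ha.2 hx₀
  have hsE := hH.le hsH
  have a1 : ∀ r ∈ E, r⁻¹ * (a * r * a⁻¹) ∈ zpowers s := fun r hr =>
    hs ▸ transv_of hc (hs ▸ mul_inv_eq_iff_eq_mul.mp (conj_eq_of_comm hab hx₀ hsE)) (hH.dec x₀ hx₀ hx₀' r hr)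
  have T : ∀ σ, Iso F E E σ → σ s ∈ H → σ ∈ extAut F E := fun σ hσ h => by
    by_contra h'
    exact hF.transv_ne hE hσ h' ha ha' ha ha' hsE hsE a1 a1 (hc s hsH) (hc s hsH) (hc _ h)
  obtain ⟨σ₁, h1, h1'⟩ := hF.exists_not_ext hE
  obtain ⟨x, hx⟩ : ∃ x, x = σ₁ s := ⟨_, rfl⟩
  have hxE : x ∈ E := hx ▸ h1.mem hsE
  have hxH : x ∉ H := fun e => h1' (T σ₁ h1 (hx ▸ e))
  obtain ⟨c, hc'⟩ : ∃ c, c = x⁻¹ * (a * x * a⁻¹) := ⟨_, rfl⟩
  have cs : c ∈ zpowers s := hc' ▸ a1 x hxE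
  have c1 : c ≠ 1 := fun e => hxH (N2 a ha ha' hc x hxE (by rw [hc'] at e; exact (inv_mul_eq_one.mp e).symm))
  have cH : c ∈ H := zpowers_le.mpr hsH cs
  have pw : ∀ n : ℕ, (cj a ^ n) x = x * c ^ n := fun n => by
    induction n with
    | zero => simp
    | succ n ih =>
      rw [pow_succ', Perm.mul_apply, ih, cj_apply, ← conj_mul, hc _ (H.pow_mem cH n), pow_succ', ← mul_assoc x]
      congr 1; rw [hc']; group
  have iA : Iso F E E (cj a) := iso_cj F hES ha.1 ha.2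
  have step : ∀ σ, Iso F E E σ → σ ∈ extAut F E ∨ ∃ n : ℕ, σ * cj a ^ n * σ₁ ∈ extAut F E := fun σ hσ => by
    by_cases h : σ s ∈ H
    · exact Or.inl (T σ hσ h)
    obtain ⟨k, hk, i, e⟩ := hH.dec _ (hσ.mem hsE) h _ (hσ.mem hxE)
    obtain ⟨n, hn⟩ := exists_pow_eq_of_pow_eq_one (hexp c (hH.le cH))
      (zpowers_le.mpr (mem_zpowers_of_ne_one (hexp s hsE) cs c1) (zpow_mem (mem_zpowers s) (-i)))
    refine Or.inr ⟨n, T _ ((h1.trans (iA.pow n)).trans hσ) ?_⟩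
    rw [Perm.mul_apply, Perm.mul_apply, ← hx, pw, hn, hσ.homOn.map_mul hxE (E.zpow_mem hsE _),
      hσ.homOn.map_zpow hsE, e]
    simpa using hk
  have N1 : ∀ t ∈ normalizerIn S E, ∀ u ∈ H, t * u * t⁻¹ = u := fun t ht u hu => by
    obtain h | ⟨n, h⟩ := step (σ₁⁻¹ * cj t⁻¹) ((iso_cj F hES (S.inv_mem ht.1) (inv_mem ht.2)).trans h1.symm)
    · exact (h1' (by simpa using inv_mem (mul_mem h (cjx t ht)))).elim
    have m : t⁻¹ * a ^ n ∈ normalizerIn S E := mul_mem (inv_mem ht) (pow_mem ha n)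
    have k : t⁻¹ * a ^ n ∈ E := by
      by_contra k
      refine h1' (by simpa using inv_mem ((hF.spe_essential hE).ti σ₁⁻¹ h1.symm.mem_autP (cj (t⁻¹ * a ^ n)) (cjx _ m)
        (fun e => k (mem_of_cj_mem_inn cen m.1 hES e))
        ((pMod_autS hS E).mono_left (fixP_le_autS E E) _ (cj_mem_autS m.1 m.2)) (by
          rw [map_mul, map_pow, inv_inv]; simpa [mul_assoc] using h)))
    have e1 := conj_eq_of_comm hab k (hH.le hu)
    have e2 : a ^ n * u * (a ^ n)⁻¹ = u := conj_symm (conj_eq_iff.mp (pow_mem (conj_eq_iff.mpr (conj_symm (hc u hu))) n))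
    calc t * u * t⁻¹ = t * (t⁻¹ * a ^ n * u * (t⁻¹ * a ^ n)⁻¹) * t⁻¹ := by rw [e1]
      _ = a ^ n * u * (a ^ n)⁻¹ := by group
      _ = u := e2
  have B : ∀ ρ ∈ extAut F E, ∀ u ∈ H, ρ u ∈ H := fun ρ hρ => by
    let K : Subgroup (Perm Ω) :=
      { carrier := {ρ | Iso F E E ρ ∧ ∀ u ∈ H, ρ u ∈ H}
        one_mem' := ⟨iso_one F hES, fun _ h => h⟩
        mul_mem' := fun {a b} ha hb => ⟨hb.1.trans ha.1, fun u hu => ha.2 _ (hb.2 u hu)⟩
        inv_mem' := fun {a} ha => ⟨ha.1.symm, ha.1.inv_mapsTo hH.le ha.2⟩ }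
    refine ((closure_le K).mpr ?_ hρ).2
    rintro ρ ⟨i1, Q, τ, hQ, hτ, e⟩
    refine ⟨i1, fun u hu => ?_⟩
    obtain ⟨b, hb, hb'⟩ := SetLike.not_le_iff_exists.mp (lt_normalizerIn_of_le hS hQ hτ.le).not_ge
    have i2 := i1.congr e
    have m := hτ.mem_normalizerIn_img hQ.le hb.1 hb.2
    rw [i2.img_eq] at m
    refine N2 (τ b) m (fun k => hb' ((i2.mem_iff b).mp k)) (N1 _ m) _ (i1.mem (hH.le hu)) ?_
    rw [← e u (hH.le hu), ← hτ.homOn.map_conj hb.1 (hQ.le (hH.le hu)), N1 b ⟨hτ.le hb.1, hb.2⟩ u hu]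
  have hσH := h1.homOn.mono hH.le
  have C : ∀ σ, Iso F E E σ → ∀ w ∈ img σ₁ H ⊓ H, σ w ∈ H := fun σ hσ w hw => by
    obtain h | ⟨n, h⟩ := step σ hσ
    · exact B σ h w hw.2
    have := B _ h _ (hσH.mem_img_iff_inv.mp hw.1)
    rwa [Perm.mul_apply, perm_apply_inv_self, Perm.mul_apply, ← map_pow, cj_apply, N1 _ (pow_mem ha n) w hw.2] at this
  have l2 : img σ₁ H ≤ E := img_le_iff.mpr fun y hy => h1.mem (hH.le hy)
  have i3 : Ip p (img σ₁ H) E := ip_of_card (hS.to_le hES) l2 (by rw [hσH.card_img, hH.card])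
  refine ⟨img σ₁ H ⊓ H, fun τ hτ w hw => ⟨hσH.mem_img_iff_inv.mpr (C _ (hτ.trans h1.symm) w hw), C τ hτ w hw⟩,
    i3.inf hH.le fun e => ?_⟩
  have := finite_of_le l2
  exact hxH (eq_of_le_of_card_le' e hσH.card_img.le ▸ hx ▸ apply_mem_img σ₁ hsH)

/-- The standing hypothesis. -/
structure H5 (p : ℕ) (S : Subgroup Ω) : Prop where
  pg : IsPGroup p S
  card : Nat.card S = p ^ 5
  ab : ∀ A ≤ S, IsMulCommutative A → Nat.card A ≤ p ^ 3

theorem card_eq_pow (hS : IsPGroup p S) (hP : P ≤ S) : ∃ k, Nat.card P = p ^ k :=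
  have := finite_of_le hP
  IsPGroup.iff_card.mp (hS.to_le hP)

theorem pow_lt_iff {a b : ℕ} : p ^ a < p ^ b ↔ a < b := Nat.pow_lt_pow_iff_right hp.out.one_lt
theorem pow_le_iff {a b : ℕ} : p ^ a ≤ p ^ b ↔ a ≤ b := Nat.pow_le_pow_iff_right hp.out.one_lt

theorem exists_transv (h : H5 p S) (hES : E ≤ S) (hab : IsMulCommutative E) (hc : Nat.card E = p ^ 3) :
    ∃ H a, Ip p H E ∧ a ∈ normalizerIn S E ∧ a ∉ E ∧ ∀ u ∈ H, a * u * a⁻¹ = u := by
  have hS := h.pg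
  have := finite_of_le hES
  have hlt : E < S := lt_of_le_of_ne hES fun e => by
    have := h.card; rw [← e, hc] at this; exact absurd (pow_le_iff.mp this.ge) (by omega)
  by_cases hN : S ≤ normalizer (E : Set Ω)
  · have b1 : ⊥ < E := bot_lt_iff_ne_bot.mpr fun e => by
      rw [e, card_bot, ← pow_zero p] at hc; exact absurd (pow_le_iff.mp hc.ge) (by omega)
    obtain ⟨R₁, i1, l1, n1⟩ := exists_ip_normal hS b1 hES (fun g _ => le_normalizer_of_normal (mem_top g)) hN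
    have c1 : Nat.card R₁ = p := by rw [i1.card, card_bot, mul_one]
    have b2 : R₁ < E := lt_of_le_of_ne l1 fun e => by
      rw [← e, c1] at hc; exact absurd (pow_le_iff.mp (hc.ge.trans_eq (pow_one p).symm)) (by omega)
    obtain ⟨R₂, i2, l2, n2⟩ := exists_ip_normal hS b2 hES n1 hN
    obtain ⟨y, hy, hy'⟩ := i2.exists_not_mem
    have k : ¬ S ⊓ centralizer {y} ≤ E := fun k => by
      by_cases e : S ≤ centralizer {y}
      · exact hlt.not_ge ((le_inf le_rfl e).trans k)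
      have i := ip_centralizer hS le_rfl (l1.trans hES) c1.le (hES (l2 hy)) (fun w hw => by
        have := R₁.inv_mem (inv_mul_conj_mem_of_card hS i2.le (l2.trans hES) i2.norm i2.card.le hw (n1 hw) (n2 hw)
          (R₂.inv_mem hy))
        simpa [commutatorElement_def, mul_assoc] using this) e
      have c := i.card
      have := card_le_of_le k
      rw [h.card] at c
      rw [hc] at this
      have := pow_le_iff.mp (c.le.trans ((Nat.mul_le_mul_left p this).trans_eq (pow_succ' p 3).symm))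
      omega
    obtain ⟨a, ha, ha'⟩ := SetLike.not_le_iff_exists.mp k
    refine ⟨R₂, a, ip_of_card (hS.to_le hES) l2 (by rw [i2.card, c1, hc]; ring), ⟨ha.1, hN ha.1⟩, ha', fun u hu =>
      conj_eq_iff.mp (i2.le_of_mem hy hy' (fun u hu => conj_eq_iff.mpr ?_) (conj_eq_iff.mpr ?_) hu)⟩
    · exact conj_eq_of_card_le hS (l1.trans hES) c1.le ha.1 (n1 ha.1) hu
    · exact conj_symm (conj_eq_iff.mp ha.2)
  have l1 := lt_normalizerIn hS hlt
  have l2 : normalizerIn S E < S := lt_of_le_of_ne (normalizerIn_le S E) fun e =>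
    hN (e ▸ normalizerIn_le_normalizer S E)
  have := finite_of_le l2.le
  have c1 := mul_card_le_of_lt' (hS.to_le l2.le) l1
  have c2 := mul_card_le_of_lt' hS l2
  have hp0 := hp.out.pos
  have i1 : Ip p E (normalizerIn S E) := ip_of_card_le (hS.to_le l2.le) l1
    (Nat.le_of_mul_le_mul_left (by rw [h.card] at c2; rw [hc]; nlinarith) hp0)
  have i2 : Ip p (normalizerIn S E) S := ip_of_card hS l2.le (by rw [i1.card, hc, h.card]; ring)
  obtain ⟨t, ht, ht'⟩ := i2.exists_not_mem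
  have l3 : img (cj t) E ≤ normalizerIn S E := img_le_iff.mpr fun u hu => i2.conj_mem ht (i1.le hu)
  have := finite_of_le l3
  have ce := (homOn_cj E t).card_img
  have i3 : Ip p (img (cj t) E) (normalizerIn S E) := ip_of_card (hS.to_le l2.le) l3 (by rw [ce, i1.card])
  have ne : img (cj t) E ≠ E := fun e => ht' ⟨ht, img_cj_eq_iff.mp e⟩
  obtain ⟨a, ha, ha'⟩ := SetLike.not_le_iff_exists.mp fun e : img (cj t) E ≤ E => ne (eq_of_le_of_card_le' e ce.ge)
  refine ⟨_, a, i3.inf i1.le fun e => ne (eq_of_le_of_card_le' e ce.le).symm, l3 ha, ha', fun u hu => ?_⟩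
  exact conj_eq_of_comm ((mor_cj (innerFusionSystem S) hES ht).iso.isMulCommutative hab) ha hu.1

end Cfsg.Lib.Layer.P5
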