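/-
Fusion systems over groups of order `p ^ 5`: the types of essential subgroups, and the maximal class case.
-/
import Cfsg.Agent.Lib.Layer.P5c

set_option autoImplicit false
set_option linter.unusedSectionVars false

namespace Cfsg.Lib.Layer.P5

open Cfsg Cfsg.FusionSystem Equiv Subgroup Cfsg.Lib.Fus PGrp
open scoped commutatorElement

variable {Ω : Type*} [Group Ω] {p : ℕ} [hp : Fact p.Prime]
variable {S E E' D Y L R N Q P H : Subgroup Ω} {α σ τ ρ g : Perm Ω} {s x a : Ω} {φ ψ : Ω → ZMod p}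
variable [Finite S] {F : FusionSystem S}

omit hp [Finite S] in
theorem comm_eq_bot (h : IsMulCommutative E) : ⁅E, E⁆ = ⊥ :=
  eq_bot_iff.mpr (commutator_le.mpr fun u hu v hv => by
    rw [commutatorElement_def, conj_eq_of_comm h hu hv, mul_inv_cancel]; exact one_mem _)

theorem ci_of (hS : IsPGroup p S) (hR : R ≤ S) (hn : ¬ IsMulCommutative R)
    (h : Nat.card R ≤ p ^ 2 * Nat.card (centralizerIn R R)) : CI p R ⁅R, R⁆ := by
  have := finite_of_le hR
  rw [← map_subtype_commutator]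
  refine ci_of_index (hS.to_le hR) ?_ hn
  rw [← map_center_eq, Core.card_map_subtype, ← (center R).card_mul_index, mul_comm] at h
  exact Nat.le_of_mul_le_mul_right h Nat.card_pos

theorem ess_types (h : H5 p S) (hF : Sat p F) (hR : F.IsEssential p R) :
    Nat.card R = p ^ 2 ∨ (Nat.card R = p ^ 3 ∧ IsMulCommutative R ∧ ∀ u ∈ R, u ^ p = 1) ∨
      ((Nat.card R = p ^ 3 ∨ Nat.card R = p ^ 4) ∧ CI p R ⁅R, R⁆) := by
  have hS := h.pg
  have hRS := hR.1.1
  have := finite_of_le hRS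
  have hp0 := hp.out.pos
  have nf := hF.nf hR
  obtain ⟨k, hk⟩ := card_eq_pow hS hRS
  have k1 : k < 5 := pow_lt_iff.mp (hk ▸ h.card ▸ card_lt_of_lt (hF.essential_lt hR))
  have k2 : ¬ k ≤ 1 := fun e => nf.not_le (hk.trans_le ((pow_le_iff.mpr e).trans
    (by rw [pow_one]; exact Nat.le_mul_of_pos_right _ Nat.card_pos)))
  obtain rfl | rfl | rfl : k = 2 ∨ k = 3 ∨ k = 4 := by omega
  · exact Or.inl hk
  · obtain ⟨a, b⟩ | ⟨a, -⟩ := nf.cube hk
    · exact Or.inr (Or.inl ⟨hk, a, fun u hu => congrArg Subtype.val (b ⟨u, hu⟩)⟩)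
    · exact Or.inr (Or.inr ⟨Or.inl hk, ci_of hS hRS a (by rw [card_center_of_cube hk a, hk, pow_succ])⟩)
  have hn : ¬ IsMulCommutative R := fun e => absurd (pow_le_iff.mp (hk ▸ h.ab R hRS e)) (by omega)
  refine Or.inr (Or.inr ⟨Or.inr hk, ci_of hS hRS hn ?_⟩)
  obtain ⟨j, hj⟩ := IsPGroup.iff_card.mp ((hS.to_le hRS).to_subgroup (frattini R))
  have j1 : ¬ 3 ≤ j := fun e => nf.not_le (by
    rw [hk, hj, ← pow_succ']; exact pow_le_iff.mpr (by omega))
  have j2 : j ≠ 2 := fun e => hn (nf.comm_of_fourth hk (e ▸ hj))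
  have cD : Nat.card ↥⁅R, R⁆ ≤ p := by
    have : Finite ((frattini R).map R.subtype) := finite_of_le (map_subtype_le _)
    refine (card_le_of_le (comm_le_fr (hS.to_le hRS))).trans ?_
    rw [Core.card_map_subtype, hj]
    exact (pow_le_iff.mpr (by omega)).trans_eq (pow_one p)
  obtain ⟨x, hx, y, hy, e⟩ : ∃ x ∈ R, ∃ y ∈ R, x * y * x⁻¹ ≠ y := by
    by_contra k
    push Not at k
    exact hn (comm_of_conj k)
  have hD := (comm_le_self R).trans hRS
  have yx : y ∉ centralizer ({x} : Set Ω) := fun k => e (conj_eq_iff.mp k)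
  have xy : x ∉ centralizer ({y} : Set Ω) := fun k => e (conj_symm (conj_eq_iff.mp k))
  have xx : x ∈ R ⊓ centralizer ({x} : Set Ω) := ⟨hx, conj_eq_iff.mpr (by group)⟩
  have i1 := ip_centralizer hS hRS hD cD (hRS hx) (fun w hw => commutator_mem_commutator hw hx) fun k => yx (k hy)
  have i2 := ip_centralizer hS (inf_le_left.trans hRS : R ⊓ centralizer {x} ≤ S) hD cD (hRS hy)
    (fun w hw => commutator_mem_commutator hw.1 hy) fun k => xy (k xx)
  have c2 : Nat.card ↥(R ⊓ centralizer ({x} : Set Ω) ⊓ centralizer ({y} : Set Ω)) = p ^ 2 := by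
    have := i1.card
    rw [i2.card, hk] at this
    exact Nat.eq_of_mul_eq_mul_left (Nat.mul_pos hp0 hp0) (by rw [mul_assoc, ← this]; ring)
  have cm := IsPGroup.isMulCommutative_of_card_eq_prime_sq c2
  have le : R ⊓ centralizer ({x} : Set Ω) ⊓ centralizer ({y} : Set Ω) ≤ centralizerIn R R := fun w hw =>
    mem_centralizerIn'.mpr ⟨hw.1.1, fun u hu => conj_eq_iff.mp (i1.le_of_mem hy (fun k => yx k.2)
      (i2.le_of_mem xx (fun k => xy k.2) (fun v hv => conj_eq_iff.mpr (conj_eq_of_comm cm hw hv))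
        (conj_eq_iff.mpr (conj_symm (conj_eq_iff.mp hw.1.2)))) (conj_eq_iff.mpr (conj_symm (conj_eq_iff.mp hw.2))) hu)⟩
  have := finite_of_le (centralizerIn_le R R)
  rw [hk]
  calc p ^ 4 = p ^ 2 * p ^ 2 := by ring
    _ ≤ _ := Nat.mul_le_mul_left _ (c2 ▸ card_le_of_le le)

theorem allGd (h : H5 p S) (hF : Sat p F) : AllGd p F := fun R hR => by
  have hS := h.pg
  have hRS := hR.1.1
  have hp0 := hp.out.pos
  obtain h1 | ⟨h1, h2, h3⟩ | ⟨-, h1⟩ := ess_types h hF hR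
  · have := finite_of_le hRS
    exact ⟨⊥, gd_comm hS hRS (comm_eq_bot (IsPGroup.isMulCommutative_of_card_eq_prime_sq h1)).le bot_le (inv_bot F R)
      (by rw [card_bot]; exact Nat.mul_pos hp0 (@Nat.card_pos _ _ (finite_of_le (comm_le_self R)))), bot_le,
      by rw [h1, card_bot, mul_one]⟩
  · obtain ⟨H, a, i1, a1, a2, a3⟩ := exists_transv h hRS h2 h1
    obtain ⟨W, w1, w2⟩ := exists_W hF hR h2 h3 i1 a1 a2 a3
    have c : Nat.card R = p ^ 2 * Nat.card W := by rw [i1.card, w2.card]; ring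
    have cW : Nat.card W = p := Nat.eq_of_mul_eq_mul_left (pow_pos hp0 2) (by rw [← c, h1]; ring)
    have hW := w2.le.trans i1.le
    exact ⟨W, gd_comm hS hRS ((comm_eq_bot h2).le.trans bot_le) hW w1 (by rw [comm_eq_bot h2, card_bot, cW, mul_one]),
      fun w hw => mem_centralizerIn'.mpr ⟨hW hw, fun u hu => conj_eq_of_comm h2 (hW hw) hu⟩, c⟩
  · refine ⟨centralizerIn R R, gd_comm hS hRS h1.le (centralizerIn_le R R) (inv_center F R) ?_, le_rfl, h1.card⟩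
    have := finite_of_le hRS
    have c := card_lt_of_lt (hF.essential_lt hR)
    obtain ⟨k, hk⟩ := card_eq_pow hS ((centralizerIn_le R R).trans hRS)
    rw [h1.card, h.card, hk, ← pow_add] at c
    rw [hk, h1.cardD, ← pow_two]
    exact pow_le_iff.mpr (by have := pow_lt_iff.mp c; omega)

theorem card_center_pos (h : H5 p S) : p ≤ Nat.card (centralizerIn S S) := by
  have := finite_of_le (centralizerIn_le S S)
  have hne : S ≠ ⊥ := fun e => by
    have := h.card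
    rw [e, card_bot, ← pow_zero p] at this; exact absurd (pow_le_iff.mp this.ge) (by omega)
  simpa using mul_card_le_of_lt' (h.pg.to_le (centralizerIn_le S S))
    (bot_lt_iff_ne_bot.mpr (centralizerIn_self_ne_bot h.pg le_rfl hne))

theorem ci_inv (h : H5 p S) (hF : Sat p F) (hR : F.IsEssential p R) (hc : Nat.card R = p ^ 3 ∨ Nat.card R = p ^ 4)
    (h1 : CI p R ⁅R, R⁆) : Inv F R (centralizerIn S S) := by
  have hS := h.pg
  have hRS := hR.1.1
  have hp0 := hp.out.pos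
  have := finite_of_le hRS
  have := finite_of_le (centralizerIn_le R R)
  have := finite_of_le (centralizerIn_le S S)
  have le : centralizerIn S S ≤ centralizerIn R R := fun z hz =>
    mem_centralizerIn'.mpr ⟨center_le_of_centric hR.1 hz, fun u hu => (mem_centralizerIn'.mp hz).2 u (hRS hu)⟩
  obtain e | e := le.eq_or_lt
  · exact e ▸ inv_center F R
  have c1 := mul_card_le_of_lt' ((hS.to_le hRS).to_le (centralizerIn_le R R)) e
  have c2 := card_center_pos h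
  have c3 := h1.card
  obtain hc | hc := hc
  · have : Nat.card (centralizerIn R R) = p := Nat.eq_of_mul_eq_mul_left (pow_pos hp0 2) (by rw [← c3, hc]; ring)
    have := hp.out.one_lt
    nlinarith
  have c4 : Nat.card (centralizerIn R R) = p * p :=
    Nat.eq_of_mul_eq_mul_left (pow_pos hp0 2) (by rw [← c3, hc]; ring)
  have i : Ip p R S := ip_of_card hS hRS (by rw [hc, h.card]; ring)
  have l2 : ⁅R, R⁆ ≤ centralizerIn S S := fun d hd => mem_center_iff'.mpr ⟨hRS (comm_le_self R hd), fun g hg =>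
    conj_eq_of_card_le hS ((comm_le_self R).trans hRS) h1.cardD.le hg
      ((inv_comm F R).norm (comm_le_self R) hRS ⟨hg, i.norm hg⟩) hd⟩
  rw [← eq_of_le_of_card_le' l2 (by rw [h1.cardD]; exact Nat.le_of_mul_le_mul_left (c4 ▸ c1) hp0)]
  exact inv_comm F R

theorem exists_ess (h : H5 p S) (hF : Sat p F) (h0 : F.core = ⊥) : ∃ E, F.IsEssential p E ∧
    (Nat.card E = p ^ 2 ∨ (Nat.card E = p ^ 3 ∧ IsMulCommutative E ∧ ∀ u ∈ E, u ^ p = 1)) := by
  by_contra k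
  have le : centralizerIn S S ≤ zCore p F := fun z hz => mem_zCore.mpr ⟨hz, fun R σ hR hσ => by
    obtain h1 | h1 | ⟨h1, h2⟩ := ess_types h hF hR
    · exact (k ⟨R, hR, Or.inl h1⟩).elim
    · exact (k ⟨R, hR, Or.inr h1⟩).elim
    · exact ci_inv h hF hR h1 h2 σ hσ z hz⟩
  have c := card_center_pos h
  rw [eq_bot_iff.mpr (le.trans (h0 ▸ le_core hF.normal_zCore)), card_bot] at c
  exact hp.out.one_lt.not_ge c

section MaxClass

variable {G : ℕ → Subgroup Ω}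

theorem g2_comm (hG : MxC p S 5 G) (hb : G 5 = ⊥) : IsMulCommutative (G 2) :=
  comm_of_ip (hG.ip 2 (by omega)) fun u hu v hv => by
    have := hG.c1 3 2 u hu v hv
    rw [hb, mem_bot, commutatorElement_def] at this
    exact mul_inv_eq_one.mp this

theorem nonexc (hG : MxC p S 5 G) (hb : G 5 = ⊥) : G 1 ≤ tw G 3 := fun g hg => by
  obtain ⟨x, hx⟩ := hG.exists_un
  obtain ⟨v, hv, hv'⟩ := (hG.ip 2 (by omega)).exists_not_mem
  obtain ⟨z, hz, hz'⟩ := (hG.ip 4 (by omega)).exists_not_mem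
  obtain ⟨θ, h1, h2, -⟩ := (hG.ip 4 (by omega)).exists_co hz hz'
  have h0 := fun u hu => (h2 u (hG.succ_le 4 hu)).mpr hu
  have xS := hG.un_mem hx
  have y1 : dl x v ∈ G 3 := hG.dl_mem xS hv
  have y2 : dl x v ∉ G 4 := by
    rw [dl_eq]; exact hG.comm_not_mem hx (by omega) (by omega) (inv_mem hv) fun e => hv' (by simpa using e)
  have g2 : dl x g ∈ G 2 := hG.dl_mem xS hg
  have m := hG.c1 1 3 g hg _ y1
  have k := hG.co_dl_comm (x := x) h1 h0 (hG.le 1 hg) (hG.le 2 hv) (hG.c1 2 2 _ g2 v hv) m (hG.c1 2 3 _ g2 _ y1)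
  rw [h0 _ (hG.dl_mem xS (comm_symm (hG.c2 v hv g hg))), commutatorElement_def (dl x g),
    conj_eq_of_comm (g2_comm hG hb) g2 hv, mul_inv_cancel, co_one h1, zero_add] at k
  exact hG.mem_tw_of y1 y2 (hG.le 1 hg) (comm_symm ((h2 _ m).mp k.symm))

omit hp [Finite S] in
theorem lcs_inv (hα : Iso F S S α) : ∀ i, ∀ u ∈ S.lowerCentralSeries i, α u ∈ S.lowerCentralSeries i
  | 0 => fun _ hu => hα.mem hu
  | i + 1 => fun u hu => by
    have := apply_mem_img α hu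
    rw [Subgroup.lowerCentralSeries_succ, hα.homOn.img_commutator (lowerCentralSeries_le_self S i) le_rfl] at this
    exact commutator_mono (img_le_iff.mpr (lcs_inv hα i)) (img_le_iff.mpr fun _ hx => hα.mem hx) this

theorem mxc_ev (hG : MxC p S 5 G) (hb : G 5 = ⊥) (hl : ∀ i, G (i + 2) = S.lowerCentralSeries (i + 1))
    (hn : ¬ IsMulCommutative (G 1)) (hα : Iso F S S α) :
    ∃ l : ZMod p, l ≠ 0 ∧ Ev α (G 1) S l ∧ Ev α (G 2) (G 1) (l ^ 2) ∧ Ev α (G 5) (G 4) (l ^ 5) := by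
  have i2 : ∀ i, ∀ u ∈ G (i + 2), α u ∈ G (i + 2) := fun i => hl i ▸ lcs_inv hα (i + 1)
  have i1 : ∀ u ∈ G 1, α u ∈ G 1 := fun u hu => by
    rw [← hG.tw_eq (i := 2) (by omega) (by omega) hG.le_tw_two]
    refine hG.mem_tw.mpr ⟨hα.mem (hG.le 1 hu), fun y hy => ?_⟩
    have m := hα.inv_mapsTo (hG.le 2) (i2 0) y hy
    have := i2 2 _ (hG.c2 _ m u hu)
    rwa [hα.homOn.map_commutatorElement (hG.le 2 m) (hG.le 1 hu), perm_apply_inv_self] at this
  have ho := fun i => hα.homOn.mono (hG.le i)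
  have fin := fun i => finite_of_le (hG.le i)
  obtain ⟨l, e0⟩ := exists_ev hG.ip0 hα.homOn (fun _ h => hα.mem h) i1
  obtain ⟨m, e1⟩ := exists_ev (hG.ip 1 (by omega)) (ho 1) i1 (i2 0)
  obtain ⟨k2, e2⟩ := exists_ev (hG.ip 2 (by omega)) (ho 2) (i2 0) (i2 1)
  obtain ⟨k3, e3⟩ := exists_ev (hG.ip 3 (by omega)) (ho 3) (i2 1) (i2 2)
  obtain ⟨k4, e4⟩ := exists_ev (hG.ip 4 (by omega)) (ho 4) (i2 2) (i2 3)
  have st : ∀ i, 1 ≤ i → i + 2 ≤ 5 → G 1 ≤ tw G i → ∀ k k', Ev α (G (i + 1)) (G i) k →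
      Ev α (G (i + 2)) (G (i + 1)) k' → k' = k * l := fun i h1 h2 h3 k k' e e' => by
    obtain ⟨y, hy, g, hg, ne⟩ := hG.ne i h1 h2
    exact ev_pair hα.homOn (hG.le i) le_rfl e e0 e' (hG.ip _ (by omega)) (hG.c0 i) (hG.c0 _)
      (fun u hu v hv => (hG.mem_tw.mp (h3 hv)).2 u hu) (hG.c0 _) hy hg ne
  have s1 := st 1 le_rfl (by omega) hG.le_tw_one _ _ e1 e2
  have s2 := st 2 (by omega) (by omega) hG.le_tw_two _ _ e2 e3
  have s3 := st 3 (by omega) (by omega) (nonexc hG hb) _ _ e3 e4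
  obtain ⟨u, hu, v, hv, ne⟩ : ∃ u ∈ G 2, ∃ v ∈ G 1, ⁅u, v⁆ ∉ G 5 := by
    by_contra k
    push Not at k
    refine hn (comm_of_ip (hG.ip 1 (by omega)) fun u hu v hv => ?_)
    have := k u hu v hv
    rw [hb, mem_bot, commutatorElement_def] at this
    exact mul_inv_eq_one.mp this
  have s4 := ev_pair hα.homOn (hG.le 2) (hG.le 1) e2 e1 e4 (hG.ip 4 (by omega)) hG.c2
    (fun u hu v hv => (hG.mem_tw.mp (nonexc hG hb hv)).2 u hu) (fun u hu v hv => by
      rw [commutatorElement_def, conj_eq_of_comm (g2_comm hG hb) hu hv, mul_inv_cancel]; exact one_mem _)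
    (hG.c0 4) hu hv ne
  have l0 := e0.ne_zero hG.ip0 hα.homOn
  have k0 := e2.ne_zero (hG.ip 2 (by omega)) (ho 2)
  have hm : m = l ^ 2 := mul_left_cancel₀ k0 (by rw [← s4, s3, s2]; ring)
  exact ⟨l, l0, e0, hm ▸ e1, (by rw [s3, s2, s1, hm]; ring : k4 = l ^ 5) ▸ e4⟩

end MaxClass

theorem Dg.ev1 (h : Dg p F E D Y L s x φ ψ) (hG : Gd p F E D Y) (hg : Iso F E E g) {a d : ZMod p}
    (k : PAct Y E φ ψ g a 0 0 d) : Ev g Y L a ∧ Ev g L E d := by
  have mL : ∀ u ∈ L, g u ∈ L := fun u hu => (h.pl.ker2 _ (hg.mem (h.pl.ip2.le hu))).mp (by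
    rw [k.e2 u (h.pl.ip2.le hu), h.pl.ψL hu]; ring)
  exact ⟨ev_of_co h.pl.ip1 (hg.homOn.mono h.pl.ip2.le) mL (hG.iY g hg) (Ad.mono h.pl.add1 h.pl.ip2.le) h.pl.ker1
    h.pl.hs h.pl.s_not (by rw [k.e1 s h.pl.sU]; ring), ev_of_co h.pl.ip2 hg.homOn (fun _ hu => hg.mem hu) mL
    h.pl.add2 h.pl.ker2 h.pl.hx h.pl.x_not (by rw [k.e2 x h.pl.hx]; ring)⟩

omit [Finite S] in
theorem Ev.congr {A B : Subgroup Ω} {k : ZMod p} (e : Ev g B A k) (hBA : B ≤ A) (h : ∀ u ∈ A, α u = g u) : Ev α B A k :=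
  ⟨fun u hu => h u hu ▸ e.mA u hu, fun u hu => h u (hBA hu) ▸ e.mB u hu,
    fun θ h1 h2 u hu => h u hu ▸ e.ev θ h1 h2 u hu⟩

theorem Dg.mem_L (h : Dg p F E D Y L s x φ ψ) (ha : a ∈ normalizerIn S E) (ha' : a ∉ E) {u : Ω} (hu : u ∈ E)
    (e : u⁻¹ * (a * u * a⁻¹) ∈ Y) : u ∈ L := by
  have k := (h.act a ha).e1 u hu
  rw [cj_apply, h.pl.eq1 hu (conj_mem_of_mem_normalizer ha.2 hu) e] at k
  exact (h.pl.ker2 u hu).mp ((mul_eq_zero.mp (by linear_combination -k)).resolve_left (h.ne a ha ha'))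

omit [Finite S] in
theorem sq_eq_one_of_three (h3 : p = 3) {l : ZMod p} (h : l ≠ 0) : l ^ 2 = 1 := by
  have := ZMod.pow_card_sub_one_eq_one h
  rwa [show p - 1 = 2 by omega] at this

theorem case_two (h : H5 p S) (hF : Sat p F) (hp2 : p ≠ 2) (hp7 : p ≠ 7) (hE : F.IsEssential p E)
    (hc : Nat.card E = p ^ 2) : F.hyperfocalSubgroup p ≠ S := by
  have hS := h.pg
  have hES := hE.1.1
  have hp0 := hp.out.pos
  have := finite_of_le hES
  have cen := centric_centralizerIn_le hE.1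
  have hA := allGd h hF
  obtain ⟨G, hG, hb, hl⟩ := exists_mxc h.card (by omega) (lcs_ne_bot_of_pearl h.card (by omega) hES cen (Or.inl hc))
  have hn : ¬ IsMulCommutative (G 1) := fun e =>
    absurd (pow_le_iff.mp (hG.card_eq hb 4 1 rfl ▸ h.ab _ (hG.le 1) e)) (by omega)
  obtain ⟨Y, hY, -, cY⟩ := hA E hE
  obtain ⟨L, s, x, φ, ψ, hD⟩ := hY.exists_dg hF hE cY
  have Y0 : Y = G 5 := by
    rw [hb, ← card_eq_one]
    exact Nat.eq_of_mul_eq_mul_left (pow_pos hp0 2) (by rw [← cY, hc, mul_one])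
  obtain ⟨a, ha, ha'⟩ := hD.ip.exists_not_mem
  have hZ := hG.center_eq hb
  have L0 : G 4 = L := by
    have := finite_of_le hD.pl.ip2.le
    refine eq_of_le_of_card_le' (fun z hz => ?_) (by rw [hD.pl.ip1.card, Y0, (hG.ip 4 (by omega)).card])
    have hz' : z ∈ centralizerIn S S := hZ ▸ hz
    exact hD.mem_L ha ha' (center_le_of_centric hE.1 hz') (by rw [center_conj hz' ha.1, inv_mul_cancel]; exact one_mem _)
  have c13 : ∀ u ∈ G 3, ∀ v ∈ G 1, u * v * u⁻¹ = v := fun u hu v hv => by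
    have := (hG.mem_tw.mp (nonexc hG hb hv)).2 u hu
    rw [hb, mem_bot, commutatorElement_def] at this
    exact mul_inv_eq_one.mp this
  have hx : x ∉ G 1 := fun e => by
    have l1 : E ≤ G 1 := hD.pl.ip2.le_of_mem hD.pl.hx hD.pl.x_not (L0 ▸ hG.anti (by omega)) e
    have l2 : G 3 ≤ E := fun u hu => cen (mem_centralizerIn'.mpr ⟨hG.le 3 hu, fun v hv => c13 u hu v (l1 hv)⟩)
    have e2 := eq_of_le_of_card_le' l2 (by rw [hc, hG.card_eq hb 2 3 rfl])
    have l3 : G 1 ≤ E := fun u hu => cen (mem_centralizerIn'.mpr ⟨hG.le 1 hu, fun v hv =>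
      conj_symm (c13 v (e2 ▸ hv) u hu)⟩)
    have := card_le_of_le l3
    rw [hc, hG.card_eq hb 4 1 rfl] at this
    exact absurd (pow_le_iff.mp this) (by omega)
  have key : ∀ d : ZMod p, d ≠ 0 → d ^ 5 = d⁻¹ ∧ ∃ α, Iso F S S α ∧ Ev α (G 1) S d := fun d hd => by
    obtain ⟨g, g1, g2, -, g4⟩ := hD.diag d hd
    obtain ⟨α, a1, a2⟩ := hA.ext_top hF hE hD.ip.lt g1.mor
    obtain ⟨e1, e2⟩ := hD.ev1 hY g2 g4
    have e1' := e1.congr hD.pl.ip1.le fun u hu => a2 u (hD.ip.le (hD.pl.ip2.le hu))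
    have e2' := e2.congr hD.pl.ip2.le fun u hu => a2 u (hD.ip.le hu)
    obtain ⟨l, -, f1, -, f3⟩ := mxc_ev hG hb hl hn a1
    obtain rfl := f1.eq_of_le e2' hG.ip0 hES (L0 ▸ hG.anti (by omega)) hD.pl.hx hx
    rw [Y0, ← L0] at e1'
    exact ⟨f3.unique e1' (hG.ip 4 (by omega)), α, a1, f1⟩
  have t2 : (2 : ZMod p) ≠ 0 := fun e =>
    hp2 ((Nat.prime_dvd_prime_iff_eq hp.out Nat.prime_two).mp ((ZMod.natCast_eq_zero_iff 2 p).mp e))
  have h3 : p = 3 := by
    have k := (key 2 t2).1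
    have k2 : ((3 * 3 * 7 : ℕ) : ZMod p) = 0 := by
      have : (2 : ZMod p) ^ 5 * 2 = 1 := by rw [k, inv_mul_cancel₀ t2]
      push_cast; linear_combination this
    obtain k3 | k3 := (hp.out.dvd_mul.mp ((ZMod.natCast_eq_zero_iff _ p).mp k2))
    · exact (Nat.prime_dvd_prime_iff_eq hp.out Nat.prime_three).mp ((hp.out.dvd_mul.mp k3).elim id id)
    · exact (hp7 ((Nat.prime_dvd_prime_iff_eq hp.out (by norm_num)).mp k3)).elim
  obtain ⟨-, g, g1, g2⟩ := key (-1) (neg_ne_zero.mpr one_ne_zero)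
  have e2 : G 2 = ⁅S, S⁆ := hl 0
  refine hA.hyp_ne hF hp2 (e2 ▸ hG.ip 1 (by omega)) (hG.le 1) (fun α hα => ?_) g1 fun u hu => g2.neg hG.ip0 hu
  obtain ⟨l, l0, -, f2, -⟩ := mxc_ev hG hb hl hn hα
  rwa [sq_eq_one_of_three h3 l0, e2] at f2

end Cfsg.Lib.Layer.P5
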