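/-
Fusion systems over groups of order `p ^ 5`: the case of an essential subgroup `C_p³`.
-/
import Cfsg.Agent.Lib.Layer.P5d

set_option autoImplicit false
set_option linter.unusedSectionVars false

namespace Cfsg.Lib.Layer.P5

open Cfsg Cfsg.FusionSystem Equiv Subgroup Cfsg.Lib.Fus PGrp
open scoped commutatorElement

variable {Ω : Type*} [Group Ω] {p : ℕ} [hp : Fact p.Prime]
variable {S E E' D Y L R N Q P H A B K : Subgroup Ω} {α σ τ ρ : Perm Ω} {s x a g u : Ω} {φ ψ : Ω → ZMod p}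

omit hp in
theorem comm_bot {u v : Ω} (h : u * v * u⁻¹ = v) : ⁅u, v⁆ ∈ (⊥ : Subgroup Ω) := by
  rw [commutatorElement_def, h, mul_inv_cancel]; exact one_mem _

omit hp in
theorem conj_of_bot {u v : Ω} (h : ⁅u, v⁆ ∈ (⊥ : Subgroup Ω)) : u * v * u⁻¹ = v :=
  mul_inv_eq_one.mp (mem_bot.mp h)

theorem comm_left (h : Ip p B A) (hA : A ≤ S) (hK : S ≤ normalizer (K : Set Ω)) (hg : g ∈ S) (hx : x ∈ A)
    (hx' : x ∉ B) (h1 : ∀ u ∈ B, ⁅u, g⁆ ∈ K) (h2 : ⁅x, g⁆ ∈ K) : ∀ u ∈ A, ⁅u, g⁆ ∈ K := fun _ hu =>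
  have key : ∀ {w}, w ∈ S → (w ∈ cmod K g ↔ ⁅w, g⁆ ∈ K) := fun hw => mem_cmod_iff (hK hw) (hK hg)
  (key (hA hu)).mp (h.le_of_mem hx hx' (fun w hw => (key (hA (h.le hw))).mpr (h1 w hw)) ((key (hA hx)).mpr h2) hu)

theorem comm_all (h : Ip p B A) (hA : A ≤ S) (hK : S ≤ normalizer (K : Set Ω))
    (h1 : ∀ u ∈ B, ∀ v ∈ A, ⁅u, v⁆ ∈ K) : ∀ u ∈ A, ∀ v ∈ A, ⁅u, v⁆ ∈ K := fun u hu v hv => by
  obtain ⟨x, hx, hx'⟩ := h.exists_not_mem
  exact comm_left h hA hK (hA hv) hx hx' (fun w hw => h1 w hw v hv) (comm_symm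
    (comm_left h hA hK (hA hx) hx hx' (fun w hw => h1 w hw x hx) (by simp) v hv)) u hu

omit hp in
theorem norm_of_comm (h : ∀ u ∈ A, ∀ g ∈ S, ⁅u, g⁆ ∈ A) : S ≤ normalizer (A : Set Ω) :=
  le_normalizer_of_conj_mem fun g hg y hy => by
    simpa [commutatorElement_def, mul_assoc] using mul_mem hy (h _ (inv_mem hy) g hg)

variable [Finite S] {F : FusionSystem S}

theorem comm_ip (hS : IsPGroup p S) (h : Ip p B A) (hA : A ≤ S) (n1 : S ≤ normalizer (B : Set Ω))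
    (n2 : S ≤ normalizer (A : Set Ω)) : ∀ u ∈ A, ∀ g ∈ S, ⁅u, g⁆ ∈ B := fun u hu g hg => by
  simpa [commutatorElement_def, mul_assoc] using
    inv_mul_conj_mem_of_card hS h.le hA h.norm h.card.le hg (n1 hg) (n2 hg) (A.inv_mem hu)

theorem H5.cent (h : H5 p S) (hA : A ≤ S) (hc : IsMulCommutative A) (h3 : Nat.card A = p ^ 3) (hu : u ∈ S)
    (e : ∀ v ∈ A, u * v * u⁻¹ = v) : u ∈ A := by
  by_contra hu'
  have k1 : ∀ b ∈ A ⊔ zpowers u, A ⊔ zpowers u ≤ centralizer {b} := fun b hb =>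
    sup_le (fun v hv => conj_eq_iff.mpr (conj_symm (conj_eq_iff.mp (sup_le
      (fun w hw => conj_eq_iff.mpr (conj_eq_of_comm hc hv hw))
      (zpowers_le.mpr (conj_eq_iff.mpr (conj_symm (e v hv)))) hb))))
      (zpowers_le.mpr (conj_eq_iff.mpr (conj_symm (conj_eq_iff.mp (sup_le (fun w hw => conj_eq_iff.mpr (e w hw))
        (zpowers_le.mpr (conj_eq_iff.mpr (by group))) hb)))))
  have l := sup_le hA (zpowers_le.mpr hu)
  have := h.ab _ l (comm_of_conj fun a ha b hb => conj_eq_iff.mp (k1 a ha hb))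
  exact (h3 ▸ card_lt_of_lt_of_le (lt_of_le_of_ne le_sup_left fun e : A = A ⊔ zpowers u =>
    hu' (e.ge (mem_sup_right (mem_zpowers u)))) l).not_ge this

theorem case_three (h : H5 p S) (hF : Sat p F) (hp2 : p ≠ 2) (hE : F.IsEssential p E)
    (hc : Nat.card E = p ^ 3) (hab : IsMulCommutative E) : F.hyperfocalSubgroup p ≠ S := by
  have hS := h.pg
  have hES := hE.1.1
  have hp0 := hp.out.pos
  have := finite_of_le hES
  have cen := centric_centralizerIn_le hE.1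
  have hA := allGd h hF
  have t2 : (2 : ZMod p) ≠ 0 := fun e =>
    hp2 ((Nat.prime_dvd_prime_iff_eq hp.out Nat.prime_two).mp ((ZMod.natCast_eq_zero_iff 2 p).mp e))
  obtain ⟨W, hW, -, cW⟩ := hA E hE
  obtain ⟨L, s, x, φ, ψ, hD⟩ := hW.exists_dg hF hE cW
  have cW' : Nat.card W = p := Nat.eq_of_mul_eq_mul_left (pow_pos hp0 2) (by rw [← cW, hc]; ring)
  have iE := hD.ip
  have hdiag := hD.diag
  have memL := fun a ha ha' u => hD.mem_L (a := a) ha ha' (u := u)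
  have hne := hD.ne
  obtain ⟨N, hN⟩ : ∃ N, N = normalizerIn S E := ⟨_, rfl⟩
  rw [← hN] at iE hdiag memL hne
  have hNS : N ≤ S := hN ▸ normalizerIn_le S E
  have := finite_of_le hNS
  have cN : Nat.card N = p ^ 4 := by rw [iE.card, hc]; ring
  have iN : Ip p N S := ip_of_card hS hNS (by rw [cN, h.card]; ring)
  have iL := hD.pl.ip2
  have iW := hD.pl.ip1
  have cL : Nat.card L = p ^ 2 := by rw [iW.card, cW']; ring
  have hLS := iL.le.trans hES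
  have := finite_of_le hLS
  have nN : ¬ IsMulCommutative N := fun e => absurd (pow_le_iff.mp (cN ▸ h.ab N hNS e)) (by omega)
  obtain ⟨a, ha, ha', fL⟩ : ∃ a ∈ N, a ∉ E ∧ ∀ u ∈ L, a * u * a⁻¹ = u := by
    obtain ⟨H, a, i1, a1, a2, a3⟩ := exists_transv h hES hab hc
    rw [← hN] at a1
    have e : H = L := eq_of_le_of_card_le' (fun u hu => memL a a1 a2 u (i1.le hu) (by
      rw [a3 u hu, inv_mul_cancel]; exact one_mem _)) (Nat.le_of_mul_le_mul_left (by rw [← i1.card, ← iL.card]) hp0)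
    exact ⟨a, a1, a2, e ▸ a3⟩
  have cNL : ∀ u ∈ L, ∀ g ∈ N, u * g * u⁻¹ = g := fun u hu g hg => conj_eq_iff.mp
    (iE.le_of_mem ha ha' (fun v hv => conj_eq_iff.mpr (conj_eq_of_comm hab (iL.le hu) hv))
      (conj_eq_iff.mpr (conj_symm (fL u hu))) hg)
  have ZN : centralizerIn N N = L := le_antisymm (fun u hu =>
    memL a ha ha' u (cen (mem_centralizerIn'.mpr ⟨hNS hu.1, fun v hv => (mem_centralizerIn'.mp hu).2 v (iE.le hv)⟩))
      (by rw [center_conj hu ha, inv_mul_cancel]; exact one_mem _))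
    fun u hu => mem_centralizerIn'.mpr ⟨iE.le (iL.le hu), cNL u hu⟩
  have nL : S ≤ normalizer (L : Set Ω) := fun g hg => ZN ▸ mem_normalizer_centralizerIn (iN.norm hg) (iN.norm hg)
  have ci := ci_of hS hNS nN (by rw [ZN, cN, cL]; exact le_of_eq (by ring))
  have cmN : ∀ u ∈ N, ∀ v ∈ N, ⁅u, v⁆ ∈ ⁅N, N⁆ := fun u hu v hv => commutator_mem_commutator hu hv
  have iCN := inv_comm F N
  have lΓ : ⁅N, N⁆ ≤ ⁅S, S⁆ := commutator_mono hNS hNS
  obtain ⟨C, hC⟩ : ∃ C, C = ⁅N, N⁆ := ⟨_, rfl⟩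
  rw [← hC] at ci cmN iCN lΓ
  have hCL : C ≤ L := ZN ▸ ci.le
  have := finite_of_le hCL
  have nC : S ≤ normalizer (C : Set Ω) := fun g hg =>
    mem_normalizer_of_conj_mem_finite (ci.inv _ (cj_mem_autAll (iN.norm hg)))
  have cC : ∀ u ∈ C, ∀ g ∈ S, ⁅u, g⁆ ∈ (⊥ : Subgroup Ω) := fun u hu g hg =>
    comm_bot (conj_symm (conj_eq_of_card_le hS (hCL.trans hLS) ci.cardD.le hg (nC hg) hu))
  have iC : Ip p C L := ip_of_card (hS.to_le hLS) hCL (by rw [cL, ci.cardD]; ring)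
  have i0 : Ip p ⊥ C := ip_of_card (hS.to_le (hCL.trans hLS)) bot_le (by rw [ci.cardD, card_bot, mul_one])
  obtain ⟨c, hcC, hcW⟩ : ∃ c ∈ C, c ∉ W := by
    refine ⟨_, ci.comm x (iE.le hD.pl.hx) a ha, fun e => hne a ha ha' ?_⟩
    rw [hD.pl.eq1 hD.pl.hx (iE.conj_mem ha hD.pl.hx) e, hD.pl.φx]
  obtain ⟨w, hw, hwC⟩ : ∃ w ∈ W, w ∉ C := by
    by_contra k
    push Not at k
    exact hcW (eq_of_le_of_card_le' k (by rw [cW', ci.cardD]) ▸ hcC)
  obtain ⟨E₀, i1, l1, n1⟩ := exists_ip_normal hS (iL.lt.trans iE.lt) hNS nL iN.norm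
  have hE₀ := l1.trans hNS
  have := finite_of_le hE₀
  have c0 : Nat.card E₀ = p ^ 3 := by rw [i1.card, cL]; ring
  have i2 : Ip p E₀ N := ip_of_card (hS.to_le hNS) l1 (by rw [cN, c0]; ring)
  have nE : ¬ S ≤ normalizer (E : Set Ω) := fun e => iN.ne fun g hg => hN ▸ ⟨hg, e hg⟩
  have hxN := iE.le hD.pl.hx
  have hx0 : x ∉ E₀ := fun e => nE
    (eq_of_le_of_card_le' (iL.le_of_mem hD.pl.hx hD.pl.x_not i1.le e) (by rw [c0, hc]) ▸ n1)
  have ab0 : IsMulCommutative E₀ := comm_of_ip i1 fun u hu v hv => cNL u hu v (l1 hv)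
  have cen0 := fun u => h.cent hE₀ ab0 c0 (u := u)
  have cm0 : ∀ u ∈ E₀, ∀ v ∈ E₀, ⁅u, v⁆ ∈ (⊥ : Subgroup Ω) := fun u hu v hv => comm_bot (conj_eq_of_comm ab0 hu hv)
  have k1 := comm_ip hS i2 hNS n1 iN.norm
  have k2 := comm_ip hS i1 hE₀ nL n1
  have k3 := comm_ip hS iC hLS nC nL
  have nNS : ¬ ∀ u ∈ N, ∀ g ∈ S, ⁅u, g⁆ ∈ L := fun k => nE (norm_of_comm fun u hu g hg => iL.le (k u (iE.le hu) g hg))
  have mem0 : ∀ u ∈ N, (∀ g ∈ S, ⁅u, g⁆ ∈ L) → u ∈ E₀ := fun u hu k => by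
    by_contra e
    exact nNS fun v hv g hg => comm_left i2 hNS nL hg hu e (fun w hw => k2 w hw g hg) (k g hg) v hv
  obtain ⟨t, ht, hxt⟩ : ∃ t ∈ S, ⁅x, t⁆ ∉ L := by
    by_contra k
    push Not at k
    exact hx0 (mem0 x hxN k)
  have htN : t ∉ N := fun e => hxt (hCL (cmN x hxN t e))
  have key : ∀ d : ZMod p, d ≠ 0 → ∃ α μ ν, Iso F S S α ∧ Ev α N S ν ∧ Ev α E₀ N d ∧ Ev α L E₀ μ ∧
      Ev α C L (1 : ZMod p) ∧ Ev α ⊥ C d⁻¹ ∧ d⁻¹ = d * μ ∧ μ = d * ν := fun d hd => by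
    obtain ⟨g, g1, g2, g3, g4⟩ := hdiag d hd
    obtain ⟨α, a1, a2⟩ := hA.ext_top hF hE iE.lt g1.mor
    obtain ⟨e1, e2⟩ := hD.ev1 hW g2 g4
    have e1' := e1.congr iW.le fun u hu => a2 u (iE.le (iL.le hu))
    have e2' := e2.congr iL.le fun u hu => a2 u (iE.le hu)
    have a3 := g1.congr a2
    have mN : ∀ u ∈ N, α u ∈ N := fun u hu => a3.mem hu
    have m0 : ∀ u ∈ E₀, α u ∈ E₀ := fun u hu => mem0 _ (mN u (l1 hu)) fun g hg => by
      have := e1'.mA _ (k2 u hu _ (a1.inv_mem hg))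
      rwa [a1.homOn.map_commutatorElement (hE₀ hu) (a1.inv_mem hg), perm_apply_inv_self] at this
    have mb := inv_bot F S α a1
    obtain ⟨ν, f1⟩ := exists_ev iN a1.homOn (fun _ hu => a1.mem hu) mN
    obtain ⟨d', f2⟩ := exists_ev i2 a3.homOn mN m0
    obtain ⟨μ, f3⟩ := exists_ev i1 (a1.homOn.mono hE₀) m0 e1'.mA
    obtain ⟨k, f4⟩ := exists_ev iC (a1.homOn.mono hLS) e1'.mA (iCN α a3)
    obtain ⟨k', f5⟩ := exists_ev i0 (a1.homOn.mono (hCL.trans hLS)) (iCN α a3) mb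
    obtain rfl := f2.eq_of_le e2' i2 iE.le i1.le hD.pl.hx hx0
    obtain rfl := f4.eq_of_le (ev_one_of e1'.mB mb bot_le fun u hu => by
      rw [a2 u (iE.le (hW.le2 hu)), ← comm_eq_bot hab]; exact g3 u hu) iC iW.le bot_le hw hwC
    obtain rfl := e1'.eq_of_le f5 iW hCL bot_le hcC hcW
    obtain ⟨u, hu, v, hv, ne⟩ : ∃ u ∈ N, ∃ v ∈ E₀, ⁅u, v⁆ ∉ (⊥ : Subgroup Ω) := by
      by_contra k
      push Not at k
      exact nN (comm_of_ip i2 fun u hu v hv => conj_symm (conj_of_bot (k v hv u hu)))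
    exact ⟨α, μ, ν, a1, f1, f2, f3, f4, f5, ev_pair a1.homOn hNS hE₀ f2 f3 f5 i0 (fun u hu v hv => cmN u hu v (l1 hv))
      cm0 (fun u hu v hv => comm_bot (conj_symm (cNL v hv u hu))) cC hu hv ne,
      ev_pair a1.homOn hNS le_rfl f2 f1 f3 i1 k1 k2 (fun u hu v hv => hCL (cmN u hu v hv)) k2 hxN ht hxt⟩
  have m1 : (-1 : ZMod p) ≠ 0 := neg_ne_zero.mpr one_ne_zero
  obtain ⟨g, μ, ν, g1, g2, g3, g4, g5, -, g7, g8⟩ := key (-1) m1
  rw [inv_neg, inv_one] at g7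
  obtain rfl : μ = 1 := by linear_combination g7
  obtain rfl : ν = -1 := by linear_combination g8
  have k4 : ∀ u ∈ E₀, ∀ v ∈ S, ⁅u, v⁆ ∈ C := by
    by_contra k
    push Not at k
    obtain ⟨u, hu, v, hv, ne⟩ := k
    have := ev_pair g1.homOn hE₀ le_rfl g4 g2 g5 iC k2 k3 (fun u hu v hv => cmN u (l1 hu) v hv) k3 hu hv ne
    exact t2 (by linear_combination this)
  obtain ⟨u₀, hu₀, v₀, hv₀, ne₀⟩ : ∃ u ∈ L, ∃ v ∈ S, ⁅u, v⁆ ∉ (⊥ : Subgroup Ω) := by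
    by_contra k
    push Not at k
    obtain ⟨y, hy, hy'⟩ := i1.exists_not_mem
    have le : S ⊓ centralizer {y} ≤ E₀ := fun u hu => cen0 u hu.1 fun v hv => conj_eq_iff.mp
      (i1.le_of_mem hy hy' (fun w hw => conj_eq_iff.mpr (conj_symm (conj_of_bot (k w hw u hu.1))))
        (conj_eq_iff.mpr (conj_symm (conj_eq_iff.mp hu.2))) hv)
    have c := card_le_of_le le
    by_cases e : S ≤ centralizer {y}
    · rw [inf_eq_left.mpr e, h.card, c0] at c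
      exact absurd (pow_le_iff.mp c) (by omega)
    have := (ip_centralizer hS le_rfl (hCL.trans hLS) ci.cardD.le (hE₀ hy)
      (fun w hw => comm_symm (k4 y hy w hw)) e).card
    rw [h.card] at this
    rw [c0] at c
    have := pow_le_iff.mp (this.le.trans ((Nat.mul_le_mul_left p c).trans_eq (pow_succ' p 3).symm))
    omega
  have h3 : p = 3 := by
    obtain ⟨α, μ, ν, a1, f1, -, -, f4, f5, r1, r2⟩ := key 2 t2
    have r3 := ev_pair a1.homOn hLS le_rfl f4 f1 f5 i0 k3 cC (fun u hu v hv => comm_bot (cNL u hu v hv)) cC hu₀ hv₀ ne₀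
    have r4 : (2 : ZMod p)⁻¹ * 2 = 1 := inv_mul_cancel₀ t2
    have k2 : ((3 : ℕ) : ZMod p) = 0 := by
      push_cast
      linear_combination (-2 : ZMod p) * r1 - 4 * r2 + 8 * r3 - 3 * r4
    exact (Nat.prime_dvd_prime_iff_eq hp.out Nat.prime_three).mp ((ZMod.natCast_eq_zero_iff _ p).mp k2)
  have ZS : centralizerIn S S = C := by
    refine (iC.eq_or_eq (fun u hu => mem_centralizerIn'.mpr ⟨hLS (hCL hu), fun v hv => conj_of_bot (cC u hu v hv)⟩)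
      fun u hu => ZN ▸ mem_centralizerIn'.mpr ⟨iE.le (center_le_of_centric hE.1 hu), fun v hv =>
        (mem_centralizerIn'.mp hu).2 v (hNS hv)⟩).resolve_right fun e => ne₀ (comm_bot ?_)
    exact (mem_centralizerIn'.mp (e ▸ hu₀ : u₀ ∈ centralizerIn S S)).2 v₀ hv₀
  have mem0' : ∀ u ∈ S, (∀ g ∈ S, ⁅u, g⁆ ∈ C) → u ∈ E₀ := fun u hu k => by
    refine mem0 u ?_ fun g hg => hCL (k g hg)
    by_contra e
    exact hxt (hCL (comm_symm (comm_left iN le_rfl nC (hNS hxN) hu e (fun w hw => cmN w hw x hxN)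
      (k x (hNS hxN)) t ht)))
  obtain ⟨e₀, he₀⟩ : ∃ e, e = ⁅x, t⁆ := ⟨_, rfl⟩
  have e0 : e₀ ∈ E₀ := he₀ ▸ k1 x hxN t ht
  have e1 : e₀ ∉ L := he₀ ▸ hxt
  have e2 : e₀ ^ p ∈ C := by
    have : ∀ n : ℕ, (e₀ ^ n)⁻¹ * ⁅x, t ^ n⁆ ∈ C := fun n => by
      induction n with
      | zero => simp
      | succ n ih =>
        have m := k4 _ (inv_mem (k1 x hxN _ (S.pow_mem ht n))) t ht
        have := C.mul_mem ih m
        rw [pow_succ' e₀, pow_succ' t]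
        convert this using 1
        rw [mul_inv_rev, he₀]
        simp [commutatorElement_def, mul_assoc]
    simpa using (C.mul_mem_cancel_right (cmN x hxN _ (iN.pow t ht))).mp (this p)
  have iΓ := ip_sup (p := p) (fun e => e1 (hCL e)) (nC (hE₀ e0)) e2
  have lΓ' : C ⊔ zpowers e₀ ≤ E₀ := sup_le (hCL.trans i1.le) (zpowers_le.mpr e0)
  have eΓ : C ⊔ zpowers e₀ = ⁅S, S⁆ := by
    refine le_antisymm (sup_le lΓ (zpowers_le.mpr (he₀ ▸ commutator_mem_commutator (hNS hxN) ht))) ?_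
    have n := norm_of_comm (S := S) fun u hu g hg => iΓ.le (k4 u (lΓ' hu) g hg)
    refine commutator_le.mpr (comm_all iN le_rfl n fun u hu g hg => ?_)
    refine comm_left i2 hNS n hg hxN hx0 (fun w hw => iΓ.le (k4 w hw g hg)) (comm_symm ?_) u hu
    exact comm_left iN le_rfl n (hNS hxN) ht htN (fun w hw => iΓ.le (cmN w hw x hxN))
      (comm_symm (he₀ ▸ mem_sup_right (mem_zpowers e₀))) g hg
  have eΓ0 : e₀ ∈ ⁅S, S⁆ := eΓ ▸ mem_sup_right (mem_zpowers e₀)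
  rw [eΓ] at iΓ lΓ'
  have iΓ' : Ip p ⁅S, S⁆ E₀ := ip_of_card (hS.to_le hE₀) lΓ' (by rw [iΓ.card, c0, ci.cardD]; ring)
  have nz : ¬ S ≤ centralizer {e₀} := fun e => e1 (hCL (ZS ▸ mem_centralizerIn'.mpr
    ⟨hE₀ e0, fun v hv => conj_eq_iff.mp (e hv)⟩))
  have iA := ip_centralizer hS le_rfl (hCL.trans hLS) ci.cardD.le (hE₀ e0) (fun w hw => comm_symm (k4 _ e0 w hw)) nz
  have eA : S ⊓ centralizer {e₀} = centralizerIn S ⁅S, S⁆ := le_antisymm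
    (fun u hu => mem_centralizerIn'.mpr ⟨hu.1, fun v hv => conj_eq_iff.mp (iΓ.le_of_mem eΓ0 (fun e => e1 (hCL e))
      (fun w hw => conj_eq_iff.mpr (conj_symm (conj_of_bot (cC w hw u hu.1))))
      (conj_eq_iff.mpr (conj_symm (conj_eq_iff.mp hu.2))) hv)⟩)
    fun u hu => ⟨hu.1, conj_eq_iff.mpr (conj_symm ((mem_centralizerIn'.mp hu).2 _ eΓ0))⟩
  have iAinv : ∀ α, Iso F S S α → ∀ u ∈ centralizerIn S ⁅S, S⁆, α u ∈ centralizerIn S ⁅S, S⁆ := fun α hα u hu =>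
    (hα.mem_centralizerIn_iff (comm_le_self S) ((hα.mor.mono (comm_le_self S)).iso_self (inv_comm F S α hα)) u).mpr hu
  have cA : ∀ u ∈ ⁅S, S⁆, ∀ v ∈ centralizerIn S ⁅S, S⁆, ⁅u, v⁆ ∈ (⊥ : Subgroup Ω) := fun u hu v hv =>
    comm_bot (conj_symm ((mem_centralizerIn'.mp hv).2 u hu))
  have lA : E₀ ≤ centralizerIn S ⁅S, S⁆ := fun u hu =>
    mem_centralizerIn'.mpr ⟨hE₀ hu, fun v hv => conj_eq_of_comm ab0 hu (lΓ' hv)⟩
  have xA : x ∉ centralizerIn S ⁅S, S⁆ := fun e => hx0 (cen0 x (hNS hxN) fun v hv => conj_eq_iff.mp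
    (i1.le_of_mem e0 e1 (fun w hw => conj_eq_iff.mpr (conj_symm (cNL w hw x hxN)))
      (conj_eq_iff.mpr ((mem_centralizerIn'.mp e).2 _ eΓ0)) hv))
  rw [eA] at iA
  obtain ⟨A, hA'⟩ : ∃ A, A = centralizerIn S ⁅S, S⁆ := ⟨_, rfl⟩
  rw [← hA'] at iA iAinv cA lA xA
  have := finite_of_le iA.le
  have cA4 : Nat.card A = p ^ 4 := Nat.eq_of_mul_eq_mul_left hp0 (by rw [← iA.card, h.card]; ring)
  have iA' : Ip p E₀ A := ip_of_card (hS.to_le iA.le) lA (by rw [cA4, c0]; ring)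
  have NA : ∀ u ∈ N, u ∈ A → u ∈ E₀ := fun u hu hu' => by
    by_contra e
    exact xA (i2.le_of_mem hu e lA hu' hxN)
  have m0 : ∀ α, Iso F S S α → ∀ u ∈ E₀, α u ∈ E₀ := fun α hα u hu => mem0' _ (hα.mem (hE₀ hu)) fun g hg => by
    have := hα.mem_center_top (ZS ▸ k4 u hu _ (hα.inv_mem hg))
    rwa [hα.homOn.map_commutatorElement (hE₀ hu) (hα.inv_mem hg), perm_apply_inv_self, ZS] at this
  refine hA.hyp_ne hF hp2 iΓ' hE₀ (fun α hα => ?_) g1 fun u hu => NA _ (g2.neg iN hu) ?_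
  · have mC : ∀ u ∈ C, α u ∈ C := fun u hu => ZS ▸ hα.mem_center_top (ZS ▸ hu)
    have mΓ := inv_comm F S α hα
    obtain ⟨a', f1⟩ := exists_ev iA hα.homOn (fun _ hu => hα.mem hu) (iAinv α hα)
    obtain ⟨ν', f2⟩ := exists_ev iA' (hα.homOn.mono iA.le) (iAinv α hα) (m0 α hα)
    obtain ⟨c', f3⟩ := exists_ev iΓ' (hα.homOn.mono hE₀) (m0 α hα) mΓ
    obtain ⟨γ', f4⟩ := exists_ev iΓ (hα.homOn.mono (comm_le_self S)) mΓ mC
    obtain ⟨ζ, f5⟩ := exists_ev i0 (hα.homOn.mono (hCL.trans hLS)) mC (inv_bot F S α hα)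
    have k5 : ∀ u ∈ ⁅S, S⁆, ∀ v ∈ S, ⁅u, v⁆ ∈ C := fun u hu => k4 u (lΓ' hu)
    obtain ⟨u, hu, v, hv, ne⟩ : ∃ u ∈ A, ∃ v ∈ S, ⁅u, v⁆ ∉ C := by
      by_contra k
      push Not at k
      exact hxt (hCL (comm_all iA le_rfl nC k x (hNS hxN) t ht))
    have q1 := ev_pair hα.homOn iA.le le_rfl f2 f1 f4 iΓ (fun u hu v hv => commutator_mem_commutator (iA.le hu) hv)
      k4 (comm_all iA' iA.le nC fun u hu v hv => k4 u hu v (iA.le hv)) k5 hu hv ne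
    obtain ⟨v, hv, ne⟩ := SetLike.not_le_iff_exists.mp nz
    have q2 := ev_pair hα.homOn (comm_le_self S) le_rfl f4 f1 f5 i0 k5 cC cA cC eΓ0 hv
      fun e => ne (conj_eq_iff.mpr (conj_of_bot e))
    obtain ⟨u, hu, v, hv, ne⟩ : ∃ u ∈ E₀, ∃ v ∈ A, ⁅u, v⁆ ∉ (⊥ : Subgroup Ω) := by
      by_contra k
      push Not at k
      exact absurd (pow_le_iff.mp (cA4 ▸ h.ab A iA.le (comm_of_ip iA' fun u hu v hv => conj_of_bot (k u hu v hv))))
        (by omega)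
    have q3 := ev_pair hα.homOn hE₀ iA.le f3 f2 f5 i0 (fun u hu v hv => k4 u hu v (iA.le hv)) cA cm0 cC hu hv ne
    have q4 := sq_eq_one_of_three h3 (f1.ne_zero iA hα.homOn)
    obtain rfl : c' = 1 := mul_right_cancel₀ (f2.ne_zero iA' (hα.homOn.mono iA.le)) (by
      rw [← q3, q2, q1]; linear_combination ν' * q4)
    exact f3
  · obtain ⟨a', f1⟩ := exists_ev iA g1.homOn (fun _ hu => g1.mem hu) (iAinv g g1)
    obtain rfl := f1.eq_of_le g3 iA hNS lA hxN xA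
    exact f1.neg iA hu

theorem main (hS : IsPGroup p S) (hF : F.IsSaturated p) (hp2 : p ≠ 2) (hp7 : p ≠ 7) (hc : Nat.card S = p ^ 5)
    (h0 : F.core = ⊥) (hh : F.hyperfocalSubgroup p = S) :
    ∃ A : Subgroup Ω, A ≤ S ∧ IsMulCommutative A ∧ (A.subgroupOf S).index = p := by
  by_contra k
  have h : H5 p S := ⟨hS, hc, fun A hA hab => by
    obtain ⟨j, hj⟩ := card_eq_pow hS hA
    have j5 : j ≤ 5 := pow_le_iff.mp (hj ▸ hc ▸ card_le_of_le hA)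
    rw [hj]
    refine pow_le_iff.mpr ?_
    by_contra j3
    obtain rfl | rfl : j = 4 ∨ j = 5 := by omega
    · exact k ⟨A, hA, hab, (ip_of_card hS hA (by rw [hc, hj]; ring)).relIndex⟩
    obtain rfl := eq_of_le_of_card_le' hA (by rw [hc, hj])
    obtain ⟨B, hB⟩ := Sylow.exists_subgroup_card_pow_prime (G := A) p (n := 4) (by rw [hc]; exact pow_dvd_pow p (by omega))
    have l := map_subtype_le (H := A) B
    exact k ⟨B.map A.subtype, l, comm_of_conj fun u hu v hv => conj_eq_of_comm hab (l hu) (l hv),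
      (ip_of_card hS l (by rw [Core.card_map_subtype, hB, hc]; ring)).relIndex⟩⟩
  obtain ⟨E, hE, h1 | ⟨h1, h2, -⟩⟩ := exists_ess h ⟨hS, hF⟩ h0
  · exact case_two h ⟨hS, hF⟩ hp2 hp7 hE h1 hh
  · exact case_three h ⟨hS, hF⟩ hp2 hE h1 h2 hh

end Cfsg.Lib.Layer.P5
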