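import Cfsg.Agent.Lib.Block.ZStar
import Cfsg.Prelude.Def_Local
import Cfsg.Prelude.Def_KGroupFacts

/-! Standard double covers with cyclic centraliser: the central involution is isolated. -/

set_option autoImplicit false

namespace Cfsg.Lib.Layer.Zs

open Subgroup
open scoped commutatorElement

variable {G : Type*} [Group G] [Finite G]

theorem cyc_aux {C : Type*} [Group C] [Finite C] (hR : ∀ R : Sylow 2 C, IsCyclic (R : Subgroup C)) {z : C}
    (h2 : orderOf z = 2) (hz : z ∈ center C) : (∀ y : C, y ^ 2 = 1 → y = 1 ∨ y = z) ∧ z ∉ commutator C := by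
  have hp : IsPGroup 2 (zpowers z) := IsPGroup.of_card (n := 1) (by rw [Nat.card_zpowers, h2]; rfl)
  have hn : (zpowers z).Normal := ⟨fun n hn g => by
    rw [← mem_center_iff.1 (zpowers_le.2 hz hn) g |>.symm, mul_inv_cancel_right]; exact hn⟩
  have hz1 : z ≠ 1 := fun h => by simp [h] at h2
  have hz2 : z ^ 2 = 1 := h2 ▸ pow_orderOf_eq_one z
  refine ⟨fun y hy => ?_, fun h => ?_⟩
  · have hy' : IsPGroup 2 (zpowers y) := IsPGroup.of_card_dvd_pow (n := 1) (by
      rw [Nat.card_zpowers]; simpa using orderOf_dvd_of_pow_eq_one hy)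
    obtain ⟨P, hP⟩ := hy'.exists_le_sylow
    have hzP : z ∈ (P : Subgroup C) := hp.le_sylow_of_normal P (mem_zpowers z)
    have hyP : y ∈ (P : Subgroup C) := hP (mem_zpowers y)
    have := hR P
    classical
    have := Fintype.ofFinite (P : Subgroup C)
    have key := IsCyclic.card_pow_eq_one_le (α := (P : Subgroup C)) (n := 2) (by norm_num)
    by_contra hc
    push Not at hc
    have h3 : ({1, ⟨z, hzP⟩, ⟨y, hyP⟩} : Finset (P : Subgroup C)) ⊆ Finset.univ.filter fun a => a ^ 2 = 1 := by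
      intro a ha
      simp only [Finset.mem_insert, Finset.mem_singleton] at ha
      rcases ha with rfl | rfl | rfl
      · simp
      · exact Finset.mem_filter.2 ⟨Finset.mem_univ _, Subtype.ext hz2⟩
      · exact Finset.mem_filter.2 ⟨Finset.mem_univ _, Subtype.ext hy⟩
    have h4 := (Finset.card_le_card h3).trans key
    rw [Finset.card_eq_three.2 ⟨1, ⟨z, hzP⟩, ⟨y, hyP⟩, fun e => hz1 (congrArg Subtype.val e).symm,
      fun e => hc.1 (congrArg Subtype.val e).symm, fun e => hc.2 (congrArg Subtype.val e).symm, rfl⟩] at h4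
    omega
  · obtain ⟨P⟩ : Nonempty (Sylow 2 C) := inferInstance
    have hm : (Nat.card C).minFac = 2 := (Nat.minFac_eq_two_iff _).2 (h2 ▸ orderOf_dvd_natCard z)
    have hN := IsCyclic.normalizer_le_centralizer hm (hR P)
    have := hR P
    have hk : commutator C ≤ (MonoidHom.transferSylow P hN).ker := by
      rw [_root_.commutator_def, commutator_le]
      intro a _ b _
      rw [MonoidHom.mem_ker, map_commutatorElement, commutatorElement_eq_one_iff_mul_comm]
      exact IsMulCommutative.is_comm.comm _ _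
    exact hz1 ((disjoint_def.1 (MonoidHom.ker_transferSylow_disjoint P hN _ hp)) (hk h) (mem_zpowers z))

theorem cen_le_nor {A : Subgroup G} (hA : IsStandardSubgroup A) {t : G} (ht : orderOf t = 2)
    (htA : t ∈ centralizer (A : Set G)) : centralizer {t} ≤ normalizer (A : Set G) := by
  intro g hg
  rw [hA.2.2.2]
  by_contra hn
  have h2 : t ∈ centralizer (A : Set G) ⊓ (centralizer (A : Set G)).map (MulAut.conj g).toMonoidHom :=
    ⟨htA, t, htA, by simp [mem_centralizer_singleton_iff.1 hg]⟩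
  have h3 := orderOf_dvd_natCard (⟨t, h2⟩ : ↥(centralizer (A : Set G) ⊓ _))
  rw [orderOf_mk, ht] at h3
  exact Nat.not_even_iff_odd.2 (hA.2.1.2 g hn) (even_iff_two_dvd.2 h3)

theorem mem_cen {A : Subgroup G} {z : A} (hz : z ∈ center A) : (z : G) ∈ centralizer (A : Set G) :=
  fun a ha => congrArg Subtype.val (mem_center_iff.1 hz ⟨a, ha⟩)

/-- if `A` is not normal, a conjugate of `z` other than `z` commutes with `z`. -/
theorem exists_conj (hO : oddCore G = ⊥) {A : Subgroup G} (hA : IsStandardSubgroup A) {z : G} (h2 : orderOf z = 2)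
    (hz : z ∈ centralizer (A : Set G)) (hn : ¬ A.Normal) :
    ∃ g : G, Commute z (g * z * g⁻¹) ∧ g * z * g⁻¹ ≠ z := by
  by_contra h
  push Not at h
  have hc := Block.z_star_center hO ⟨h2, h⟩
  exact hn (normalizer_eq_top_iff.1 (eq_top_iff.2 fun g _ =>
    cen_le_nor hA h2 hz (mem_centralizer_singleton_iff.2 (mem_center_iff.1 hc g))))

theorem decomp {A : Subgroup G} (hout : ∀ φ : MulAut A, ∃ a : A, φ = MulAut.conj a) {h : G}
    (hh : h ∈ normalizer (A : Set G)) : ∃ a : A, ∃ c ∈ centralizer (A : Set G), h = a * c := by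
  obtain ⟨a, ha⟩ := hout (A.normalizerMonoidHom ⟨h, hh⟩)
  refine ⟨a, (a : G)⁻¹ * h, fun b hb => ?_, by group⟩
  have : h * b * h⁻¹ = a * b * (a : G)⁻¹ := congrArg (fun φ : MulAut A => (φ ⟨b, hb⟩ : G)) ha
  calc b * ((a : G)⁻¹ * h) = (a : G)⁻¹ * (a * b * (a : G)⁻¹) * h := by group
    _ = _ := by rw [← this]; group

/-- a perfect group whose central quotient is complete-up-to-centre has only inner automorphisms. -/
theorem out_of_quot {A : Type*} [Group A] (hp : Group.IsPerfect A)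
    (h : ∀ ψ : MulAut (A ⧸ center A), ∃ a, ψ = MulAut.conj a) (φ : MulAut A) : ∃ a : A, φ = MulAut.conj a := by
  have hm : (center A).map (φ : A →* A) = center A := (characteristic_iff_map_eq.1 inferInstance) φ
  obtain ⟨a, ha⟩ := h (QuotientGroup.congr _ _ φ hm)
  obtain ⟨a, rfl⟩ := QuotientGroup.mk_surjective a
  have h1 : ∀ x : A, (φ x)⁻¹ * (a * x * a⁻¹) ∈ center A := fun x => by
    rw [← QuotientGroup.eq]
    exact congrArg (fun ψ : MulAut (A ⧸ center A) => ψ x) ha
  refine ⟨a, MulEquiv.ext fun x => ?_⟩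
  have hx : x ∈ (φ : A →* A).eqLocus (MulAut.conj a : MulAut A) := by
    refine (show commutator A ≤ _ from ?_) (hp.commutator_eq_top.ge (mem_top x))
    rw [_root_.commutator_def, commutator_le]
    intro u _ v _
    change (φ : A →* A) _ = ((MulAut.conj a : MulAut A) : A →* A) _
    rw [map_commutatorElement, map_commutatorElement]
    have e : ∀ y : A, ((MulAut.conj a : MulAut A) : A →* A) y = (φ : A →* A) y * ((φ y)⁻¹ * (a * y * a⁻¹)) :=
      fun y => by simp
    rw [e u, e v]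
    have c1 := mem_center_iff.1 (h1 u)
    have c2 := mem_center_iff.1 (h1 v)
    generalize (φ u)⁻¹ * (a * u * a⁻¹) = c at c1 ⊢
    generalize (φ v)⁻¹ * (a * v * a⁻¹) = d at c2 ⊢
    generalize (φ : A →* A) u = p
    generalize (φ : A →* A) v = q
    calc ⁅p, q⁆ = p * (q * c) * c⁻¹ * (p⁻¹ * d) * d⁻¹ * q⁻¹ := by group
      _ = p * (c * q) * c⁻¹ * (d * p⁻¹) * d⁻¹ * q⁻¹ := by rw [c1 q, c2 p⁻¹]
      _ = p * c * q * (c⁻¹ * d) * (p⁻¹ * d⁻¹) * q⁻¹ := by group
      _ = p * c * q * (d * c⁻¹) * (p⁻¹ * d⁻¹) * q⁻¹ := by rw [c2 c⁻¹]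
      _ = _ := by group
  exact hx

theorem comm_decomp {A : Subgroup G} {H : Subgroup G}
    (hd : ∀ h ∈ H, ∃ a : A, ∃ c ∈ centralizer (A : Set G), h = a * c) {h : G} (hh : h ∈ ⁅H, H⁆) :
    ∃ a : A, ∃ c ∈ ⁅centralizer (A : Set G), centralizer (A : Set G)⁆, h = a * c := by
  have hle := commutator_le_self (centralizer (A : Set G))
  let K : Subgroup G :=
    { carrier := {h | ∃ a : A, ∃ c ∈ ⁅centralizer (A : Set G), centralizer (A : Set G)⁆, h = a * c}
      one_mem' := ⟨1, 1, one_mem _, by simp⟩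
      mul_mem' := by
        rintro _ _ ⟨a, c, hc, rfl⟩ ⟨b, d, hd, rfl⟩
        refine ⟨a * b, c * d, mul_mem hc hd, ?_⟩
        have := hle hc b b.2
        calc (a : G) * c * (b * d) = a * (c * b) * d := by group
          _ = _ := by rw [← this]; simp [mul_assoc]
      inv_mem' := by
        rintro _ ⟨a, c, hc, rfl⟩
        refine ⟨a⁻¹, c⁻¹, inv_mem hc, ?_⟩
        rw [hle hc a a.2]; simp }
  refine (show ⁅H, H⁆ ≤ K from commutator_le.2 fun u hu v hv => ?_) hh
  obtain ⟨a, c, hc, rfl⟩ := hd u hu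
  obtain ⟨b, d, hd, rfl⟩ := hd v hv
  refine ⟨⁅a, b⁆, ⁅c, d⁆, commutator_mem_commutator hc hd, ?_⟩
  have e1 : Commute c (b : G) := (hc b b.2).symm
  have e2 : Commute c (a : G) := (hc a a.2).symm
  have e3 : Commute d (b : G) := (hd b b.2).symm
  have e4 : Commute d (a : G) := (hd a a.2).symm
  have e5 : Commute (c * d * c⁻¹ * d⁻¹) ((a : G)⁻¹ * (b : G)⁻¹) :=
    (((e2.inv_right.mul_right e1.inv_right).mul_left (e4.inv_right.mul_right e3.inv_right)).mul_left
      (e2.inv_right.mul_right e1.inv_right).inv_left).mul_left (e4.inv_right.mul_right e3.inv_right).inv_left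
  change (a : G) * c * (b * d) * (a * c)⁻¹ * (b * d)⁻¹ = a * b * (a : G)⁻¹ * (b : G)⁻¹ * (c * d * c⁻¹ * d⁻¹)
  generalize (a : G) = p at *
  generalize (b : G) = q at *
  calc p * c * (q * d) * (p * c)⁻¹ * (q * d)⁻¹ = p * (c * q) * d * c⁻¹ * (p⁻¹ * d⁻¹) * q⁻¹ := by group
    _ = p * (q * c) * d * c⁻¹ * (d⁻¹ * p⁻¹) * q⁻¹ := by rw [e1.eq, e4.inv_inv.eq]
    _ = p * q * (c * d * c⁻¹ * d⁻¹ * (p⁻¹ * q⁻¹)) := by group
    _ = _ := by rw [e5.eq]; group

theorem normal (hO : oddCore G = ⊥) (A : Subgroup G) (hA : IsStandardSubgroup A)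
    (hR : ∀ R : Sylow 2 (centralizer (A : Set G)), IsCyclic (R : Subgroup (centralizer (A : Set G))))
    (z : A) (hz : center A = zpowers z) (h2 : orderOf z = 2) (hout : ∀ φ : MulAut A, ∃ a : A, φ = MulAut.conj a)
    (H4 : ∀ a : A, a ^ 4 ≠ z) (s : A) (H1 : ∀ u : A, u ^ 2 = 1 → u ∈ center A ∨ IsConj s u ∨ IsConj (s * z) u)
    (H5 : ∃ x ∈ ⁅centralizer ({s} : Set A), centralizer ({s} : Set A)⁆, x ^ 4 = s)
    (H6 : ∃ x ∈ ⁅centralizer ({s} : Set A), centralizer ({s} : Set A)⁆,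
      x ^ 2 = 1 ∧ x ∉ center A ∧ x * s ∉ center A ∧ IsConj x (x * s * z)) : A.Normal := by
  by_contra hn
  have hzc : z ∈ center A := hz ▸ mem_zpowers z
  have hzC := mem_cen hzc
  have h2' : orderOf (z : G) = 2 := by rw [orderOf_coe, h2]
  have hzz : z * z = 1 := by rw [← sq, ← h2, pow_orderOf_eq_one]
  have hzz' : (z : G) * z = 1 := congrArg Subtype.val hzz
  have hz1 : (z : G) ≠ 1 := fun h => by simp [h] at h2'
  obtain ⟨u1, u2⟩ := cyc_aux hR (z := ⟨z, hzC⟩) (by rw [orderOf_mk, h2'])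
    (mem_center_iff.2 fun c => Subtype.ext (c.2 z z.2).symm)
  have inv : ∀ c ∈ centralizer (A : Set G), c ^ 2 = 1 → c = 1 ∨ c = z := fun c hc h =>
    (u1 ⟨c, hc⟩ (Subtype.ext h)).imp (congrArg Subtype.val) (congrArg Subtype.val)
  have nc : (z : G) ∉ ⁅centralizer (A : Set G), centralizer (A : Set G)⁆ := fun h => by
    rw [← map_subtype_commutator] at h
    obtain ⟨y, hy, e⟩ := h
    exact u2 ((Subtype.ext e : y = ⟨z, hzC⟩) ▸ hy)
  have cen : ∀ a : A, a ∈ center A → a = 1 ∨ a = z := fun a ha => by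
    classical
    rw [hz, mem_zpowers_iff_mem_range_orderOf, h2] at ha
    simp only [Finset.mem_image, Finset.mem_range] at ha
    obtain ⟨k, hk, rfl⟩ := ha
    interval_cases k <;> simp
  have cen' : ∀ a : A, (a : G) ∈ centralizer (A : Set G) → a = 1 ∨ a = z := fun a ha =>
    cen a (mem_center_iff.2 fun b => Subtype.ext (ha b b.2))
  have hd : ∀ h ∈ centralizer {(z : G)}, ∃ a : A, ∃ c ∈ centralizer (A : Set G), h = a * c := fun h hh =>
    decomp hout (cen_le_nor hA h2' hzC hh)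
  have hle := commutator_le_self (centralizer (A : Set G))
  have pw : ∀ (a : A) (c : G) (n : ℕ), c ∈ centralizer (A : Set G) → ((a : G) * c) ^ n = (a ^ n : A) * c ^ n :=
    fun a c n hc => by rw [Commute.mul_pow (hc a a.2)]; rfl
  have tr : ∀ (g : G) (s' : A), (s' = s ∨ s' = s * z) → g * s' * g⁻¹ = z →
      ∀ x ∈ ⁅centralizer ({s} : Set A), centralizer ({s} : Set A)⁆,
        ∃ a : A, ∃ c ∈ ⁅centralizer (A : Set G), centralizer (A : Set G)⁆, g * x * g⁻¹ = a * c := by
    intro g s' hs' e x hx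
    let φ : A →* G := (MulAut.conj g).toMonoidHom.comp A.subtype
    have h1 : (centralizer ({s} : Set A)).map φ ≤ centralizer {(z : G)} := by
      rintro _ ⟨y, hy, rfl⟩
      have h3 : y * s' = s' * y := by
        have := mem_centralizer_singleton_iff.1 hy
        rcases hs' with rfl | rfl
        · exact this
        · rw [← mul_assoc, this, mul_assoc, mul_assoc, mem_center_iff.1 hzc y]
      rw [mem_centralizer_singleton_iff, ← e]
      exact (map_mul φ y s').symm.trans ((congrArg φ h3).trans (map_mul φ s' y))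
    refine comm_decomp hd (commutator_mono h1 h1 ?_)
    rw [← map_commutator]
    exact ⟨x, hx, rfl⟩
  have N1 : ∀ g : G, g * s * g⁻¹ ≠ z := fun g e => by
    obtain ⟨x, hx, hs⟩ := H5
    obtain ⟨a, c, hc, e1⟩ := tr g s (Or.inl rfl) e x hx
    have e2 : ((a ^ 4 : A) : G) * c ^ 4 = z := by
      rw [← pw a c 4 (hle hc), ← e1, conj_pow, ← e, ← hs]; rfl
    have e3 : ((a ^ 4 : A) : G) ∈ centralizer (A : Set G) := by
      rw [eq_mul_inv_of_mul_eq e2]; exact mul_mem hzC (inv_mem (pow_mem (hle hc) 4))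
    rcases cen' _ e3 with h | h
    · rw [h, coe_one, one_mul] at e2
      exact nc (e2 ▸ pow_mem hc 4)
    · exact H4 a h
  have cj : ∀ {a b : A}, IsConj a b → IsConj (a : G) b := fun h => A.subtype.map_isConj h
  have cz : ∀ {a b : A}, IsConj a b → IsConj (a * z) (b * z) := fun {a b} h => by
    obtain ⟨w, rfl⟩ := isConj_iff.1 h
    refine isConj_iff.2 ⟨w, ?_⟩
    rw [mul_assoc (w * a), mem_center_iff.1 hzc w⁻¹]; group
  have N1' : ¬ IsConj (s : G) z := fun h => (isConj_iff.1 h).elim N1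
  have N3 : ¬ IsConj ((s * z : A) : G) z := fun h => by
    obtain ⟨g, e⟩ := isConj_iff.1 h
    obtain ⟨x, hx, x2, x3, x4, x5⟩ := H6
    obtain ⟨a, c, hc, e1⟩ := tr g (s * z) (Or.inr rfl) e x hx
    have e2 : ((a ^ 2 : A) : G) * c ^ 2 = 1 := by
      rw [← pw a c 2 (hle hc), ← e1, conj_pow, ← coe_pow, x2]; simp
    have e3 : ((a ^ 2 : A) : G) ∈ centralizer (A : Set G) := by
      rw [eq_inv_of_mul_eq_one_left e2]; exact inv_mem (pow_mem (hle hc) 2)
    have e4 : c ^ 2 = 1 := by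
      rcases cen' _ e3 with h | h
      · rwa [h, coe_one, one_mul] at e2
      · rw [h] at e2
        have : c ^ 2 = z := by rw [eq_inv_of_mul_eq_one_right e2, inv_eq_of_mul_eq_one_right hzz']
        exact (nc (this ▸ pow_mem hc 2)).elim
    have e5 : c = 1 := (inv c (hle hc) e4).resolve_right fun h => nc (h ▸ hc)
    rw [e5, mul_one] at e1
    rw [e4, mul_one] at e2
    have e6 : IsConj (a : G) (a * z : A) := by
      refine (isConj_iff.2 ⟨g, e1⟩).symm.trans ((cj x5).trans (isConj_iff.2 ⟨g, ?_⟩))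
      rw [A.coe_mul a, ← e1, ← e, mul_assoc x, A.coe_mul x]; group
    rcases H1 a (Subtype.ext e2) with h' | h' | h'
    · rcases cen a h' with h' | h' <;> rw [h'] at e1
      · have : x = 1 := Subtype.ext (by simpa using e1)
        exact x3 (this ▸ one_mem _)
      · have e7 : x = s * z := Subtype.ext ((MulAut.conj g).injective (e1.trans e.symm))
        have e8 : (s * z) ^ 2 = 1 := e7 ▸ x2
        apply x4
        have : x * s = z := by
          rw [e7]
          calc s * z * s = (s * z) ^ 2 * z⁻¹ := by rw [sq]; group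
            _ = z := by rw [e8, one_mul, inv_eq_of_mul_eq_one_right hzz]
        exact this ▸ hzc
    · exact N1' ((cj h').trans (e6.trans ((cj (cz h')).symm.trans h)))
    · have h3 := cz h'
      rw [mul_assoc, hzz, mul_one] at h3
      exact N1' ((cj h3).trans (e6.symm.trans ((cj h').symm.trans h)))
  have N2 : ∀ u : A, IsConj (u : G) z → u = z := fun u hu => by
    have o : orderOf u = 2 := by
      obtain ⟨g, e⟩ := isConj_iff.1 hu
      rw [← orderOf_coe, ← h2', ← e]
      exact ((MulAut.conj g).orderOf_eq _).symm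
    rcases H1 u (o ▸ pow_orderOf_eq_one u) with h | h | h
    · exact (cen u h).resolve_left fun h => by simp [h] at o
    · exact (N1' ((cj h).trans hu)).elim
    · exact (N3 ((cj h).trans hu)).elim
  have N4 : ∀ (a : A) (c : G), c = 1 ∨ c = z → IsConj ((a : G) * c) z → (a : G) * c = z := fun a c hc h => by
    rcases hc with rfl | rfl
    · rw [mul_one] at h ⊢
      exact congrArg Subtype.val (N2 a h)
    · exact congrArg Subtype.val (N2 (a * z) h)
  obtain ⟨g, g1, g2⟩ := exists_conj hO hA h2' hzC hn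
  obtain ⟨a, c, hc, e⟩ := hd _ (mem_centralizer_singleton_iff.2 g1.symm.eq)
  have t2 : ∀ w : G, (w * z * w⁻¹) ^ 2 = 1 := fun w => by rw [conj_pow, sq, hzz']; simp
  have e2 : ((a ^ 2 : A) : G) * c ^ 2 = 1 := by rw [← pw a c 2 hc, ← e, t2]
  have e3 : ((a ^ 2 : A) : G) ∈ centralizer (A : Set G) := by
    rw [eq_inv_of_mul_eq_one_left e2]; exact inv_mem (pow_mem hc 2)
  rcases cen' _ e3 with h | h
  · rw [h, coe_one, one_mul] at e2
    exact g2 (e.trans (N4 a c (inv c hc e2) (e ▸ (isConj_iff.2 ⟨g, rfl⟩).symm)))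
  · rw [h] at e2
    have c2 : c ^ 2 = z := by rw [eq_inv_of_mul_eq_one_right e2, inv_eq_of_mul_eq_one_right hzz']
    have c3 : c * (g * z * g⁻¹) = g * z * g⁻¹ * c := by rw [e, ← mul_assoc, ← hc a a.2]
    obtain ⟨b, d, hd', f⟩ := hd (g⁻¹ * c * g) (mem_centralizer_singleton_iff.2 (by
      calc g⁻¹ * c * g * z = g⁻¹ * (c * (g * z * g⁻¹)) * g := by group
        _ = _ := by rw [c3]; group))
    have f1 : g⁻¹ * z * g⁻¹⁻¹ = ((b ^ 2 : A) : G) * d ^ 2 := by
      rw [← pw b d 2 hd', ← f, ← c2, inv_inv, sq, sq]; group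
    have f2 : ((b ^ 4 : A) : G) * (d ^ 2) ^ 2 = 1 := by
      rw [show b ^ 4 = (b ^ 2) ^ 2 by rw [← pow_mul], ← pw _ _ 2 (pow_mem hd' 2), ← f1, t2]
    have f3 : ((b ^ 4 : A) : G) ∈ centralizer (A : Set G) := by
      rw [eq_inv_of_mul_eq_one_left f2]; exact inv_mem (pow_mem (pow_mem hd' 2) 2)
    rw [(cen' _ f3).resolve_right (H4 b), coe_one, one_mul] at f2
    have f4 := f1.trans (N4 _ _ (inv _ (pow_mem hd' 2) f2) (f1 ▸ (isConj_iff.2 ⟨g⁻¹, rfl⟩).symm))
    apply g2
    calc g * z * g⁻¹ = g * (g⁻¹ * z * g⁻¹⁻¹) * g⁻¹ := by rw [f4]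
      _ = z := by group

end Cfsg.Lib.Layer.Zs
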