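import Cfsg.Agent.Lib.Layer.L168
import Cfsg.Agent.Lib.Invol.Classes
import Cfsg.Agent.Lib.Core.Frattini

/-!
# Subgroups of the simple group of order 168
-/

namespace Cfsg.Lib.Layer

open Equiv Subgroup Cfsg.Lib.Small Cfsg.Lib.Invol

theorem card_conj_mul {G : Type*} [Group G] (x : G) :
    Nat.card {g : G // IsConj x g} * Nat.card (centralizer ({x} : Set G)) = Nat.card G := by
  have h1 : Nat.card {g : G // IsConj x g} = (centralizer ({x} : Set G)).index := by
    have e : centralizer ({x} : Set G) = (MulAction.stabilizer (MulAut G) x).comap MulAut.conj := by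
      ext g; simp [mem_centralizer_singleton_iff, mul_inv_eq_iff_eq_mul]
    have e2 : centralizer ({x} : Set G) = @MulAction.stabilizer G G _ (MulAction.compHom G (MulAut.conj : G →* MulAut G)) x := by
      rw [e]; rfl
    rw [e2, MulAction.index_stabilizer, ← Nat.card_coe_set_eq]
    exact Nat.card_congr (Equiv.subtypeEquivRight fun g => isConj_iff)
  rw [h1, index_mul_card]

theorem map_conj_map {G H : Type*} [Group G] [Group H] (e : G ≃* H) (U : Subgroup G) (g : G) :
    (U.map e.toMonoidHom).map (MulAut.conj (e g)).toMonoidHom = (U.map (MulAut.conj g).toMonoidHom).map e.toMonoidHom := by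
  rw [map_map, map_map]; congr 1; ext x; simp

theorem exists_map_eq {G H : Type*} [Group G] [Group H] (e : G ≃* H) (U : Subgroup H) : ∃ V : Subgroup G, V.map e.toMonoidHom = U :=
  ⟨U.comap e.toMonoidHom, map_comap_eq_self_of_surjective e.surjective U⟩

/-- The image of a subgroup under an isomorphism. -/
noncomputable def mapEq {G H : Type*} [Group G] [Group H] (e : G ≃* H) (U : Subgroup G) : U ≃* U.map e.toMonoidHom :=
  U.equivMapOfInjective _ e.injective

theorem card_map_eq' {G H : Type*} [Group G] [Group H] (e : G ≃* H) (U : Subgroup G) : Nat.card (U.map e.toMonoidHom) = Nat.card U :=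
  (Nat.card_congr (mapEq e U).toEquiv).symm

theorem isCoatom_map_iff {G H : Type*} [Group G] [Group H] (e : G ≃* H) (U : Subgroup G) : IsCoatom (U.map e.toMonoidHom) ↔ IsCoatom U :=
  e.mapSubgroup.isCoatom_iff U

namespace L168

theorem o_mem : ∀ a : L168, o a = 1 ∨ o a = 2 ∨ o a = 3 ∨ o a = 4 ∨ o a = 7 := by decide +kernel

theorem card_o (n : ℕ) : Nat.card {g : L168 // orderOf g = n} = (Finset.univ.filter fun g => o g = n).card := by
  rw [← Fintype.card_subtype, ← Nat.card_eq_fintype_card]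
  exact Nat.card_congr (Equiv.subtypeEquivRight fun g => by rw [orderOf_eq])

theorem card_cent (x : L168) : Nat.card (centralizer ({x} : Set L168)) = (Finset.univ.filter fun g => g * x = x * g).card := by
  rw [← Fintype.card_subtype, ← Nat.card_eq_fintype_card]
  exact Nat.card_congr (Equiv.subtypeEquivRight fun g => by rw [mem_centralizer_singleton_iff])

theorem c2 : (Finset.univ.filter fun g : L168 => o g = 2).card = 21 := by decide +kernel
theorem c3 : (Finset.univ.filter fun g : L168 => o g = 3).card = 56 := by decide +kernel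
theorem c4 : (Finset.univ.filter fun g : L168 => o g = 4).card = 42 := by decide +kernel
theorem c7 : (Finset.univ.filter fun g : L168 => o g = 7).card = 48 := by decide +kernel
theorem cent7 : ∀ x : L168, o x = 7 → (Finset.univ.filter fun g => g * x = x * g).card = 7 ∧ ∀ g, g * x * g⁻¹ ≠ x⁻¹ := by decide +kernel

/-- `S₄ → L`. -/
def hA : Perm (Fin 4) →* L168 := MonoidHom.mk' (fS tA) fA_mul
/-- `S₄ → L`. -/
def hB : Perm (Fin 4) →* L168 := MonoidHom.mk' (fS tB) fB_mul
/-- `D₈ → L`. -/
def hD : DihedralGroup 4 →* L168 := MonoidHom.mk' fD fD_mul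

theorem hA_inj : Function.Injective hA := (injective_iff_map_eq_one _).2 fA_inj
theorem hB_inj : Function.Injective hB := (injective_iff_map_eq_one _).2 fB_inj
theorem hD_inj : Function.Injective hD := (injective_iff_map_eq_one _).2 fD_inj

theorem cz : ∀ g : L168, g * el 1 = el 1 * g ↔ ∃ s, fD s = g := by decide +kernel
theorem zz : ∀ w : L168, w ≠ 1 → (∀ s, fD s * w = w * fD s) → w = el 1 := by decide +kernel

theorem cent_z : centralizer ({el 1} : Set L168) = hD.range := by
  ext g; rw [mem_centralizer_singleton_iff, cz]; rfl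

theorem card_T : Nat.card hD.range = 8 := by
  rw [← Nat.card_congr (MonoidHom.ofInjective hD_inj).toEquiv, DihedralGroup.nat_card]

theorem norm_T : normalizer (hD.range : Set L168) = hD.range := by
  refine le_antisymm (fun g hg => ?_) le_normalizer
  have : g * el 1 * g⁻¹ = el 1 := by
    refine zz _ (by simpa using (by decide +kernel : el 1 ≠ 1)) fun s => ?_
    have h1 : g⁻¹ * fD s * g ∈ hD.range := by
      have := (mem_normalizer_iff.1 (inv_mem hg) (fD s)).1 ⟨s, rfl⟩
      simpa using this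
    rw [← cent_z, mem_centralizer_singleton_iff] at h1
    calc fD s * (g * el 1 * g⁻¹) = g * (g⁻¹ * fD s * g * el 1) * g⁻¹ := by group
      _ = _ := by rw [h1]; group
  rw [← cent_z, mem_centralizer_singleton_iff]
  exact mul_inv_eq_iff_eq_mul.1 this

/-- The four-group `{1, z, a, az}`. -/
def V (a : L168) (h : ∀ u v : L168, (u = 1 ∨ u = el 1 ∨ u = a ∨ u = a * el 1) → (v = 1 ∨ v = el 1 ∨ v = a ∨ v = a * el 1) →
    (u * v⁻¹ = 1 ∨ u * v⁻¹ = el 1 ∨ u * v⁻¹ = a ∨ u * v⁻¹ = a * el 1)) : Subgroup L168 where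
  carrier := {u | u = 1 ∨ u = el 1 ∨ u = a ∨ u = a * el 1}
  one_mem' := Or.inl rfl
  inv_mem' := fun {u} hu => by simpa using h 1 u (Or.inl rfl) hu
  mul_mem' := fun {u v} hu hv => by
    have := h 1 v (Or.inl rfl) hv
    simpa using h u (1 * v⁻¹) hu this

/-- First four-group. -/
def V1 : Subgroup L168 := V (el 2) (by decide +kernel)
/-- Second four-group. -/
def V2 : Subgroup L168 := V (el 76) (by decide +kernel)

theorem mem_V1 {u : L168} : u ∈ V1 ↔ u = 1 ∨ u = el 1 ∨ u = el 2 ∨ u = el 2 * el 1 := Iff.rfl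
theorem mem_V2 {u : L168} : u ∈ V2 ↔ u = 1 ∨ u = el 1 ∨ u = el 76 ∨ u = el 76 * el 1 := Iff.rfl

instance : DecidablePred (· ∈ V1) := fun _ => decidable_of_iff _ mem_V1.symm
instance : DecidablePred (· ∈ V2) := fun _ => decidable_of_iff _ mem_V2.symm

theorem card_V1 : Nat.card V1 = 4 := by
  rw [Nat.card_eq_fintype_card]; decide +kernel
theorem card_V2 : Nat.card V2 = 4 := by
  rw [Nat.card_eq_fintype_card]; decide +kernel

theorem kl_V1 : IsKleinFour V1 := isKleinFour_of_card card_V1 (by decide +kernel)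
theorem kl_V2 : IsKleinFour V2 := isKleinFour_of_card card_V2 (by decide +kernel)
theorem V1_le : V1 ≤ hD.range := fun u hu => (cz u).1 (by revert u; decide +kernel)
theorem V2_le : V2 ≤ hD.range := fun u hu => (cz u).1 (by revert u; decide +kernel)

theorem k1 : ∀ u v : L168, u * el 1 = el 1 * u → u * u = 1 → u ∉ V1 → v * el 1 = el 1 * v → v * v = 1 → v ∉ V2 → u * v ≠ v * u := by
  decide +kernel

theorem eq_V {U : Subgroup L168} (hU : U ≤ hD.range) (hK : IsKleinFour U) : U = V1 ∨ U = V2 := by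
  have hs : ∀ u ∈ U, u * u = 1 := fun u hu => congrArg Subtype.val (IsKleinFour.mul_self (⟨u, hu⟩ : U))
  have hc : ∀ u ∈ U, u * el 1 = el 1 * u := fun u hu => (cz u).2 (hU hu)
  by_cases h1 : U ≤ V1
  · exact Or.inl (eq_of_le_of_card_ge h1 (by rw [card_V1, hK.card_four]))
  refine Or.inr (eq_of_le_of_card_ge (fun v hv => ?_) (by rw [card_V2, hK.card_four]))
  obtain ⟨u, hu, h⟩ := SetLike.not_le_iff_exists.1 h1
  by_contra h2
  refine k1 u v (hc u hu) (hs u hu) h (hc v hv) (hs v hv) h2 ?_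
  have := hs _ (U.mul_mem hu hv)
  calc u * v = (u * u) * (u * v) * (v * v) := by rw [hs u hu, hs v hv]; group
    _ = u * (u * (u * v * (u * v))⁻¹ * u * v * v) * v := by rw [this]; group
    _ = v * u := by
      rw [show u * (u * (u * v * (u * v))⁻¹ * u * v * v) * v = (u * u) * v⁻¹ * u⁻¹ * v⁻¹ * (v * v) * v by group, hs u hu, hs v hv,
        inv_eq_of_mul_eq_one_right (hs u hu), inv_eq_of_mul_eq_one_right (hs v hv), one_mul, mul_one, mul_assoc, hs v hv, mul_one]

theorem k3 : ∀ g : L168, ¬ (g * el 1 * g⁻¹ ∈ V2 ∧ g * el 2 * g⁻¹ ∈ V2) := by decide +kernel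

theorem V1_ne (g : L168) : V1.map (MulAut.conj g).toMonoidHom ≠ V2 := fun h =>
  k3 g ⟨h ▸ mem_map_of_mem _ (mem_V1.2 (by simp)), h ▸ mem_map_of_mem _ (mem_V1.2 (by simp))⟩

theorem V2_ne (g : L168) : V2.map (MulAut.conj g).toMonoidHom ≠ V1 := fun h => V1_ne g⁻¹ (by
  rw [← h, map_map]; convert map_id V2; ext x; simp [mul_assoc])

theorem n1 : ∀ g : L168, (∀ u, u ∈ V1 ↔ g * u * g⁻¹ ∈ V1) ↔ ∃ s, fS tA s = g := by decide +kernel
theorem n2 : ∀ g : L168, (∀ u, u ∈ V2 ↔ g * u * g⁻¹ ∈ V2) ↔ ∃ s, fS tB s = g := by decide +kernel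

theorem norm_V1 : normalizer (V1 : Set L168) = hA.range := by
  ext g; rw [mem_normalizer_iff]; exact n1 g
theorem norm_V2 : normalizer (V2 : Set L168) = hB.range := by
  ext g; rw [mem_normalizer_iff]; exact n2 g

theorem card_A : Nat.card hA.range = 24 := by
  rw [← Nat.card_congr (MonoidHom.ofInjective hA_inj).toEquiv, Nat.card_perm]; simp [Nat.factorial]
theorem card_B : Nat.card hB.range = 24 := by
  rw [← Nat.card_congr (MonoidHom.ofInjective hB_inj).toEquiv, Nat.card_perm]; simp [Nat.factorial]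

theorem coatom_of {M : Subgroup L168} (h : Nat.card M = 24) : IsCoatom M := by
  refine Core.isCoatom_of_index_prime ?_
  have := M.index_mul_card
  rw [h, card] at this
  rw [show M.index = 7 by omega]; norm_num

theorem T_le_A : hD.range ≤ hA.range := fun u hu => by
  obtain ⟨s, rfl⟩ := hu
  exact (by decide +kernel : ∀ s, ∃ t, fS tA t = fD s) s

theorem ab : ∀ g : L168, ∃ s, ∀ t, fS tB t ≠ g * fS tA s * g⁻¹ := by decide +kernel

theorem B_ne (g : L168) : hB.range ≠ hA.range.map (MulAut.conj g).toMonoidHom := fun h => by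
  obtain ⟨s, hs⟩ := ab g
  have : g * fS tA s * g⁻¹ ∈ hB.range := h ▸ mem_map_of_mem _ (⟨s, rfl⟩ : fS tA s ∈ hA.range)
  obtain ⟨t, ht⟩ := this
  exact hs t ht

theorem w7 : ∀ k : L168, (∃ s, fS tA s = k) ∨ (∃ s, el 4 * fS tB s * (el 4)⁻¹ = k) ∨
    o (el 32 * k * (el 32)⁻¹ * k * k) = 7 ∨ o (el 32 * k * el 32 * k⁻¹) = 7 := by decide +kernel

theorem le_of_three {M : Subgroup L168} (hx : el 32 ∈ M) (h7 : ¬ 7 ∣ Nat.card M) :
    M ≤ hA.range ∨ M ≤ hB.range.map (MulAut.conj (el 4)).toMonoidHom := by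
  have key : ∀ k ∈ M, k ∈ hA.range ∨ k ∈ hB.range.map (MulAut.conj (el 4)).toMonoidHom := fun k hk => by
    have n : ∀ u ∈ M, o u ≠ 7 := fun u hu e => h7 (by rw [← e, ← orderOf_eq]; exact M.orderOf_dvd_natCard hu)
    rcases w7 k with h | ⟨s, h⟩ | h | h
    · exact Or.inl h
    · exact Or.inr (h ▸ mem_map_of_mem _ (⟨s, rfl⟩ : fS tB s ∈ hB.range))
    · exact absurd h (n _ (mul_mem (mul_mem (mul_mem (mul_mem hx hk) (inv_mem hx)) hk) hk))
    · exact absurd h (n _ (mul_mem (mul_mem (mul_mem hx hk) hx) (inv_mem hk)))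
  by_contra hn
  push Not at hn
  obtain ⟨g, hg, g1⟩ := SetLike.not_le_iff_exists.1 hn.1
  obtain ⟨h, hh, h1⟩ := SetLike.not_le_iff_exists.1 hn.2
  rcases key _ (mul_mem hg hh) with e | e
  · exact g1 ((mul_mem_cancel_right ((key h hh).resolve_right h1)).1 e)
  · exact h1 ((mul_mem_cancel_left ((key g hg).resolve_left g1)).1 e)

end L168

variable {G : Type*} [Group G] [Finite G] [IsSimpleGroup G]

open L168 in
theorem exists_l168_sylow (h : Nat.card G = 168) (T : Sylow 2 G) : ∃ e : L168 ≃* G, hD.range.map e.toMonoidHom = T := by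
  obtain ⟨e⟩ := exists_l168 h
  obtain ⟨S, hS⟩ := exists_sylow_of_card (p := 2) (a := 3) (m := 21) (Q := hD.range.map e.toMonoidHom) h (by norm_num)
    (by rw [card_map_eq', card_T]; norm_num)
  obtain ⟨g, rfl⟩ := MulAction.exists_smul_eq G S T
  refine ⟨e.trans (MulAut.conj g), ?_⟩
  rw [Sylow.coe_subgroup_smul, hS]
  exact (map_map _ (MulAut.conj g).toMonoidHom e.toMonoidHom).symm

theorem card_order_congr {H K : Type*} [Group H] [Group K] (e : H ≃* K) (n : ℕ) :
    Nat.card {g : K // orderOf g = n} = Nat.card {g : H // orderOf g = n} :=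
  (Nat.card_congr (e.toEquiv.subtypeEquiv fun a => by simp)).symm

theorem isConj_of_model {H K : Type*} [Group H] [Group K] (e : H ≃* K) {n : ℕ} {a : H} (h : ∀ s, orderOf s = n → ∃ g, g * a * g⁻¹ = s)
    (s t : K) (hs : orderOf s = n) (ht : orderOf t = n) : IsConj s t := by
  obtain ⟨s, rfl⟩ := e.surjective s
  obtain ⟨t, rfl⟩ := e.surjective t
  rw [MulEquiv.orderOf_eq] at hs ht
  exact e.toMonoidHom.map_isConj ((isConj_iff.2 (h s hs)).symm.trans (isConj_iff.2 (h t ht)))

end Cfsg.Lib.Layer
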