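/-
Quasisimple subgroups of symmetric groups normalized by a 3-cycle, or by two four-groups on disjoint 4-sets.
-/
import Cfsg.Agent.Lib.Layer.Misc
import Cfsg.Agent.Lib.Linear.PSL2Sub
import Mathlib.GroupTheory.GroupAction.Jordan
import Mathlib.GroupTheory.SpecificGroups.Alternating.Simple

set_option autoImplicit false

namespace Cfsg.Lib.Layer.SymO

open Subgroup Equiv Equiv.Perm MulAction Cfsg.Lib.Core Cfsg.Lib.Amalg
open scoped Pointwise commutatorElement

theorem eq_top_of_index_le_four {G : Type*} [Group G] [Finite G] (hG : _root_.commutator G = ⊤) {H : Subgroup G}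
    (h : H.index ≤ 4) : H = ⊤ := by
  classical
  letI := Fintype.ofFinite (G ⧸ H)
  have hc : Fintype.card (G ⧸ H) ≤ 4 := by rwa [← Nat.card_eq_fintype_card]
  haveI := Linear.isSolvable_perm_of_le_four hc
  haveI : Group.IsSolvable (Perm (G ⧸ H)) :=
    Group.isSolvable_of_surjective (f := (Fintype.equivFin (G ⧸ H)).permCongrHom.symm.toMonoidHom)
      (Fintype.equivFin (G ⧸ H)).permCongrHom.symm.surjective
  set f := MulAction.toPermHom G (G ⧸ H)
  have h1 : ⁅(⊤ : Subgroup G).map f, (⊤ : Subgroup G).map f⁆ = (⊤ : Subgroup G).map f := by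
    rw [← map_commutator]; exact congrArg _ hG
  have h2 := eq_bot_of_perfect_of_le_solvable h1 le_top (inferInstance : Group.IsSolvable (⊤ : Subgroup (Perm (G ⧸ H))))
  rw [Subgroup.map_eq_bot_iff, ← normalCore_eq_ker] at h2
  exact eq_top_iff.mpr (h2.trans (normalCore_le H))

theorem le_of_mem {G : Type*} [Group G] {L K : Subgroup G} (hL : IsQuasisimple L) {x : G}
    (hx : x ∈ normalizer (L : Set G)) (hxc : x ∉ centralizer (L : Set G)) (hK : L ≤ normalizer (K : Set G))
    (hxK : x ∈ K) : L ≤ K := by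
  rcases (IsQuasisimple.commutator_eq_or_eq_bot hL) (zpowers_le.mpr hx) with h | h
  · rw [← h, commutator_le]
    intro l hl y hy
    have hy' := zpowers_le.mpr hxK hy
    exact K.mul_mem ((mem_normalizer_iff.mp (hK hl) y).mp hy') (K.inv_mem hy')
  · exact absurd (mem_centralizer_iff.mpr fun l hl => mul_comm_of_commutator_eq_bot h hl (mem_zpowers x)) hxc

variable {Ω : Type*} [Fintype Ω] [DecidableEq Ω]

omit [DecidableEq Ω] in
/-- a perfect group whose orbit through `a` lies in a set of size at most four fixes `a` -/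
theorem fix_of_orbit {L : Subgroup (Perm Ω)} (hL : IsQuasisimple L) {a : Ω} {S : Finset Ω} (hS : S.card ≤ 4)
    (h : ∀ l ∈ L, l a ∈ S) : ∀ l ∈ L, l a = a := by
  have h1 : (stabilizer L a).index ≤ 4 := by
    rw [index_stabilizer]
    refine le_trans (Set.ncard_le_ncard (t := (S : Set Ω)) ?_ S.finite_toSet) (by rwa [Set.ncard_coe_finset])
    rintro _ ⟨l, rfl⟩
    exact h l l.2
  intro l hl
  have : (⟨l, hl⟩ : L) ∈ stabilizer L a := by rw [eq_top_of_index_le_four (IsQuasisimple.commutator_eq_top hL) h1]; trivial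
  exact this

theorem not_mem_cent {H L : Subgroup (Perm Ω)} (hL : IsQuasisimple L) (hC : H ⊓ centralizer (L : Set (Perm Ω)) ≤ L)
    {x : Perm Ω} (hx : x ∈ H) (h1 : x ≠ 1) (hs : x.support.card ≤ 4) : x ∉ centralizer (L : Set (Perm Ω)) := by
  intro hc
  apply h1
  ext a
  by_contra ha
  refine ha (fix_of_orbit hL hs (fun l hl => ?_) x (hC ⟨hx, hc⟩))
  rw [mem_support]
  intro h
  have := congrArg (fun g : Perm Ω => g a) (mem_centralizer_iff.mp hc l hl)
  simp only [Perm.coe_mul, Function.comp_apply, h] at this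
  exact ha (l.injective this)

theorem not_mem_cent' {L : Subgroup (Perm Ω)} (htr : ∀ a b, ∃ l ∈ L, l a = b) {x : Perm Ω} (h1 : x ≠ 1)
    (hs : x.support.card < Fintype.card Ω) : x ∉ centralizer (L : Set (Perm Ω)) := by
  intro hc
  obtain ⟨b, hb⟩ : ∃ b, x b = b := by
    by_contra hn
    push Not at hn
    rw [Finset.eq_univ_iff_forall.mpr fun b => mem_support.mpr (hn b)] at hs
    exact lt_irrefl _ hs
  apply h1
  ext a
  obtain ⟨l, hl, rfl⟩ := htr b a
  have := congrArg (fun g : Perm Ω => g b) (mem_centralizer_iff.mp hc l hl)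
  simp only [Perm.coe_mul, Function.comp_apply, hb] at this
  exact this.symm

omit [Fintype Ω] [DecidableEq Ω] in
theorem fix_of_fix {L : Subgroup (Perm Ω)} (hL : IsQuasisimple L) {x : Perm Ω} (hx : x ∈ normalizer (L : Set (Perm Ω)))
    (hxc : x ∉ centralizer (L : Set (Perm Ω))) {S : Set Ω} (hS : ∀ l ∈ L, ∀ a ∈ S, l a ∈ S) (hxS : ∀ a ∈ S, x a = a) :
    ∀ l ∈ L, ∀ a ∈ S, l a = a := by
  have := le_of_mem (K := fixingSubgroup (Perm Ω) S) hL hx hxc (fun l hl => ?_) ((mem_fixingSubgroup_iff _).mpr hxS)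
  · exact fun l hl => (mem_fixingSubgroup_iff _).mp (this hl)
  · have key : ∀ l ∈ L, ∀ k ∈ fixingSubgroup (Perm Ω) S, l * k * l⁻¹ ∈ fixingSubgroup (Perm Ω) S := by
      intro l hl k hk
      rw [mem_fixingSubgroup_iff] at hk ⊢
      intro a ha
      have := hk _ (hS _ (L.inv_mem hl) a ha)
      simp only [Perm.smul_def, Perm.coe_mul, Function.comp_apply] at this ⊢
      rw [this]; simp
    rw [mem_normalizer_iff]
    refine fun k => ⟨key l hl k, fun hk => ?_⟩
    simpa [mul_assoc] using key _ (L.inv_mem hl) _ hk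

/-- every nontrivial orbit of `L` contains a small set `S` on which small elements of `N(L)` are transitive -/
theorem mem_orbit {L : Subgroup (Perm Ω)} (hL : IsQuasisimple L) {S : Finset Ω} (hS : S.card ≤ 4)
    {x : Perm Ω} (hx : x ∈ normalizer (L : Set (Perm Ω))) (hxc : x ∉ centralizer (L : Set (Perm Ω)))
    (hxS : ∀ a, x a ≠ a → a ∈ S)
    (htr : ∀ a ∈ S, ∀ b ∈ S, ∃ y ∈ normalizer (L : Set (Perm Ω)), y a = b ∧ ∀ c, y c ≠ c → c ∈ S)
    {a : Ω} (ha : ∃ l ∈ L, l a ≠ a) {b : Ω} (hb : b ∈ S) : ∃ l ∈ L, l a = b := by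
  obtain ⟨l₀, hl₀, ha⟩ := ha
  obtain ⟨l₁, hl₁, hs⟩ : ∃ l ∈ L, l a ∈ S := by
    by_contra hn
    push Not at hn
    refine ha (fix_of_fix hL hx hxc (S := {c | ∃ l ∈ L, l a = c}) ?_ ?_ l₀ hl₀ a ⟨1, L.one_mem, rfl⟩)
    · rintro l hl _ ⟨l', hl', rfl⟩
      exact ⟨l * l', L.mul_mem hl hl', rfl⟩
    · rintro _ ⟨l', hl', rfl⟩
      by_contra h
      exact hn l' hl' (hxS _ h)
  obtain ⟨l₂, hl₂, hs₂⟩ : ∃ l ∈ L, l a ∉ S := by
    by_contra hn
    push Not at hn
    exact ha (fix_of_orbit hL hS hn l₀ hl₀)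
  obtain ⟨y, hy, hyb, hyS⟩ := htr _ hs b hb
  have hfix : y (l₂ a) = l₂ a := by
    by_contra h
    exact hs₂ (hyS _ h)
  refine ⟨y * (l₁ * l₂⁻¹) * y⁻¹ * l₂, L.mul_mem ((mem_normalizer_iff.mp hy _).mp (L.mul_mem hl₁ (L.inv_mem hl₂))) hl₂, ?_⟩
  have : y⁻¹ (l₂ a) = l₂ a := by rw [Perm.inv_eq_iff_eq, hfix]
  change y (l₁ (l₂⁻¹ (y⁻¹ (l₂ a)))) = b
  rw [this]; simpa using hyb

omit [Fintype Ω] [DecidableEq Ω] in
theorem prim_of {G L : Subgroup (Perm Ω)} (hL : IsQuasisimple L) (hLG : L ≤ G) (hGN : G ≤ normalizer (L : Set (Perm Ω)))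
    (htr : ∀ a b, ∃ l ∈ L, l a = b)
    (h : ∀ B : Set Ω, IsBlock G B → B.Nontrivial →
      ∃ x ∈ G, x ∉ centralizer (L : Set (Perm Ω)) ∧ ∀ g ∈ G, x • g • B = g • B) : IsPreprimitive G Ω := by
  haveI : IsPretransitive G Ω := ⟨fun a b => by
    obtain ⟨l, hl, h⟩ := htr a b
    exact ⟨⟨l, hLG hl⟩, h⟩⟩
  refine ⟨fun {B} hB => ?_⟩
  rcases B.subsingleton_or_nontrivial with h1 | h1
  · exact Or.inl h1
  right
  obtain ⟨x, hx, hxc, hxB⟩ := h B hB h1
  let K : Subgroup (Perm Ω) :=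
    { carrier := {k | ∀ g ∈ G, k • g • B = g • B}
      one_mem' := fun g _ => one_smul _ _
      mul_mem' := fun {a b} ha hb g hg => by rw [mul_smul, hb g hg, ha g hg]
      inv_mem' := fun {a} ha g hg => by rw [inv_smul_eq_iff, ha g hg] }
  have key : ∀ l ∈ G, ∀ k ∈ K, l * k * l⁻¹ ∈ K := fun l hl k hk g hg => by
    have := hk (l⁻¹ * g) (G.mul_mem (G.inv_mem hl) hg)
    rw [mul_smul, mul_smul, ← mul_smul l⁻¹, this, ← mul_smul, mul_inv_cancel_left]
  have hLK : L ≤ K := le_of_mem hL (hGN hx) hxc (fun l hl => by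
    rw [mem_normalizer_iff]
    refine fun k => ⟨key l (hLG hl) k, fun hk => ?_⟩
    simpa [mul_assoc] using key _ (G.inv_mem (hLG hl)) _ hk) hxB
  obtain ⟨a, ha⟩ := h1.nonempty
  refine Set.eq_univ_of_forall fun b => ?_
  obtain ⟨l, hl, rfl⟩ := htr a b
  have := hLK hl 1 G.one_mem
  rw [one_smul] at this
  rw [← this]
  exact Set.smul_mem_smul_set (a := l) ha

theorem eq_alt {L : Subgroup (Perm Ω)} (hL : IsQuasisimple L) (h5 : 5 ≤ Fintype.card Ω)
    (h : alternatingGroup Ω ≤ normalizer (L : Set (Perm Ω))) : L = alternatingGroup Ω := by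
  have h1 : L ≤ alternatingGroup Ω := by
    rw [← (IsQuasisimple.commutator_self hL), commutator_le]
    intro a _ b _
    rw [mem_alternatingGroup, map_commutatorElement, commutatorElement_eq_one_iff_mul_comm, mul_comm]
  haveI := alternatingGroup.isSimpleGroup (α := Ω) (by rwa [Nat.card_eq_fintype_card])
  have hn : (L.subgroupOf (alternatingGroup Ω)).Normal := (normal_subgroupOf_iff_le_normalizer h1).mpr h
  rcases hn.eq_bot_or_eq_top with h2 | h2
  · exact absurd ((subgroupOf_eq_bot.mp h2).eq_bot_of_le h1) (IsQuasisimple.ne_bot hL)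
  · exact le_antisymm h1 (subgroupOf_eq_top.mp h2)

omit [Fintype Ω] [DecidableEq Ω] in
theorem moved_of_block {G : Subgroup (Perm Ω)} {B : Set Ω} (hB : IsBlock G B) {x g : Perm Ω} (hx : x ∈ G) (hg : g ∈ G)
    (h : x • g • B ≠ g • B) : ∀ b ∈ g • B, x b ∉ g • B := by
  intro b hb hb'
  have := hB (g₁ := ⟨x * g, G.mul_mem hx hg⟩) (g₂ := ⟨g, hg⟩) (by
    change (x * g) • B ≠ g • B
    rwa [mul_smul])
  change Disjoint ((x * g) • B) (g • B) at this
  rw [mul_smul] at this
  exact Set.disjoint_left.mp this (Set.smul_mem_smul_set (a := x) hb) hb'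

theorem block_three {G : Subgroup (Perm Ω)} {B : Set Ω} (hB : IsBlock G B) (h1 : B.Nontrivial) {x : Perm Ω} (hx : x ∈ G)
    (hs : x.support.card ≤ 3) : ∀ g ∈ G, x • g • B = g • B := by
  intro g hg
  by_contra h
  have hm := moved_of_block hB hx hg h
  obtain ⟨a, ha, b, hb, hab⟩ := h1
  have ha' : g a ∈ g • B := Set.smul_mem_smul_set (a := g) ha
  have hb' : g b ∈ g • B := Set.smul_mem_smul_set (a := g) hb
  have hab' : g a ≠ g b := fun h => hab (g.injective h)
  generalize g a = u at ha' hab'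
  generalize g b = v at hb' hab'
  have e1 : x u ≠ u := fun h => hm u ha' (by rwa [h])
  have e2 : x v ≠ v := fun h => hm v hb' (by rwa [h])
  have e3 : x u ≠ v := fun h => hm u ha' (by rwa [h])
  have e4 : x v ≠ u := fun h => hm v hb' (by rwa [h])
  have e5 : x u ≠ x v := fun h => hab' (x.injective h)
  have hsub : ({u, v, x u, x v} : Finset Ω) ⊆ x.support := by
    intro c hc
    simp only [Finset.mem_insert, Finset.mem_singleton] at hc
    rcases hc with rfl | rfl | rfl | rfl <;> simp [e1, e2]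
  have := Finset.card_le_card hsub
  rw [Finset.card_insert_of_notMem (by simp [hab', e1.symm, e4.symm]),
    Finset.card_insert_of_notMem (by simp [e3.symm, e2.symm]), Finset.card_pair e5] at this
  omega

/-- a transitive quasisimple group normalized by a 3-cycle is alternating -/
theorem eq_alt_of_three {L : Subgroup (Perm Ω)} (hL : IsQuasisimple L) (htr : ∀ a b, ∃ l ∈ L, l a = b)
    (h5 : 5 ≤ Fintype.card Ω) {c : Perm Ω} (hc : c.IsThreeCycle) (hcN : c ∈ normalizer (L : Set (Perm Ω))) :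
    L = alternatingGroup Ω := by
  refine eq_alt hL h5 (alternatingGroup_le_of_isPreprimitive_of_isThreeCycle_mem ?_ hc hcN)
  refine prim_of hL le_normalizer le_rfl htr fun B hB h1 => ⟨c, hcN, ?_, block_three hB h1 hcN hc.card_support.le⟩
  exact not_mem_cent' htr hc.isCycle.ne_one (by rw [hc.card_support]; omega)

/-- `G` contains the four-group on `{a, b, c, d}` -/
structure J (G : Subgroup (Perm Ω)) (a b c d : Ω) : Prop where
  ab : a ≠ b
  ac : a ≠ c
  ad : a ≠ d
  bc : b ≠ c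
  bd : b ≠ d
  cd : c ≠ d
  e1 : swap a b * swap c d ∈ G
  e2 : swap a c * swap b d ∈ G

section
omit [Fintype Ω]
variable {G : Subgroup (Perm Ω)} {a b c d e f g h : Ω}

theorem J.e3 (h : J G a b c d) : swap a d * swap b c ∈ G := by
  have : swap a d * swap b c = swap a b * swap c d * (swap a c * swap b d) := by
    obtain ⟨h1, h2, h3, h4, h5, h6, -, -⟩ := h
    ext x
    simp only [Perm.mul_apply, swap_apply_def]
    grind
  rw [this]; exact G.mul_mem h.e1 h.e2

theorem swap_comm4 (ac : a ≠ c) (ad : a ≠ d) (bc : b ≠ c) (bd : b ≠ d) : swap a b * swap c d = swap c d * swap a b := by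
  ext x
  simp only [Perm.mul_apply, swap_apply_def]
  grind

theorem J.s23 (h : J G a b c d) : J G a c b d := ⟨h.ac, h.ab, h.ad, h.bc.symm, h.cd, h.bd, h.e2, h.e1⟩

theorem J.s34 (h : J G a b c d) : J G a b d c :=
  ⟨h.ab, h.ad, h.ac, h.bd, h.bc, h.cd.symm, by rw [swap_comm d c]; exact h.e1, h.e3⟩

theorem J.s12 (h : J G a b c d) : J G b a c d :=
  ⟨h.ab.symm, h.bc, h.bd, h.ac, h.ad, h.cd, by rw [swap_comm b a]; exact h.e1,
    by rw [← swap_comm4 h.ab h.ac h.bd.symm h.cd.symm]; exact h.e3⟩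

theorem J.sw (h : J G a b c d) : J G c d a b := h.s23.s12.s34.s23

theorem J.conj (h : J G a b c d) {x : Perm Ω} (hx : x ∈ G) : J G (x a) (x b) (x c) (x d) := by
  have key : ∀ a b c d : Ω, swap a b * swap c d ∈ G → swap (x a) (x b) * swap (x c) (x d) ∈ G := fun a b c d h => by
    have := G.mul_mem (G.mul_mem hx h) (G.inv_mem hx)
    rw [swap_apply_apply, swap_apply_apply]
    convert this using 1
    group
  exact ⟨x.injective.ne h.ab, x.injective.ne h.ac, x.injective.ne h.ad, x.injective.ne h.bc, x.injective.ne h.bd,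
    x.injective.ne h.cd, key _ _ _ _ h.e1, key _ _ _ _ h.e2⟩

theorem J.mono {H : Subgroup (Perm Ω)} (h : J G a b c d) (hle : G ≤ H) : J H a b c d :=
  ⟨h.ab, h.ac, h.ad, h.bc, h.bd, h.cd, hle h.e1, hle h.e2⟩

theorem J.exists_pair (h : J G a b c d) {u v : Ω} (hu : u ∈ ({a, b, c, d} : Finset Ω)) (hv : v ∈ ({a, b, c, d} : Finset Ω))
    (huv : u ≠ v) : ∃ p q, J G u v p q ∧ p ∈ ({a, b, c, d} : Finset Ω) ∧ q ∈ ({a, b, c, d} : Finset Ω) := by
  simp only [Finset.mem_insert, Finset.mem_singleton] at hu hv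
  rcases hu with rfl | rfl | rfl | rfl <;> rcases hv with rfl | rfl | rfl | rfl
  all_goals first
    | exact absurd rfl huv
    | exact ⟨_, _, h, by simp, by simp⟩
    | exact ⟨_, _, h.s23, by simp, by simp⟩
    | exact ⟨_, _, h.s34.s23, by simp, by simp⟩
    | exact ⟨_, _, h.s12, by simp, by simp⟩
    | exact ⟨_, _, h.s12.s23, by simp, by simp⟩
    | exact ⟨_, _, h.s12.s34.s23, by simp, by simp⟩
    | exact ⟨_, _, h.s23.s12, by simp, by simp⟩
    | exact ⟨_, _, h.s12.s23.s12, by simp, by simp⟩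
    | exact ⟨_, _, h.sw, by simp, by simp⟩
    | exact ⟨_, _, h.s34.s23.s12, by simp, by simp⟩
    | exact ⟨_, _, h.s12.s34.s23.s12, by simp, by simp⟩
    | exact ⟨_, _, h.sw.s12, by simp, by simp⟩

theorem moved4 {x : Ω} (h : (swap a b * swap c d) x ≠ x) : x ∈ ({a, b, c, d} : Finset Ω) := by
  by_contra hn
  simp only [Finset.mem_insert, Finset.mem_singleton, not_or] at hn
  exact h (by rw [Perm.mul_apply, swap_apply_of_ne_of_ne hn.2.2.1 hn.2.2.2, swap_apply_of_ne_of_ne hn.1 hn.2.1])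

theorem J.t_a (h : J G a b c d) : (swap a b * swap c d) a = b := by
  rw [Perm.mul_apply, swap_apply_of_ne_of_ne h.ac h.ad, swap_apply_left]
theorem J.t_b (h : J G a b c d) : (swap a b * swap c d) b = a := by
  rw [Perm.mul_apply, swap_apply_of_ne_of_ne h.bc h.bd, swap_apply_right]
theorem J.t_c (h : J G a b c d) : (swap a b * swap c d) c = d := by
  rw [Perm.mul_apply, swap_apply_left, swap_apply_of_ne_of_ne h.ad.symm h.bd.symm]
theorem J.t_d (h : J G a b c d) : (swap a b * swap c d) d = c := by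
  rw [Perm.mul_apply, swap_apply_right, swap_apply_of_ne_of_ne h.ac.symm h.bc.symm]

theorem J.ne_one (h : J G a b c d) : swap a b * swap c d ≠ 1 := fun h1 => h.ab (by
  have := h.t_a; rw [h1] at this; exact this)

theorem J.small (h : J G a b c d) : ∀ u ∈ ({a, b, c, d} : Finset Ω), ∀ v ∈ ({a, b, c, d} : Finset Ω),
    ∃ y ∈ G, y u = v ∧ ∀ w, y w ≠ w → w ∈ ({a, b, c, d} : Finset Ω) := by
  intro u hu v hv
  by_cases huv : u = v
  · exact ⟨1, G.one_mem, huv, fun w hw => absurd rfl hw⟩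
  obtain ⟨p, q, hJ, hp, hq⟩ := h.exists_pair hu hv huv
  refine ⟨_, hJ.e1, hJ.t_a, fun w hw => ?_⟩
  have := moved4 hw
  simp only [Finset.mem_insert, Finset.mem_singleton] at this
  rcases this with rfl | rfl | rfl | rfl <;> assumption

theorem J.block_of_mem (h : J G a b c d) {B : Set Ω} (hB : IsBlock G B) (h1 : B.Nontrivial) {x : Perm Ω} (hx : x ∈ G)
    (ha : a ∈ x • B) (hb : b ∈ x • B) : ∀ y ∈ G, (swap a b * swap c d) • y • B = y • B := by
  intro y hy
  by_contra hne
  have hm := moved_of_block hB h.e1 hy hne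
  have key : ∀ u ∈ y • B, u = c ∨ u = d := by
    intro u hu
    have h2 := moved4 (fun h => hm u hu (by rwa [h]))
    have h3 : u ∉ x • B := fun hu' => by
      have : y • B = x • B := by
        by_contra h4
        exact Set.disjoint_left.mp (hB (g₁ := ⟨y, hy⟩) (g₂ := ⟨x, hx⟩) h4) hu hu'
      exact hm a (this ▸ ha) (by rw [h.t_a, this]; exact hb)
    simp only [Finset.mem_insert, Finset.mem_singleton] at h2
    rcases h2 with rfl | rfl | h2
    · exact absurd ha h3
    · exact absurd hb h3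
    · exact h2
  obtain ⟨u, hu, v, hv, huv⟩ := h1
  have hu' : y u ∈ y • B := Set.smul_mem_smul_set (a := y) hu
  have hv' : y v ∈ y • B := Set.smul_mem_smul_set (a := y) hv
  have huv' : y u ≠ y v := y.injective.ne huv
  rcases key _ hu' with h2 | h2 <;> rcases key _ hv' with h3 | h3
  · exact huv' (h2.trans h3.symm)
  · exact hm _ hu' (by rw [h2, h.t_c, ← h3]; exact hv')
  · exact hm _ hu' (by rw [h2, h.t_d, ← h3]; exact hv')
  · exact huv' (h2.trans h3.symm)

theorem J.block (h : J G a b c d) {B : Set Ω} (hB : IsBlock G B) (h1 : B.Nontrivial) :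
    ∃ a b c d, J G a b c d ∧ ∀ y ∈ G, (swap a b * swap c d) • y • B = y • B := by
  by_cases h2 : ∀ y ∈ G, (swap a b * swap c d) • y • B = y • B
  · exact ⟨a, b, c, d, h, h2⟩
  push Not at h2
  obtain ⟨y, hy, hne⟩ := h2
  have hm := moved_of_block hB h.e1 hy hne
  obtain ⟨u, hu, v, hv, huv⟩ := id h1
  have hu' : y u ∈ y • B := Set.smul_mem_smul_set (a := y) hu
  have hv' : y v ∈ y • B := Set.smul_mem_smul_set (a := y) hv
  obtain ⟨p, q, hJ, -⟩ := h.exists_pair (moved4 (fun h => hm _ hu' (by rwa [h]))) (moved4 (fun h => hm _ hv' (by rwa [h])))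
    (y.injective.ne huv)
  exact ⟨_, _, _, _, hJ, hJ.block_of_mem hB h1 hy hu' hv'⟩

end

variable {G : Subgroup (Perm Ω)} {a b c d e f g h : Ω}

theorem card_supp4 : (swap a b * swap c d).support.card ≤ 4 :=
  (Finset.card_le_card fun _ hx => moved4 (mem_support.mp hx)).trans Finset.card_le_four

theorem J.uniq (h3 : ∀ x ∈ G, ¬ x.IsThreeCycle) (h : J G a b c d) (h' : J G a b c e) : d = e := by
  by_contra hde
  refine h3 _ (G.mul_mem (G.inv_mem h.e1) h'.e1) ?_
  rw [mul_inv_rev, swap_inv, swap_inv, mul_assoc, swap_mul_self_mul]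
  exact isThreeCycle_swap_mul_swap_same h.cd h'.cd hde

theorem J.meet (h3 : ∀ x ∈ G, ¬ x.IsThreeCycle) (h : J G a b c d) (h' : J G a e f g) :
    e = b ∨ e = c ∨ e = d ∨ f = b ∨ f = c ∨ f = d ∨ g = b ∨ g = c ∨ g = d := by
  by_contra hn
  simp only [not_or] at hn
  obtain ⟨h1, h2, h4, h5, h6, h7, h8, h9, h10⟩ := hn
  have hfix : ∀ x, x ≠ a → e ≠ x → f ≠ x → g ≠ x → (swap a e * swap f g) x = x := fun x k1 k2 k3 k4 => by
    by_contra hx
    have := moved4 hx
    simp only [Finset.mem_insert, Finset.mem_singleton] at this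
    rcases this with h | h | h | h
    exacts [k1 h, k2 h.symm, k3 h.symm, k4 h.symm]
  have := h.conj h'.e1
  rw [h'.t_a, hfix b h.ab.symm h1 h5 h8, hfix c h.ac.symm h2 h6 h9, hfix d h.ad.symm h4 h7 h10] at this
  exact h'.ab (h.s12.s23.s34.uniq h3 this.s12.s23.s34)

/-- translations -/
def Tr (G : Subgroup (Perm Ω)) (τ : Perm Ω) : Prop :=
  ∀ x, τ x ≠ x ∧ τ (τ x) = x ∧ ∀ y, y ≠ x → y ≠ τ x → J G x (τ x) y (τ y)

omit [Fintype Ω] in
theorem Tr.conj {τ x : Perm Ω} (h : Tr G τ) (hx : x ∈ G) : Tr G (x * τ * x⁻¹) := by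
  intro u
  obtain ⟨u, rfl⟩ := x.surjective u
  have e : ∀ v, (x * τ * x⁻¹) (x v) = x (τ v) := fun v => by simp
  refine ⟨by rw [e]; exact x.injective.ne (h u).1, by rw [e, e, (h u).2.1], fun y h1 h2 => ?_⟩
  obtain ⟨y, rfl⟩ := x.surjective y
  rw [e] at h2 ⊢
  rw [e]
  exact ((h u).2.2 y (fun k => h1 (by rw [k])) (fun k => h2 (by rw [k]))).conj hx

theorem Tr.comm (h3 : ∀ x ∈ G, ¬ x.IsThreeCycle) {σ τ : Perm Ω} (hσ : Tr G σ) (hτ : Tr G τ) : σ * τ = τ * σ := by
  by_cases h : ∃ x, σ x = τ x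
  · obtain ⟨x, hx⟩ := h
    have : σ = τ := by
      ext y
      by_cases h1 : y = x
      · rw [h1, hx]
      by_cases h2 : y = τ x
      · rw [h2, (hτ x).2.1, ← hx, (hσ x).2.1]
      have k := (hσ x).2.2 y h1 (by rwa [hx])
      rw [hx] at k
      exact k.uniq h3 ((hτ x).2.2 y h1 h2)
    rw [this]
  push Not at h
  ext x
  exact ((hσ x).2.2 (τ x) (hτ x).1 (h x).symm).uniq h3 ((hτ x).2.2 (σ x) (hσ x).1 (h x)).s23

theorem exists_tr_aux (h3 : ∀ x ∈ G, ¬ x.IsThreeCycle)
    (h2 : ∀ {a b c d : Ω}, a ≠ b → c ≠ d → ∃ x ∈ G, x a = c ∧ x b = d)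
    (h1 : J G a b c d) (h5 : J G e f g h) (h15 : J G a b e f)
    (hd : ∀ u ∈ ({a, b, c, d} : Finset Ω), ∀ v ∈ ({e, f, g, h} : Finset Ω), u ≠ v) : ∃ τ ∈ G, Tr G τ := by
  have fix1 : ∀ {p q r s : Ω}, (∀ w ∈ ({p, q, r, s} : Finset Ω), w ∈ ({a, b, c, d} : Finset Ω)) →
      ∀ v ∈ ({e, f, g, h} : Finset Ω), (swap p q * swap r s) v = v := fun hs v hv => by
    by_contra hx
    exact hd _ (hs _ (moved4 hx)) v hv rfl
  have fix2 : ∀ {p q r s : Ω}, (∀ w ∈ ({p, q, r, s} : Finset Ω), w ∈ ({e, f, g, h} : Finset Ω)) →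
      ∀ v ∈ ({a, b, c, d} : Finset Ω), (swap p q * swap r s) v = v := fun hs v hv => by
    by_contra hx
    exact hd v hv _ (hs _ (moved4 hx)) rfl
  have h17 : J G a b g h := by
    have := h15.conj h5.e2
    rwa [h5.s23.t_a, h5.s23.t_c, fix2 (by simp) a (by simp), fix2 (by simp) b (by simp)] at this
  have h35 : J G c d e f := by
    have := h15.conj h1.e2
    rwa [h1.s23.t_a, h1.s23.t_c, fix1 (by simp) e (by simp), fix1 (by simp) f (by simp)] at this
  have h37 : J G c d g h := by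
    have := h17.conj h1.e2
    rwa [h1.s23.t_a, h1.s23.t_c, fix1 (by simp) g (by simp), fix1 (by simp) h (by simp)] at this
  have hall : ∀ x, x = a ∨ x = b ∨ x = c ∨ x = d ∨ x = e ∨ x = f ∨ x = g ∨ x = h := by
    intro x
    by_contra hn
    have key : ∀ p q, J G a x p q → p = b ∨ q = b := fun p q hJ => by
      have k1 := h1.meet h3 hJ
      have k2 := h15.meet h3 hJ
      have k3 := h17.meet h3 hJ
      have := h35.ac; have := h35.ad; have := h35.bc; have := h35.bd
      have := h37.ac; have := h37.ad; have := h37.bc; have := h37.bd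
      have := h5.ac; have := h5.ad; have := h5.bc; have := h5.bd
      grind
    obtain ⟨y, hy, hya, hyb⟩ := h2 h1.ab (show a ≠ x by grind)
    have k1 := h1.conj hy
    have k2 := h15.conj hy
    rw [hya, hyb] at k1 k2
    have k3 := (h35.conj hy)
    have := k3.ac; have := k3.ad; have := k3.bc; have := k3.bd
    have := key _ _ k1
    have := key _ _ k2
    grind
  set τ := swap a b * swap c d * (swap e f * swap g h) with hτ
  have ta : τ a = b := by rw [hτ, Perm.mul_apply, fix2 (by simp) a (by simp), h1.t_a]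
  have tb : τ b = a := by rw [hτ, Perm.mul_apply, fix2 (by simp) b (by simp), h1.t_b]
  have tc : τ c = d := by rw [hτ, Perm.mul_apply, fix2 (by simp) c (by simp), h1.t_c]
  have td : τ d = c := by rw [hτ, Perm.mul_apply, fix2 (by simp) d (by simp), h1.t_d]
  have te : τ e = f := by rw [hτ, Perm.mul_apply, h5.t_a, fix1 (by simp) f (by simp)]
  have tf : τ f = e := by rw [hτ, Perm.mul_apply, h5.t_b, fix1 (by simp) e (by simp)]
  have tg : τ g = h := by rw [hτ, Perm.mul_apply, h5.t_c, fix1 (by simp) h (by simp)]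
  have th : τ h = g := by rw [hτ, Perm.mul_apply, h5.t_d, fix1 (by simp) g (by simp)]
  have hinv : ∀ x, τ x ≠ x ∧ τ (τ x) = x := fun x => by
    have := h1.ab; have := h1.cd; have := h5.ab; have := h5.cd
    rcases hall x with rfl | rfl | rfl | rfl | rfl | rfl | rfl | rfl <;> grind
  have hall' : ∀ x, ∃ u, (u = a ∨ u = c ∨ u = e ∨ u = g) ∧ (x = u ∨ x = τ u) := fun x => by
    rcases hall x with rfl | rfl | rfl | rfl | rfl | rfl | rfl | rfl <;> grind
  have base : ∀ u v, (u = a ∨ u = c ∨ u = e ∨ u = g) → (v = a ∨ v = c ∨ v = e ∨ v = g) → u ≠ v → J G u (τ u) v (τ v) := by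
    rintro u v (rfl | rfl | rfl | rfl) (rfl | rfl | rfl | rfl) huv
    all_goals first
      | exact absurd rfl huv
      | simp only [ta, tc, te, tg]
        first | assumption | (apply J.sw; assumption)
  refine ⟨τ, G.mul_mem h1.e1 h5.e1, fun x => ⟨(hinv x).1, (hinv x).2, fun y k1 k2 => ?_⟩⟩
  obtain ⟨u, hu, hx⟩ := hall' x
  obtain ⟨v, hv, hy⟩ := hall' y
  have huv : u ≠ v := by
    rintro rfl
    have := (hinv u).2
    grind
  have := base u v hu hv huv
  rcases hx with rfl | rfl <;> rcases hy with rfl | rfl <;> (try simp only [(hinv _).2])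
  exacts [this, this.s34, this.s12, this.s12.s34]

theorem exists_tr (h3 : ∀ x ∈ G, ¬ x.IsThreeCycle)
    (h2 : ∀ {a b c d : Ω}, a ≠ b → c ≠ d → ∃ x ∈ G, x a = c ∧ x b = d)
    (h1 : J G a b c d) (h5 : J G e f g h)
    (hd : ∀ u ∈ ({a, b, c, d} : Finset Ω), ∀ v ∈ ({e, f, g, h} : Finset Ω), u ≠ v) : ∃ τ ∈ G, Tr G τ := by
  have hae := hd a (by simp) e (by simp)
  have step2 : ∀ {b c d : Ω}, J G a b c d → (∀ u ∈ ({a, b, c, d} : Finset Ω), ∀ v ∈ ({e, f, g, h} : Finset Ω), u ≠ v) →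
      ∀ q, J G a e b q → ∃ τ ∈ G, Tr G τ := by
    intro b c d h1 hd q hq
    have k := h5.meet h3 hq.s12
    have := hd a (by simp) f (by simp); have := hd a (by simp) g (by simp); have := hd a (by simp) h (by simp)
    have := hd b (by simp) f (by simp); have := hd b (by simp) g (by simp); have := hd b (by simp) h (by simp)
    have k' : q = f ∨ q = g ∨ q = h := by grind
    rcases k' with rfl | rfl | rfl
    · exact exists_tr_aux h3 h2 h1 h5 hq.s23 hd
    · exact exists_tr_aux h3 h2 h1 h5.s23 hq.s23 fun u hu v hv => hd u hu v (by grind)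
    · exact exists_tr_aux h3 h2 h1 h5.s34.s23 hq.s23 fun u hu v hv => hd u hu v (by grind)
  have step1 : ∀ p q, J G a e p q → (p = b ∨ p = c ∨ p = d) → ∃ τ ∈ G, Tr G τ := by
    rintro p q hJ (rfl | rfl | rfl)
    · exact step2 h1 hd q hJ
    · exact step2 h1.s23 (fun u hu v hv => hd u (by grind) v hv) q hJ
    · exact step2 h1.s34.s23 (fun u hu v hv => hd u (by grind) v hv) q hJ
  obtain ⟨y, hy, hya, hyb⟩ := h2 h1.ab hae
  have k1 := h1.conj hy
  rw [hya, hyb] at k1
  have k := h1.meet h3 k1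
  have := hd b (by simp) e (by simp); have := hd c (by simp) e (by simp); have := hd d (by simp) e (by simp)
  by_cases hp : y c = b ∨ y c = c ∨ y c = d
  · exact step1 _ _ k1 hp
  · exact step1 _ _ k1.s34 (by grind)

/-- a transitive quasisimple group normalized by two four-groups on disjoint 4-sets is alternating -/
theorem eq_alt_of_four {L : Subgroup (Perm Ω)} (hL : IsQuasisimple L) (htr : ∀ a b, ∃ l ∈ L, l a = b)
    (h1 : J (normalizer (L : Set (Perm Ω))) a b c d) (h5 : J (normalizer (L : Set (Perm Ω))) e f g h)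
    (hd : ∀ u ∈ ({a, b, c, d} : Finset Ω), ∀ v ∈ ({e, f, g, h} : Finset Ω), u ≠ v) : L = alternatingGroup Ω := by
  set G := normalizer (L : Set (Perm Ω)) with hG
  have hc4 : ∀ {a b c d : Ω}, J G a b c d → ({a, b, c, d} : Finset Ω).card = 4 := fun h => by
    rw [Finset.card_insert_of_notMem (by simp [h.ab, h.ac, h.ad]), Finset.card_insert_of_notMem (by simp [h.bc, h.bd]),
      Finset.card_pair h.cd]
  have h8 : 8 ≤ Fintype.card Ω := by
    have := Finset.card_le_univ (({a, b, c, d} : Finset Ω) ∪ {e, f, g, h})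
    rwa [Finset.card_union_of_disjoint (Finset.disjoint_left.mpr fun u hu hv => hd u hu u hv rfl), hc4 h1, hc4 h5] at this
  by_cases h3 : ∃ x ∈ G, x.IsThreeCycle
  · obtain ⟨x, hx, h3⟩ := h3
    exact eq_alt_of_three hL htr (by omega) h3 hx
  push Not at h3
  exfalso
  have hprim : IsPreprimitive G Ω := prim_of hL le_normalizer le_rfl htr fun B hB hB1 => by
    obtain ⟨a, b, c, d, hJ, hfix⟩ := h1.block hB hB1
    exact ⟨_, hJ.e1, not_mem_cent' htr hJ.ne_one (card_supp4.trans_lt (by omega)), hfix⟩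
  have hcs : ((({a, b, c, d} : Finset Ω)ᶜ : Finset Ω) : Set Ω).ncard = (Fintype.card Ω - 5) + 1 := by
    rw [Set.ncard_coe_finset, Finset.card_compl, hc4 h1]; omega
  have h2t := hprim.is_two_pretransitive hcs (by rw [Nat.card_eq_fintype_card]; omega) ⟨fun u v => by
    have hu : (u : Ω) ∈ ({a, b, c, d} : Finset Ω) := by
      by_contra hn
      exact (SubMulAction.mem_ofFixingSubgroup_iff G).mp u.2 (Finset.mem_compl.mpr hn)
    have hv : (v : Ω) ∈ ({a, b, c, d} : Finset Ω) := by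
      by_contra hn
      exact (SubMulAction.mem_ofFixingSubgroup_iff G).mp v.2 (Finset.mem_compl.mpr hn)
    obtain ⟨y, hy, hyu, hy'⟩ := h1.small _ hu _ hv
    refine ⟨⟨⟨y, hy⟩, (mem_fixingSubgroup_iff _).mpr fun w hw => ?_⟩, Subtype.ext hyu⟩
    by_contra hn
    exact Finset.mem_compl.mp hw (hy' w hn)⟩
  have h2 : ∀ {a b c d : Ω}, a ≠ b → c ≠ d → ∃ x ∈ G, x a = c ∧ x b = d := fun k1 k2 => by
    obtain ⟨x, hx⟩ := is_two_pretransitive_iff.mp h2t k1 k2
    exact ⟨x, x.2, hx⟩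
  obtain ⟨τ, hτG, hτ⟩ := exists_tr h3 h2 h1 h5 hd
  have hcomm : ∀ l ∈ L, ∀ x ∈ G, l * (x * τ * x⁻¹) = x * τ * x⁻¹ * l := by
    by_cases hc : τ ∈ centralizer (L : Set (Perm Ω))
    · intro l hl x hx
      have := mem_centralizer_iff.mp hc _ ((mem_normalizer_iff.mp (G.inv_mem hx) l).mp hl)
      calc l * (x * τ * x⁻¹) = x * (x⁻¹ * l * x⁻¹⁻¹ * τ) * x⁻¹ := by group
        _ = _ := by rw [this]; group
    · have := le_of_mem (K := centralizer {σ | Tr G σ}) hL hτG hc (fun l hl => ?_)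
        (mem_centralizer_iff.mpr fun σ hσ => Tr.comm h3 hσ hτ)
      · exact fun l hl x hx => (mem_centralizer_iff.mp (this hl) _ (hτ.conj hx)).symm
      · have key : ∀ l ∈ L, ∀ k ∈ centralizer {σ | Tr G σ}, l * k * l⁻¹ ∈ centralizer {σ | Tr G σ} := by
          intro l hl k hk
          rw [mem_centralizer_iff] at hk ⊢
          intro σ hσ
          have := hk _ (Tr.conj hσ (G.inv_mem (le_normalizer hl)))
          calc σ * (l * k * l⁻¹) = l * (l⁻¹ * σ * l⁻¹⁻¹ * k) * l⁻¹ := by group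
            _ = _ := by rw [this]; group
        rw [mem_normalizer_iff]
        refine fun k => ⟨key l hl k, fun hk => ?_⟩
        simpa [mul_assoc] using key _ (L.inv_mem hl) _ hk
  have hmv : ∀ u v, u ≠ v → ∃ x ∈ G, (x * τ * x⁻¹) u = v := fun u v huv => by
    obtain ⟨x, hx, k1, k2⟩ := h2 (hτ a).1.symm huv
    exact ⟨x, hx, by rw [← k1, ← k2]; simp⟩
  refine IsQuasisimple.not_le_centralizer hL fun l hl => mem_centralizer_iff.mpr fun l' hl' => ?_
  by_cases hl1 : l = 1
  · simp [hl1]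
  obtain ⟨u, hu⟩ : ∃ u, l u ≠ u := by
    by_contra hn
    push Not at hn
    exact hl1 (Equiv.ext hn)
  obtain ⟨x, hx, hxu⟩ := hmv u (l u) hu.symm
  have : l = x * τ * x⁻¹ := by
    ext v
    by_cases huv : u = v
    · rw [← huv, hxu]
    obtain ⟨y, hy, rfl⟩ := hmv u v huv
    rw [← Perm.mul_apply, hcomm l hl y hy, Perm.mul_apply, ← hxu, ← Perm.mul_apply,
      Tr.comm h3 (hτ.conj hy) (hτ.conj hx), Perm.mul_apply]
  rw [this]
  exact hcomm l' hl' x hx

/-- the points moved by `L` -/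
def Mv (L : Subgroup (Perm Ω)) (a : Ω) : Prop := ∃ l ∈ L, l a ≠ a

noncomputable instance (L : Subgroup (Perm Ω)) : DecidablePred (Mv L) := Classical.decPred _

omit [Fintype Ω] [DecidableEq Ω] in
theorem Mv.apply {L : Subgroup (Perm Ω)} {x : Perm Ω} (hx : x ∈ normalizer (L : Set (Perm Ω))) (h : Mv L a) : Mv L (x a) := by
  obtain ⟨l, hl, h⟩ := h
  exact ⟨x * l * x⁻¹, (mem_normalizer_iff.mp hx l).mp hl, by simpa using h⟩

omit [Fintype Ω] [DecidableEq Ω] in
theorem map_comap_mv (L : Subgroup (Perm Ω)) : (L.comap (ofSubtype (p := Mv L))).map ofSubtype = L := by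
  refine map_comap_eq_self fun l hl => ⟨l.subtypePerm fun x => ⟨fun h => ?_, Mv.apply (le_normalizer hl)⟩, ?_⟩
  · simpa using Mv.apply (le_normalizer (L.inv_mem hl)) h
  · exact ofSubtype_subtypePerm _ fun x hx => ⟨l, hl, hx⟩

omit [Fintype Ω] [DecidableEq Ω] in
theorem quasi_mv {L : Subgroup (Perm Ω)} (hL : IsQuasisimple L) : IsQuasisimple (L.comap (ofSubtype (p := Mv L))) := by
  rw [← isQuasisimple_map_iff_of_injective ofSubtype_injective, map_comap_mv]; exact hL

omit [Fintype Ω] [DecidableEq Ω] in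
theorem trans_mv {L : Subgroup (Perm Ω)} {b : Ω} (h : ∀ a, Mv L a → ∃ l ∈ L, l a = b) (u v : Subtype (Mv L)) :
    ∃ l ∈ L.comap (ofSubtype (p := Mv L)), l u = v := by
  obtain ⟨l, hl, h1⟩ := h u u.2
  obtain ⟨l', hl', h2⟩ := h v v.2
  have := L.mul_mem (L.inv_mem hl') hl
  rw [← map_comap_mv L] at this
  obtain ⟨k, hk, hk'⟩ := this
  refine ⟨k, hk, Subtype.ext ?_⟩
  rw [← ofSubtype_apply_coe, hk', Perm.mul_apply, h1, ← h2]
  simp

theorem equiv_of_eq {L : Subgroup (Perm Ω)} (h : L.comap (ofSubtype (p := Mv L)) = alternatingGroup _) :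
    Nonempty (L ≃* alternatingGroup (Fin (Fintype.card (Subtype (Mv L))))) :=
  ⟨(((MulEquiv.subgroupCongr (map_comap_mv L)).symm.trans (equivMapOfInjective _ _ ofSubtype_injective).symm).trans
    (MulEquiv.subgroupCongr h)).trans (Fintype.equivFin _).altCongrHom⟩

theorem false_of_small {p : ℕ} [Fact p.Prime] {A P H L : Subgroup (Perm Ω)} (hL : IsQuasisimple L) (hP : Syl p P A) (hPH : P ≤ H)
    (hH : H ≤ normalizer (L : Set (Perm Ω))) (hC : H ⊓ centralizer (L : Set (Perm Ω)) ≤ L)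
    {x : Perm Ω} (hxA : x ∈ A) (hxp : x ^ p = 1) (h1 : x ≠ 1) (hs : x.support.card ≤ 4) (hfix : ∀ a, Mv L a → x a = a) :
    False := by
  let M : Subgroup (Perm Ω) :=
    { carrier := {g | ∀ a, Mv L (g a) ↔ Mv L a}
      one_mem' := fun _ => Iff.rfl
      mul_mem' := fun {a b} ha hb u => (ha (b u)).trans (hb u)
      inv_mem' := fun {a} ha u => by simpa using (ha (a⁻¹ u)).symm }
  have hPM : P ≤ A ⊓ M := le_inf hP.le fun g hg u =>
    ⟨fun h => by simpa using Mv.apply (inv_mem (hH (hPH hg))) h, Mv.apply (hH (hPH hg))⟩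
  have hxM : x ∈ A ⊓ M := ⟨hxA, fun u => ⟨fun h => by rwa [x.injective (hfix _ h)] at h, fun h => by rwa [hfix u h]⟩⟩
  obtain ⟨m, hm, hle⟩ := (hP.of_le hPM inf_le_left).exists_conj_le
    (isPGroup_zpowers_of_pow (k := 1) (by rwa [pow_one])) (zpowers_le.mpr hxM)
  have hy : m * x * m⁻¹ ∈ H := hPH (hle ⟨x, mem_zpowers x, rfl⟩)
  have hc := not_mem_cent hL hC hy (by simpa using h1) (by rwa [card_support_conj])
  have := fix_of_fix hL (hH hy) hc (S := {a | Mv L a}) (fun l hl a ha => Mv.apply (le_normalizer hl) ha) fun a ha => by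
    have : Mv L (m⁻¹ a) := (hm.2 _).mp (by simpa using ha)
    rw [Perm.mul_apply, Perm.mul_apply, hfix _ this]; simp
  refine IsQuasisimple.ne_bot hL (eq_bot_iff.mpr fun l hl => Equiv.ext fun a => ?_)
  by_contra hn
  exact hn (this l hl a ⟨l, hl, hn⟩)

theorem card_mv_add (L : Subgroup (Perm Ω)) :
    Fintype.card (Subtype (Mv L)) + (Finset.univ.filter fun a => ¬ Mv L a).card = Fintype.card Ω := by
  rw [Fintype.card_subtype, Finset.card_filter_add_card_filter_not, Finset.card_univ]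

theorem five_le_card_mv {L : Subgroup (Perm Ω)} (hL : IsQuasisimple L) : 5 ≤ Fintype.card (Subtype (Mv L)) := by
  by_contra hn
  rw [Fintype.card_subtype] at hn
  refine IsQuasisimple.ne_bot hL (eq_bot_iff.mpr fun l hl => Equiv.ext fun a => ?_)
  by_contra h
  exact h (fix_of_orbit hL (S := Finset.univ.filter fun a => Mv L a) (by omega)
    (fun k hk => Finset.mem_filter.mpr ⟨Finset.mem_univ _, Mv.apply (le_normalizer hk) ⟨l, hl, h⟩⟩) l hl)

omit [Fintype Ω] in
theorem exists_mv {L : Subgroup (Perm Ω)} {a b : Ω} (ha : Mv L a) (h : ∃ l ∈ L, l a = b) : Mv L b := by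
  obtain ⟨l, hl, rfl⟩ := h
  exact Mv.apply (le_normalizer hl) ha

theorem three_main {P H L : Subgroup (Perm Ω)} (hL : IsQuasisimple L) (hP : Syl 3 P ⊤) (hPH : P ≤ H)
    (hH : H ≤ normalizer (L : Set (Perm Ω))) (hC : H ⊓ centralizer (L : Set (Perm Ω)) ≤ L) :
    ∃ m, m ≤ Fintype.card Ω ∧ Fintype.card Ω ≤ m + 2 ∧ Nonempty (L ≃* alternatingGroup (Fin m)) := by
  haveI : Fact (Nat.Prime 3) := ⟨Nat.prime_three⟩
  have h5 := five_le_card_mv hL
  have hadd := card_mv_add L
  refine ⟨_, by omega, ?_, equiv_of_eq ?_⟩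
  · by_contra hn
    obtain ⟨a, ha, b, hb, c, hc, hab, hac, hbc⟩ :=
      Finset.two_lt_card.mp (show 2 < (Finset.univ.filter fun a => ¬ Mv L a).card by omega)
    have h3 := isThreeCycle_swap_mul_swap_same hab hac hbc
    refine false_of_small hL hP hPH hH hC (mem_top _) (by rw [← h3.orderOf, pow_orderOf_eq_one]) h3.isCycle.ne_one
      (by rw [h3.card_support]; omega) fun u hu => ?_
    simp only [Finset.mem_filter, Finset.mem_univ, true_and] at ha hb hc
    by_contra h
    have := moved4 h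
    simp only [Finset.mem_insert, Finset.mem_singleton] at this
    rcases this with rfl | rfl | rfl | rfl <;> contradiction
  obtain ⟨a, -, b, -, c, -, hab, hac, hbc⟩ :=
    Finset.two_lt_card.mp (show 2 < (Finset.univ : Finset Ω).card by rw [Finset.card_univ]; omega)
  have h3 := isThreeCycle_swap_mul_swap_same hab hac hbc
  obtain ⟨g, -, hle⟩ := hP.exists_conj_le (Amalg.isPGroup_zpowers_of_orderOf (k := 1) h3.orderOf) le_top
  have hx : g * (swap a b * swap a c) * g⁻¹ ∈ H := hPH (hle ⟨_, mem_zpowers _, rfl⟩)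
  have h3' : (g * (swap a b * swap a c) * g⁻¹).IsThreeCycle := by rw [IsThreeCycle, cycleType_conj]; exact h3
  generalize g * (swap a b * swap a c) * g⁻¹ = x at hx h3'
  have hs : x.support.card ≤ 4 := by rw [h3'.card_support]; omega
  have horb : ∀ u, Mv L u → ∀ v ∈ x.support, ∃ l ∈ L, l u = v := fun u hu v hv =>
    mem_orbit hL hs (hH hx) (not_mem_cent hL hC hx h3'.isCycle.ne_one hs) (fun _ => mem_support.mpr)
      (fun a ha b hb => by
        obtain ⟨i, hi⟩ := h3'.isCycle.exists_zpow_eq (mem_support.mp ha) (mem_support.mp hb)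
        exact ⟨_, zpow_mem (hH hx) i, hi, fun c hc => support_zpow_le x i (mem_support.mpr hc)⟩) hu hv
  obtain ⟨u⟩ : Nonempty (Subtype (Mv L)) := Fintype.card_pos_iff.mp (by omega)
  obtain ⟨v, hv⟩ : x.support.Nonempty := Finset.card_pos.mp (by rw [h3'.card_support]; omega)
  obtain ⟨y, rfl⟩ : x ∈ (ofSubtype (p := Mv L)).range :=
    mem_range_ofSubtype_iff.mpr fun w hw => exists_mv u.2 (horb u u.2 w hw)
  refine eq_alt_of_three (quasi_mv hL) (trans_mv fun a ha => horb a ha v hv) h5 (c := y) ?_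
    (le_normalizer_comap _ (hH hx))
  rwa [IsThreeCycle, cycleType_ofSubtype] at h3'

theorem exists_two_J {P : Subgroup (Perm Ω)} (hP : Syl 2 P (alternatingGroup Ω)) (h8 : 8 ≤ Fintype.card Ω) :
    ∃ a b c d e f g h, J P a b c d ∧ J P e f g h ∧
      ∀ u ∈ ({a, b, c, d} : Finset Ω), ∀ v ∈ ({e, f, g, h} : Finset Ω), u ≠ v := by
  haveI : Fact (Nat.Prime 2) := ⟨Nat.prime_two⟩
  obtain ⟨ι⟩ : Nonempty (Fin 8 ↪ Ω) := Function.Embedding.nonempty_of_card_le (by simpa using h8)
  let φ := viaEmbeddingHom ι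
  have hφ : ∀ i j, φ (swap i j) = swap (ι i) (ι j) := fun i j => by
    ext x
    by_cases hx : x ∈ Set.range ι
    · obtain ⟨k, rfl⟩ := hx
      rw [viaEmbeddingHom_apply, viaEmbedding_apply, ι.injective.swap_apply]
    · rw [viaEmbeddingHom_apply, viaEmbedding_apply_of_notMem _ _ _ hx,
        swap_apply_of_ne_of_ne (fun h => hx ⟨i, h.symm⟩) (fun h => hx ⟨j, h.symm⟩)]
  let S : Set (Perm (Fin 8)) := {swap 0 1 * swap 2 3, swap 0 2 * swap 1 3, swap 4 5 * swap 6 7, swap 4 6 * swap 5 7}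
  have hS : ∀ x ∈ S, ∀ y ∈ S, x * y = y * x := by
    rintro x (rfl | rfl | rfl | rfl) y (rfl | rfl | rfl | rfl) <;> decide
  have hW : IsPGroup 2 (closure S) := by
    rw [isPGroup_iff_mem]
    intro x hx
    refine ⟨1, ?_⟩
    have hcm := le_centralizer_iff_isMulCommutative.mpr (isMulCommutative_closure hS)
    induction hx using closure_induction with
    | mem x hx => rcases hx with rfl | rfl | rfl | rfl <;> decide
    | one => simp
    | mul x y hx hy h1 h2 => rw [Commute.mul_pow (mem_centralizer_iff.mp (hcm hy) x hx), h1, h2, one_mul]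
    | inv x _ h1 => rw [inv_pow, h1, inv_one]
  have hne : ∀ i j : Fin 8, i ≠ j → ι i ≠ ι j := fun i j h => ι.injective.ne h
  have hA : (closure S).map φ ≤ alternatingGroup Ω := by
    rw [map_le_iff_le_comap, closure_le]
    rintro x (rfl | rfl | rfl | rfl) <;>
      simp [hφ, mem_alternatingGroup]
  obtain ⟨g, -, hle⟩ := hP.exists_conj_le (hW.map φ) hA
  have hJ : ∀ i j k l : Fin 8, J (closure S) i j k l → J P (g (ι i)) (g (ι j)) (g (ι k)) (g (ι l)) := by
    intro i j k l h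
    have key : ∀ i j k l : Fin 8, swap i j * swap k l ∈ closure S →
        swap (g (ι i)) (g (ι j)) * swap (g (ι k)) (g (ι l)) ∈ P := fun i j k l h => by
      have := hle ⟨_, ⟨_, h, rfl⟩, rfl⟩
      rw [swap_apply_apply, swap_apply_apply, ← hφ, ← hφ]
      convert this using 1
      simp only [MulEquiv.toMonoidHom_eq_coe, MonoidHom.coe_coe, MulAut.conj_apply, map_mul]
    exact ⟨g.injective.ne (hne _ _ h.ab), g.injective.ne (hne _ _ h.ac), g.injective.ne (hne _ _ h.ad),
      g.injective.ne (hne _ _ h.bc), g.injective.ne (hne _ _ h.bd), g.injective.ne (hne _ _ h.cd),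
      key _ _ _ _ h.e1, key _ _ _ _ h.e2⟩
  refine ⟨_, _, _, _, _, _, _, _, hJ 0 1 2 3 ⟨by decide, by decide, by decide, by decide, by decide, by decide,
    subset_closure (by simp [S]), subset_closure (by simp [S])⟩, hJ 4 5 6 7 ⟨by decide, by decide, by decide, by decide,
    by decide, by decide, subset_closure (by simp [S]), subset_closure (by simp [S])⟩, fun u hu v hv => ?_⟩
  simp only [Finset.mem_insert, Finset.mem_singleton] at hu hv
  rcases hu with rfl | rfl | rfl | rfl <;> rcases hv with rfl | rfl | rfl | rfl <;>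
    exact g.injective.ne (hne _ _ (by decide))

theorem J.restrict {L : Subgroup (Perm Ω)} (h : J (normalizer (L : Set (Perm Ω))) a b c d) (ha : Mv L a) (hb : Mv L b)
    (hc : Mv L c) (hd : Mv L d) :
    J (normalizer ((L.comap (ofSubtype (p := Mv L)) : Subgroup _) : Set (Perm (Subtype (Mv L))))) ⟨a, ha⟩ ⟨b, hb⟩ ⟨c, hc⟩ ⟨d, hd⟩ :=
  ⟨fun k => h.ab (congrArg Subtype.val k), fun k => h.ac (congrArg Subtype.val k), fun k => h.ad (congrArg Subtype.val k),
    fun k => h.bc (congrArg Subtype.val k), fun k => h.bd (congrArg Subtype.val k), fun k => h.cd (congrArg Subtype.val k),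
    le_normalizer_comap _ (by rw [mem_comap, map_mul, ofSubtype_swap_eq, ofSubtype_swap_eq]; exact h.e1),
    le_normalizer_comap _ (by rw [mem_comap, map_mul, ofSubtype_swap_eq, ofSubtype_swap_eq]; exact h.e2)⟩

theorem two_main {P H L : Subgroup (Perm Ω)} (hL : IsQuasisimple L) (hP : Syl 2 P (alternatingGroup Ω)) (hPH : P ≤ H)
    (hH : H ≤ normalizer (L : Set (Perm Ω))) (hC : H ⊓ centralizer (L : Set (Perm Ω)) ≤ L) (h8 : 8 ≤ Fintype.card Ω) :
    ∃ m, m ≤ Fintype.card Ω ∧ Fintype.card Ω ≤ m + 3 ∧ Nonempty (L ≃* alternatingGroup (Fin m)) := by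
  haveI : Fact (Nat.Prime 2) := ⟨Nat.prime_two⟩
  have h5 := five_le_card_mv hL
  have hadd := card_mv_add L
  refine ⟨_, by omega, ?_, equiv_of_eq ?_⟩
  · by_contra hn
    obtain ⟨a, ha, b, hb, c, hc, d, hd, hab, hac, had, hbc, hbd, hcd⟩ :=
      Finset.three_lt_card.mp (show 3 < (Finset.univ.filter fun a => ¬ Mv L a).card by omega)
    have hJ : J ⊤ a b c d := ⟨hab, hac, had, hbc, hbd, hcd, trivial, trivial⟩
    refine false_of_small hL hP hPH hH hC (x := swap a b * swap c d) (by simp [mem_alternatingGroup, hab, hcd]) ?_ hJ.ne_one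
      card_supp4 fun u hu => ?_
    · rw [Commute.mul_pow (swap_comm4 hac had hbc hbd), sq, sq, swap_mul_self, swap_mul_self, one_mul]
    simp only [Finset.mem_filter, Finset.mem_univ, true_and] at ha hb hc hd
    by_contra h
    have := moved4 h
    simp only [Finset.mem_insert, Finset.mem_singleton] at this
    rcases this with rfl | rfl | rfl | rfl <;> contradiction
  obtain ⟨a, b, c, d, e, f, g, h, h1, h2, hd⟩ := exists_two_J hP h8
  have horb : ∀ {a b c d : Ω}, J P a b c d → ∀ u, Mv L u → ∀ v ∈ ({a, b, c, d} : Finset Ω), ∃ l ∈ L, l u = v :=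
    fun hJ u hu v hv => mem_orbit hL Finset.card_le_four (hH (hPH hJ.e1))
      (not_mem_cent hL hC (hPH hJ.e1) hJ.ne_one card_supp4) (fun _ => moved4) (hJ.mono (hPH.trans hH)).small hu hv
  obtain ⟨u⟩ : Nonempty (Subtype (Mv L)) := Fintype.card_pos_iff.mp (by omega)
  have k1 := fun v hv => exists_mv u.2 (horb h1 u u.2 v hv)
  have k2 := fun v hv => exists_mv u.2 (horb h2 u u.2 v hv)
  refine eq_alt_of_four (quasi_mv hL) (trans_mv fun w hw => horb h1 w hw a (by simp))
    ((h1.mono (hPH.trans hH)).restrict (k1 _ (by simp)) (k1 _ (by simp)) (k1 _ (by simp)) (k1 _ (by simp)))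
    ((h2.mono (hPH.trans hH)).restrict (k2 _ (by simp)) (k2 _ (by simp)) (k2 _ (by simp)) (k2 _ (by simp)))
    fun v hv w hw k => hd v ?_ w ?_ (congrArg Subtype.val k)
  · simpa [Subtype.ext_iff] using hv
  · simpa [Subtype.ext_iff] using hw

end Cfsg.Lib.Layer.SymO
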