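import Mathlib
import Cfsg.Agent.Lib.Transfer.Frobenius

set_option autoImplicit false
set_option linter.unusedSectionVars false

open Subgroup MulAction Cfsg.Lib.Transfer
open scoped commutatorElement Pointwise

namespace Cfsg.Lib.Layer.Atk

section fourier
variable {p : ℕ} [hp : Fact p.Prime]

lemma indep (α : ZMod p → ℤ) (h : ∑ s, (α s : ℂ) * ZMod.stdAddChar s = 0) (i j : ZMod p) : α i = α j := by
  have hζ : IsPrimitiveRoot (ZMod.stdAddChar (1 : ZMod p)) p := by
    have := Complex.isPrimitiveRoot_exp p hp.out.ne_zero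
    convert this using 1
    simpa using ZMod.stdAddChar_coe (N := p) 1
  have := (hζ.sum_eq_zero_iff_forall_eq_int hp.out fun i => α (ZMod.finEquiv p i)).mp (by
    rw [← h, ← (ZMod.finEquiv p).toEquiv.sum_comp]
    refine Finset.sum_congr rfl fun i _ => ?_
    rw [← AddChar.map_nsmul_eq_pow]
    congr 2
    obtain ⟨n, rfl⟩ := Nat.exists_eq_succ_of_ne_zero hp.out.ne_zero
    simp only [nsmul_eq_mul, mul_one]
    exact Fin.cast_val_eq_self i)
  simpa using this ((ZMod.finEquiv p).symm i) ((ZMod.finEquiv p).symm j)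

/-- number of walks -/
noncomputable def wk (T : Finset (ZMod p)) : ℕ → ZMod p × ZMod p → ℂ
  | 0 => fun w => if w = 0 then 1 else 0
  | j + 1 => fun w => ∑ v, if w.2 = v.2 + 1 ∧ w.1 - v.1 ∈ T then wk T j v else 0

lemma wk_four (T : Finset (ZMod p)) (r : ZMod p) (j : ℕ) :
    ∑ s, wk T j (s, j) * ZMod.stdAddChar (s * r) = (∑ d ∈ T, ZMod.stdAddChar (d * r)) ^ j := by
  induction j with
  | zero => simp [wk, Prod.ext_iff]
  | succ j ih =>
    rw [pow_succ, ← ih, Finset.sum_mul]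
    simp only [wk, Finset.sum_mul, Fintype.sum_prod_type, Nat.cast_succ, add_left_inj]
    rw [Finset.sum_comm]
    refine Finset.sum_congr rfl fun s _ => ?_
    rw [Finset.mul_sum, ← Finset.sum_filter_add_sum_filter_not _ (fun x => x - s ∈ T), Finset.sum_eq_zero
      (s := Finset.filter (fun x => ¬ x - s ∈ T) _) fun x hx => by simp [(Finset.mem_filter.mp hx).2], add_zero]
    refine Finset.sum_bij' (fun x _ => x - s) (fun d _ => d + s) (by simp) (by simp) (by simp) (by simp) fun x hx => ?_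
    simp only [(Finset.mem_filter.mp hx).2, and_true, ite_mul, zero_mul, Finset.sum_ite_eq, Finset.mem_univ, if_true]
    rw [mul_assoc, ← AddChar.map_add_eq_mul]
    congr 2; ring

lemma lemC (T : Finset (ZMod p)) (h0 : (0 : ZMod p) ∈ T) {d : ZMod p} (hd : d ∈ T) (hd0 : d ≠ 0) {ε : ZMod p}
    (hε : ε ≠ 1) (hε0 : ε ≠ 0) (hT : ∀ s ∈ T, ε * s ∈ T)
    (h : ∀ s : ZMod p, s ≠ 0 → ∃ σ : Equiv.Perm (ZMod p × ZMod p), σ 0 = 0 ∧ σ (1, 0) = (s, 0) ∧
      ∀ v w, ((σ w).2 = (σ v).2 + 1 ∧ (σ w).1 - (σ v).1 ∈ T) ↔ (w.2 = v.2 + 1 ∧ w.1 - v.1 ∈ T)) : ∀ s, s ∈ T := by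
  have h1 : ∀ s : ZMod p, s ≠ 0 → wk T p (s, 0) = wk T p (1, 0) := fun s hs => by
    obtain ⟨σ, a1, a2, a3⟩ := h s hs
    have : ∀ j w, wk T j (σ w) = wk T j w := fun j => by
      induction j with
      | zero => intro w; simp only [wk]; exact if_congr ⟨fun h => σ.injective (h.trans a1.symm), fun h => h ▸ a1⟩ rfl rfl
      | succ j ih => intro w; simp only [wk]; rw [← Equiv.sum_comp σ]; simp only [a3, ih]
    rw [← a2, this]
  have h2 : ∀ r : ZMod p, r ≠ 0 → (∑ d ∈ T, ZMod.stdAddChar (d * r)) ^ p = wk T p 0 - wk T p (1, 0) := fun r hr => by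
    have := AddChar.sum_mulShift r (ZMod.isPrimitive_stdAddChar p)
    rw [if_neg hr, ← Finset.add_sum_erase _ _ (Finset.mem_univ 0)] at this
    rw [← wk_four, ← Finset.add_sum_erase _ _ (Finset.mem_univ 0), ZMod.natCast_self,
      Finset.sum_congr rfl fun s hs => by rw [h1 s (Finset.ne_of_mem_erase hs)], ← Finset.mul_sum]
    simp only [zero_mul, AddChar.map_zero_eq_one, Nat.cast_zero] at this ⊢
    linear_combination (exp := 1) wk T p (1, 0) * this
  have hind : ∀ S : Finset (ZMod p), ∑ s, (((if s ∈ S then 1 else 0 : ℤ)) : ℂ) * ZMod.stdAddChar s =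
      ∑ s ∈ S, ZMod.stdAddChar s := fun S => by simp [← Finset.sum_filter]
  by_cases hθ : ∑ d ∈ T, ZMod.stdAddChar d = 0
  · intro s
    simpa [h0] using indep _ ((hind T).trans hθ) s 0
  have hεT : ∀ s, ε * s ∈ T ↔ s ∈ T := fun s => ⟨fun hs => by
    have := Finset.surj_on_of_inj_on_of_card_le (s := T) (t := T) (fun s _ => ε * s) hT
      (fun _ _ _ _ e => mul_left_cancel₀ hε0 e) le_rfl _ hs
    obtain ⟨a, ha, e⟩ := this
    exact mul_left_cancel₀ hε0 e ▸ ha, hT s⟩
  by_contra hn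
  push Not at hn
  obtain ⟨z, hz⟩ := hn
  have h3 : ∀ r : ZMod p, r ≠ 0 → ∀ s, s ∈ T ↔ s * r ∈ T := fun r hr => by
    have e1 : ((∑ d ∈ T, ZMod.stdAddChar (d * r⁻¹)) / ∑ d ∈ T, ZMod.stdAddChar d) ^ p = 1 := by
      have := h2 1 one_ne_zero
      simp only [mul_one] at this
      rw [div_pow, h2 _ (inv_ne_zero hr), ← this, div_self (pow_ne_zero _ hθ)]
    obtain ⟨i, -, hi⟩ := (Complex.isPrimitiveRoot_exp p hp.out.ne_zero).eq_pow_of_pow_eq_one e1
    have e2 : Complex.exp (2 * Real.pi * Complex.I / p) ^ i = ZMod.stdAddChar (i : ZMod p) := by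
      rw [← Complex.exp_nat_mul]
      have := ZMod.stdAddChar_coe (N := p) i
      simp only [Int.cast_natCast] at this
      rw [this]; congr 1; ring
    rw [e2, eq_div_iff hθ] at hi
    generalize (i : ZMod p) = m at hi
    have e3 := indep (fun s => (if s * r ∈ T then 1 else 0) - if s - m ∈ T then 1 else 0) (by
      simp only [Int.cast_sub, sub_mul, Finset.sum_sub_distrib, Int.cast_ite, Int.cast_one, Int.cast_zero, ite_mul,
        one_mul, zero_mul, ← Finset.sum_filter]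
      rw [sub_eq_zero, Finset.sum_bij' (t := T) (g := fun d => ZMod.stdAddChar (d * r⁻¹)) (fun x _ => x * r)
        (fun d _ => d * r⁻¹) (by simp) (by simp [hr]) (by simp [hr]) (by simp [hr]) (by simp [hr]), ← hi, Finset.mul_sum]
      refine Finset.sum_bij' (fun d _ => d + m) (fun x _ => x - m) (by simp) (by simp) (by simp) (by simp) fun x _ => ?_
      rw [← AddChar.map_add_eq_mul, add_comm])
    have e4 : ∀ s, s * r ∈ T ↔ s - m ∈ T := fun s => by
      have a1 := e3 s m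
      have a2 := e3 s (z * r⁻¹)
      simp only [sub_self, h0, if_true, mul_assoc, inv_mul_cancel₀ hr, mul_one, hz, if_false] at a1 a2
      have a3 := e3 s (z + m)
      have a4 := e3 s 0
      simp only [add_sub_cancel_right, hz, if_false, zero_mul, h0, if_true] at a3 a4
      by_cases b1 : s * r ∈ T <;> by_cases b2 : s - m ∈ T <;> simp only [b1, b2, if_true, if_false] at * <;>
        first | rfl | (exfalso; split_ifs at * <;> omega)
    have e5 : m = 0 := by
      by_contra hm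
      have a1 : ∀ s ∈ T, s + (ε - 1) * m ∈ T := fun s hs => by
        obtain ⟨s, rfl⟩ := mul_left_surjective₀ hε0 s
        have := (e4 (ε * (s + m))).mp (by rw [mul_assoc, hεT, e4]; simpa using (hεT s).mp hs)
        convert this using 1; ring
      have a2 : ∀ k : ℕ, (k : ZMod p) * ((ε - 1) * m) ∈ T := fun k => by
        induction k with
        | zero => simpa
        | succ k ih => convert a1 _ ih using 1; push_cast; ring
      have := a2 (z / ((ε - 1) * m)).val
      rw [ZMod.natCast_zmod_val, div_mul_cancel₀ _ (mul_ne_zero (sub_ne_zero.mpr hε) hm)] at this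
      exact hz this
    intro s
    rw [e4, e5, sub_zero]
  have hz0 : z ≠ 0 := fun e => hz (e ▸ h0)
  have := (h3 (z / d) (div_ne_zero hz0 hd0) d).mp hd
  rw [mul_div_cancel₀ _ hd0] at this
  exact hz this

end fourier

variable {G : Type*} [Group G] {p : ℕ} [hp : Fact p.Prime]

/-- powers with exponent in `ZMod p` -/
def pw (c : G) (j : ZMod p) : G := c ^ j.val

lemma pw_nat {c : G} (hc : c ^ p = 1) (n : ℕ) : pw c (n : ZMod p) = c ^ n := by
  rw [pw, ZMod.val_natCast, ← pow_eq_pow_mod n hc]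

lemma pw_add {c : G} (hc : c ^ p = 1) (i j : ZMod p) : pw c (i + j) = pw c i * pw c j := by
  rw [pw, pw, pw, ← pow_add, ← pw_nat hc (i.val + j.val)]; simp [pw]

lemma pw_mul {c : G} (hc : c ^ p = 1) (i j : ZMod p) : pw c (i * j) = pw c i ^ j.val := by
  rw [pw, pw, ← pow_mul, ← pw_nat hc (i.val * j.val)]; simp [pw]

lemma pw_zero (c : G) : pw c (0 : ZMod p) = 1 := by simp [pw]

lemma pw_one (c : G) : pw c (1 : ZMod p) = c := by simp [pw, ZMod.val_one]

lemma pw_eq_one {c : G} (hc : orderOf c = p) {j : ZMod p} (h : pw c j = 1) : j = 0 := by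
  have := orderOf_dvd_of_pow_eq_one h
  rw [hc] at this
  exact (ZMod.val_eq_zero j).mp (Nat.eq_zero_of_dvd_of_lt this (ZMod.val_lt j))

lemma pw_mem {c : G} {H : Subgroup G} (h : c ∈ H) (j : ZMod p) : pw c j ∈ H := pow_mem h _

lemma exists_pw [Finite G] {c x : G} (hc : c ^ p = 1) (h : x ∈ zpowers c) : ∃ j : ZMod p, x = pw c j := by
  obtain ⟨n, rfl⟩ := (mem_powers_iff_mem_zpowers).mpr h
  exact ⟨n, (pw_nat hc n).symm⟩

lemma pw_conj {c e : G} (hc : c ^ p = 1) {ε : ZMod p} (h : e * c * e⁻¹ = pw c ε) (j : ZMod p) :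
    e * pw c j * e⁻¹ = pw c (ε * j) := by
  rw [pw_mul hc, ← h, conj_pow]; rfl

lemma lemT [Finite G] {P C : Subgroup G} (hP : SylowIn p P C) (hc : ∀ x ∈ P, ∀ y ∈ P, x * y = y * x) {z : G}
    (h1 : z ∈ P) (h2 : z ∈ centralizer (C : Set G)) (h3 : z ∈ ⁅C, C⁆) : z = 1 := by
  letI : CommGroup (P.subgroupOf C) := { mul_comm := fun x y => Subtype.ext (Subtype.ext (hc _ x.2 _ y.2)) }
  let f := MonoidHom.transfer (MonoidHom.id (P.subgroupOf C))
  have h4 : ⁅C, C⁆ ≤ f.ker.map C.subtype := commutator_le.mpr fun x hx y hy =>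
    ⟨⁅(⟨x, hx⟩ : C), ⟨y, hy⟩⁆, by
      rw [SetLike.mem_coe, MonoidHom.mem_ker, map_commutatorElement, commutatorElement_eq_one_iff_mul_comm]
      exact mul_comm _ _, rfl⟩
  obtain ⟨w, hw, rfl⟩ := h4 h3
  have h5 := MonoidHom.transfer_eq_pow (MonoidHom.id (P.subgroupOf C)) w fun k g _ => by
    have : g * w = w * g := Subtype.ext (h2 g g.2)
    rw [mul_assoc, ← (Commute.pow_right this k).eq, inv_mul_cancel_left]
  have h6 : w ^ (P.subgroupOf C).index = 1 := congrArg Subtype.val (h5.symm.trans hw)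
  obtain ⟨k, hk⟩ := (sylowIn_iff.mp hP).2.1 ⟨w, h1⟩
  have h7 : (w : G) ^ p ^ k = 1 := congrArg Subtype.val hk
  have h8 : (w : G) ^ P.relIndex C = 1 := congrArg Subtype.val h6
  have := (pow_gcd_eq_one).mpr ⟨h7, h8⟩
  rwa [((Nat.Prime.coprime_iff_not_dvd hp.out).mpr (sylowIn_iff.mp hP).2.2).pow_left k, pow_one] at this

lemma arith {q e : ℕ} (hp2 : p ≠ 2) (hq : Odd q) (he : e ≤ p - 1)
    (h : 2 * ((p ^ 2 + 1) * (p ^ 2 * e)) = q * (q - 1) * (q + 1)) (hq1 : 1 < q) : False := by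
  have hpp := hp.out
  have h3 : 3 ≤ p := by have := hpp.two_le; omega
  obtain ⟨r, rfl⟩ : ∃ r, q = r + 1 := ⟨q - 1, by omega⟩
  rw [Nat.add_sub_cancel] at h
  have hd : p ^ 2 ∣ (r + 1) * r * (r + 1 + 1) := ⟨2 * (p ^ 2 + 1) * e, by rw [← h]; ring⟩
  have cop : ∀ {m}, ¬ p ∣ m → (p ^ 2).Coprime m := fun h => ((Nat.Prime.coprime_iff_not_dvd hpp).mpr h).pow_left 2
  have n1 : ¬ p ∣ 1 := hpp.not_dvd_one
  have n2 : ¬ p ∣ 2 := fun h => by have := Nat.le_of_dvd two_pos h; omega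
  have h1 : p ^ 2 ≤ r + 2 := by
    by_cases a1 : p ∣ r
    · have := (cop fun h => n1 ((Nat.dvd_add_right a1).mp h)).dvd_of_dvd_mul_left
        ((cop fun h => n2 ((Nat.dvd_add_right a1).mp h)).dvd_of_dvd_mul_right hd)
      exact (Nat.le_of_dvd (by omega) this).trans (by omega)
    by_cases a2 : p ∣ r + 1
    · have := (cop a1).dvd_of_dvd_mul_right ((cop fun h => n1 ((Nat.dvd_add_right a2).mp h)).dvd_of_dvd_mul_right hd)
      exact (Nat.le_of_dvd (by omega) this).trans (by omega)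
    · exact Nat.le_of_dvd (by omega) ((Nat.Coprime.mul_right (cop a2) (cop a1)).dvd_of_dvd_mul_left hd)
  have h2 : Odd (p ^ 2) := (hpp.odd_of_ne_two hp2).pow
  have h4 : p ^ 2 ≤ r + 1 := by rw [Nat.odd_iff] at hq h2; omega
  have h5 : 2 * e < r := by
    obtain ⟨s, rfl⟩ : ∃ s, p = s + 1 := ⟨p - 1, by omega⟩
    rw [Nat.add_sub_cancel] at he
    nlinarith
  have h6 : p ^ 2 * (2 * e) * (p ^ 2 + 1) < (r + 1) * r * (r + 1 + 1) :=
    Nat.mul_lt_mul_of_lt_of_le (Nat.mul_lt_mul_of_le_of_lt h4 h5 (by omega)) (by omega) (by omega)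
  rw [← h] at h6
  nlinarith

end Cfsg.Lib.Layer.Atk
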