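import Cfsg.Agent.Lib.Layer.Atk1
import Cfsg.Agent.Lib.Perm.Heart
import Cfsg.Agent.Lib.Perm.Sharp2

set_option autoImplicit false
set_option linter.unusedSectionVars false

open Subgroup MulAction Cfsg.Lib.Transfer
open scoped commutatorElement Pointwise

namespace Cfsg.Lib.Layer.Atk

variable {G Ω : Type*} [Group G] [Finite G] [MulAction G Ω] [FaithfulSMul G Ω] [Finite Ω] {p : ℕ} [hp : Fact p.Prime]

/-- orbit of a subgroup -/
def orb (X : Subgroup G) (y : Ω) : Set Ω := {w | ∃ g ∈ X, g • y = w}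

lemma card_orb (X : Subgroup G) (y : Ω) : Nat.card X = (orb X y).ncard * Nat.card ↥(X ⊓ stabilizer G y) := by
  have h1 : orb X y = orbit X y := Set.ext fun w => ⟨fun ⟨g, hg, e⟩ => ⟨⟨g, hg⟩, e⟩, fun ⟨g, e⟩ => ⟨g, g.2, e⟩⟩
  rw [h1, ← index_stabilizer, ← card_mul_relIndex (inf_le_left : X ⊓ stabilizer G y ≤ X), mul_comm, inf_relIndex_left]
  rfl

lemma mem_orb_self (X : Subgroup G) (y : Ω) : y ∈ orb X y := ⟨1, one_mem _, one_smul _ _⟩

/-- two point stabilizer -/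
abbrev D2 (G : Type*) {Ω : Type*} [Group G] [MulAction G Ω] (a b : Ω) : Subgroup G := stabilizer G a ⊓ stabilizer G b

/-- the hypotheses -/
structure Hyp (G Ω : Type*) [Group G] [MulAction G Ω] (p : ℕ) : Prop where
  two : ∀ {a b c d : Ω}, a ≠ b → c ≠ d → ∃ g : G, g • a = c ∧ g • b = d
  card : Nat.card Ω = p ^ 2 + 1

variable (h : Hyp G Ω p) {a b : Ω}
include h

lemma ncard_compl (a : Ω) : ({a}ᶜ : Set Ω).ncard = p ^ 2 := by
  have := Set.ncard_add_ncard_compl ({a} : Set Ω)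
  rw [Set.ncard_singleton, h.card] at this; omega

lemma card_stab (hab : a ≠ b) : Nat.card (stabilizer G a) = p ^ 2 * Nat.card (D2 G a b) := by
  rw [card_orb _ b, ← ncard_compl h a]
  congr 2
  ext w
  exact ⟨fun ⟨g, hg, e⟩ (e' : w = a) => hab (smul_left_cancel g (by rw [e, e']; exact hg)),
    fun hw => (h.two hab (Ne.symm hw)).imp fun g hg => hg⟩

lemma card_G (hab : a ≠ b) : Nat.card G = (p ^ 2 + 1) * (p ^ 2 * Nat.card (D2 G a b)) := by
  rw [← card_top, card_orb _ a, top_inf_eq, card_stab h hab, ← h.card, ← Set.ncard_univ Ω]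
  congr 2
  refine Set.eq_univ_of_forall fun w => ?_
  by_cases e : w = a
  · exact e ▸ mem_orb_self _ _
  · exact (h.two hab e).imp fun g hg => ⟨trivial, hg.1⟩

lemma card_D (hab : a ≠ b) {c d : Ω} (hcd : c ≠ d) : Nat.card (D2 G c d) = Nat.card (D2 G a b) := by
  have := (card_G h hcd).symm.trans (card_G h hab)
  exact Nat.eq_of_mul_eq_mul_left (pow_pos hp.out.pos 2) (Nat.eq_of_mul_eq_mul_left (Nat.succ_pos _) this)

lemma noline (hab : a ≠ b) {X : Subgroup G} (hX : D2 G a b ≤ X) (h1 : (orb (X ⊓ stabilizer G a) b).ncard = p)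
    (h2 : (orb X a).ncard = p + 1) : False := by
  have h3 := X.card_subgroup_dvd_card
  rw [card_orb X a, card_orb (X ⊓ _) b, h1, h2, inf_assoc, inf_eq_right.mpr hX, card_G h hab, ← mul_assoc,
    ← mul_assoc, Nat.mul_dvd_mul_iff_right Nat.card_pos, pow_two p, ← mul_assoc,
    Nat.mul_dvd_mul_iff_right hp.out.pos] at h3
  have h4 : p + 1 ∣ (p * p + 1) * p + 2 := ⟨p * p + 2 - p, by
    have : p ≤ p * p + 2 := by nlinarith
    zify [this]; ring⟩
  have := Nat.le_of_dvd two_pos ((Nat.dvd_add_right h3).mp h4)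
  have := hp.out.two_le
  omega

lemma line_fix (hab : a ≠ b) {U : Subgroup G} (hU : U ≤ stabilizer G a) (h1 : (orb U b).ncard = p)
    (h2 : ∀ d ∈ D2 G a b, ∀ y ∈ orb U b, d • y ∈ orb U b) {g : G}
    (hg : ∀ y ∈ insert a (orb U b), g • y ∈ insert a (orb U b)) : g • a = a := by
  by_contra hga
  have ha : a ∉ orb U b := fun ⟨u, hu, e⟩ => hab (smul_left_cancel u (by rw [e]; exact hU hu))
  have mX : ∀ {x : G}, x ∈ stabilizer G (insert a (orb U b)) ↔ ∀ y ∈ insert a (orb U b), x • y ∈ insert a (orb U b) :=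
    mem_stabilizer_set' (Set.toFinite _)
  have hUX : U ≤ stabilizer G (insert a (orb U b)) := fun u hu => mX.mpr (by
    rintro y (rfl | ⟨v, hv, rfl⟩)
    · exact Or.inl (hU hu)
    · exact Or.inr ⟨u * v, mul_mem hu hv, mul_smul _ _ _⟩)
  refine noline h hab (X := stabilizer G (insert a (orb U b))) (fun d hd => mX.mpr ?_) ?_ ?_
  · rintro y (rfl | hy)
    · exact Or.inl hd.1
    · exact Or.inr (h2 d hd y hy)
  · rw [← h1]; congr 1
    refine Set.Subset.antisymm ?_ fun y ⟨u, hu, e⟩ => ⟨u, mem_inf.mpr ⟨hUX hu, hU hu⟩, e⟩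
    rintro _ ⟨x, hx, rfl⟩
    exact (mX.mp hx.1 b (Or.inr (mem_orb_self _ _))).resolve_left fun e =>
      hab (smul_left_cancel x (by rw [e]; exact hx.2))
  · rw [← h1, ← Set.ncard_insert_of_notMem ha]; congr 1
    refine Set.Subset.antisymm ?_ ?_
    · rintro _ ⟨x, hx, rfl⟩; exact mX.mp hx a (Or.inl rfl)
    · obtain ⟨v, hv, e⟩ := (hg a (Or.inl rfl)).resolve_left hga
      rintro y (rfl | ⟨u, hu, rfl⟩)
      · exact mem_orb_self _ _
      · exact ⟨u * v⁻¹ * g, mul_mem (hUX (mul_mem hu (inv_mem hv))) (mX.mpr hg), by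
          rw [mul_smul, ← e, mul_smul, inv_smul_smul]⟩

lemma fix3 (hab : a ≠ b) {R : Subgroup G} (hR : R ≤ D2 G a b) (hw : ∀ g, cj g R ≤ D2 G a b → cj g R ≤ R)
    {c : Ω} (h1 : c ≠ a) (h2 : c ≠ b) (h3 : R ≤ stabilizer G c) : R = ⊥ := by
  set L : Set Ω := {y | R ≤ stabilizer G y}
  have hN : ∀ g, cj g R ≤ D2 G a b → g ∈ normalizer (R : Set G) := fun g hg => mem_normalizer_of_cj_le (hw g hg)
  have hD : D2 G a b ≤ normalizer (R : Set G) := fun d hd => hN d ((cj_mono _ hR).trans (cj_eq_of_mem hd).le)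
  have ha : a ∈ L := hR.trans inf_le_left
  have hb : b ∈ L := hR.trans inf_le_right
  have k1 : ∀ y ∈ L, ∀ g ∈ normalizer (R : Set G), g • y ∈ L := fun y hy g hg x hx => by
    have := hy (conj_mem_of_mem_normalizer (inv_mem hg) hx)
    rw [mem_stabilizer_iff, mul_smul, mul_smul, inv_inv, inv_smul_eq_iff] at this
    exact this
  have k2 : ∀ y ∈ L, ∀ z ∈ L, y ≠ z → ∃ g ∈ normalizer (R : Set G), g • a = y ∧ g • b = z := fun y hy z hz hyz => by
    obtain ⟨g, e1, e2⟩ := h.two hab hyz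
    refine ⟨g, (inv_mem_iff).mp (hN _ (cj_le_iff.mpr fun x hx => mem_inf.mpr ⟨?_, ?_⟩)), e1, e2⟩
    · rw [mem_stabilizer_iff, mul_smul, mul_smul, inv_inv, e1, hy hx, ← e1, inv_smul_smul]
    · rw [mem_stabilizer_iff, mul_smul, mul_smul, inv_inv, e2, hz hx, ← e2, inv_smul_smul]
  have k3 : orb (normalizer (R : Set G) ⊓ stabilizer G a) b = L \ {a} := by
    refine Set.Subset.antisymm ?_ fun y hy => ?_
    · rintro _ ⟨x, hx, rfl⟩
      exact ⟨k1 b hb x hx.1, fun (e : _ = a) => hab (smul_left_cancel x (by rw [e]; exact hx.2))⟩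
    · obtain ⟨g, hg, e1, e2⟩ := k2 a ha y hy.1 (Ne.symm hy.2)
      exact ⟨g, mem_inf.mpr ⟨hg, e1⟩, e2⟩
  have k4 : orb (normalizer (R : Set G)) a = L := by
    refine Set.Subset.antisymm ?_ fun y hy => ?_
    · rintro _ ⟨x, hx, rfl⟩; exact k1 a ha x hx
    · by_cases e : y = a
      · exact e ▸ mem_orb_self _ _
      · obtain ⟨g, hg, e1, -⟩ := k2 y hy a ha e
        exact ⟨g, hg, e1⟩
  have k5 := card_dvd_of_le (inf_le_right : normalizer (R : Set G) ⊓ stabilizer G a ≤ _)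
  rw [card_orb _ b, inf_assoc, inf_eq_right.mpr hD, card_stab h hab, Nat.mul_dvd_mul_iff_right Nat.card_pos] at k5
  have k6 := Set.ncard_sdiff_singleton_add_one ha
  obtain ⟨i, hi, e⟩ := (Nat.dvd_prime_pow hp.out).mp k5
  obtain rfl | rfl | rfl : i = 0 ∨ i = 1 ∨ i = 2 := by omega
  · rw [k3, pow_zero, Set.ncard_eq_one] at e
    obtain ⟨z, hz⟩ := e
    have e1 : b ∈ L \ {a} := ⟨hb, hab.symm⟩
    have e2 : c ∈ L \ {a} := ⟨h3, h1⟩
    rw [hz] at e1 e2
    exact (h2 (e2.trans e1.symm)).elim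
  · exact (noline h hab hD (by simpa using e) (by rw [k4, ← k6, ← k3, e, pow_one])).elim
  · have : L = Set.univ := Set.eq_of_subset_of_ncard_le (Set.subset_univ _) (by
      rw [Set.ncard_univ, h.card, ← k6, ← k3, e])
    exact eq_bot_iff.mpr fun x hx => mem_bot.mpr (eq_of_smul_eq_smul fun (y : Ω) => by
      rw [one_smul]; exact (this.ge (Set.mem_univ y)) hx)

lemma fixD (hab : a ≠ b) {c : Ω} (h1 : c ≠ a) (h2 : c ≠ b) (h3 : D2 G a b ≤ stabilizer G c) : D2 G a b = ⊥ :=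
  fix3 h hab le_rfl (fun _ hg => hg) h1 h2 h3

variable {M P : Subgroup G}

lemma card_blk (hab : a ≠ b) (h1 : D2 G a b < M) (h2 : M < stabilizer G a) : (orb M b).ncard = p := by
  have k1 := card_orb M b
  rw [show M ⊓ stabilizer G b = D2 G a b from le_antisymm (inf_le_inf_right _ h2.le) (le_inf h1.le inf_le_right)] at k1
  have k2 := card_dvd_of_le h2.le
  have k3 := card_lt_of_lt h1
  have k4 := card_lt_of_lt h2
  rw [card_stab h hab, k1] at k2 k4
  rw [k1] at k3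
  rw [Nat.mul_dvd_mul_iff_right Nat.card_pos] at k2
  obtain ⟨i, hi, e⟩ := (Nat.dvd_prime_pow hp.out).mp k2
  obtain rfl | rfl | rfl : i = 0 ∨ i = 1 ∨ i = 2 := by omega
  · rw [e] at k3; simp at k3
  · simpa using e
  · rw [e] at k4; simp at k4

lemma not_dvd_D (hab : a ≠ b) (h1 : D2 G a b < M) (h2 : M < stabilizer G a) : ¬ p ∣ Nat.card (D2 G a b) := by
  have k0 := card_blk h hab h1 h2
  obtain ⟨c, hc, hcb⟩ := Set.exists_ne_of_one_lt_ncard (k0 ▸ hp.out.one_lt) b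
  have hca : c ≠ a := by
    rintro rfl
    obtain ⟨u, hu, e⟩ := hc
    exact hab (smul_left_cancel u (by rw [e]; exact h2.le hu))
  have k1 := fix3 h hab (R := closure {x | x ∈ D2 G a b ∧ x ^ p = 1}) ((closure_le _).mpr fun x hx => hx.1)
    (fun g hg => by
      rw [cj_le_iff_le_cj_inv, closure_le]
      intro x hx
      rw [SetLike.mem_coe, mem_cj, inv_inv]
      exact subset_closure ⟨cj_le_iff.mp hg x (subset_closure hx), by rw [conj_pow, hx.2]; simp⟩)
    hca hcb ((closure_le _).mpr fun x hx => by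
      have e1 : (orb (zpowers x) c).ncard ∣ p := (Dvd.intro _ (card_orb _ c).symm).trans
        (Nat.card_zpowers x ▸ orderOf_dvd_of_pow_eq_one hx.2)
      have e2 : orb (zpowers x) c ⊂ orb M b := by
        refine ⟨?_, fun e => ?_⟩
        · rintro _ ⟨y, hy, rfl⟩
          obtain ⟨u, hu, rfl⟩ := hc
          exact ⟨y * u, mul_mem (h1.le (zpowers_le.mpr hx.1 hy)) hu, mul_smul _ _ _⟩
        · obtain ⟨y, hy, e⟩ := e (mem_orb_self _ _)
          exact hcb (smul_left_cancel y (by rw [e]; exact (zpowers_le.mpr hx.1 hy).2.symm))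
      have e3 := Set.ncard_lt_ncard e2
      rcases (Nat.dvd_prime hp.out).mp e1 with e | e
      · obtain ⟨z, hz⟩ := Set.ncard_eq_one.mp e
        have a1 := mem_orb_self (zpowers x) c
        have a2 : x • c ∈ orb (zpowers x) c := ⟨x, mem_zpowers x, rfl⟩
        rw [hz] at a1 a2
        exact a2.trans a1.symm
      · omega)
  intro hd
  obtain ⟨x, hx⟩ := exists_prime_orderOf_dvd_card' p hd
  have : (x : G) ∈ (⊥ : Subgroup G) := k1 ▸ subset_closure ⟨x.2, by rw [← hx, ← orderOf_coe, pow_orderOf_eq_one]⟩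
  rw [← orderOf_coe, mem_bot.mp this, orderOf_one] at hx
  exact hp.out.ne_one hx.symm

/-- a regular abelian Sylow subgroup -/
structure Reg (p : ℕ) (a : Ω) (P : Subgroup G) : Prop where
  syl : SylowIn p P (stabilizer G a)
  card : Nat.card P = p ^ 2
  comm : ∀ x ∈ P, ∀ y ∈ P, x * y = y * x
  inj : ∀ y, y ≠ a → ∀ u ∈ P, ∀ v ∈ P, u • y = v • y → u = v
  tr : ∀ y, y ≠ a → ∀ z, z ≠ a → ∃ u ∈ P, u • y = z
  nd : ∀ y z : Ω, y ≠ z → ¬ p ∣ Nat.card (D2 G y z)

lemma reg (hab : a ≠ b) (hd : ¬ p ∣ Nat.card (D2 G a b)) (hP : SylowIn p P (stabilizer G a)) : Reg p a P := by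
  have nd : ∀ y z : Ω, y ≠ z → ¬ p ∣ Nat.card (D2 G y z) := fun y z hyz => card_D h hab hyz ▸ hd
  have k1 : Nat.card P = p ^ 2 := by
    rw [hP.card_eq_pow, card_stab h hab, Nat.factorization_mul (pow_pos hp.out.pos 2).ne' Nat.card_pos.ne',
      Finsupp.add_apply, Nat.factorization_eq_zero_of_not_dvd hd, Nat.factorization_pow_self hp.out]
  have k2 : ∀ y, y ≠ a → P ⊓ stabilizer G y = ⊥ := fun y hy => by
    have e1 := card_dvd_of_le (inf_le_inf_right (stabilizer G y) hP.le)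
    have e2 := card_dvd_of_le (inf_le_left : P ⊓ stabilizer G y ≤ P)
    rw [k1] at e2
    exact card_eq_one.mp (Nat.eq_one_of_dvd_coprimes (((Nat.Prime.coprime_iff_not_dvd hp.out).mpr
      (nd a y hy.symm)).pow_left 2) e2 e1)
  refine ⟨hP, k1, fun x hx y hy => congrArg Subtype.val
    ((IsPGroup.isMulCommutative_of_card_eq_prime_sq k1).is_comm.comm ⟨x, hx⟩ ⟨y, hy⟩), fun y hy u hu v hv e => ?_,
    fun y hy z hz => ?_, nd⟩
  · have : v⁻¹ * u ∈ P ⊓ stabilizer G y := mem_inf.mpr ⟨mul_mem (inv_mem hv) hu, by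
      rw [mem_stabilizer_iff, mul_smul, e, inv_smul_smul]⟩
    rw [k2 y hy, mem_bot] at this
    exact (inv_mul_eq_one.mp this).symm
  · have e1 := card_orb P y
    rw [k2 y hy, card_bot, mul_one, k1, ← ncard_compl h a] at e1
    have : orb P y = {a}ᶜ := Set.eq_of_subset_of_ncard_le (by
      rintro _ ⟨u, hu, rfl⟩ (e : _ = a)
      exact hy (smul_left_cancel u (by rw [e]; exact (hP.le hu).symm))) e1.le
    exact this.ge hz

end Cfsg.Lib.Layer.Atk
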