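import Cfsg.Agent.Lib.Layer.Atk2

set_option autoImplicit false
set_option linter.unusedSectionVars false

open Subgroup MulAction Cfsg.Lib.Transfer
open scoped commutatorElement Pointwise

namespace Cfsg.Lib.Layer.Atk

variable {G Ω : Type*} [Group G] [Finite G] [MulAction G Ω] [FaithfulSMul G Ω] [Finite Ω] {p : ℕ} [hp : Fact p.Prime]
variable {a b : Ω} {M P : Subgroup G} {c : G}

lemma Reg.ne (R : Reg p a P) {y : Ω} (hy : y ≠ a) {u : G} (hu : u ∈ stabilizer G a) : u • y ≠ a := fun e =>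
  hy (smul_left_cancel u (by rw [e]; exact hu.symm))

lemma Reg.eq_one (R : Reg p a P) {g : G} (ha : g • a = a) (h : ∀ y, y ≠ a → g • y = y) : g = 1 :=
  eq_of_smul_eq_smul fun (y : Ω) => by
    rw [one_smul]; by_cases e : y = a
    · rw [e, ha]
    · exact h y e

lemma Reg.bot (R : Reg p a P) {Q : Subgroup G} (h1 : Q ≤ stabilizer G a) (h2 : P ≤ normalizer (Q : Set G))
    (h3 : ¬ p ∣ Nat.card Q) : Q = ⊥ := by
  refine eq_bot_iff.mpr fun x hx => mem_bot.mpr (R.eq_one (h1 hx) fun y hy => ?_)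
  let P0 : Subgroup G :=
    { carrier := {u | u ∈ P ∧ u • y ∈ orb Q y}
      one_mem' := ⟨one_mem _, by simpa using mem_orb_self Q y⟩
      mul_mem' := by
        rintro u v ⟨hu, q, hq, e⟩ ⟨hv, r, hr, f⟩
        exact ⟨mul_mem hu hv, u * r * u⁻¹ * q, mul_mem (conj_mem_of_mem_normalizer (h2 hu) hr) hq, by
          simp only [mul_smul, e, inv_smul_smul, f]⟩
      inv_mem' := by
        rintro u ⟨hu, q, hq, e⟩
        exact ⟨inv_mem hu, u⁻¹ * q⁻¹ * u⁻¹⁻¹, conj_mem_of_mem_normalizer (h2 (inv_mem hu)) (inv_mem hq), by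
          simp only [mul_smul, inv_inv, ← e, inv_smul_smul]⟩ }
  have e1 := card_orb P0 y
  rw [show P0 ⊓ stabilizer G y = ⊥ from eq_bot_iff.mpr fun u hu => R.inj y hy u hu.1.1 1 (one_mem _)
    (by simpa using hu.2), card_bot, mul_one, show orb P0 y = orb Q y from Set.Subset.antisymm (by
      rintro _ ⟨u, hu, rfl⟩; exact hu.2) (by
      rintro _ ⟨q, hq, rfl⟩
      obtain ⟨u, hu, e⟩ := R.tr y hy _ (R.ne hy (h1 hq))
      exact ⟨u, ⟨hu, q, hq, e.symm⟩, e⟩)] at e1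
  have e2 := card_dvd_of_le (show P0 ≤ P from fun u hu => hu.1)
  rw [e1, R.card] at e2
  obtain ⟨z, hz⟩ := Set.ncard_eq_one.mp (Nat.eq_one_of_dvd_coprimes (((Nat.Prime.coprime_iff_not_dvd hp.out).mpr
    h3).pow_left 2) e2 (Dvd.intro _ (card_orb Q y).symm))
  have a1 := mem_orb_self Q y
  have a2 : x • y ∈ orb Q y := ⟨x, hx, rfl⟩
  rw [hz] at a1 a2
  exact a2.trans a1.symm

lemma Reg.pow_one (R : Reg p a P) {y z : Ω} (hyz : y ≠ z) {g : G} (hg : g ∈ D2 G y z) (h : g ^ p = 1) : g = 1 := by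
  rcases (Nat.dvd_prime hp.out).mp (orderOf_dvd_of_pow_eq_one h) with e | e
  · exact orderOf_eq_one_iff.mp e
  · exact (R.nd y z hyz (e ▸ orderOf_dvd_natCard _ hg)).elim

lemma Reg.eq_of_lt (R : Reg p a P) {A B : Subgroup G} (hA : Nat.card A = p) (h1 : A < B) (h2 : B ≤ P) : B = P := by
  have e1 := card_dvd_of_le h2
  have e2 := card_lt_of_lt h1
  rw [R.card] at e1
  obtain ⟨i, hi, e⟩ := (Nat.dvd_prime_pow hp.out).mp e1
  refine eq_of_le_of_card_ge h2 ?_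
  rw [hA, e] at e2
  have : 1 < i := (Nat.pow_lt_pow_iff_right hp.out.one_lt).mp (by simpa using e2)
  rw [R.card, e, show i = 2 by omega]

/-- block data -/
structure Blk (p : ℕ) (a b : Ω) (M P : Subgroup G) (c : G) : Prop where
  hyp : Hyp G Ω p
  hab : a ≠ b
  lt1 : D2 G a b < M
  lt2 : M < stabilizer G a
  reg : Reg p a P
  gen : zpowers c = P ⊓ M
  ord : orderOf c = p

lemma orb_A (hab : a ≠ b) (h1 : D2 G a b < M) (h2 : M < stabilizer G a) (R : Reg p a P) :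
    orb (P ⊓ M) b = orb M b := Set.Subset.antisymm (fun _ ⟨u, hu, e⟩ => ⟨u, hu.2, e⟩) (by
  rintro _ ⟨m, hm, rfl⟩
  obtain ⟨u, hu, e⟩ := R.tr b hab.symm _ (R.ne hab.symm (h2.le hm))
  have : m⁻¹ * u ∈ M := h1.le (mem_inf.mpr ⟨mul_mem (inv_mem (h2.le hm)) (R.syl.le hu), by
    rw [mem_stabilizer_iff, mul_smul, e, inv_smul_smul]⟩)
  exact ⟨u, mem_inf.mpr ⟨hu, (mul_mem_cancel_left (inv_mem hm)).mp this⟩, e⟩)

lemma exists_blk (h : Hyp G Ω p) (hab : a ≠ b) (h1 : D2 G a b < M) (h2 : M < stabilizer G a) (R : Reg p a P) :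
    ∃ c, Blk p a b M P c := by
  have e1 := card_orb (P ⊓ M) b
  rw [orb_A hab h1 h2 R, card_blk h hab h1 h2, show P ⊓ M ⊓ stabilizer G b = ⊥ from eq_bot_iff.mpr fun u hu =>
    R.inj b hab.symm u hu.1.1 1 (one_mem _) (by simpa using hu.2), card_bot, mul_one] at e1
  obtain ⟨x, hx⟩ := exists_prime_orderOf_dvd_card' (G := ↥(P ⊓ M)) p e1.symm.dvd
  rw [← orderOf_coe] at hx
  exact ⟨x, h, hab, h1, h2, R, eq_of_le_of_card_ge (zpowers_le.mpr x.2) (by rw [Nat.card_zpowers, hx, e1]), hx⟩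

/-- kernel on the blocks -/
def KK (a : Ω) (M : Subgroup G) : Subgroup G := ⨅ g : stabilizer G a, cj (g : G) M

lemma mem_KK {k : G} : k ∈ KK a M ↔ ∀ g ∈ stabilizer G a, g⁻¹ * k * g ∈ M := by
  simp [KK, mem_iInf, mem_cj]

lemma KK_le : KK a M ≤ M := fun k hk => by simpa using mem_KK.mp hk 1 (one_mem _)

lemma KK_norm : stabilizer G a ≤ normalizer (KK a M : Set G) := fun g hg => mem_normalizer_fintype fun k hk =>
  mem_KK.mpr fun x hx => by simpa [mul_assoc] using mem_KK.mp hk (g⁻¹ * x) (mul_mem (inv_mem hg) hx)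

namespace Blk
variable (B : Blk p a b M P c)
include B

lemma cp : c ^ p = 1 := B.ord ▸ pow_orderOf_eq_one c
lemma cP : c ∈ P := (B.gen.le (mem_zpowers c)).1
lemma pwP (j : ZMod p) : pw c j ∈ P := pw_mem B.cP j
lemma Ka : KK a M ≤ stabilizer G a := KK_le.trans B.lt2.le
lemma cardA : Nat.card (zpowers c) = p := by rw [Nat.card_zpowers, B.ord]

lemma cK : c ∈ KK a M := mem_KK.mpr fun g hg => by
  obtain ⟨u, hu, e⟩ := B.reg.tr b B.hab.symm _ (B.reg.ne B.hab.symm hg)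
  have h1 : u⁻¹ * g ∈ M := B.lt1.le (mem_inf.mpr ⟨mul_mem (inv_mem (B.reg.syl.le hu)) hg, by
    rw [mem_stabilizer_iff, mul_smul, ← e, inv_smul_smul]⟩)
  have h2 := mul_mem (mul_mem (inv_mem h1) (B.gen.le (mem_zpowers c)).2) h1
  have : (u⁻¹ * g)⁻¹ * c * (u⁻¹ * g) = g⁻¹ * (u * c * u⁻¹) * g := by group
  rwa [this, B.reg.comm u hu c B.cP, mul_inv_cancel_right] at h2

lemma PK : P ⊓ KK a M = zpowers c :=
  le_antisymm (B.gen ▸ inf_le_inf_left _ KK_le) (zpowers_le.mpr (mem_inf.mpr ⟨B.cP, B.cK⟩))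

lemma sylK : SylowIn p (zpowers c) (KK a M) := B.PK ▸ B.reg.syl.inf_of_le KK_norm B.Ka

lemma pt_inj {y : Ω} (hy : y ≠ a) {i j : ZMod p} (h : pw c i • y = pw c j • y) : i = j := by
  have := B.reg.inj y hy _ (B.pwP i) _ (B.pwP j) h
  rw [← sub_add_cancel i j, pw_add B.cp, mul_eq_right] at this
  exact sub_eq_zero.mp (pw_eq_one B.ord this)

lemma pt_add (y : Ω) (i j : ZMod p) : pw c i • pw c j • y = pw c (i + j) • y := by rw [pw_add B.cp, mul_smul]

lemma c_pt (y : Ω) (j : ZMod p) : c • pw c j • y = pw c (1 + j) • y := by rw [← B.pt_add, pw_one]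

lemma pt_ne {y : Ω} (hy : y ≠ a) (j : ZMod p) : pw c j • y ≠ a := B.reg.ne hy (B.reg.syl.le (B.pwP j))

lemma pt_comm {u : G} (hu : u ∈ P) (y : Ω) (j : ZMod p) : u • pw c j • y = pw c j • u • y := by
  rw [← mul_smul, B.reg.comm u hu _ (B.pwP j), mul_smul]

lemma M_blk {m : G} (hm : m ∈ M) : ∃ j : ZMod p, m • b = pw c j • b := by
  obtain ⟨u, hu, e⟩ := (orb_A B.hab B.lt1 B.lt2 B.reg).ge ⟨m, hm, rfl⟩
  obtain ⟨j, rfl⟩ := exists_pw B.cp (B.gen.ge hu)
  exact ⟨j, e.symm⟩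

lemma K_blk {y : Ω} (hy : y ≠ a) {k : G} (hk : k ∈ KK a M) : ∃ j : ZMod p, k • y = pw c j • y := by
  obtain ⟨u, hu, rfl⟩ := B.reg.tr b B.hab.symm y hy
  obtain ⟨j, e⟩ := B.M_blk (mem_KK.mp hk u (B.reg.syl.le hu))
  refine ⟨j, ?_⟩
  rw [← B.pt_comm hu, ← e, mul_smul, mul_smul, smul_inv_smul]

lemma H_blk {y : Ω} (hy : y ≠ a) {g : G} (hg : g ∈ stabilizer G a) (i : ZMod p) :
    ∃ j : ZMod p, g • pw c i • y = pw c j • g • y := by
  obtain ⟨j, e⟩ := B.K_blk (B.reg.ne hy hg) (conj_mem_of_mem_normalizer (KK_norm hg) (pw_mem B.cK i))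
  exact ⟨j, by rw [← e, mul_smul, mul_smul, inv_smul_smul]⟩

lemma dich {y : Ω} (hy : y ≠ a) :
    (∀ k ∈ KK a M, ∃ α β : ZMod p, ∀ j, k • pw c j • y = pw c (α * j + β) • y) ∨
    ∀ i j : ZMod p, i ≠ 0 → j ≠ 0 → ∃ k ∈ KK a M, k • y = y ∧ k • pw c i • y = pw c j • y := by
  haveI := Fintype.ofFinite (orbit (KK a M) y)
  let e : ZMod p ≃ orbit (KK a M) y := Equiv.ofBijective (fun j => ⟨pw c j • y, ⟨pw c j, pw_mem B.cK j⟩, rfl⟩)
    ⟨fun i j h => B.pt_inj hy (congrArg Subtype.val h), fun ⟨_, k, rfl⟩ =>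
      (B.K_blk hy k.2).imp fun j hj => Subtype.ext hj.symm⟩
  have hc : ∀ j, (⟨c, B.cK⟩ : KK a M) • e j = e (j + 1) := fun j => Subtype.ext (by
    change c • pw c j • y = pw c (j + 1) • y
    rw [add_comm, ← B.pt_add, pw_one])
  refine (Perm.affine_or_two_transitive hc).imp (fun h k hk => ?_) fun h i j hi hj => ?_
  · obtain ⟨α, β, h⟩ := h ⟨k, hk⟩
    exact ⟨α, β, fun j => congrArg Subtype.val (h j)⟩
  · obtain ⟨k, e1, e2⟩ := is_two_pretransitive_iff.mp h (e.injective.ne hi.symm) (e.injective.ne hj.symm)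
    have e3 : (k : G) • pw c (0 : ZMod p) • y = pw c (0 : ZMod p) • y := congrArg Subtype.val e1
    rw [pw_zero, one_smul] at e3
    exact ⟨k, k.2, e3, congrArg Subtype.val e2⟩

lemma norm_of_aff (h : ∀ y, y ≠ a → ∀ k ∈ KK a M, ∃ α β : ZMod p, ∀ j, k • pw c j • y = pw c (α * j + β) • y) :
    stabilizer G a ≤ normalizer (zpowers c : Set G) := by
  have h1 : KK a M ≤ normalizer (zpowers c : Set G) := fun k hk => by
    have hk' := conj_mem_of_mem_normalizer (le_normalizer hk) B.cK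
    have h2 : k * c * k⁻¹ * c = c * (k * c * k⁻¹) := eq_of_smul_eq_smul fun (y : Ω) => by
      by_cases hy : y = a
      · rw [hy, B.Ka (mul_mem hk' B.cK), B.Ka (mul_mem B.cK hk')]
      obtain ⟨α, β, e⟩ := h y hy k hk
      have hα : α ≠ 0 := by
        rintro rfl
        exact one_ne_zero (B.pt_inj hy (smul_left_cancel k ((e 1).trans (by rw [e 0]; simp))))
      have e1 : ∀ j : ZMod p, (k * c * k⁻¹) • pw c j • y = pw c (j + α) • y := fun j => by
        have : k⁻¹ • pw c j • y = pw c ((j - β) / α) • y := by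
          rw [inv_smul_eq_iff, e]; congr 2; field_simp; ring
        rw [mul_smul, mul_smul, this, B.c_pt, e]
        congr 2; field_simp; ring
      have e2 := e1 0
      have e3 := e1 1
      rw [pw_zero, one_smul] at e2
      rw [pw_one] at e3
      rw [mul_smul, e3, mul_smul c, e2, zero_add, ← B.pt_add, pw_one]
    refine mem_normalizer_of_cj_le (cj_zpowers_le.mpr (zpowers_le.mp (B.sylK.le_of_normalizes ?_
      (zpowers_le.mpr hk') (zpowers_le.mpr ?_))))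
    · exact IsPGroup.of_card (n := 1) (by rw [Nat.card_zpowers, (SemiconjBy.orderOf_eq k (x := c) (by
        simp [SemiconjBy])).symm, B.ord, pow_one])
    · exact mem_normalizer_of_cj_le (cj_zpowers_le.mpr (by rw [h2, mul_inv_cancel_right]; exact mem_zpowers c))
  intro g hg
  have h2 : cj g (zpowers c) ≤ KK a M := (cj_mono g B.sylK.le).trans (cj_eq_of_mem_normalizer (KK_norm hg)).le
  exact mem_normalizer_of_cj_le (B.sylK.le_of_normalizes (isPGroup_cj g (sylowIn_iff.mp B.sylK).2.1) h2 (h2.trans h1))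

lemma coord {x : G} (hx : x ∈ P) (hxA : x ∉ zpowers c) {v : G} (hv : v ∈ P) :
    ∃ (j : ZMod p) (i : ℕ), v = pw c j * x ^ i := by
  have h1 := B.reg.eq_of_lt B.cardA (B := zpowers c ⊔ zpowers x) (lt_of_le_of_ne le_sup_left fun e =>
    hxA (e.ge (mem_sup_right (mem_zpowers x)))) (sup_le (zpowers_le.mpr B.cP) (zpowers_le.mpr hx))
  have h2 := h1.ge hv
  rw [← SetLike.mem_coe, coe_mul_of_right_le_normalizer_left _ _ (zpowers_le.mpr (mem_normalizer_of_cj_le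
    (cj_zpowers_le.mpr (by rw [B.reg.comm x hx c B.cP, mul_inv_cancel_right]; exact mem_zpowers c))))] at h2
  obtain ⟨s, hs, t, ht, rfl⟩ := h2
  obtain ⟨j, rfl⟩ := exists_pw B.cp hs
  obtain ⟨i, rfl⟩ := mem_powers_iff_mem_zpowers.mpr ht
  exact ⟨j, i, rfl⟩

lemma powA {x : G} (hx : x ∈ P) : x ^ p ∈ zpowers c := by
  have h1 := card_mul_relIndex (zpowers_le.mpr B.cP)
  rw [B.cardA, B.reg.card, pow_two] at h1
  have := pow_relIndex_mem' (K := zpowers c) (fun y hy => mem_normalizer_of_cj_le (cj_zpowers_le.mpr (by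
    rw [B.reg.comm y hy c B.cP, mul_inv_cancel_right]; exact mem_zpowers c))) hx
  rwa [Nat.eq_of_mul_eq_mul_left hp.out.pos h1] at this

lemma orbA (y : Ω) : orb (zpowers c) y = Set.range fun j : ZMod p => pw c j • y := Set.ext fun _ =>
  ⟨fun ⟨u, hu, e⟩ => (exists_pw B.cp hu).imp fun j hj => by rw [← e, hj], fun ⟨j, e⟩ => ⟨_, pw_mem (mem_zpowers c) j, e⟩⟩

lemma ncardA {y : Ω} (hy : y ≠ a) : (orb (zpowers c) y).ncard = p := by
  rw [B.orbA, Set.ncard_range_of_injective fun i j h => B.pt_inj hy h, Nat.card_zmod]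

lemma line {g : G} (hg : ∀ y ∈ insert a (orb (zpowers c) b), g • y ∈ insert a (orb (zpowers c) b)) : g • a = a :=
  line_fix B.hyp B.hab (zpowers_le.mpr (B.reg.syl.le B.cP)) (B.ncardA B.hab.symm) (by
    rw [B.gen, orb_A B.hab B.lt1 B.lt2 B.reg]
    rintro d hd _ ⟨m, hm, rfl⟩
    exact ⟨d * m, mul_mem (B.lt1.le hd) hm, mul_smul _ _ _⟩) hg

end Blk

end Cfsg.Lib.Layer.Atk
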