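import Cfsg.Agent.Lib.Layer.Atk3

set_option autoImplicit false
set_option linter.unusedSectionVars false

open Subgroup MulAction Cfsg.Lib.Transfer
open scoped commutatorElement Pointwise

namespace Cfsg.Lib.Layer.Atk

variable {G Ω : Type*} [Group G] [Finite G] [MulAction G Ω] [FaithfulSMul G Ω] [Finite Ω] {p : ℕ} [hp : Fact p.Prime]
variable {a b : Ω} {M P : Subgroup G} {c : G}

/-- double transitivity on all blocks -/
def TT (p : ℕ) (a : Ω) (M : Subgroup G) (c : G) : Prop := ∀ y, y ≠ a →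
  ∀ i j : ZMod p, i ≠ 0 → j ≠ 0 → ∃ k ∈ KK a M, k • y = y ∧ k • pw c i • y = pw c j • y

namespace Blk
variable (B : Blk p a b M P c)
include B

lemma tt_or : TT p a M c ∨ stabilizer G a ≤ normalizer (zpowers c : Set G) := by
  by_cases h : ∃ y, y ≠ a ∧ ∀ i j : ZMod p, i ≠ 0 → j ≠ 0 → ∃ k ∈ KK a M, k • y = y ∧ k • pw c i • y = pw c j • y
  · obtain ⟨y, hy, h⟩ := h
    refine Or.inl fun z hz i j hi hj => ?_
    obtain ⟨u, hu, rfl⟩ := B.reg.tr y hy z hz
    obtain ⟨k, hk, e1, e2⟩ := h i j hi hj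
    exact ⟨u * k * u⁻¹, conj_mem_of_mem_normalizer (KK_norm (B.reg.syl.le hu)) hk, by simp [mul_smul, e1], by
      rw [← B.pt_comm hu, ← B.pt_comm hu, mul_smul, mul_smul, inv_smul_smul, e2]⟩
  · exact Or.inr (B.norm_of_aff fun y hy => (B.dich hy).resolve_right fun h' => h ⟨y, hy, h'⟩)

lemma R_ne (hp2 : p ≠ 2) (ht : TT p a M c) {y : Ω} (hy : y ≠ a) : KK a M ⊓ stabilizer G y ≠ ⊥ := fun e => by
  have h2 : (2 : ZMod p) ≠ 0 := fun h => hp2 ((Nat.prime_dvd_prime_iff_eq hp.out Nat.prime_two).mp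
    ((ZMod.natCast_eq_zero_iff 2 p).mp h))
  obtain ⟨k, hk, e1, e2⟩ := ht y hy 1 2 one_ne_zero h2
  rw [mem_bot.mp (e.le (mem_inf.mpr ⟨hk, e1⟩)), one_smul] at e2
  have := B.pt_inj hy e2
  exact one_ne_zero (α := ZMod p) (by linear_combination -this)

lemma R_cj {u : G} (hu : u ∈ P) (y : Ω) : cj u (KK a M ⊓ stabilizer G y) = KK a M ⊓ stabilizer G (u • y) := by
  rw [cj_inf, cj_eq_of_mem_normalizer (KK_norm (B.reg.syl.le hu))]
  congr 1
  ext g
  rw [mem_cj, mem_stabilizer_iff, mem_stabilizer_iff, mul_smul, mul_smul, inv_smul_eq_iff]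

lemma caseIa (hp2 : p ≠ 2) (ht : TT p a M c) {z : Ω} (hz : z ≠ a) (hzb : z ∉ orb (zpowers c) b)
    (hR : KK a M ⊓ stabilizer G b ≤ stabilizer G z) : False := by
  have hb := B.hab.symm
  obtain ⟨x, hx, rfl⟩ := B.reg.tr b hb z hz
  set R := KK a M ⊓ stabilizer G b with hRd
  have h1 : cj x R = R := (eq_of_le_of_card_ge (by rw [B.R_cj hx]; exact le_inf inf_le_left hR)
    (card_cj x R).le).symm
  have h2 : ∀ i : ℕ, KK a M ⊓ stabilizer G (x ^ i • b) = R := fun i => by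
    rw [← B.R_cj (pow_mem hx i), cj_eq_of_mem_normalizer (pow_mem (cj_eq_iff.mp h1) i)]
  have hxA : x ∉ zpowers c := fun h => hzb ⟨x, h, rfl⟩
  have hne : ∀ i : ℕ, x ^ i • b ≠ a := fun i => B.reg.ne hb (B.reg.syl.le (pow_mem hx i))
  have hco : ∀ w, w ≠ a → ∃ (j : ZMod p) (i : ℕ), w = pw c j • x ^ i • b := fun w hw => by
    obtain ⟨v, hv, rfl⟩ := B.reg.tr b hb w hw
    obtain ⟨j, i, rfl⟩ := B.coord hx hxA hv
    exact ⟨j, i, mul_smul _ _ _⟩
  have hxp : x ^ p = 1 := by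
    obtain ⟨j, hj⟩ := exists_pw B.cp (B.powA hx)
    by_contra h
    have hj0 : j ≠ 0 := by rintro rfl; exact h (hj.trans (pw_zero c))
    refine B.R_ne hp2 ht hb (eq_bot_iff.mpr fun k hk => mem_bot.mpr (B.reg.eq_one (B.Ka hk.1) fun w hw => ?_))
    obtain ⟨j', i, rfl⟩ := hco w hw
    have : pw c j' = x ^ (p * (j' / j).val) := by rw [pow_mul, hj, ← pw_mul B.cp, mul_div_cancel₀ _ hj0]
    rw [this, ← mul_smul (x ^ _) (x ^ i), ← pow_add]
    exact ((h2 _).ge hk).2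
  have hxo : orderOf x = p := orderOf_eq_prime hxp fun e => hxA (e ▸ one_mem _)
  obtain ⟨t, t1, t2⟩ := B.hyp.two B.hab hb
  set Γ : Set Ω := t • (orb (zpowers c) b \ {b}) with hΓ
  have hΓc : Γ.ncard + 1 = p := by
    rw [hΓ, Set.ncard_smul_set, Set.ncard_sdiff_singleton_add_one (mem_orb_self _ _), B.ncardA hb]
  have hΓa : a ∉ Γ := fun ⟨w, hw, e⟩ => hw.2 (smul_left_cancel t (e.trans t2.symm))
  have hΓb : b ∉ Γ := fun ⟨w, hw, e⟩ => by
    obtain ⟨j, rfl⟩ := (B.orbA b).le hw.1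
    exact B.pt_ne hb j (smul_left_cancel t (e.trans t1.symm))
  have hΓD : ∀ d ∈ D2 G a b, ∀ w ∈ Γ, d • w ∈ Γ := by
    rintro d hd _ ⟨w, hw, rfl⟩
    have e1 : t⁻¹ * d * t ∈ D2 G a b := mem_inf.mpr ⟨by
      rw [mem_stabilizer_iff, mul_smul, mul_smul, t1, hd.2, inv_smul_eq_iff, t1], by
      rw [mem_stabilizer_iff, mul_smul, mul_smul, t2, hd.1, inv_smul_eq_iff, t2]⟩
    refine ⟨(t⁻¹ * d * t) • w, ⟨?_, fun e => hw.2 (smul_left_cancel _ (e.trans e1.2.symm))⟩, by simp [mul_smul]⟩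
    have := hw.1
    rw [B.gen, orb_A B.hab B.lt1 B.lt2 B.reg] at this ⊢
    obtain ⟨m, hm, rfl⟩ := this
    exact ⟨_, mul_mem (B.lt1.le e1) hm, mul_smul _ _ _⟩
  have hL : ∀ y, y ∈ insert a (orb (zpowers c) b) ↔ t • y ∈ insert a (insert b Γ) := fun y => by
    constructor
    · rintro (rfl | hy)
      · exact Or.inr (Or.inl t1)
      · by_cases e : y = b
        · exact Or.inl (e ▸ t2)
        · exact Or.inr (Or.inr ⟨y, ⟨hy, e⟩, rfl⟩)
    · rintro (e | e | ⟨w, hw, e⟩)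
      · exact Or.inr (smul_left_cancel t (e.trans t2.symm) ▸ mem_orb_self _ _)
      · exact Or.inl (smul_left_cancel t (e.trans t1.symm))
      · exact Or.inr (smul_left_cancel t e ▸ hw.1)
  have hRD : R ≤ D2 G a b := inf_le_inf_right _ B.Ka
  by_cases h : ∀ w ∈ Γ, w ∈ orb (zpowers x) b
  · have e1 : insert b Γ = orb (zpowers x) b := Set.eq_of_subset_of_ncard_le
      (Set.insert_subset (mem_orb_self _ _) h) (by
        rw [Set.ncard_insert_of_notMem hΓb, hΓc, ← hxo, ← Nat.card_zpowers]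
        exact Nat.le_of_dvd Nat.card_pos (Dvd.intro _ (card_orb _ b).symm))
    have e2 := B.line (g := t⁻¹ * x * t) fun y hy => by
      rw [hL, e1] at hy ⊢
      rw [mul_smul, mul_smul, smul_inv_smul]
      rcases hy with e | ⟨u, hu, e⟩
      · exact Or.inl (e ▸ B.reg.syl.le hx)
      · exact Or.inr ⟨x * u, mul_mem (mem_zpowers x) hu, by rw [mul_smul, e]⟩
    rw [mul_smul, mul_smul, inv_smul_eq_iff, t1] at e2
    exact hzb (e2.symm ▸ mem_orb_self _ _)
  push Not at h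
  obtain ⟨w, hw, hw'⟩ := h
  obtain ⟨j, i, rfl⟩ := hco w fun e => hΓa (e ▸ hw)
  have hj : j ≠ 0 := by
    rintro rfl
    exact hw' ⟨x ^ i, pow_mem (mem_zpowers x) i, by rw [pw_zero, one_smul]⟩
  have e1 : orb (zpowers c) (x ^ i • b) \ {x ^ i • b} = Γ := Set.eq_of_subset_of_ncard_le (by
    rintro y ⟨hy, hy'⟩
    obtain ⟨j', rfl⟩ := (B.orbA _).le hy
    obtain ⟨k, hk, k1, k2⟩ := ht _ (hne i) j j' hj (by rintro rfl; exact hy' (by simp [pw_zero]))
    have := hΓD k (hRD ((h2 i).le (mem_inf.mpr ⟨hk, k1⟩))) _ hw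
    rwa [k2] at this) (by
    have := Set.ncard_sdiff_singleton_add_one (mem_orb_self (zpowers c) (x ^ i • b))
    rw [B.ncardA (hne i)] at this; omega)
  by_cases hi : x ^ i • b = b
  · rw [hi] at e1
    have := B.line (g := t) fun y hy => by
      rcases (hL y).mp hy with e | e | e
      · exact Or.inl e
      · exact Or.inr (e ▸ mem_orb_self _ _)
      · exact Or.inr (e1.ge e).1
    exact B.hab (this.symm.trans t1)
  refine B.R_ne hp2 ht hb (eq_bot_iff.mpr (hRD.trans (fixD B.hyp B.hab (hne i) hi fun d hd => ?_).le))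
  by_contra hd'
  obtain ⟨j1, f1⟩ := B.H_blk (hne i) hd.1 j
  obtain ⟨j2, f2⟩ := (B.orbA _).le (e1.ge (hΓD d hd _ hw)).1
  have f3 : d • x ^ i • b ∈ Γ := e1.le ⟨(B.orbA _).ge ⟨-j1 + j2, by
    simp only at f2 ⊢
    rw [← B.pt_add, f2, f1, B.pt_add, neg_add_cancel, pw_zero, one_smul]⟩, hd'⟩
  have := hΓD d⁻¹ (inv_mem hd) _ f3
  rw [inv_smul_smul] at this
  exact (e1.ge this).2 rfl

lemma caseIb (hp2 : p ≠ 2) (ht : TT p a M c)
    (hR : ∀ z, z ≠ a → z ∉ orb (zpowers c) b → ¬ KK a M ⊓ stabilizer G b ≤ stabilizer G z) : False := by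
  classical
  have hb := B.hab.symm
  have hPK : P ≤ normalizer (KK a M : Set G) := B.reg.syl.le.trans KK_norm
  have hY : ∀ y ∈ KK a M ⊔ P, ∃ k ∈ KK a M, ∃ u ∈ P, y = k * u := fun y hy => by
    rw [← SetLike.mem_coe, coe_mul_of_right_le_normalizer_left _ _ hPK] at hy
    obtain ⟨k, hk, u, hu, e⟩ := hy
    exact ⟨k, hk, u, hu, e.symm⟩
  have hS : SylowIn p P (KK a M ⊔ P) := B.reg.syl.mono le_sup_right (sup_le B.Ka B.reg.syl.le)
  obtain ⟨e, heK, heN, heC⟩ : ∃ e ∈ KK a M, e ∈ normalizer (P : Set G) ∧ e ∉ centralizer (P : Set G) := by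
    by_contra h
    push Not at h
    have h1 := hS.pnil_of_normalizer_le_centralizer fun y hy => by
      obtain ⟨k, hk, u, hu, rfl⟩ := hY y hy.1
      exact mul_mem (h k hk ((mul_mem_cancel_right (le_normalizer hu)).mp hy.2)) fun v hv => B.reg.comm v hv u hu
    have h2 := hS.resOf_sup
    rw [B.reg.bot ((resOf_le _).trans (sup_le B.Ka B.reg.syl.le)) (le_sup_right.trans (le_normalizer_resOf _)) h1,
      bot_sup_eq] at h2
    exact B.R_ne hp2 ht hb (eq_bot_iff.mpr fun k hk => B.reg.inj b hb k (h2.ge (mem_sup_left hk.1)) 1 (one_mem _)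
      (by simpa using hk.2))
  obtain ⟨ε, hε⟩ := exists_pw B.cp (B.PK.le (mem_inf.mpr ⟨conj_mem_of_mem_normalizer heN B.cP,
    conj_mem_of_mem_normalizer (le_normalizer heK) B.cK⟩))
  have haf : ∀ (y : Ω) (j : ZMod p), e • pw c j • y = pw c (ε * j) • e • y := fun y j => by
    rw [← pw_conj B.cp hε, mul_smul, mul_smul, inv_smul_smul]
  have hε0 : ε ≠ 0 := by
    rintro rfl
    rw [pw_zero, conj_eq_one_iff] at hε
    exact hp.out.ne_one (by rw [← B.ord, hε, orderOf_one])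
  have hε1 : ε ≠ 1 := by
    rintro rfl
    have h1 : e ^ p = 1 := B.reg.eq_one (B.Ka (pow_mem heK p)) fun y hy => by
      obtain ⟨β, hβ⟩ := B.K_blk hy heK
      have : ∀ n : ℕ, e ^ n • y = pw c ((n : ZMod p) * β) • y := fun n => by
        induction n with
        | zero => simp [pw_zero]
        | succ n ih => rw [pow_succ', mul_smul, ih, haf, hβ, B.pt_add]; congr 2; push_cast; ring
      simpa [pw_zero] using this p
    rw [pw_one] at hε
    have h2 := B.sylK.le_of_normalizes (Q := zpowers e) (IsPGroup.of_card_dvd_pow (n := 1) (by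
      rw [Nat.card_zpowers, pow_one]; exact orderOf_dvd_of_pow_eq_one h1)) (zpowers_le.mpr heK)
      (zpowers_le.mpr (mem_normalizer_of_cj_le (cj_zpowers_le.mpr (hε.symm ▸ mem_zpowers c))))
    exact heC fun v hv => B.reg.comm v hv e (zpowers_le.mpr B.cP (h2 (mem_zpowers e)))
  have hε2 : 1 - ε ≠ 0 := sub_ne_zero.mpr hε1.symm
  obtain ⟨β, hβ⟩ := B.K_blk hb heK
  set y := pw c (β / (1 - ε)) • b with hy
  have hya : y ≠ a := B.pt_ne hb _
  have hey : e • y = y := by rw [hy, haf, hβ, B.pt_add]; congr 2; field_simp; ring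
  obtain ⟨u, hu, huA⟩ := SetLike.exists_of_lt (lt_of_le_of_ne (zpowers_le.mpr B.cP) fun h => by
    have := B.cardA
    rw [h, B.reg.card, pow_two] at this
    exact hp.out.ne_one ((Nat.mul_eq_left hp.out.ne_zero).mp this))
  obtain ⟨γ, hγ⟩ := exists_pw B.cp (B.PK.le (mem_inf.mpr ⟨mul_mem (conj_mem_of_mem_normalizer heN hu) (inv_mem hu),
    (by simpa [mul_assoc] using mul_mem heK (conj_mem_of_mem_normalizer (hPK hu) (inv_mem heK)) :
      e * u * e⁻¹ * u⁻¹ ∈ KK a M)⟩))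
  set x := pw c (γ / (1 - ε)) * u with hxd
  have hx : x ∈ P := mul_mem (B.pwP _) hu
  have hxA : x ∉ zpowers c := fun h => huA ((mul_mem_cancel_left (pw_mem (mem_zpowers c) _)).mp h)
  have hex : e * x * e⁻¹ = x := by
    have : e * x * e⁻¹ = e * pw c (γ / (1 - ε)) * e⁻¹ * (e * u * e⁻¹ * u⁻¹) * u := by rw [hxd]; group
    rw [this, pw_conj B.cp hε, hγ, ← pw_add B.cp, hxd]; congr 2; field_simp; ring
  have hxp : x ^ p = 1 := by
    obtain ⟨i, hi⟩ := exists_pw B.cp (B.powA hx)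
    have h1 := pw_conj B.cp hε i
    rw [← hi, ← conj_pow, hex, hi] at h1
    have h2 := B.pt_inj hb (congrArg (· • b) h1)
    rw [hi, show i = 0 from (mul_eq_zero.mp (show (1 - ε) * i = 0 by linear_combination h2)).resolve_left hε2, pw_zero]
  let U : ZMod p × ZMod p → G := fun v => pw c v.1 * pw x v.2
  have hU : ∀ v, U v ∈ P := fun v => mul_mem (B.pwP _) (pw_mem hx _)
  have hUa : ∀ v w, U (v + w) = U v * U w := fun v w => by
    simp only [U, Prod.fst_add, Prod.snd_add, pw_add B.cp, pw_add hxp, mul_assoc]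
    rw [← mul_assoc (pw x v.2), ← B.reg.comm _ (B.pwP _) _ (pw_mem hx _), mul_assoc]
  have hUs : ∀ v ∈ P, ∃ w, v = U w := fun v hv => by
    obtain ⟨j, i, rfl⟩ := B.coord hx hxA hv
    exact ⟨(j, i), by simp only [U, pw_nat hxp]⟩
  have hUi : Function.Injective fun v => U v • y := fun v w h => by
    have h1 : Function.Surjective fun v => (⟨U v, hU v⟩ : P) := fun ⟨v, hv⟩ => (hUs v hv).imp fun w e => Subtype.ext e.symm
    exact ((Nat.bijective_iff_surjective_and_card _).mpr ⟨h1, by simp [B.reg.card, pow_two]⟩).1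
      (Subtype.ext (B.reg.inj y hya _ (hU v) _ (hU w) h))
  have hU0 : ∀ s, U (s, 0) = pw c s := fun s => by simp [U, pw_zero]
  have hU1 : ∀ s, U (s, 1) = pw c s * x := fun s => by simp [U, pw_one]
  have hxy : x • y ≠ a := B.reg.ne hya (B.reg.syl.le hx)
  set T : Finset (ZMod p) := Finset.univ.filter fun s => ∃ k ∈ KK a M, k • y = y ∧ k • x • y = pw c s • x • y
  have mT : ∀ {s}, s ∈ T ↔ ∃ k ∈ KK a M, k • y = y ∧ k • x • y = pw c s • x • y := by simp [T]
  have hN : ∀ v w : ZMod p × ZMod p, (w.2 = v.2 + 1 ∧ w.1 - v.1 ∈ T) ↔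
      ∃ g ∈ KK a M ⊔ P, g • y = U v • y ∧ g • x • y = U w • y := fun v w => by
    constructor
    · rintro ⟨h1, h2⟩
      obtain ⟨k, hk, k1, k2⟩ := mT.mp h2
      refine ⟨U v * k, mul_mem (mem_sup_right (hU v)) (mem_sup_left hk), by rw [mul_smul, k1], ?_⟩
      rw [mul_smul, k2, ← mul_smul (pw c _), ← hU1, ← mul_smul, ← hUa]
      congr 2; ext <;> simp [h1]
    · rintro ⟨g, hg, g1, g2⟩
      obtain ⟨k, hk, v', hv', e1⟩ := hY _ (mul_mem (inv_mem (mem_sup_right (hU v))) hg)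
      have e2 : (k * v') • y = y := by rw [← e1, mul_smul, g1, inv_smul_smul]
      obtain ⟨j, hj⟩ := B.K_blk hya (inv_mem hk)
      have e3 : k * v' ∈ KK a M := mul_mem hk (by
        rw [B.reg.inj y hya v' hv' _ (B.pwP j) (by rw [← hj, eq_inv_smul_iff, ← mul_smul, e2])]
        exact pw_mem B.cK j)
      obtain ⟨s, hs⟩ := B.K_blk hxy e3
      have e4 : w = v + (s, 1) := hUi (by
        change U w • y = U (v + (s, 1)) • y
        rw [hUa, mul_smul (U v), hU1, mul_smul (pw c s), ← hs, ← e1, mul_smul (U v)⁻¹, smul_inv_smul, g2])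
      rw [e4]
      exact ⟨rfl, by simpa using mT.mpr ⟨_, e3, e2, hs⟩⟩
  obtain ⟨d, hd, hd0⟩ : ∃ d ∈ T, d ≠ 0 := by
    by_contra h
    push Not at h
    refine hR (x • b) (B.reg.ne hb (B.reg.syl.le hx)) (fun ⟨v, hv, e⟩ => hxA
      (B.reg.inj b hb _ (zpowers_le.mpr B.cP hv) _ hx e ▸ hv)) fun k hk => ?_
    have h1 : cj (pw c (β / (1 - ε))) (KK a M ⊓ stabilizer G b) = KK a M ⊓ stabilizer G y := B.R_cj (B.pwP _) b
    have h2 := h1.le (conj_mem_cj.mpr hk)
    obtain ⟨s, hs⟩ := B.K_blk hxy h2.1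
    rw [h s (mT.mpr ⟨_, h2.1, h2.2, hs⟩), pw_zero, one_smul, hy, B.pt_comm hx, mul_smul, mul_smul, inv_smul_smul] at hs
    exact smul_left_cancel _ hs
  have hexy : e • x • y = x • y := by
    rw [← mul_smul, mul_inv_eq_iff_eq_mul.mp hex, mul_smul, hey]
  have hall := lemC T (mT.mpr ⟨1, one_mem _, one_smul _ _, by simp [pw_zero]⟩) hd hd0 hε1 hε0 (fun s hs => by
    obtain ⟨k, hk, k1, k2⟩ := mT.mp hs
    exact mT.mpr ⟨e * k, mul_mem heK hk, by rw [mul_smul, k1, hey], by rw [mul_smul, k2, haf, hexy]⟩) fun s hs => by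
    obtain ⟨k, hk, k1, k2⟩ := ht y hya 1 s one_ne_zero hs
    have h1 : ∀ v, ∃ w, U w • y = k • U v • y := fun v => by
      obtain ⟨v', hv', e⟩ := B.reg.tr y hya _ (B.reg.ne (B.reg.ne hya (B.reg.syl.le (hU v))) (B.Ka hk))
      obtain ⟨w, rfl⟩ := hUs v' hv'
      exact ⟨w, e⟩
    choose σ hσ using h1
    refine ⟨Equiv.ofBijective σ (Finite.injective_iff_bijective.mp fun v w h =>
      hUi (smul_left_cancel k (by rw [← hσ, ← hσ, h]))), hUi ?_, hUi ?_, fun v w => ?_⟩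
    · simp only [Equiv.ofBijective_apply, hσ]
      rw [show U 0 = 1 from (hU0 0).trans (pw_zero c), one_smul, k1]
    · simp only [Equiv.ofBijective_apply, hσ, hU0, k2]
    · simp only [Equiv.ofBijective_apply, hN, hσ]
      exact ⟨fun ⟨g, hg, g1, g2⟩ => ⟨k⁻¹ * g, mul_mem (inv_mem (mem_sup_left hk)) hg, by
        rw [mul_smul, g1, inv_smul_smul], by rw [mul_smul, g2, inv_smul_smul]⟩, fun ⟨g, hg, g1, g2⟩ =>
        ⟨k * g, mul_mem (mem_sup_left hk) hg, by rw [mul_smul, g1], by rw [mul_smul, g2]⟩⟩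
  have h1 : orb (KK a M ⊓ stabilizer G y) (x • y) = orb (zpowers c) (x • y) := by
    rw [B.orbA]
    refine Set.Subset.antisymm ?_ ?_
    · rintro _ ⟨k, hk, rfl⟩; exact (B.K_blk hxy hk.1).imp fun j hj => hj.symm
    · rintro _ ⟨s, rfl⟩
      obtain ⟨k, hk, k1, k2⟩ := mT.mp (hall s)
      exact ⟨k, mem_inf.mpr ⟨hk, k1⟩, k2⟩
  refine B.reg.nd a y hya.symm (Dvd.dvd.trans ?_ (card_dvd_of_le (inf_le_inf_right _ B.Ka)))
  rw [card_orb _ (x • y), h1, B.ncardA hxy]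
  exact Dvd.intro _ rfl

lemma normA (hp2 : p ≠ 2) : stabilizer G a ≤ normalizer (zpowers c : Set G) := B.tt_or.resolve_left fun ht =>
  B.caseIb hp2 ht fun _ h1 h2 h3 => B.caseIa hp2 ht h1 h2 h3

lemma normP (hp2 : p ≠ 2) : stabilizer G a ≤ normalizer (P : Set G) := by
  have hb := B.hab.symm
  have hA := B.normA hp2
  set C := stabilizer G a ⊓ centralizer (zpowers c : Set G) with hC
  have hPC : P ≤ C := le_inf B.reg.syl.le fun u hu v hv => B.reg.comm v (zpowers_le.mpr B.cP hv) u hu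
  have hS : SylowIn p P C := B.reg.syl.mono hPC inf_le_left
  have hCn : ∀ g ∈ stabilizer G a, cj g C = C := fun g hg => by
    rw [hC, cj_inf, cj_eq_of_mem hg, cj_centralizer, cj_eq_of_mem_normalizer (hA hg)]
  have hJn : stabilizer G a ≤ normalizer ((⁅C, C⁆ : Subgroup G) : Set G) := fun g hg =>
    cj_eq_iff.mp (by rw [cj_commutator, hCn g hg])
  have hJa : ⁅C, C⁆ ≤ stabilizer G a := (commutator_le_self C).trans inf_le_left
  by_cases hJ : ⁅C, C⁆ = ⊥
  · intro g hg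
    have h1 : cj g P ≤ C := (cj_mono g hPC).trans (hCn g hg).le
    exact mem_normalizer_of_cj_le (hS.le_of_normalizes (isPGroup_cj g (sylowIn_iff.mp hS).2.1) h1 fun x hx =>
      mem_normalizer_fintype fun u hu => by
        rw [← commutator_eq_bot_iff_le_centralizer.mp hJ (h1 hx) u (hPC hu), mul_inv_cancel_right]; exact hu)
  have hT : ∀ z ∈ zpowers c, z ∈ ⁅C, C⁆ → z = 1 := fun z hz hz' =>
    lemT hS B.reg.comm (zpowers_le.mpr B.cP hz) (fun g hg => (hg.2 z hz).symm) hz'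
  have hS' := B.reg.syl.inf_of_le hJn hJa
  have hd : p ∣ Nat.card (⁅C, C⁆ : Subgroup G) := by_contra fun h => hJ (B.reg.bot hJa (B.reg.syl.le.trans hJn) h)
  have h1 : D2 G a b < ⁅C, C⁆ ⊔ D2 G a b := lt_of_le_of_ne le_sup_right fun e =>
    B.reg.nd a b B.hab (hd.trans (card_dvd_of_le (e ▸ le_sup_left)))
  have h2 : ⁅C, C⁆ ⊔ D2 G a b < stabilizer G a := lt_of_le_of_ne (sup_le hJa inf_le_left) fun e => by
    have e1 : orb ⁅C, C⁆ b = {a}ᶜ := Set.Subset.antisymm (by rintro _ ⟨g, hg, rfl⟩; exact B.reg.ne hb (hJa hg))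
      fun w hw => by
        obtain ⟨u, hu, rfl⟩ := B.reg.tr b hb w hw
        have := e.ge (B.reg.syl.le hu)
        rw [← SetLike.mem_coe, coe_mul_of_right_le_normalizer_left _ _ (inf_le_left.trans hJn)] at this
        obtain ⟨j, hj, d, hd, rfl⟩ := this
        exact ⟨j, hj, by rw [mul_smul, hd.2]⟩
    have e2 : p ^ 2 ∣ Nat.card (⁅C, C⁆ : Subgroup G) := by
      rw [card_orb _ b, e1, ncard_compl B.hyp]; exact Dvd.intro _ rfl
    have e3 : P ⊓ ⁅C, C⁆ = P := eq_of_le_of_card_ge inf_le_left (by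
      rw [hS'.card_eq_pow, B.reg.card]
      exact Nat.pow_le_pow_right hp.out.pos ((hp.out.pow_dvd_iff_le_factorization Nat.card_pos.ne').mp e2))
    exact hp.out.ne_one (by rw [← B.ord, hT c (mem_zpowers c) (e3.ge B.cP).2, orderOf_one])
  obtain ⟨c', B'⟩ := exists_blk B.hyp B.hab h1 h2 B.reg
  obtain ⟨v, hv, hv1⟩ := (bot_or_exists_ne_one _).resolve_left (hS'.eq_bot_iff.not.mpr (not_not.mpr hd))
  have h3 := B.reg.eq_of_lt B.cardA (B := zpowers c ⊔ zpowers c') (lt_of_le_of_ne le_sup_left fun e =>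
    hv1 (hT v (e.ge (mem_sup_right (B'.gen.ge (mem_inf.mpr ⟨hv.1, mem_sup_left hv.2⟩)))) hv.2))
    (sup_le (zpowers_le.mpr B.cP) (zpowers_le.mpr B'.cP))
  intro g hg
  rw [← cj_eq_iff, ← h3, cj_sup, cj_eq_of_mem_normalizer (hA hg), cj_eq_of_mem_normalizer (B'.normA hp2 hg)]

end Blk

end Cfsg.Lib.Layer.Atk
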