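import Cfsg.Agent.Lib.Layer.Atk4
import Cfsg.Agent.Lib.Linear.Card
import Cfsg.Agent.S0731

set_option autoImplicit false
set_option linter.unusedSectionVars false

open Subgroup MulAction Cfsg.Lib.Transfer
open scoped commutatorElement Pointwise

namespace Cfsg.Lib.Layer.Atk

variable {G Ω : Type*} [Group G] [Finite G] [MulAction G Ω] [FaithfulSMul G Ω] [Finite Ω] {p : ℕ} [hp : Fact p.Prime]
variable {a b : Ω} {M P : Subgroup G} {c : G}

namespace Blk
variable (B : Blk p a b M P c)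
include B

lemma conj_eq (hp2 : p ≠ 2) {g u : G} (hg : g ∈ D2 G a b) (hu : u ∈ P) : g * u * g⁻¹ = u ↔ g • u • b = u • b := by
  have : (g * u * g⁻¹) • b = g • u • b := by rw [mul_smul, mul_smul, inv_smul_eq_iff.mpr hg.2.symm]
  exact ⟨fun h => by rw [← this, h], fun h => B.reg.inj b B.hab.symm _
    (conj_mem_of_mem_normalizer (B.normP hp2 hg.1) hu) _ hu (this.trans h)⟩

lemma stab_one (hp2 : p ≠ 2) {g : G} (hg : g ∈ D2 G a b) (h1 : g * c * g⁻¹ = c)
    (h2 : ∀ v ∈ P, g * v * g⁻¹ * v⁻¹ ∈ zpowers c) : g = 1 := by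
  refine B.reg.pow_one B.hab hg (B.reg.eq_one (pow_mem hg p).1 fun y hy => ?_)
  obtain ⟨v, hv, rfl⟩ := B.reg.tr b B.hab.symm y hy
  obtain ⟨j, hj⟩ := exists_pw B.cp (h2 v hv)
  have h3 : ∀ n : ℕ, g ^ n * v * (g ^ n)⁻¹ = pw c ((n : ZMod p) * j) * v := fun n => by
    induction n with
    | zero => simp [pw_zero]
    | succ n ih =>
      have : g ^ (n + 1) * v * (g ^ (n + 1))⁻¹ = g * (g ^ n * v * (g ^ n)⁻¹) * g⁻¹ := by group
      rw [this, ih, show g * (pw c ((n : ZMod p) * j) * v) * g⁻¹ = g * pw c ((n : ZMod p) * j) * g⁻¹ * (g * v * g⁻¹ * v⁻¹) * v by group,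
        pw_conj B.cp (h1.trans (pw_one c).symm), hj, ← pw_add B.cp]
      congr 2; push_cast; ring
  exact (B.conj_eq hp2 (pow_mem hg p) hv).mp (by simpa [pw_zero] using h3 p)

lemma three (hp2 : p ≠ 2) {d : G} (hd : d ∈ D2 G a b) {z : Ω} (h1 : z ≠ a) (h2 : z ≠ b) (h3 : d • z = z) : d = 1 := by
  by_contra hd1
  have hb := B.hab.symm
  have hN := B.normP hp2
  set U := P ⊓ centralizer {d} with hU
  have mU : ∀ {u}, u ∈ U ↔ u ∈ P ∧ d * u * d⁻¹ = u := fun {u} => by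
    rw [mem_inf, mem_centralizer_singleton_iff, mul_inv_eq_iff_eq_mul, eq_comm]
  have k1 : ∀ y, y ∈ insert a (orb U b) ↔ d • y = y := fun y => by
    constructor
    · rintro (rfl | ⟨u, hu, rfl⟩)
      · exact hd.1
      · exact (B.conj_eq hp2 hd hu.1).mp (mU.mp hu).2
    · intro h
      by_cases e : y = a
      · exact Or.inl e
      obtain ⟨u, hu, rfl⟩ := B.reg.tr b hb y e
      exact Or.inr ⟨u, mU.mpr ⟨hu, (B.conj_eq hp2 hd hu).mpr h⟩, rfl⟩
  obtain ⟨u, hu, e⟩ := ((k1 z).mpr h3).resolve_left h1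
  have hu1 : u ≠ 1 := by rintro rfl; exact h2 (by rw [← e, one_smul])
  have k2 : Nat.card U = p := by
    have e1 := card_dvd_of_le (inf_le_left : U ≤ P)
    rw [B.reg.card] at e1
    obtain ⟨i, hi, e2⟩ := (Nat.dvd_prime_pow hp.out).mp e1
    obtain rfl | rfl | rfl : i = 0 ∨ i = 1 ∨ i = 2 := by omega
    · exact (hu1 (mem_bot.mp ((card_eq_one.mp e2).le hu))).elim
    · rw [e2, pow_one]
    · have e3 : U = P := eq_of_le_of_card_ge inf_le_left (by rw [B.reg.card, e2])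
      exact (hd1 (B.reg.eq_one hd.1 fun y hy => (k1 y).mp (Or.inr (e3 ▸ B.reg.tr b hb y hy)))).elim
  have k3 : ∀ e ∈ D2 G a b, ∀ v ∈ U, e * v * e⁻¹ ∈ U := fun e he v hv => by
    by_cases hUA : u ∈ zpowers c
    · have : zpowers u = zpowers c := eq_of_le_of_card_ge (zpowers_le.mpr hUA) (by
        rw [B.cardA, Nat.card_zpowers, orderOf_eq_prime (p := p) (orderOf_dvd_iff_pow_eq_one.mp (k2 ▸ orderOf_dvd_natCard U hu)) hu1])
      have e1 : U = zpowers c := (eq_of_le_of_card_ge (this ▸ zpowers_le.mpr hu) (by rw [B.cardA, k2])).symm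
      rw [e1] at hv ⊢
      exact conj_mem_of_mem_normalizer (B.normA hp2 he.1) hv
    have t1 : ∀ v ∈ P, d * v * d⁻¹ * v⁻¹ ∈ zpowers c := fun v hv => by
      obtain ⟨j, i, rfl⟩ := B.coord hu.1 hUA hv
      have : d * (pw c j * u ^ i) * d⁻¹ * (pw c j * u ^ i)⁻¹ = d * pw c j * d⁻¹ * ((d * u * d⁻¹) ^ i * (u ^ i)⁻¹) *
          (pw c j)⁻¹ := by rw [conj_pow]; group
      rw [this, (mU.mp hu).2, mul_inv_cancel, mul_one]
      exact mul_mem (conj_mem_of_mem_normalizer (B.normA hp2 hd.1) (pw_mem (mem_zpowers c) j))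
        (inv_mem (pw_mem (mem_zpowers c) j))
    obtain ⟨α, hα⟩ := exists_pw B.cp (conj_mem_of_mem_normalizer (B.normA hp2 hd.1) (mem_zpowers c))
    obtain ⟨β, hβ⟩ := exists_pw B.cp (conj_mem_of_mem_normalizer (B.normA hp2 he.1) (mem_zpowers c))
    have t2 := B.stab_one hp2 (g := (e * d)⁻¹ * (d * e)) (mul_mem (inv_mem (mul_mem he hd)) (mul_mem hd he)) (by
      have e1 : d * e * c * (d * e)⁻¹ = e * d * c * (e * d)⁻¹ := by
        rw [show d * e * c * (d * e)⁻¹ = d * (e * c * e⁻¹) * d⁻¹ by group, show e * d * c * (e * d)⁻¹ =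
          e * (d * c * d⁻¹) * e⁻¹ by group, hα, hβ, pw_conj B.cp hα, pw_conj B.cp hβ, mul_comm α]
      calc (e * d)⁻¹ * (d * e) * c * ((e * d)⁻¹ * (d * e))⁻¹ = (e * d)⁻¹ * (d * e * c * (d * e)⁻¹) * (e * d) := by group
        _ = c := by rw [e1]; group) fun w hw => by
      have e1 := conj_mem_of_mem_normalizer (B.normA hp2 (inv_mem (mul_mem he hd)).1)
        (t1 _ (conj_mem_of_mem_normalizer (hN he.1) hw))
      have e2 := conj_mem_of_mem_normalizer (B.normA hp2 (inv_mem hd).1) (inv_mem (t1 w hw))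
      convert mul_mem e1 e2 using 1
      group
    rw [inv_mul_eq_one] at t2
    refine mU.mpr ⟨conj_mem_of_mem_normalizer (hN he.1) hv.1, ?_⟩
    calc d * (e * v * e⁻¹) * d⁻¹ = d * e * v * (d * e)⁻¹ := by group
      _ = e * (d * v * d⁻¹) * e⁻¹ := by rw [← t2]; group
      _ = _ := by rw [(mU.mp hv).2]
  obtain ⟨t, t1, t2⟩ := B.hyp.two B.hab hb
  have hd' : t⁻¹ * d * t ∈ D2 G a b := mem_inf.mpr ⟨by
    rw [mem_stabilizer_iff, mul_smul, mul_smul, t1, hd.2, inv_smul_eq_iff, t1], by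
    rw [mem_stabilizer_iff, mul_smul, mul_smul, t2, hd.1, inv_smul_eq_iff, t2]⟩
  obtain ⟨w, hw, e'⟩ := B.reg.tr b hb (t⁻¹ • z) fun e => h2 (by rw [inv_smul_eq_iff.mp e, t1])
  have k4 := (B.conj_eq hp2 hd' hw).mpr (by rw [e', mul_smul, mul_smul, smul_inv_smul, h3])
  have k5 : d * (t * w * t⁻¹) = t * w * t⁻¹ * d := by
    calc d * (t * w * t⁻¹) = t * (t⁻¹ * d * t * w * (t⁻¹ * d * t)⁻¹) * t⁻¹ * d := by group
      _ = _ := by rw [k4]
  have k6 := line_fix B.hyp B.hab (inf_le_left.trans B.reg.syl.le : U ≤ _) (by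
    have := card_orb U b
    rwa [show U ⊓ stabilizer G b = ⊥ from eq_bot_iff.mpr fun v hv => B.reg.inj b hb v hv.1.1 1 (one_mem _)
      (by simpa using hv.2), card_bot, mul_one, k2, eq_comm] at this) (by
    rintro e he _ ⟨v, hv, rfl⟩
    exact ⟨_, k3 e he v hv, by rw [mul_smul, mul_smul, inv_smul_eq_iff.mpr he.2.symm]⟩) (g := t * w * t⁻¹) fun y hy => by
    rw [k1] at hy ⊢
    rw [← mul_smul, k5, mul_smul, hy]
  rw [mul_smul, mul_smul, inv_smul_eq_iff.mpr t2.symm, e', smul_inv_smul] at k6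
  exact h1 k6

lemma final (hp2 : p ≠ 2) : False := by
  have hb := B.hab.symm
  have h2 : IsMultiplyPretransitive G Ω 2 := is_two_pretransitive_iff.mpr B.hyp.two
  have hpw : ∀ r j : ℕ, r.Prime → Nat.card Ω ≠ r ^ j := fun r j hr e => by
    obtain ⟨k, hk⟩ := hp.out.odd_of_ne_two hp2
    have e1 : r ^ j = 2 * (2 * (k * k + k) + 1) := by rw [← e, B.hyp.card, hk]; ring
    have e2 : r = 2 := ((Nat.prime_dvd_prime_iff_eq Nat.prime_two hr).mp (Nat.prime_two.dvd_of_dvd_pow ⟨_, e1⟩)).symm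
    have := hp.out.two_le
    subst e2
    obtain _ | _ | j := j
    · omega
    · have : 0 < k * k + k := by nlinarith
      omega
    · rw [pow_succ, pow_succ] at e1; omega
  haveI : Nontrivial Ω := ⟨⟨a, b, B.hab⟩⟩
  by_cases hD : D2 G a b = ⊥
  · obtain ⟨r, j, -, hr, -, e, -⟩ := Perm.sharp2_kernel h2 fun g y z hyz e1 e2 => by
      have := card_D B.hyp B.hab hyz
      rw [hD, card_bot, card_eq_one] at this
      exact mem_bot.mp (this.le (mem_inf.mpr ⟨e1, e2⟩))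
    exact hpw r j hr e
  obtain ⟨d, hd, hd1⟩ := (bot_or_exists_ne_one _).resolve_left hD
  have hc1 : pw c (1 : ZMod p) • b ≠ b := fun e => one_ne_zero (B.pt_inj hb (e.trans (by rw [pw_zero, one_smul])))
  rcases Cfsg.Agent.S0731.result (G := G) (Ω := Ω) ⟨inferInstance, h2, fun g x y z h1 h3 h4 e1 e2 e3 => by
      obtain ⟨t, t1, t2⟩ := B.hyp.two B.hab h1
      have := B.three hp2 (d := t⁻¹ * g * t) (z := t⁻¹ • z) (mem_inf.mpr ⟨by
        rw [mem_stabilizer_iff, mul_smul, mul_smul, t1, e1, inv_smul_eq_iff, t1], by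
        rw [mem_stabilizer_iff, mul_smul, mul_smul, t2, e2, inv_smul_eq_iff, t2]⟩)
        (fun e => h4 (by rw [inv_smul_eq_iff.mp e, t1])) (fun e => h3 (by rw [inv_smul_eq_iff.mp e, t2]))
        (by rw [mul_smul, mul_smul, smul_inv_smul, e3])
      rwa [← inv_inv t, inv_inv t⁻¹, conj_eq_one_iff] at this, ⟨d, hd1, a, b, B.hab, hd.1, hd.2⟩, fun N hN ht => ⟨a, fun e => by
      obtain ⟨r, hr, -, -, j, -, e1⟩ := Perm.elementary_of_regular_normal h2 N (fun e => by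
        obtain ⟨g, hg, e2⟩ := Perm.isPretransitive_subgroup_iff.mp ht a b
        rw [e, mem_bot] at hg
        exact B.hab (by rw [← e2, hg, one_smul])) a e
      exact hpw r j hr ((Perm.card_eq_of_regular a e).symm.trans e1)⟩⟩ a P B.reg.syl.le
      ((normal_subgroupOf_iff_le_normalizer B.reg.syl.le).mpr (B.normP hp2))
      ⟨⟨fun x y => Subtype.ext (B.reg.comm _ x.2 _ y.2)⟩⟩ (fun y z hy hz => by
        obtain ⟨u, hu, e⟩ := B.reg.tr y hy z hz
        exact ⟨⟨u, hu⟩, e, fun v hv => Subtype.ext (B.reg.inj y hy _ v.2 _ hu (hv.trans e.symm))⟩) with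
    ⟨h3, -⟩ | ⟨F, _, _, hF, ⟨e⟩⟩
  · obtain ⟨w, hw, hw'⟩ := Set.exists_mem_notMem_of_ncard_lt_ncard (s := orb (zpowers c) b) (t := {a}ᶜ) (by
      rw [B.ncardA hb, ncard_compl B.hyp, pow_two]; exact lt_mul_self hp.out.one_lt)
    obtain ⟨g, g1, g2, g3⟩ := Perm.three_iff.mp h3 a b _ a b w B.hab (B.pt_ne hb 1).symm hc1.symm B.hab (Ne.symm hw)
      fun e => hw' (e ▸ mem_orb_self _ _)
    obtain ⟨j, hj⟩ := B.H_blk hb g1 1
    exact hw' ((B.orbA b).ge ⟨j, by simp only; rw [← g3, hj, g2]⟩)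
  have k1 := Linear.card_PSL_two_of_odd (F := F) (by
    rw [Nat.card_eq_fintype_card, Nat.odd_iff]; exact FiniteField.odd_card_of_char_ne_two hF)
  rw [← Nat.card_congr e.toEquiv, card_G B.hyp B.hab] at k1
  refine arith hp2 (by rw [Nat.card_eq_fintype_card, Nat.odd_iff]; exact FiniteField.odd_card_of_char_ne_two hF) ?_ k1
    Finite.one_lt_card
  have k2 := card_orb (D2 G a b) (pw c (1 : ZMod p) • b)
  rw [show D2 G a b ⊓ stabilizer G (pw c (1 : ZMod p) • b) = ⊥ from eq_bot_iff.mpr fun g hg =>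
    B.three hp2 hg.1 (B.pt_ne hb 1) hc1 hg.2, card_bot, mul_one] at k2
  have k3 := Set.ncard_sdiff_singleton_add_one (mem_orb_self (zpowers c) b)
  rw [B.ncardA hb] at k3
  have k4 : (orb (D2 G a b) (pw c (1 : ZMod p) • b)).ncard ≤ (orb (zpowers c) b \ {b}).ncard := Set.ncard_le_ncard (by
    rintro _ ⟨g, hg, rfl⟩
    obtain ⟨j, hj⟩ := B.H_blk hb hg.1 1
    exact ⟨(B.orbA b).ge ⟨j, by simp only; rw [hj, hg.2]⟩, fun e => hc1 (smul_left_cancel g (e.trans hg.2.symm))⟩)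
  omega

end Blk

theorem main (h : Hyp G Ω p) (hab : a ≠ b) (h1 : D2 G a b < M) (h2 : M < stabilizer G a) : p = 2 ∧ Nat.card G = 20 := by
  obtain ⟨P, hP⟩ := exists_sylowIn p (stabilizer G a)
  obtain ⟨c, B⟩ := exists_blk h hab h1 h2 (reg h hab (not_dvd_D h hab h1 h2) hP)
  have hp2 : p = 2 := by_contra B.final
  refine ⟨hp2, ?_⟩
  have hb := hab.symm
  have hc1 : pw c (1 : ZMod p) • b ≠ b := fun e => one_ne_zero (B.pt_inj hb (e.trans (by rw [pw_zero, one_smul])))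
  suffices D2 G a b = ⊥ by rw [card_G h hab, this, card_bot, hp2]; norm_num
  refine fixD h hab (B.pt_ne hb 1) hc1 fun g hg => ?_
  obtain ⟨j, hj⟩ := B.H_blk hb hg.1 1
  rw [hg.2] at hj
  have hj0 : j ≠ 0 := by
    rintro rfl
    exact hc1 (smul_left_cancel g (by rw [hj, pw_zero, one_smul, hg.2]))
  subst hp2
  rw [mem_stabilizer_iff, hj, Perm.zmod2_c j 1 hj0 one_ne_zero]

end Cfsg.Lib.Layer.Atk
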