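import Mathlib

set_option autoImplicit false

open Subgroup MulAction
open scoped ArithmeticFunction.Omega

namespace Cfsg.Lib.Layer.CL

variable {G : Type*} [Group G] {G' : Type*} [Group G']

/-- subnormal chains from `⊥` -/
inductive Ch {G : Type*} [Group G] : Subgroup G → ℕ → Prop
  | bot : Ch ⊥ 0
  | step {H K : Subgroup G} {l : ℕ} : Ch H l → H < K → (∀ k ∈ K, ∀ h ∈ H, k * h * k⁻¹ ∈ H) →
      Ch K (l + 1)

/-- composition length -/
noncomputable def cl (K : Subgroup G) : ℕ := sSup {l | Ch K l}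

lemma Om_dvd {a b : ℕ} (hb : b ≠ 0) (h : a ∣ b) : Ω a ≤ Ω b := by
  obtain ⟨c, rfl⟩ := h
  rw [ArithmeticFunction.cardFactors_mul (left_ne_zero_of_mul hb) (right_ne_zero_of_mul hb)]
  omega

lemma two_pow_Om_le : ∀ {a : ℕ}, a ≠ 0 → 2 ^ Ω a ≤ a := by
  intro a
  induction a using Nat.recOnMul with
  | zero => simp
  | one => simp
  | prime p hp => intro _; rw [ArithmeticFunction.cardFactors_apply_prime hp]; simpa using hp.two_le
  | mul a b ha hb =>
    intro h
    rw [ArithmeticFunction.cardFactors_mul (left_ne_zero_of_mul h) (right_ne_zero_of_mul h), pow_add]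
    exact Nat.mul_le_mul (ha (left_ne_zero_of_mul h)) (hb (right_ne_zero_of_mul h))

lemma Om_le_log {a L : ℕ} (h0 : a ≠ 0) (h : a < 2 ^ (L + 1)) : Ω a ≤ L := by
  have := (two_pow_Om_le h0).trans_lt h
  have := (Nat.pow_lt_pow_iff_right (by norm_num)).mp this
  omega

lemma card_rel [Finite G] {H K : Subgroup G} (h : H ≤ K) :
    Nat.card K = Nat.card H * H.relIndex K := by
  rw [← (H.subgroupOf K).card_mul_index, Nat.card_congr (subgroupOfEquivOfLe h).toEquiv]; rfl

lemma Ch.le_Om [Finite G] {K : Subgroup G} {l : ℕ} (h : Ch K l) : l ≤ Ω (Nat.card K) := by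
  induction h with
  | bot => simp
  | @step H K l _ hlt _ ih =>
    have h1 : H.relIndex K ≠ 1 := fun e => hlt.not_ge (relIndex_eq_one.mp e)
    have h0 : H.relIndex K ≠ 0 := index_ne_zero_of_finite
    rw [card_rel hlt.le, ArithmeticFunction.cardFactors_mul Nat.card_pos.ne' h0]
    have : Ω (H.relIndex K) ≠ 0 := by
      rw [Ne, ArithmeticFunction.cardFactors_eq_zero_iff_eq_zero_or_one]; tauto
    omega

lemma Ch.ex (K : Subgroup G) : ∃ l, Ch K l := by
  by_cases h : K = ⊥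
  · exact ⟨0, h ▸ Ch.bot⟩
  · exact ⟨1, Ch.step Ch.bot (bot_lt_iff_ne_bot.mpr h) fun k _ x hx => by
      rw [mem_bot] at hx ⊢; simp [hx]⟩

lemma bdd [Finite G] (K : Subgroup G) : BddAbove {l | Ch K l} := ⟨_, fun _ h => h.le_Om⟩

lemma cl_ch [Finite G] (K : Subgroup G) : Ch K (cl K) := Nat.sSup_mem (Ch.ex K) (bdd K)

lemma Ch.le_cl [Finite G] {K : Subgroup G} {l : ℕ} (h : Ch K l) : l ≤ cl K := le_csSup (bdd K) h

lemma cl_le_Om [Finite G] (K : Subgroup G) : cl K ≤ Ω (Nat.card K) := (cl_ch K).le_Om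

lemma cl_bot [Finite G] : cl (⊥ : Subgroup G) = 0 := by
  have := cl_le_Om (⊥ : Subgroup G); simpa using this

lemma Ch.split (f : G →* G') {K : Subgroup G} {l : ℕ} (h : Ch K l) :
    ∃ a b, l ≤ a + b ∧ Ch (K ⊓ f.ker) a ∧ Ch (K.map f) b := by
  induction h with
  | bot => exact ⟨0, 0, le_rfl, by simpa using Ch.bot, by simpa using Ch.bot⟩
  | @step H K l _ hlt hn ih =>
    obtain ⟨a, b, hab, ha, hb⟩ := ih
    have n1 : ∀ k ∈ K ⊓ f.ker, ∀ h ∈ H ⊓ f.ker, k * h * k⁻¹ ∈ H ⊓ f.ker := fun k hk h hh =>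
      ⟨hn k hk.1 h hh.1, f.normal_ker.conj_mem h hh.2 k⟩
    have n2 : ∀ k ∈ K.map f, ∀ h ∈ H.map f, k * h * k⁻¹ ∈ H.map f := by
      rintro _ ⟨k, hk, rfl⟩ _ ⟨h, hh, rfl⟩
      exact ⟨_, hn k hk h hh, by simp⟩
    rcases (inf_le_inf_right f.ker hlt.le).lt_or_eq with h1 | h1 <;>
    rcases (map_mono (f := f) hlt.le).lt_or_eq with h2 | h2
    · exact ⟨a + 1, b + 1, by omega, ha.step h1 n1, hb.step h2 n2⟩
    · exact ⟨a + 1, b, by omega, ha.step h1 n1, h2 ▸ hb⟩
    · exact ⟨a, b + 1, by omega, h1 ▸ ha, hb.step h2 n2⟩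
    · refine (hlt.not_ge fun k hk => ?_).elim
      obtain ⟨h, hh, e⟩ := h2.ge ⟨k, hk, rfl⟩
      have : h⁻¹ * k ∈ H ⊓ f.ker := h1.ge (mem_inf.mpr ⟨mul_mem (inv_mem (hlt.le hh)) hk, by
        rw [MonoidHom.mem_ker, map_mul, map_inv, e, inv_mul_cancel]⟩)
      simpa using mul_mem hh this.1

lemma Ch.join (f : G →* G') {K : Subgroup G} {a : ℕ} (ha : Ch (K ⊓ f.ker) a) {L : Subgroup G'}
    {b : ℕ} (hb : Ch L b) : L ≤ K.map f → Ch (K ⊓ L.comap f) (a + b) := by
  induction hb with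
  | bot => intro _; exact ha
  | @step H L l _ hlt hn ih =>
    intro hL
    refine (ih (hlt.le.trans hL)).step ?_ fun k hk h hh =>
      mem_inf.mpr ⟨mul_mem (mul_mem hk.1 hh.1) (K.inv_mem hk.1), ?_⟩
    · refine lt_of_le_of_ne (inf_le_inf_left _ (comap_mono hlt.le)) fun e => hlt.not_ge fun y hy => ?_
      obtain ⟨k, hk, rfl⟩ := hL hy
      exact (e.ge ⟨hk, hy⟩).2
    · have := hn _ hk.2 _ hh.2
      simpa using this

lemma cl_add [Finite G] [Finite G'] (f : G →* G') (K : Subgroup G) :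
    cl K = cl (K ⊓ f.ker) + cl (K.map f) := by
  apply le_antisymm
  · obtain ⟨a, b, h, ha, hb⟩ := (cl_ch K).split f
    exact h.trans (add_le_add ha.le_cl hb.le_cl)
  · have := ((cl_ch _).join f (cl_ch (K.map f)) le_rfl).le_cl
    rwa [inf_eq_left.mpr (le_comap_map f K)] at this

lemma cl_map_inj [Finite G] [Finite G'] (f : G →* G') (hf : Function.Injective f) (K : Subgroup G) :
    cl (K.map f) = cl K := by
  rw [cl_add f K, (f.ker_eq_bot_iff).mpr hf, inf_bot_eq, cl_bot, zero_add]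

lemma cl_subgroupOf [Finite G] {K M : Subgroup G} (h : K ≤ M) : cl (K.subgroupOf M) = cl K := by
  rw [← cl_map_inj M.subtype M.subtype_injective, subgroupOf_map_subtype, inf_eq_left.mpr h]

lemma cl_top [Finite G] (K : Subgroup G) : cl (⊤ : Subgroup K) = cl K := by
  rw [← cl_subgroupOf (le_refl K), subgroupOf_self]

lemma cl_hom [Finite G] [Finite G'] (f : G →* G') :
    cl (⊤ : Subgroup G) = cl (⊤ : Subgroup f.ker) + cl (⊤ : Subgroup f.range) := by
  rw [cl_add f, cl_top, cl_top, top_inf_eq, MonoidHom.range_eq_map]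

lemma cl_lt [Finite G] {H K : Subgroup G} (h : H < K) (hn : ∀ k ∈ K, ∀ h ∈ H, k * h * k⁻¹ ∈ H) :
    cl H + 1 ≤ cl K := ((cl_ch H).step h hn).le_cl

lemma cl_le [Finite G] {H K : Subgroup G} (h : H ≤ K) (hn : ∀ k ∈ K, ∀ h ∈ H, k * h * k⁻¹ ∈ H) :
    cl H ≤ cl K := by
  rcases h.lt_or_eq with h | rfl
  · exact (Nat.le_succ _).trans (cl_lt h hn)
  · exact le_rfl

lemma cl_sup [Finite G] {H T : Subgroup G} (hn : ∀ k ∈ T, ∀ h ∈ H, k * h * k⁻¹ ∈ H) :
    cl (H ⊔ T) + cl (T ⊓ H) = cl H + cl T := by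
  have hN : H ⊔ T ≤ normalizer (H : Set G) := sup_le le_normalizer fun t ht =>
    mem_normalizer_fintype fun h hh => hn t ht h hh
  haveI : (H.subgroupOf (H ⊔ T)).Normal := (normal_subgroupOf_iff_le_normalizer le_sup_left).mpr hN
  have h1 := cl_add (QuotientGroup.mk' (H.subgroupOf (H ⊔ T))) ⊤
  have h2 := cl_add (QuotientGroup.mk' (H.subgroupOf (H ⊔ T))) (T.subgroupOf (H ⊔ T))
  rw [QuotientGroup.ker_mk'] at h1 h2
  rw [cl_top, top_inf_eq, cl_subgroupOf le_sup_left] at h1
  rw [cl_subgroupOf le_sup_right, show T.subgroupOf (H ⊔ T) ⊓ H.subgroupOf (H ⊔ T) =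
    (T ⊓ H).subgroupOf (H ⊔ T) from rfl, cl_subgroupOf (inf_le_left.trans le_sup_right)] at h2
  have h3 : (⊤ : Subgroup ↥(H ⊔ T)).map (QuotientGroup.mk' (H.subgroupOf (H ⊔ T))) =
      (T.subgroupOf (H ⊔ T)).map (QuotientGroup.mk' (H.subgroupOf (H ⊔ T))) := by
    rw [← subgroupOf_self, subgroupOf_sup le_sup_left le_sup_right, Subgroup.map_sup,
      QuotientGroup.map_mk'_self, bot_sup_eq]
  rw [h3] at h1
  omega

lemma cl_le_one [Finite G] {T : Subgroup G}
    (h : ∀ N ≤ T, (∀ t ∈ T, ∀ x ∈ N, t * x * t⁻¹ ∈ N) → N = T ∨ N = ⊥) : cl T ≤ 1 := by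
  have h1 := cl_ch T
  generalize cl T = l at h1
  cases h1 with
  | bot => omega
  | step hH hlt hn =>
    rcases h _ hlt.le hn with e | e
    · exact (hlt.ne e).elim
    · subst e
      have := hH.le_cl; rw [cl_bot] at this; omega

/-- base lemma -/
lemma Om_base [Finite G] (K T : Subgroup G) (hKT : ∀ k ∈ K, ∀ t ∈ T, k * t * k⁻¹ ∈ T) {L q : ℕ}
    (hL : Nat.card T ≤ 2 ^ (L + 1))
    (hq : ∀ M M' : Subgroup G, M < M' → M' ≤ T → q * Nat.card M ≤ Nat.card M') :
    ∀ (j : ℕ) (M : Subgroup G), M ≤ T → Nat.card T < Nat.card M * q ^ (j + 1) →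
      Ω (Nat.card ↥(K ⊓ centralizer (M : Set G))) ≤
        Ω (Nat.card ↥(K ⊓ centralizer (T : Set G))) + j * L := by
  intro j
  induction j with
  | zero =>
    intro M hM h
    rcases hM.lt_or_eq with h1 | rfl
    · have := hq M T h1 le_rfl
      rw [zero_add, pow_one, mul_comm] at h; omega
    · simp
  | succ j ih =>
    intro M hM h
    rcases hM.lt_or_eq with h1 | rfl
    swap
    · omega
    obtain ⟨x, hxT, hxM⟩ := SetLike.exists_of_lt h1
    have hlt : M < M ⊔ zpowers x := lt_of_le_of_ne le_sup_left fun e =>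
      hxM (e.ge (mem_sup_right (mem_zpowers x)))
    have hle : M ⊔ zpowers x ≤ T := sup_le hM (zpowers_le.mpr hxT)
    have h2 := ih _ hle (by
      have := hq _ _ hlt hle
      calc Nat.card T < Nat.card M * q ^ (j + 1 + 1) := h
        _ = q * Nat.card M * q ^ (j + 1) := by ring
        _ ≤ _ := Nat.mul_le_mul_right _ this)
    set A := K ⊓ centralizer (M : Set G) with hA
    set B := K ⊓ centralizer ((M ⊔ zpowers x : Subgroup G) : Set G) with hB
    have hBA : B ≤ A := inf_le_inf_left _ (centralizer_le (SetLike.coe_subset_coe.mpr le_sup_left))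
    have h0 : B.relIndex A ≠ 0 := index_ne_zero_of_finite
    have hi : B.relIndex A < Nat.card T := by
      have hx1 : x ≠ 1 := fun e => hxM (e ▸ one_mem M)
      let φ : A ⧸ B.subgroupOf A → T := Quotient.lift (fun a => ⟨a * x * a⁻¹, hKT _ a.2.1 x hxT⟩)
        (fun a b hab => by
          have h3 : (a : G)⁻¹ * b ∈ B := (QuotientGroup.leftRel_apply (s := B.subgroupOf A)).mp hab
          have h4 := h3.2 x (mem_sup_right (mem_zpowers x))
          refine Subtype.ext ?_
          change (a : G) * x * (a : G)⁻¹ = b * x * (b : G)⁻¹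
          calc (a : G) * x * (a : G)⁻¹ = a * (x * ((a : G)⁻¹ * b)) * (b : G)⁻¹ := by group
            _ = _ := by rw [h4]; group)
      have hφ : Function.Injective φ := by
        intro a b
        induction a using QuotientGroup.induction_on
        induction b using QuotientGroup.induction_on
        rename_i a b
        intro e
        have e' : (a : G) * x * (a : G)⁻¹ = b * x * (b : G)⁻¹ := congrArg Subtype.val e
        refine QuotientGroup.eq.mpr ⟨(a⁻¹ * b).2.1, ?_⟩
        have h5 : M ⊔ zpowers x ≤ centralizer {(a : G)⁻¹ * b} := by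
          refine sup_le (fun m hm => mem_centralizer_singleton_iff.mpr ((a⁻¹ * b).2.2 m hm))
            (zpowers_le.mpr (mem_centralizer_singleton_iff.mpr ?_))
          calc x * ((a : G)⁻¹ * b) = (a : G)⁻¹ * (a * x * (a : G)⁻¹) * b := by group
            _ = _ := by rw [e']; group
        intro y hy
        exact mem_centralizer_singleton_iff.mp (h5 hy)
      have hs : ¬ Function.Surjective φ := by
        intro hs
        obtain ⟨a, ha⟩ := hs 1
        induction a using QuotientGroup.induction_on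
        rename_i a
        have e' : (a : G) * x * (a : G)⁻¹ = 1 := congrArg Subtype.val ha
        exact hx1 (conj_eq_one_iff.mp e')
      exact lt_of_le_of_ne (Nat.card_le_card_of_injective φ hφ) fun e =>
        hs ((Nat.bijective_iff_injective_and_card φ).mpr ⟨hφ, e⟩).2
    rw [card_rel hBA, ArithmeticFunction.cardFactors_mul Nat.card_pos.ne' h0]
    have := Om_le_log h0 (hi.trans_le hL)
    rw [add_mul]; omega

end Cfsg.Lib.Layer.CL
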