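import Cfsg.Agent.Lib.Layer.CL1
import Cfsg.Agent.Lib.FG.ONS
import Cfsg.Agent.Lib.Hall.FC5

set_option autoImplicit false
set_option linter.unusedSectionVars false

open Subgroup MulAction Cfsg.Lib.Transfer Cfsg.Lib.FG
open scoped ArithmeticFunction.Omega commutatorElement Pointwise

namespace Cfsg.Lib.Layer.CL

section comps
variable {G : Type*} [Group G] [Finite G]

lemma conj_of_cent {A B : Subgroup G} (h : A ≤ centralizer (B : Set G)) :
    ∀ k ∈ B, ∀ x ∈ A, k * x * k⁻¹ ∈ A := fun k hk x hx => by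
  rw [h hx k hk, mul_inv_cancel_right]; exact hx

lemma lemA (hF : fittingSubgroup G = ⊥) (K : Subgroup G) (S : Finset (Subgroup G))
    (hS : ∀ U ∈ S, IsComponent U ∧ K ⊓ U ≠ ⊥) : cl (S.sup id) ≤ cl (S.sup (K ⊓ ·)) := by
  classical
  induction S using Finset.induction_on with
  | empty => simp
  | insert U S hU ih =>
    have hU' := hS U (Finset.mem_insert_self _ _)
    have ih' := ih fun V hV => hS V (Finset.mem_insert_of_mem hV)
    have hc : S.sup id ≤ centralizer (U : Set G) := Finset.sup_le fun V hV =>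
      comp_le_cent hU'.1 (hS V (Finset.mem_insert_of_mem hV)).1 fun e => hU (e ▸ hV)
    have hc' : S.sup (K ⊓ ·) ≤ centralizer (U : Set G) :=
      (Finset.sup_mono_fun fun V _ => inf_le_right).trans hc
    rw [Finset.sup_insert, Finset.sup_insert, id, sup_comm U, sup_comm (K ⊓ U)]
    have h1 := cl_sup (conj_of_cent hc)
    have h2 : cl U ≤ 1 := cl_le_one fun N hN hn => comp_eq_or hF hU'.1 hN hn
    have h3 : cl (S.sup (K ⊓ ·)) + 1 ≤ cl (S.sup (K ⊓ ·) ⊔ (K ⊓ U)) := by
      refine cl_lt (lt_of_le_of_ne le_sup_left fun e => hU'.2 (eq_bot_iff.mpr fun x hx =>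
        comp_eq_one hF hU'.1 hx.2 (hc' (e.ge (mem_sup_right hx))))) fun k hk => ?_
      have : S.sup (K ⊓ ·) ⊔ (K ⊓ U) ≤ normalizer (S.sup (K ⊓ ·) : Subgroup G) :=
        sup_le le_normalizer fun t ht => mem_normalizer_fintype (conj_of_cent hc' t ht.2)
      exact fun h hh => (mem_normalizer_iff.mp (this hk) h).mp hh
    omega

lemma lemB {L : ℕ} (S : Finset (Subgroup G)) : ∀ K : Subgroup G,
    (∀ U ∈ S, Nat.card U < 2 ^ (L + 1) ∧ ∀ k ∈ K, ∀ t ∈ U, k * t * k⁻¹ ∈ U) →
    Ω (Nat.card K) ≤ Ω (Nat.card ↥(K ⊓ centralizer ((S.sup id : Subgroup G) : Set G))) + S.card * (L * L) := by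
  classical
  induction S using Finset.induction_on with
  | empty =>
    intro K _
    have : centralizer (((∅ : Finset (Subgroup G)).sup id : Subgroup G) : Set G) = ⊤ :=
      eq_top_iff.mpr fun x _ y hy => by
        have : y = 1 := by simpa using hy
        simp [this]
    rw [this, inf_top_eq]; simp
  | insert U S hU ih =>
    intro K hK
    have hU' := hK U (Finset.mem_insert_self _ _)
    have h1 := Om_base K U hU'.2 (L := L) (q := 2) hU'.1.le (fun M M' h _ => by
      rw [card_rel h.le, mul_comm]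
      have h1 : M.relIndex M' ≠ 1 := fun e => h.not_ge (relIndex_eq_one.mp e)
      have h0 : M.relIndex M' ≠ 0 := index_ne_zero_of_finite
      exact Nat.mul_le_mul_left _ (by omega)) L ⊥ bot_le (by simpa using hU'.1)
    have h0 : centralizer ((⊥ : Subgroup G) : Set G) = ⊤ :=
      eq_top_iff.mpr fun x _ y hy => by
        have : y = 1 := by simpa using hy
        simp [this]
    rw [h0, inf_top_eq] at h1
    have h2 := ih (K ⊓ centralizer (U : Set G)) fun V hV =>
      ⟨(hK V (Finset.mem_insert_of_mem hV)).1, fun k hk => (hK V (Finset.mem_insert_of_mem hV)).2 k hk.1⟩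
    have h3 : K ⊓ centralizer (U : Set G) ⊓ centralizer ((S.sup id : Subgroup G) : Set G) ≤
        K ⊓ centralizer (((insert U S).sup id : Subgroup G) : Set G) := by
      intro x hx
      refine mem_inf.mpr ⟨hx.1.1, ?_⟩
      have : (insert U S).sup id ≤ centralizer {x} := by
        rw [Finset.sup_insert]
        exact sup_le (fun y hy => mem_centralizer_singleton_iff.mpr (hx.1.2 y hy))
          fun y hy => mem_centralizer_singleton_iff.mpr (hx.2 y hy)
      exact fun y hy => mem_centralizer_singleton_iff.mp (this hy)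
    have h4 := Om_dvd Nat.card_pos.ne' (card_dvd_of_le h3)
    rw [Finset.card_insert_of_notMem hU, add_mul]
    omega

variable {X : Type*} [MulAction G X] [FaithfulSMul G X] [IsPreprimitive G X] {T : Subgroup G}

/-- projection of the stabilizer in the layer -/
def pq (T : Subgroup G) (a : X) : Subgroup G where
  carrier := {t | t ∈ T ∧ ∃ c ∈ centralizer (T : Set G) ⊓ layer G, (t * c) • a = a}
  one_mem' := ⟨one_mem _, 1, one_mem _, by simp⟩
  mul_mem' := by
    rintro s t ⟨hs, c, hc, e⟩ ⟨ht, d, hd, f⟩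
    refine ⟨mul_mem hs ht, c * d, mul_mem hc hd, ?_⟩
    rw [← mul_assoc, mul_assoc s, hc.1 t ht, ← mul_assoc, mul_assoc _ t, mul_smul, f, e]
  inv_mem' := by
    rintro s ⟨hs, c, hc, e⟩
    refine ⟨inv_mem hs, c⁻¹, inv_mem hc, ?_⟩
    rw [← mul_inv_rev, ← hc.1 s hs, inv_smul_eq_iff, e]

lemma pq_dich [Nontrivial X] (hT : IsComponent T) (a : X) : T ≤ pq T a ∨ pq T a ≤ stabilizer G a := by
  haveI : (layer G).Normal := layer_normal
  set R : Subgroup G := ⨆ h : stabilizer G a, cj (h : G) (pq T a) with hR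
  have h1 : pq T a ≤ R := by simpa [cj_one] using le_iSup (fun h : stabilizer G a => cj (h : G) (pq T a)) 1
  have h2 : stabilizer G a ≤ normalizer R := fun g hg => mem_normalizer_of_cj_le (by
    rw [cj_le_iff_le_cj_inv]
    refine iSup_le fun h => ?_
    rw [← cj_le_iff_le_cj_inv, ← cj_mul]
    exact le_iSup (fun h : stabilizer G a => cj (h : G) (pq T a)) (⟨g, hg⟩ * h))
  have h3 : R ≤ pq T a ⊔ (centralizer (T : Set G) ⊓ layer G) := iSup_le fun h => by
    by_cases e : cj (h : G) T = T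
    · refine le_sup_of_le_left (cj_le_iff.mpr ?_)
      rintro x ⟨hx, c, hc, hc'⟩
      refine ⟨e ▸ conj_mem_cj.mpr hx, h * c * (h : G)⁻¹, mem_inf.mpr ⟨?_, Normal.conj_mem ‹_› _ hc.2 _⟩, ?_⟩
      · rw [← e, ← cj_centralizer]; exact conj_mem_cj.mpr hc.1
      · have : (h : G) * x * (h : G)⁻¹ * (h * c * (h : G)⁻¹) = h * (x * c) * (h : G)⁻¹ := by group
        rw [this]
        exact mul_mem (mul_mem h.2 hc') (inv_mem h.2)
    · exact le_sup_of_le_right ((cj_mono _ (show pq T a ≤ T from fun x hx => hx.1)).trans (le_inf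
        (comp_le_cent hT (IsComponent.cj hT h) e) (IsComponent.le_layer (IsComponent.cj hT h))))
  by_cases h4 : R ≤ stabilizer G a
  · exact Or.inr (h1.trans h4)
  left
  have h5 : R ⊔ stabilizer G a = ⊤ := (IsPreprimitive.isCoatom_stabilizer_of_isPreprimitive G a).2 _
    (lt_of_le_of_ne le_sup_right fun e => h4 (e ▸ le_sup_left))
  intro t ht
  have : t ∈ (R : Set G) * (stabilizer G a : Set G) := by
    rw [← coe_mul_of_right_le_normalizer_left _ _ h2, h5]; trivial
  obtain ⟨r, hr, h, hh, e⟩ := this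
  obtain ⟨p, hp, c, hc, rfl⟩ : ∃ p ∈ pq T a, ∃ c ∈ centralizer (T : Set G) ⊓ layer G, p * c = r := by
    have := h3 hr
    rw [← SetLike.mem_coe, coe_mul_of_right_le_normalizer_left _ _ fun c hc =>
      mem_normalizer_fintype fun x hx => by rw [← hc.1 x hx.1, mul_inv_cancel_right]; exact hx] at this
    exact this
  have h6 : p⁻¹ * t ∈ pq T a := ⟨mul_mem (inv_mem hp.1) ht, c⁻¹, inv_mem hc, by
    rw [(inv_mem hc).1 _ (mul_mem (inv_mem hp.1) ht), ← e]
    have : c⁻¹ * (p⁻¹ * (p * c * h)) = h := by group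
    simp only [this]; exact hh⟩
  simpa using mul_mem hp h6

lemma three_false [Nontrivial X] (hF : fittingSubgroup G = ⊥) {U V : Subgroup G} (hT : IsComponent T)
    (hU : IsComponent U) (hV : IsComponent V) (h1 : U ≠ T) (h2 : V ≠ T) (h3 : U ≠ V) {a : X}
    (h0 : stabilizer G a ⊓ T = ⊥) {t u v : G} (ht : t ∈ T) (hu : u ∈ U) (hv : v ∈ V)
    (e1 : t • a = u • a) (e2 : t • a = v • a) : t = 1 := by
  have cu := comp_le_cent hT hU h1
  have cv := comp_le_cent hT hV h2
  have cuv := comp_le_cent hV hU h3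
  have k1 : (u⁻¹ * t) • a = a := by rw [mul_smul, e1, inv_smul_smul]
  have k2 : (v⁻¹ * t) • a = a := by rw [mul_smul, e2, inv_smul_smul]
  rcases pq_dich hT a with h | h
  swap
  · exact mem_bot.mp (h0 ▸ mem_inf.mpr ⟨h ⟨ht, u⁻¹, mem_inf.mpr ⟨cu (inv_mem hu), IsComponent.le_layer hU (inv_mem hu)⟩,
      by rw [cu (inv_mem hu) t ht]; exact k1⟩, ht⟩)
  have key : ∀ x ∈ T, x * t * x⁻¹ * t = t * (x * t * x⁻¹) := fun x hx => by
    obtain ⟨-, c, hc, e⟩ := h hx
    have hl : x * c ∈ layer G := mul_mem (IsComponent.le_layer hT hx) hc.2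
    set u' := x * c * u⁻¹ * (x * c)⁻¹ with hu'
    have hu'U : u' ∈ U := (mem_normalizer_iff.mp (IsComponent.layer_le_normalizer hU hl) _).mp (inv_mem hu)
    set s := x * t * x⁻¹ with hs
    have hsT : s ∈ T := mul_mem (mul_mem hx ht) (inv_mem hx)
    have k3 : u' * s ∈ stabilizer G a := by
      have : u' * s = x * c * (u⁻¹ * t) * (x * c)⁻¹ := by
        have : s = x * c * t * (x * c)⁻¹ := by rw [mul_assoc x c, ← hc.1 t ht, hs]; group
        rw [this, hu']; group
      rw [this]; exact mul_mem (mul_mem e k1) (inv_mem e)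
    have c1 : Commute u' s := (cu hu'U s hsT).symm
    have c2 : Commute u' t := (cu hu'U t ht).symm
    have c3 : Commute u' v⁻¹ := (cuv hu'U _ (inv_mem hv)).symm
    have c4 : Commute v⁻¹ s := (cv (inv_mem hv) s hsT).symm
    have c5 : Commute v⁻¹ t := (cv (inv_mem hv) t ht).symm
    have k4 : ⁅u' * s, v⁻¹ * t⁆ = ⁅s, t⁆ := by
      have a1 : Commute u' (v⁻¹ * t) := c3.mul_right c2
      have a2 : (u' * s) * (v⁻¹ * t) = (u' * v⁻¹) * (s * t) := by
        rw [mul_assoc, ← mul_assoc s, ← c4.eq]; group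
      have a3 : (v⁻¹ * t) * (u' * s) = (u' * v⁻¹) * (t * s) := by
        rw [← mul_assoc, ← a1.eq]; group
      have a4 : Commute (u' * v⁻¹) ⁅s, t⁆ := by
        have b1 := c1.mul_left c4
        have b2 := c2.mul_left c5
        exact ((b1.mul_right b2).mul_right b1.inv_right).mul_right b2.inv_right
      calc ⁅u' * s, v⁻¹ * t⁆ = ((u' * s) * (v⁻¹ * t)) * ((v⁻¹ * t) * (u' * s))⁻¹ := by
            rw [commutatorElement_def]; group
        _ = (u' * v⁻¹) * ⁅s, t⁆ * (u' * v⁻¹)⁻¹ := by rw [a2, a3, commutatorElement_def]; group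
        _ = _ := by rw [a4.eq, mul_inv_cancel_right]
    have k5 : ⁅s, t⁆ ∈ stabilizer G a ⊓ T := mem_inf.mpr ⟨k4 ▸ commutatorElement_def (G := G) _ _ ▸
      mul_mem (mul_mem (mul_mem k3 k2) (inv_mem k3)) (inv_mem k2), commutatorElement_def (G := G) _ _ ▸
      mul_mem (mul_mem (mul_mem hsT ht) (inv_mem hsT)) (inv_mem ht)⟩
    rw [h0, mem_bot] at k5
    exact commutatorElement_eq_one_iff_mul_comm.mp k5
  set A := T ⊓ centralizer {y | ∃ x ∈ T, y = x * t * x⁻¹} with hA
  have htA : t ∈ A := mem_inf.mpr ⟨ht, by rintro _ ⟨x, hx, rfl⟩; exact key x hx⟩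
  rcases comp_eq_or hF hT (N := A) inf_le_left (fun s hs y hy => mem_inf.mpr
    ⟨mul_mem (mul_mem hs hy.1) (inv_mem hs), by
      rintro _ ⟨x, hx, rfl⟩
      have := hy.2 _ ⟨s⁻¹ * x, mul_mem (inv_mem hs) hx, rfl⟩
      calc x * t * x⁻¹ * (s * y * s⁻¹) = s * (s⁻¹ * x * t * (s⁻¹ * x)⁻¹ * y) * s⁻¹ := by group
        _ = _ := by rw [this]; group⟩) with e | e
  · exact comp_eq_one hF hT ht fun y hy => by
      have := (e.ge hy).2 _ ⟨1, one_mem _, rfl⟩
      simpa using this.symm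
  · exact mem_bot.mp (e ▸ htA)

lemma count [Finite X] [Nontrivial X] (hF : fittingSubgroup G = ⊥) (S : Finset (Subgroup G)) (a : X) {s : ℕ}
    (hS : ∀ U ∈ S, IsComponent U ∧ stabilizer G a ⊓ U = ⊥ ∧ Nat.card U = s) :
    S.card * (s - 1) ≤ 2 * (Nat.card X - 1) := by
  classical
  haveI := Fintype.ofFinite G
  haveI := Fintype.ofFinite X
  have h1 : (S.sigma fun U => (Finset.univ.filter (· ∈ U)).erase (1 : G)).card = S.card * (s - 1) := by
    rw [Finset.card_sigma, Finset.sum_const_nat fun U hU => ?_]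
    rw [Finset.card_erase_of_mem (by simp), ← (hS U hU).2.2, Nat.card_eq_fintype_card, Fintype.card_subtype]
  have hinj : ∀ U ∈ S, ∀ u ∈ U, ∀ v ∈ U, u • a = v • a → u = v := fun U hU u hu v hv e => by
    have : v⁻¹ * u ∈ stabilizer G a ⊓ U := mem_inf.mpr ⟨by
      rw [mem_stabilizer_iff, mul_smul, e, inv_smul_smul], mul_mem (inv_mem hv) hu⟩
    rw [(hS U hU).2.1, mem_bot] at this
    exact (inv_mul_eq_one.mp this).symm
  rw [← h1, Nat.card_eq_fintype_card, ← Finset.card_univ, ← Finset.card_erase_of_mem (Finset.mem_univ a)]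
  refine Finset.card_le_mul_card_image_of_maps_to (f := fun x => x.2 • a) (fun x hx => ?_) 2 fun b _ => ?_
  · simp only [Finset.mem_sigma, Finset.mem_erase, Finset.mem_filter, Finset.mem_univ, true_and, and_true] at hx ⊢
    exact fun e => hx.2.1 (hinj _ hx.1 _ hx.2.2 1 (one_mem _) (by simpa using e))
  by_contra hn
  obtain ⟨⟨T, t⟩, ht, ⟨U, u⟩, hu, ⟨V, v⟩, hv, n1, n2, n3⟩ := Finset.two_lt_card.mp (not_le.mp hn)
  simp only [Finset.mem_sigma, Finset.mem_erase, Finset.mem_filter, Finset.mem_univ, true_and] at ht hu hv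
  refine ht.1.2.1 (three_false hF (hS T ht.1.1).1 (hS U hu.1.1).1 (hS V hv.1.1).1 ?_ ?_ ?_ (hS T ht.1.1).2.1
    ht.1.2.2 hu.1.2.2 hv.1.2.2 (ht.2.trans hu.2.symm) (ht.2.trans hv.2.symm))
  · rintro rfl; exact n1 (by rw [hinj _ ht.1.1 _ ht.1.2.2 _ hu.1.2.2 (ht.2.trans hu.2.symm)])
  · rintro rfl; exact n2 (by rw [hinj _ ht.1.1 _ ht.1.2.2 _ hv.1.2.2 (ht.2.trans hv.2.symm)])
  · rintro rfl; exact n3 (by rw [hinj _ hu.1.1 _ hu.1.2.2 _ hv.1.2.2 (hu.2.trans hv.2.symm)])

end comps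

end Cfsg.Lib.Layer.CL
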