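import Cfsg.Agent.Lib.Layer.CL2

set_option autoImplicit false
set_option linter.unusedSectionVars false

open Subgroup MulAction Cfsg.Lib.Transfer Cfsg.Lib.FG
open scoped ArithmeticFunction.Omega commutatorElement Pointwise

namespace Cfsg.Lib.Layer.CL

universe v

/-- number of orbits -/
noncomputable def orbs (G X : Type*) [Group G] [MulAction G X] : ℕ := Nat.card (Quotient (orbitRel G X))

/-- induction hypothesis -/
def IH (N : ℕ) : Prop := ∀ (G X : Type v) [Group G] [Finite G] [MulAction G X] [FaithfulSMul G X] [Finite X],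
  Nat.card G + Nat.card X < N → 3 * cl (⊤ : Subgroup G) + 4 * orbs G X ≤ 4 * Nat.card X

lemma ar1 : ∀ d : ℕ, 2 ≤ d → 3 * d * d + 4 ≤ 4 * 2 ^ d := by
  intro d hd
  induction d, hd using Nat.le_induction with
  | base => norm_num
  | succ d hd ih =>
    rcases hd.eq_or_lt with rfl | h
    · norm_num
    · rw [pow_succ]; nlinarith

lemma ar2 : ∀ L : ℕ, 4 ≤ L → 3 * L * (L + 1) ≤ 4 * 2 ^ L := by
  intro d hd
  induction d, hd using Nat.le_induction with
  | base => norm_num
  | succ d hd ih => rw [pow_succ]; nlinarith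

lemma ar3 {p d L : ℕ} (hp : 2 ≤ p) (hd : 2 ≤ d) (h1 : 2 ^ L < p ^ d) (h2 : p ^ d ≤ 2 ^ (L + 1)) :
    3 * (d + d * L) + 4 ≤ 4 * p ^ d := by
  rcases hp.eq_or_lt with rfl | hp
  · have := (Nat.pow_lt_pow_iff_right (by norm_num)).mp h1
    have := ar1 d hd
    nlinarith
  have h3 : 2 ^ d < p ^ d := Nat.pow_lt_pow_left hp (by omega)
  have h4 : d < L + 1 := (Nat.pow_lt_pow_iff_right (by norm_num)).mp (h3.trans_le h2)
  by_cases hL : 4 ≤ L
  · have := ar2 L hL
    nlinarith
  have h5 : 3 ^ d ≤ p ^ d := Nat.pow_le_pow_left hp _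
  have h6 : 2 ^ (L + 1) ≤ 2 ^ 4 := Nat.pow_le_pow_right (by norm_num) (by omega)
  obtain rfl | rfl : d = 2 ∨ d = 3 := by omega
  · omega
  · omega

lemma ar4 : ∀ l : ℕ, 6 ≤ l → 9 * l ≤ 2 ^ l := by
  intro d hd
  induction d, hd using Nat.le_induction with
  | base => norm_num
  | succ d hd ih => rw [pow_succ]; nlinarith

lemma ar5 : ∀ L : ℕ, 6 ≤ L → 6 * (3 * (L * L) + 4) + 11 ≤ 11 * 2 ^ L := by
  intro d hd
  induction d, hd using Nat.le_induction with
  | base => norm_num
  | succ d hd ih => rw [pow_succ]; nlinarith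

lemma ar6 {m s n L l : ℕ} (hs : 60 ≤ s) (hn : s ≤ n) (hL : 2 ^ L ≤ s) (hl : 2 ^ l ≤ n)
    (h : m * (s - 1) ≤ 2 * (n - 1)) : 4 * m + 3 * (l + m * (L * L)) ≤ 4 * n := by
  have h1 : 9 * l ≤ n := by
    by_cases h6 : 6 ≤ l
    · exact (ar4 l h6).trans hl
    · omega
  have h2 : 6 * (3 * (L * L) + 4) ≤ 11 * (s - 1) := by
    by_cases h6 : 6 ≤ L
    · have := ar5 L h6; omega
    · have : L * L ≤ 5 * 5 := Nat.mul_le_mul (by omega) (by omega)
      omega
  have h3 := Nat.mul_le_mul_left m h2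
  have h4 : m * (11 * (s - 1)) = 11 * (m * (s - 1)) := by ring
  have h5 : m * (6 * (3 * (L * L) + 4)) = 18 * (m * (L * L)) + 24 * m := by ring
  omega

variable {G X : Type v} [Group G] [Finite G] [MulAction G X] [FaithfulSMul G X] [Finite X]

lemma sub (h : IH.{v} (Nat.card G + Nat.card X)) {K : Subgroup G} (hK : K ≠ ⊤) :
    3 * cl K + 4 * orbs K X ≤ 4 * Nat.card X := by
  rw [← cl_top]
  refine h K X (Nat.add_lt_add_right ?_ _)
  exact lt_of_le_of_ne K.card_le_card_group fun e => hK (K.eq_top_of_card_eq e)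

lemma quot (h : IH.{v} (Nat.card G + Nat.card X)) (M : Subgroup G) (hM : M.index < Nat.card X) :
    3 * cl (⊤ : Subgroup G) + 4 ≤ 3 * cl M.normalCore + 4 * M.index := by
  have h1 := h (toPermHom G (G ⧸ M)).range (G ⧸ M) (Nat.add_lt_add_of_le_of_lt
    (Nat.card_le_card_of_surjective _ (toPermHom G (G ⧸ M)).rangeRestrict_surjective) hM)
  have h2 : 0 < orbs (toPermHom G (G ⧸ M)).range (G ⧸ M) := Nat.card_pos
  rw [cl_hom (toPermHom G (G ⧸ M)), cl_top (toPermHom G (G ⧸ M)).ker, ← normalCore_eq_ker]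
  rw [← index_eq_card] at h1
  omega

lemma red (h : IH.{v} (Nat.card G + Nat.card X)) (a : X) (M : Subgroup G) (h1 : stabilizer G a ≤ M)
    (h2 : M ≠ ⊤) (hM : M.index < Nat.card X) :
    3 * cl (⊤ : Subgroup G) + 4 * orbs G X ≤ 4 * Nat.card X := by
  classical
  have k1 := quot h M hM
  have k2 := sub h (K := M.normalCore) fun e => h2 (eq_top_iff.mpr (e ▸ normalCore_le M))
  let ψ : (G ⧸ M) ⊕ {q : Quotient (orbitRel G X) // q ≠ ⟦a⟧} → Quotient (orbitRel M.normalCore X) :=
    Sum.elim (fun x => ⟦x.out • a⟧) fun q => ⟦q.1.out⟧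
  have hψ : Function.Injective ψ := by
    rintro (x | x) (y | y) e <;> obtain ⟨k, hk⟩ := orbitRel_apply.mp (Quotient.exact e)
    · have e1 : (k : G) • y.out • a = x.out • a := hk
      have e2 : x.out⁻¹ * k * y.out ∈ M := h1 (by rw [mem_stabilizer_iff, mul_smul, mul_smul, e1, inv_smul_smul])
      have e3 : x.out⁻¹ * k * x.out⁻¹⁻¹ ∈ M := k.2 _
      rw [← x.out_eq, ← y.out_eq]
      congr 1
      refine QuotientGroup.eq.mpr ?_
      have := mul_mem (inv_mem e3) e2
      simpa [mul_assoc] using this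
    · refine (y.2 ?_).elim
      rw [← y.1.out_eq]
      exact Quotient.sound (orbitRel_apply.mpr ⟨(k : G)⁻¹ * x.out, by
        have e1 : (k : G) • y.1.out = x.out • a := hk
        simp only [mul_smul, ← e1, inv_smul_smul]⟩)
    · refine (x.2 ?_).elim
      rw [← x.1.out_eq]
      exact Quotient.sound (orbitRel_apply.mpr ⟨(k : G) * y.out, by
        have e1 : (k : G) • y.out • a = x.1.out := hk
        simp only [mul_smul, e1]⟩)
    · congr 1
      refine Subtype.ext ?_
      rw [← x.1.out_eq, ← y.1.out_eq]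
      exact Quotient.sound (orbitRel_apply.mpr ⟨(k : G), hk⟩)
  have k3 := Nat.card_le_card_of_injective ψ hψ
  rw [Nat.card_sum, ← index_eq_card] at k3
  have k4 : Nat.card {q : Quotient (orbitRel G X) // q ≠ ⟦a⟧} + 1 = orbs G X := by
    haveI := Fintype.ofFinite (Quotient (orbitRel G X))
    rw [orbs, Nat.card_eq_fintype_card, Nat.card_eq_fintype_card, Fintype.card_subtype_compl, Fintype.card_subtype_eq]
    have : 0 < Fintype.card (Quotient (orbitRel G X)) := Fintype.card_pos_iff.mpr ⟨⟦a⟧⟩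
    omega
  change _ ≤ orbs M.normalCore X at k3
  omega

variable [IsPreprimitive G X] [Nontrivial X]

lemma sup_top {N : Subgroup G} [N.Normal] (hN : N ≠ ⊥) (a : X) : N ⊔ stabilizer G a = ⊤ :=
  (IsPreprimitive.isCoatom_stabilizer_of_isPreprimitive G a).2 _ (lt_of_le_of_ne le_sup_right fun e =>
    hN (eq_bot_iff.mpr (normalCore_stab (G := G) a ▸ normal_le_normalCore.mpr (e ▸ le_sup_left))))

lemma prim0 {N : Subgroup G} [N.Normal] (hN : N ≠ ⊥) (a : X) :
    cl (⊤ : Subgroup G) + cl (stabilizer G a ⊓ N) = cl N + cl (stabilizer G a) := by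
  rw [← sup_top hN a]; exact cl_sup fun k _ x hx => Normal.conj_mem ‹_› x hx k

lemma prim1 (h : IH.{v} (Nat.card G + Nat.card X)) {N : Subgroup G} [N.Normal] (hN : N ≠ ⊥) (a : X)
    (hc : cl N ≤ cl (stabilizer G a ⊓ N) + 1) : 3 * cl (⊤ : Subgroup G) + 4 ≤ 4 * Nat.card X := by
  have h1 := prim0 hN a
  have h2 := sub h (IsPreprimitive.isCoatom_stabilizer_of_isPreprimitive G a).1
  have h3 : 1 < orbs (stabilizer G a) X := by
    obtain ⟨b, hb⟩ := exists_ne a
    refine Finite.one_lt_card_iff_nontrivial.mpr ⟨⟦b⟧, ⟦a⟧, fun e => hb ?_⟩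
    obtain ⟨k, hk⟩ := orbitRel_apply.mp (Quotient.exact e)
    exact hk.symm.trans k.2
  omega

lemma cent_semireg {N : Subgroup G} [N.Normal] (hN : N ≠ ⊥) (a : X) :
    stabilizer G a ⊓ centralizer (N : Set G) = ⊥ := eq_bot_iff.mpr fun x hx => mem_bot.mpr
  (eq_of_smul_eq_smul fun (b : X) => by
    obtain ⟨g, hg, rfl⟩ := Perm.isPretransitive_subgroup_iff.mp (Perm.isPretransitive_of_normal (α := X) N hN) a b
    rw [one_smul, ← mul_smul, ← hx.2 g hg, mul_smul, mem_stabilizer_iff.mp hx.1])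

lemma card_le_of_semireg {C : Subgroup G} {a : X} (h : stabilizer G a ⊓ C = ⊥) : Nat.card C ≤ Nat.card X :=
  Nat.card_le_card_of_injective (fun c : C => (c : G) • a) fun u v (e : (u : G) • a = (v : G) • a) => by
    have : (v : G)⁻¹ * u ∈ stabilizer G a ⊓ C := mem_inf.mpr ⟨by
      rw [mem_stabilizer_iff, mul_smul, e, inv_smul_smul], (v⁻¹ * u).2⟩
    rw [h, mem_bot] at this
    exact Subtype.ext (inv_mul_eq_one.mp this).symm

lemma affine (h : IH.{v} (Nat.card G + Nat.card X)) (hF : fittingSubgroup G ≠ ⊥) :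
    3 * cl (⊤ : Subgroup G) + 4 ≤ 4 * Nat.card X := by
  obtain ⟨a⟩ : Nonempty X := inferInstance
  haveI : (fittingSubgroup G).Normal := fit_normal
  obtain ⟨p, hp, hE, -, hc, -⟩ := affine_fit hF a
  haveI := Fact.mk hp
  obtain ⟨d, hd⟩ := IsPGroup.iff_card.mp (show IsPGroup p (fittingSubgroup G) from fun x =>
    ⟨1, Subtype.ext (by simpa using hE.2 x x.2)⟩)
  have h1 := cl_le_Om (fittingSubgroup G)
  rw [hd, ArithmeticFunction.cardFactors_apply_prime_pow hp] at h1
  by_cases h2 : d ≤ 1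
  · exact prim1 h hF a (by omega)
  have h3 := prim0 hF a
  have hn : 1 < p ^ d := Nat.one_lt_pow (by omega) hp.one_lt
  have h4 := Nat.pow_log_le_self 2 (x := p ^ d - 1) (by omega)
  have h5 := Nat.lt_pow_succ_log_self (b := 2) (by norm_num) (p ^ d - 1)
  set L := Nat.log 2 (p ^ d - 1)
  have h6 := Om_base (stabilizer G a) (fittingSubgroup G) (fun k _ t ht => Normal.conj_mem ‹_› t ht k) (L := L)
    (q := p) (by rw [hd]; exact Nat.le_of_pred_lt h5) (fun M M' hM hM' => by
      rw [card_rel hM.le, mul_comm]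
      have h1 : M.relIndex M' ≠ 1 := fun e => hM.not_ge (relIndex_eq_one.mp e)
      have h0 : M.relIndex M' ∣ p ^ d := hd ▸ (relIndex_dvd_card M M').trans (card_dvd_of_le hM')
      obtain ⟨k, -, hk⟩ := (Nat.dvd_prime_pow hp).mp h0
      refine Nat.mul_le_mul_left _ (hk ▸ Nat.le_self_pow ?_ _)
      rintro rfl; exact h1 (by simpa using hk)) d ⊥ bot_le (by
        rw [hd, card_bot, one_mul]; exact Nat.pow_lt_pow_right hp.one_lt (by omega))
  have h0 : centralizer ((⊥ : Subgroup G) : Set G) = ⊤ :=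
    eq_top_iff.mpr fun x _ y hy => by
      have : y = 1 := by simpa using hy
      simp [this]
  rw [h0, inf_top_eq, cent_semireg hF a] at h6
  have h7 := cl_le_Om (stabilizer G a)
  have h8 := ar3 hp.two_le (by omega : 2 ≤ d) (L := L) (by omega) (Nat.le_of_pred_lt h5)
  rw [← hc, hd]
  simp only [card_bot, ArithmeticFunction.cardFactors_one] at h6
  omega

lemma nonaffine (h : IH.{v} (Nat.card G + Nat.card X)) (hF : fittingSubgroup G = ⊥) :
    3 * cl (⊤ : Subgroup G) + 4 ≤ 4 * Nat.card X := by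
  classical
  obtain ⟨a⟩ : Nonempty X := inferInstance
  haveI := @nontrivial_of_prim G _ _ X _ _ _ _
  haveI : (layer G).Normal := layer_normal
  obtain ⟨T, hT⟩ := exists_component_of_layer_ne_bot (G := G) (fstar_eq_layer hF ▸ fstar_ne_bot)
  set S : Finset (Subgroup G) := (Set.toFinite (Set.range fun g : G => cj g T)).toFinset with hS
  have mS : ∀ {U}, U ∈ S ↔ ∃ g, cj g T = U := by simp [hS]
  have mS' : ∀ U ∈ S, ∃ g ∈ stabilizer G a, cj g T = U := fun U hU => by
    obtain ⟨g, rfl⟩ := mS.mp hU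
    have : g ∈ (stabilizer G a : Set G) * (layer G : Set G) := by
      rw [← mul_normal, sup_comm, sup_top (fun e => IsComponent.ne_bot hT (eq_bot_iff.mpr
        (e ▸ IsComponent.le_layer hT))) a]; trivial
    obtain ⟨x, hx, y, hy, rfl⟩ := this
    exact ⟨x, hx, by rw [cj_mul, cj_eq_of_mem_normalizer (IsComponent.layer_le_normalizer hT hy)]⟩
  have hTS : T ∈ S := mS.mpr ⟨1, cj_one _⟩
  have hcj : ∀ g, ∀ U ∈ S, cj g U ∈ S := fun g U hU => by
    obtain ⟨x, rfl⟩ := mS.mp hU; exact mS.mpr ⟨g * x, cj_mul _ _ _⟩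
  have hinv : ∀ K : Subgroup G, ∀ g, cj g K = K → cj g (S.sup (K ⊓ ·)) ≤ S.sup (K ⊓ ·) := fun K g hg => by
    rw [cj_le_iff_le_cj_inv]
    refine Finset.sup_le fun U hU => ?_
    rw [← cj_le_iff_le_cj_inv, cj_inf, hg]
    exact Finset.le_sup (f := (K ⊓ ·)) (hcj g U hU)
  haveI hN : (S.sup id).Normal := ⟨fun x hx g => by
    have := hinv ⊤ g (cj_top g)
    simp only [top_inf_eq] at this
    exact cj_le_iff.mp this x hx⟩
  have hN0 : S.sup id ≠ ⊥ := fun e => IsComponent.ne_bot hT (eq_bot_iff.mpr (e ▸ Finset.le_sup (f := id) hTS))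
  have hst : ∀ g ∈ stabilizer G a, stabilizer G a ⊓ cj g T = cj g (stabilizer G a ⊓ T) := fun g hg => by
    rw [cj_inf, cj_eq_of_mem hg]
  by_cases h0 : stabilizer G a ⊓ T = ⊥
  swap
  · refine prim1 h hN0 a (le_trans (le_trans (lemA hF (stabilizer G a) S fun U hU => ?_) (cl_le ?_ ?_)) (Nat.le_succ _))
    · obtain ⟨g, hg, rfl⟩ := mS' U hU
      exact ⟨IsComponent.cj hT g, by rw [hst g hg, Ne, cj_eq_bot]; exact h0⟩
    · exact Finset.sup_le fun U hU => inf_le_inf_left _ (Finset.le_sup (f := id) hU)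
    · exact fun k hk => cj_le_iff.mp (hinv _ k (cj_eq_of_mem hk.1))
  have h1 := count hF S a (s := Nat.card T) fun U hU => by
    obtain ⟨g, hg, rfl⟩ := mS' U hU
    exact ⟨IsComponent.cj hT g, by rw [hst g hg, h0, cj_bot], card_cj _ _⟩
  have h2 : 60 ≤ Nat.card T := not_lt.mp fun hl =>
    IsQuasisimple.not_isSolvable hT.2 (Hall.solvable_of_card_lt_sixty _ T rfl hl)
  have h3 := card_le_of_semireg h0
  have h4 : (normalizer (T : Set G)).index ≤ S.card := by
    rw [index_eq_card, ← Nat.card_eq_finsetCard]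
    refine Nat.card_le_card_of_injective (fun x => (⟨cj x.out T, mS.mpr ⟨_, rfl⟩⟩ : S)) fun x y e => ?_
    have e' : cj x.out T = cj y.out T := congrArg Subtype.val e
    rw [← x.out_eq, ← y.out_eq]
    exact QuotientGroup.eq.mpr (cj_eq_iff.mp (by rw [cj_mul, ← e', cj_inv_cj]))
  have h5 : S.card < Nat.card X := by
    have := Nat.mul_le_mul_left S.card (show 59 ≤ Nat.card T - 1 by omega)
    omega
  have h6 := quot h _ (h4.trans_lt h5)
  set B := (normalizer (T : Set G)).normalCore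
  have h7 := lemB (L := Nat.log 2 (Nat.card T)) S B fun U hU => by
    obtain ⟨g, rfl⟩ := mS.mp hU
    refine ⟨by rw [card_cj]; exact Nat.lt_pow_succ_log_self (by norm_num) _, fun k hk t ht => ?_⟩
    have := (mem_normalizer_iff.mp (hk g⁻¹) _).mp (mem_cj.mp ht)
    rw [mem_cj]
    convert this using 1
    group
  have h8 : Nat.card ↥(B ⊓ centralizer ((S.sup id : Subgroup G) : Set G)) ≤ Nat.card X :=
    (card_le_of_le inf_le_right).trans (card_le_of_semireg (cent_semireg hN0 a))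
  have h9 := ar6 h2 h3 (Nat.pow_log_le_self 2 (by omega)) ((two_pow_Om_le Nat.card_pos.ne').trans h8) h1
  have h10 := cl_le_Om B
  omega

end Cfsg.Lib.Layer.CL

namespace Cfsg.Lib.Layer.CL
universe v

theorem all (N : ℕ) : IH.{v} N := by
  induction N with
  | zero => intro G X _ _ _ _ _ h; omega
  | succ N ih =>
    intro G X _ _ _ _ _ hN
    rcases (Nat.lt_succ_iff.mp hN).lt_or_eq with h | h
    · exact ih G X h
    rw [← h] at ih
    by_cases hG : ∀ (g : G) (a : X), g • a = a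
    · have : (⊤ : Subgroup G) = ⊥ := eq_bot_iff.mpr fun g _ => mem_bot.mpr
        (eq_of_smul_eq_smul fun (b : X) => by rw [hG, one_smul])
      rw [this, cl_bot]
      have : orbs G X ≤ Nat.card X := Nat.card_le_card_of_surjective _ Quotient.mk_surjective
      omega
    push Not at hG
    obtain ⟨g, a, hg⟩ := hG
    haveI : Nontrivial X := ⟨⟨_, _, hg⟩⟩
    have h1 : stabilizer G a ≠ ⊤ := fun e => hg (e.ge (mem_top g))
    have h2 : (stabilizer G a).index = Nat.card (orbit G a) := by rw [index_stabilizer, Nat.card_coe_set_eq]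
    by_cases ht : orbit G a = Set.univ
    swap
    · refine red ih a _ le_rfl h1 ?_
      rw [index_stabilizer, ← Set.ncard_univ]
      exact Set.ncard_lt_ncard (Set.ssubset_univ_iff.mpr ht)
    haveI : IsPretransitive G X := (isPretransitive_iff_orbit_eq_univ a).mpr ht
    by_cases hc : IsCoatom (stabilizer G a)
    · haveI := (isCoatom_stabilizer_iff_preprimitive G a).mp hc
      have : orbs G X ≤ 1 := Finite.card_le_one_iff_subsingleton.mpr ((pretransitive_iff_subsingleton_quotient G X).mp ‹_›)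
      by_cases hF : fittingSubgroup G = ⊥
      · have := nonaffine ih hF; omega
      · have := affine ih hF; omega
    · simp only [IsCoatom, not_and, not_forall] at hc
      obtain ⟨M, hM, hM'⟩ := hc h1
      refine red ih a M hM.le hM' ?_
      rw [← index_stabilizer_of_transitive G a]
      exact index_strictAnti hM

theorem main {G X : Type*} [Group G] [Finite G] [MulAction G X] [FaithfulSMul G X] [Finite X] :
    3 * cl (⊤ : Subgroup G) + 4 * orbs G X ≤ 4 * Nat.card X := by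
  have h1 := all _ (toPermHom G X).range X (Nat.lt_succ_self _)
  rw [cl_top, MonoidHom.range_eq_map, cl_map_inj _ toPerm_injective, ← MonoidHom.range_eq_map] at h1
  have h2 : orbitRel (toPermHom G X).range X = orbitRel G X := by
    ext a b
    simp only [orbitRel_apply]
    exact ⟨fun ⟨⟨_, g, rfl⟩, e⟩ => ⟨g, e⟩, fun ⟨g, e⟩ => ⟨⟨_, g, rfl⟩, e⟩⟩
  rw [orbs, h2] at h1
  exact h1

end Cfsg.Lib.Layer.CL
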