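import Cfsg.Agent.Lib.Small.CoM
import Cfsg.Agent.Lib.Leech.ModTwo

/-! Facts on involutions of `Co0` used for standard subgroups isomorphic to `Co0`. -/

set_option autoImplicit false

namespace Cfsg.Lib.Layer.Cz

open Cfsg.Lib.Leech Cfsg.Lib.Golay Cfsg.Spor Subgroup Cfsg.Lib.Small.Co1Z Cfsg.Lib.Small.CoU
  Cfsg.Agent.S5388 Cfsg.Lib.Small.CoM
open scoped Pointwise symmDiff TensorProduct

section tr
variable {H V : Type*} [Group H] [AddCommGroup V] [Module ℚ V] [Module.Finite ℚ V]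

theorem tr_half (ρ : H →* Module.End ℚ V) {n a b : H} (hn : ρ n = -1) (h : b * a = n * a * b)
    {X : Module.End ℚ V} (hX : Commute X (ρ b)) :
    LinearMap.trace ℚ V (X * ((1 / 2 : ℚ) • (1 + ρ a))) = (1 / 2 : ℚ) * LinearMap.trace ℚ V X := by
  have e1 : ρ b * ρ a = -(ρ a * ρ b) := by rw [← map_mul, h, map_mul, map_mul, hn]; simp
  have e2 : ρ b⁻¹ * ρ b = 1 := by rw [← map_mul, inv_mul_cancel, map_one]
  have e3 : ρ b * ρ b⁻¹ = 1 := by rw [← map_mul, mul_inv_cancel, map_one]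
  have e4 : LinearMap.trace ℚ V (X * ρ a) = -LinearMap.trace ℚ V (X * ρ a) := by
    calc LinearMap.trace ℚ V (X * ρ a) = LinearMap.trace ℚ V (ρ b⁻¹ * (ρ b * X * ρ a)) := by
          rw [← mul_assoc, ← mul_assoc, e2, one_mul]
      _ = LinearMap.trace ℚ V (ρ b⁻¹ * (-(X * ρ a * ρ b))) := by
          rw [← hX.eq, mul_assoc X, e1, mul_neg X, mul_assoc X]
      _ = -LinearMap.trace ℚ V (X * ρ a) := by
          rw [mul_neg, map_neg, LinearMap.trace_mul_comm, mul_assoc, e3, mul_one]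
  have e5 : LinearMap.trace ℚ V (X * ρ a) = 0 := by linarith
  rw [mul_smul_comm, mul_add, mul_one, map_smul, map_add, e5, add_zero, smul_eq_mul]

theorem idem (ρ : H →* Module.End ℚ V) {a : H} (h : a * a = 1) :
    IsIdempotentElem ((1 / 2 : ℚ) • (1 + ρ a)) := by
  have e : ρ a * ρ a = 1 := by rw [← map_mul, h, map_one]
  show _ * _ = _
  rw [smul_mul_smul_comm, add_mul, mul_add, mul_add, e]
  simp only [one_mul, mul_one]
  module

theorem cm (ρ : H →* Module.End ℚ V) {a b : H} (h : b * a = a * b) :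
    Commute ((1 / 2 : ℚ) • (1 + ρ a)) (ρ b) :=
  ((Commute.one_left _).add_left ((show Commute a b from h.symm).map ρ)).smul_left _

theorem cm2 (ρ : H →* Module.End ℚ V) {a b : H} (h : b * a = a * b) :
    Commute ((1 / 2 : ℚ) • (1 + ρ a)) ((1 / 2 : ℚ) • (1 + ρ b)) :=
  ((Commute.one_right _).add_right (cm ρ h)).smul_right _

theorem no16_aux (ρ : H →* Module.End ℚ V) (hV : Module.finrank ℚ V = 24) {n : H} (hn : ρ n = -1)
    (a b : Fin 4 → H) (h1 : ∀ i, a i * a i = 1) (h2 : ∀ i j, a i * a j = a j * a i)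
    (h3 : ∀ i, b i * a i = n * a i * b i) (h4 : ∀ i j, i ≠ j → b i * a j = a j * b i) : False := by
  have k := (((idem ρ (h1 0)).mul_of_commute (cm2 ρ (h2 1 0)) (idem ρ (h1 1))).mul_of_commute
    ((cm2 ρ (h2 2 0)).mul_left (cm2 ρ (h2 2 1))) (idem ρ (h1 2))).mul_of_commute
    (((cm2 ρ (h2 3 0)).mul_left (cm2 ρ (h2 3 1))).mul_left (cm2 ρ (h2 3 2))) (idem ρ (h1 3))
  obtain ⟨m, t⟩ : ∃ m : ℕ, LinearMap.trace ℚ V _ = m := ⟨_, (LinearMap.IsIdempotentElem.isProj_range _ k).trace⟩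
  rw [tr_half ρ hn (h3 3) (((cm ρ (h4 3 0 (by decide))).mul_left (cm ρ (h4 3 1 (by decide)))).mul_left
      (cm ρ (h4 3 2 (by decide)))),
    tr_half ρ hn (h3 2) ((cm ρ (h4 2 0 (by decide))).mul_left (cm ρ (h4 2 1 (by decide)))),
    tr_half ρ hn (h3 1) (cm ρ (h4 1 0 (by decide))), ← one_mul ((1 / 2 : ℚ) • (1 + ρ (a 0))),
    tr_half ρ hn (h3 0) (Commute.one_left _), LinearMap.trace_one, hV] at t
  have : (2 * m : ℚ) = 3 := by rw [← t]; norm_num
  have : 2 * m = 3 := by exact_mod_cast this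
  omega

end tr

/-- the action on the lattice. -/
noncomputable def ρ0 : Co0 →* Module.End ℤ leechLattice where
  toFun g := (toHom g).toIntLinearMap
  map_one' := LinearMap.ext fun _ => rfl
  map_mul' _ _ := LinearMap.ext fun _ => rfl

theorem no16 (a b : Fin 4 → Co0) (h1 : ∀ i, a i * a i = 1) (h2 : ∀ i j, a i * a j = a j * a i)
    (h3 : ∀ i, b i * a i = negOne * a i * b i) (h4 : ∀ i j, i ≠ j → b i * a j = a j * b i) : False := by
  have := leech_free
  have := leech_finite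
  refine no16_aux (V := ℚ ⊗[ℤ] leechLattice)
    ((Module.End.baseChangeHom ℤ ℚ leechLattice : _ →* _).comp ρ0) ?_ ?_ a b h1 h2 h3 h4
  · rw [Module.finrank_baseChange, leech_finrank]
  · have : ρ0 negOne = -1 := LinearMap.ext fun v => negOne_smul v
    rw [MonoidHom.comp_apply, this]
    exact (map_neg (Module.End.baseChangeHom ℤ ℚ leechLattice) 1).trans (by rw [map_one])

/-- the sign change with a given mask. -/
noncomputable def S (m : ℕ) (h : isCw m = true) : Co0 := sgn (om m) (om_mem_cw h)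

theorem S_mul {a b c : ℕ} (ha : isCw a = true) (hb : isCw b = true) (hc : isCw c = true)
    (h : c = Nat.xor a b) : S a ha * S b hb = S c hc := by
  rw [S, S, sgn_mul_sgn]
  exact sgn_congr (by rw [h]; exact (gc.ofMask_xor a b).symm)

theorem S_sq {a : ℕ} (ha : isCw a = true) : S a ha * S a ha = 1 := sgn_mul_self _

theorem S_comm {a b : ℕ} (ha : isCw a = true) (hb : isCw b = true) : S a ha * S b hb = S b hb * S a ha := by
  rw [S, S, sgn_mul_sgn, sgn_mul_sgn]
  exact sgn_congr (symmDiff_comm _ _)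

theorem neg_S {a c : ℕ} (ha : isCw a = true) (hc : isCw c = true) (h : c = Nat.xor a 16777215) :
    negOne * S a ha = S c hc := by
  rw [S, neg_sgn]
  exact sgn_congr (by rw [h]; exact (om_compl a).symm)

theorem conj_oct {a : ℕ} (ha : isCw a = true) (h : isOct a = true) : IsConj ep (S a ha) := by
  obtain ⟨σ, hσ, e⟩ := exists_M24_octad O0_mem (om_mem_octads h)
  exact isConj_iff.2 ⟨prm ⟨σ, hσ⟩, (prm_sgn_conj ⟨σ, hσ⟩ cw_oo).trans (sgn_congr e)⟩

theorem conj_dod {a : ℕ} (ha : isCw a = true) (h : isDod a = true) : IsConj w0 (S a ha) := by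
  obtain ⟨σ, hσ, e⟩ := exists_M24_dodecad D_mem (om_mem_dodecads h)
  exact isConj_iff.2 ⟨prm ⟨σ, hσ⟩, (prm_sgn_conj ⟨σ, hσ⟩ D_mem.1).trans (sgn_congr e)⟩

theorem conj_neg {a b : Co0} (h : IsConj a b) : IsConj (negOne * a) (negOne * b) := by
  obtain ⟨k, rfl⟩ := isConj_iff.1 h
  exact isConj_iff.2 ⟨k, by rw [← mul_assoc k, negOne_comm k]; group⟩

theorem nn (a : Co0) : negOne * (negOne * a) = a := by rw [← mul_assoc, negOne_mul_self, one_mul]

theorem w0_neg : IsConj w0 (negOne * w0) := by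
  have : negOne * w0 = S 0xfacca0 (by decide +kernel) :=
    neg_S (a := 0x5335f) (by decide +kernel) _ (by decide +kernel)
  rw [this]
  exact conj_dod _ (by decide +kernel)

theorem lift_conj {a b : Co0} (h : IsConj (mk1 a) (mk1 b)) : IsConj a b ∨ IsConj (negOne * a) b := by
  obtain ⟨k, hk⟩ := isConj_iff.1 h
  obtain ⟨k, rfl⟩ := mk1_surjective k
  rw [← map_inv, ← map_mul, ← map_mul, mk1_eq_iff] at hk
  rcases hk with e | e
  · exact Or.inl (isConj_iff.2 ⟨k, e⟩)
  · have := conj_neg (isConj_iff.2 ⟨k, e⟩)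
    rw [nn] at this
    exact Or.inr this

/-- the classes of involutions of `Co0`. -/
theorem cls {l : Co0} (h : l * l = 1) : l = 1 ∨ l = negOne ∨ IsConj ep l ∨ IsConj (negOne * ep) l ∨
    IsConj w0 l := by
  rcases R_all (x := mk1 l) (by rw [← map_mul, h, map_one]) with e | e | e | e
  · exact (mk1_eq_one.1 e).imp id Or.inl
  · exact Or.inr (Or.inr ((lift_conj e).imp id Or.inl))
  · exact Or.inr (Or.inr (Or.inr (Or.inr ((lift_conj e).elim id w0_neg.trans))))
  · exact absurd ((sq_of_tt e).symm.trans h) negOne_ne_one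

/-- masks of four codewords of weight 16. -/
def cm4 : Fin 4 → ℕ := ![0xfad83f, 0xdf546f, 0xae59ef, 0xc25eff]
/-- codes of four translations. -/
def gm4 : Fin 4 → ℕ := ![0x170a0810121311140d0e0f06071604150b0c050903020100,
  0x1704130f1508110d140e100b0c090a120607051603020100,
  0x170c0f1314101112150e08160406070d090a050b03020100,
  0x17140b160c06110a040e091315100d070812050f03020100]

theorem cm4_cw : ∀ i, isCw (cm4 i) = true := by decide +kernel
theorem gm4_in : ∀ i, inM24 (gm4 i) = true := by decide +kernel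

theorem prm_S {g a c : ℕ} (hg : gc.InH M24 g) (ha : isCw a = true) (hc : isCw c = true)
    (h : c = imgN 24 g a) : prm ⟨_, hg.2⟩ * S a ha = S c hc * prm ⟨_, hg.2⟩ := by
  rw [S, prm_mul_sgn]
  congr 1
  exact sgn_congr (by rw [h]; exact hg.1.smul_ofMask a)

theorem ex16 : ∃ a b : Fin 4 → Co0, (∀ i, a i * a i = 1) ∧ (∀ i j, a i * a j = a j * a i) ∧
    (∀ i, b i * a i = negOne * ep * a i * b i) ∧ (∀ i j, i ≠ j → b i * a j = a j * b i) ∧
    (∀ i, IsConj (negOne * ep) (a i)) ∧ (∀ i, Commute (negOne * ep) (a i)) ∧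
    ∀ i, Commute (negOne * ep) (b i) := by
  have hy : isCw 0x7dbfd0 = true := by decide +kernel
  have ey : negOne * ep = S 0x7dbfd0 hy := neg_S (a := 0x82402f) (by decide +kernel) _ (by decide +kernel)
  have k1 : ∀ i, isCw (Nat.xor 0x7dbfd0 (cm4 i)) = true := by decide +kernel
  have k2 : ∀ i, Nat.xor 0x7dbfd0 (cm4 i) = imgN 24 (gm4 i) (cm4 i) := by decide +kernel
  have k3 : ∀ i j, i ≠ j → cm4 j = imgN 24 (gm4 i) (cm4 j) := by decide +kernel
  have k4 : ∀ i, isCw (Nat.xor (cm4 i) 16777215) = true := by decide +kernel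
  have k5 : ∀ i, isOct (Nat.xor (cm4 i) 16777215) = true := by decide +kernel
  have k6 : ∀ i, cm4 i = Nat.xor (Nat.xor (cm4 i) 16777215) 16777215 := by decide +kernel
  have k7 : ∀ i, 0x7dbfd0 = imgN 24 (gm4 i) 0x7dbfd0 := by decide +kernel
  refine ⟨fun i => S _ (cm4_cw i), fun i => prm ⟨_, (inH_of_inM24 (gm4_in i)).2⟩, fun i => S_sq _,
    fun i j => S_comm _ _, fun i => ?_,
    fun i j h => prm_S (inH_of_inM24 (gm4_in i)) _ _ (k3 i j h), fun i => ?_, fun i => ?_,
    fun i => ?_⟩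
  · rw [ey, S_mul hy _ (k1 i) rfl]
    exact prm_S (inH_of_inM24 (gm4_in i)) _ _ (k2 i)
  · have := conj_neg (conj_oct (k4 i) (k5 i))
    rwa [neg_S _ (cm4_cw i) (k6 i)] at this
  · rw [ey]; exact S_comm _ _
  · rw [ey]; exact (prm_S (inH_of_inM24 (gm4_in i)) _ _ (k7 i)).symm

theorem exA : ∃ x : Co0, x * x = 1 ∧ Commute ep x ∧ IsConj ep x ∧ IsConj ep (ep * x) := by
  have h1 : isCw 0x8ea003 = true := by decide +kernel
  have h2 : isCw 0x82402f = true := by decide +kernel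
  refine ⟨S _ h1, S_sq _, S_comm h2 h1, conj_oct _ (by decide +kernel), ?_⟩
  rw [show ep * S _ h1 = S 0xce02c (by decide +kernel) from S_mul h2 h1 _ (by decide +kernel)]
  exact conj_oct _ (by decide +kernel)

theorem exC : ∃ x : Co0, x * x = 1 ∧ Commute w0 x ∧ IsConj w0 x ∧ IsConj ep (w0 * x) ∧ x ≠ w0 := by
  have h1 : isCw 0x2de057 = true := by decide +kernel
  have h2 : isCw 0x5335f = true := by decide +kernel
  refine ⟨S _ h1, S_sq _, S_comm h2 h1, conj_dod _ (by decide +kernel), ?_, fun h => ?_⟩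
  · rw [show w0 * S _ h1 = S 0x28d308 (by decide +kernel) from S_mul h2 h1 _ (by decide +kernel)]
    exact conj_oct _ (by decide +kernel)
  · have := (om_inj (by norm_num) (by norm_num)).1 (sgn_injective h)
    omega

end Cfsg.Lib.Layer.Cz
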