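import Cfsg.Agent.Lib.Layer.CzA
import Cfsg.Agent.Lib.Layer.Zs
import Cfsg.Agent.S2069

/-! A standard subgroup isomorphic to `Co0` with cyclic centraliser Sylow subgroups is normal. -/

set_option autoImplicit false

namespace Cfsg.Lib.Layer.Cz

open Cfsg.Lib.Leech Cfsg.Spor Subgroup Cfsg.Lib.Small.Co1Z Cfsg.Lib.Small.CoU

variable {G : Type*} [Group G]

/-- the centraliser data. -/
structure St (φ : Co0 →* G) : Prop where
  inj : Function.Injective φ
  dec : ∀ n, Commute (φ negOne) n → ∃ l k, n = φ l * k ∧ ∀ m, Commute (φ m) k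
  mem : ∀ t, IsConj (φ negOne) t → Commute (φ negOne) t → ∃ l, t = φ l

theorem St.bc {φ : Co0 →* G} (h : St φ) {t : G} (ht : IsConj (φ negOne) t) :
    ∃ ψ : Co0 →* G, St ψ ∧ ψ negOne = t ∧ ∀ l, IsConj (φ l) (ψ l) := by
  obtain ⟨g, rfl⟩ := isConj_iff.1 ht
  let c : G →* G := (MulAut.conj g).toMonoidHom
  let d : G →* G := (MulAut.conj g⁻¹).toMonoidHom
  have hc : ∀ x, c x = g * x * g⁻¹ := fun _ => rfl
  have dc : ∀ x, d (c x) = x := fun x => by simp [c, d, mul_assoc]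
  have cd : ∀ x, c (d x) = x := fun x => by simp [c, d, mul_assoc]
  refine ⟨c.comp φ, ⟨(MulAut.conj g).injective.comp h.inj, fun n hn => ?_, fun n h1 h2 => ?_⟩, rfl,
    fun l => isConj_iff.2 ⟨g, rfl⟩⟩
  · have := hn.map d
    rw [MonoidHom.comp_apply, dc] at this
    obtain ⟨l, k, e, hk⟩ := h.dec _ this
    exact ⟨l, c k, by rw [MonoidHom.comp_apply, ← map_mul, ← e, cd], fun m => (hk m).map c⟩
  · have a1 := d.map_isConj h1
    have a2 := h2.map d
    rw [MonoidHom.comp_apply, dc] at a1 a2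
    obtain ⟨l, e⟩ := h.mem _ a1 a2
    exact ⟨l, by rw [MonoidHom.comp_apply, ← e, cd]⟩

theorem rel {φ ψ : Co0 →* G} (hψ : Function.Injective ψ) {a b c a' b' c' : Co0} {k : G}
    (ha : φ a = ψ a') (hb : φ b = ψ b' * k) (hc : φ c = ψ c') (hk : ∀ m, Commute (ψ m) k)
    (h : b * a = c * a * b) : b' * a' = c' * a' * b' := by
  have := congrArg φ h
  rw [map_mul, map_mul, map_mul, ha, hb, hc, mul_assoc, ← (hk a').eq, ← mul_assoc, ← mul_assoc,
    mul_left_inj, ← map_mul, ← map_mul, ← map_mul] at this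
  exact hψ this

theorem St.notB {φ : Co0 →* G} (h : St φ) : ¬ IsConj (φ negOne) (φ (negOne * ep)) := fun hb => by
  obtain ⟨ψ, hψ, e, hc⟩ := h.bc hb
  obtain ⟨a, b, h1, h2, h3, h4, h5, h6, h7⟩ := ex16
  have A : ∀ i, ∃ l, φ (a i) = ψ l := fun i =>
    hψ.mem _ (e ▸ φ.map_isConj (h5 i)) (e ▸ (h6 i).map φ)
  have B : ∀ i, ∃ l k, φ (b i) = ψ l * k ∧ ∀ m, Commute (ψ m) k := fun i => hψ.dec _ (e ▸ (h7 i).map φ)
  choose a' ha using A
  choose b' k hb hk using B
  refine no16 a' b' (fun i => hψ.inj ?_) (fun i j => hψ.inj ?_)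
    (fun i => rel hψ.inj (ha i) (hb i) e.symm (hk i) (h3 i)) fun i j hij => ?_
  · rw [map_mul, ← ha, ← map_mul, h1, map_one, map_one]
  · rw [map_mul, map_mul, ← ha, ← ha, ← map_mul, h2, map_mul]
  · have := rel (c := 1) (c' := 1) hψ.inj (ha j) (hb i) (by rw [map_one, map_one]) (hk i)
      (by rw [one_mul]; exact h4 i j hij)
    rwa [one_mul] at this

theorem St.iso {φ : Co0 →* G} (h : St φ) {t : G} (h1 : IsConj (φ negOne) t) (h2 : Commute (φ negOne) t) :
    t = φ negOne := by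
  let Z : Co0 → Prop := fun l => IsConj (φ negOne) (φ l)
  have cz : ∀ {a b : Co0}, IsConj a b → (Z a ↔ Z b) := fun e =>
    ⟨fun x => x.trans (φ.map_isConj e), fun x => x.trans (φ.map_isConj e).symm⟩
  have z1 : ¬ Z 1 := fun x => by
    have := isConj_one_left.1 (show IsConj (φ negOne) 1 from map_one φ ▸ x)
    exact negOne_ne_one (h.inj (this.trans (map_one φ).symm))
  have zn : Z negOne := IsConj.refl _
  have nb : ¬ Z (negOne * ep) := h.notB
  have pr : ∀ l : Co0, l * l = 1 → l = 1 ∨ l = negOne ∨ ((Z l ↔ Z ep) ∧ ¬ Z (negOne * l)) ∨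
      (¬ Z l ∧ (Z (negOne * l) ↔ Z ep)) ∨ ((Z l ↔ Z w0) ∧ (Z (negOne * l) ↔ Z w0)) := fun l hl => by
    rcases cls hl with e | e | e | e | e
    · exact Or.inl e
    · exact Or.inr (Or.inl e)
    · exact Or.inr (Or.inr (Or.inl ⟨(cz e).symm, fun x => nb ((cz (conj_neg e)).2 x)⟩))
    · have := conj_neg e
      rw [nn] at this
      exact Or.inr (Or.inr (Or.inr (Or.inl ⟨fun x => nb ((cz e).2 x), (cz this).symm⟩)))
    · exact Or.inr (Or.inr (Or.inr (Or.inr ⟨(cz e).symm, (cz (w0_neg.trans (conj_neg e))).symm⟩)))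
  have tr : ∀ {ψ : Co0 →* G} {s x x' : Co0}, St ψ → ψ negOne = φ s → (∀ l, IsConj (φ l) (ψ l)) →
      φ x = ψ x' → x * x = 1 → x' * x' = 1 ∧ (Z x' ↔ Z x) ∧ (Z (negOne * x') ↔ Z (s * x)) :=
    fun {ψ s x x'} hψ e hc ex hx => by
    refine ⟨hψ.inj (by rw [map_mul, ← ex, ← map_mul, hx, map_one, map_one]), ?_, ?_⟩
    · have := hc x'
      rw [← ex] at this
      exact ⟨fun y => y.trans this, fun y => y.trans this.symm⟩
    · have := hc (negOne * x')
      rw [map_mul ψ, e, ← ex, ← map_mul] at this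
      exact ⟨fun y => y.trans this, fun y => y.trans this.symm⟩
  have na : ¬ Z ep := fun ha => by
    obtain ⟨ψ, hψ, e, hc⟩ := h.bc ha
    obtain ⟨x, x1, x2, x3, x4⟩ := exA
    obtain ⟨x', ex⟩ := hψ.mem (φ x) (e ▸ φ.map_isConj x3) (e ▸ x2.map φ)
    obtain ⟨z', ez⟩ := hψ.mem (φ negOne) (e ▸ ha.symm) (e ▸ (show Commute ep negOne from negOne_comm ep).map φ)
    obtain ⟨p1, p2, p3⟩ := tr hψ e hc ex x1
    obtain ⟨q1, q2, q3⟩ := tr (x := negOne * x) (x' := z' * x') hψ e hc (by rw [map_mul, map_mul, ex, ez])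
      (by rw [mul_assoc, ← mul_assoc x, negOne_comm x, mul_assoc, x1, nn])
    have p4 := p2.2 ((cz x3).1 ha)
    have p5 := p3.2 ((cz x4).1 ha)
    have q4 : ¬ Z (z' * x') := fun y => nb ((cz (conj_neg x3)).2 (q2.1 y))
    have q5 : ¬ Z (negOne * (z' * x')) := fun y => nb ((cz (conj_neg x4)).2 (by
      have := q3.1 y
      rwa [← mul_assoc, negOne_comm ep, mul_assoc] at this))
    have hc : Z w0 := by
      rcases pr x' p1 with y | y | y | y | y
      · exact (z1 (y ▸ p4)).elim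
      · rw [y, negOne_mul_self] at p5; exact (z1 p5).elim
      · exact (y.2 p5).elim
      · exact (y.1 p4).elim
      · exact y.1.1 p4
    rcases pr _ q1 with y | y | y | y | y
    · rw [y, mul_one] at q5; exact q5 zn
    · exact q4 (y ▸ zn)
    · exact q4 (y.1.2 ha)
    · exact q5 (y.2.2 ha)
    · exact q4 (y.1.2 hc)
  have nc : ¬ Z w0 := fun hw => by
    obtain ⟨ψ, hψ, e, hc⟩ := h.bc hw
    obtain ⟨x, x1, x2, x3, x4, x5⟩ := exC
    obtain ⟨x', ex⟩ := hψ.mem (φ x) (e ▸ φ.map_isConj x3) (e ▸ x2.map φ)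
    obtain ⟨p1, p2, p3⟩ := tr hψ e hc ex x1
    have p4 := p2.2 ((cz x3).1 hw)
    rcases pr x' p1 with y | y | y | y | y
    · exact z1 (y ▸ p4)
    · exact x5 (h.inj (by rw [ex, y, e]))
    · exact na (y.1.1 p4)
    · exact y.1 p4
    · exact na ((cz x4).2 (p3.1 (y.2.2 hw)))
  obtain ⟨l, rfl⟩ := h.mem t h1 h2
  have hl : l * l = 1 := h.inj (by
    obtain ⟨g, e⟩ := isConj_iff.1 h1
    rw [map_mul, ← e, conj_mul, ← map_mul, negOne_mul_self, map_one, mul_one, mul_inv_cancel])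
  rcases pr l hl with y | y | y | y | y
  · exact (z1 (y ▸ h1)).elim
  · rw [y]
  · exact (na (y.1.1 h1)).elim
  · exact (y.1 h1).elim
  · exact (nc (y.1.1 h1)).elim

theorem cyc2 {C : Type*} [Group C] [Finite C] (hR : ∀ R : Sylow 2 C, IsCyclic (R : Subgroup C)) {z : C}
    (h2 : orderOf z = 2) (hu : ∀ y : C, y ^ 2 = 1 → y = 1 ∨ y = z) {k : C} (hk : k ^ 2 ^ 2 = 1) :
    ∃ (r : C) (m : ℕ), Commute r k ∧ r ^ m = z ∧ ∀ y : C, ((y ^ m) ^ 2) ^ 2 = 1 → (y ^ m) ^ 2 = 1 := by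
  have : Fact (Nat.Prime 2) := ⟨Nat.prime_two⟩
  have pz : ∀ (y : C) (n : ℕ), y ^ 2 ^ n = 1 → ∃ P : Sylow 2 C, y ∈ (P : Subgroup C) := fun y n hy => by
    have hy' : IsPGroup 2 (zpowers y) := IsPGroup.of_card_dvd_pow (n := n) (by
      rw [Nat.card_zpowers]; exact orderOf_dvd_of_pow_eq_one hy)
    obtain ⟨P, hP⟩ := hy'.exists_le_sylow
    exact ⟨P, hP (mem_zpowers y)⟩
  obtain ⟨P, hP⟩ := pz k 2 hk
  obtain ⟨n, hn⟩ := IsPGroup.iff_card.1 P.isPGroup'
  have hd : 2 ∣ Nat.card P := P.dvd_card_of_dvd_card (h2 ▸ orderOf_dvd_natCard z)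
  obtain ⟨j, rfl⟩ : ∃ j, n = j + 1 := by
    cases n with
    | zero => rw [hn] at hd; norm_num at hd
    | succ j => exact ⟨j, rfl⟩
  have := hR P
  obtain ⟨r, hr⟩ := IsCyclic.exists_generator (α := (P : Subgroup C))
  have ho : orderOf (r : C) = 2 ^ (j + 1) := by
    rw [orderOf_coe, orderOf_eq_card_of_forall_mem_zpowers hr, hn]
  refine ⟨r, 2 ^ j, ?_, ?_, fun y hy => ?_⟩
  · obtain ⟨i, hi⟩ := mem_zpowers_iff.1 (hr ⟨k, hP⟩)
    have : k = (r : C) ^ i := (congrArg Subtype.val hi).symm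
    rw [this]; exact (Commute.refl _).zpow_right i
  · refine (hu _ (by rw [← pow_mul, ← pow_succ, ← ho, pow_orderOf_eq_one])).resolve_left ?_
    refine pow_ne_one_of_lt_orderOf (by positivity) ?_
    rw [ho]; exact Nat.pow_lt_pow_right (by norm_num) (by omega)
  · obtain ⟨Q, hQ⟩ := pz y (j + 1 + 1) (by rw [pow_succ, pow_succ, pow_mul, pow_mul, hy])
    have e : Nat.card Q = 2 ^ (j + 1) := by rw [← hn, Q.card_eq_multiplicity, P.card_eq_multiplicity]
    have := congrArg Subtype.val (pow_card_eq_one' (G := (Q : Subgroup C)) (x := ⟨y, hQ⟩))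
    rw [← pow_mul, ← pow_succ, ← e]
    exact this

theorem out_Co1 (ψ : MulAut Co1) : ∃ a, ψ = MulAut.conj a := by
  have : Subsingleton (Cfsg.Out Co1) := (Nat.card_eq_one_iff_unique.1 Cfsg.Agent.S2069.result).1
  obtain ⟨a, ha⟩ := (QuotientGroup.eq_one_iff (N := Inn Co1) ψ).1 (Subsingleton.elim _ _)
  exact ⟨a, ha.symm⟩

theorem normal [Finite G] (hO : oddCore G = ⊥) (A : Subgroup G) (hA : IsStandardSubgroup A)
    (e : A ≃* Co0)
    (hR : ∀ R : Sylow 2 (centralizer (A : Set G)), IsCyclic (R : Subgroup (centralizer (A : Set G)))) :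
    A.Normal := by
  by_contra hn
  let φ : Co0 →* G := A.subtype.comp e.symm.toMonoidHom
  have hφ : ∀ a : A, φ (e a) = a := fun a => by simp [φ]
  have inj : Function.Injective φ := A.subtype_injective.comp e.symm.injective
  have mA : ∀ l, φ l ∈ A := fun l => (e.symm l).2
  have hp : Group.IsPerfect Co0 := by
    have := hA.1.1
    exact Group.IsPerfect.ofSurjective (f := e.toMonoidHom) e.surjective
  have hout : ∀ ψ : MulAut A, ∃ a : A, ψ = MulAut.conj a := fun ψ => by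
    obtain ⟨a, ha⟩ := Zs.out_of_quot hp out_Co1 (e.symm.trans (ψ.trans e))
    refine ⟨e.symm a, MulEquiv.ext fun x => e.injective ?_⟩
    have := congrArg (fun f : MulAut Co0 => f (e x)) ha
    simpa using this
  have hzz : φ negOne * φ negOne = 1 := by rw [← map_mul, negOne_mul_self, map_one]
  have h2 : orderOf (φ negOne) = 2 := orderOf_eq_prime (by rw [sq, hzz])
    fun h => negOne_ne_one (inj (h.trans (map_one φ).symm))
  have hzC : φ negOne ∈ centralizer (A : Set G) := fun a ha => by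
    have := hφ ⟨a, ha⟩
    rw [show a = φ (e ⟨a, ha⟩) from this.symm, ← map_mul, negOne_comm, map_mul]
  obtain ⟨u1, -⟩ := Zs.cyc_aux hR (z := ⟨_, hzC⟩) (by rw [orderOf_mk, h2])
    (mem_center_iff.2 fun c => Subtype.ext (c.2 _ (mA _)).symm)
  have inv : ∀ c ∈ centralizer (A : Set G), c ^ 2 = 1 → c = 1 ∨ c = φ negOne := fun c hc h =>
    (u1 ⟨c, hc⟩ (Subtype.ext h)).imp (congrArg Subtype.val) (congrArg Subtype.val)
  have hd : ∀ h, Commute (φ negOne) h → ∃ a : A, ∃ c ∈ centralizer (A : Set G), h = a * c := fun h hh =>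
    Zs.decomp hout (Zs.cen_le_nor hA h2 hzC (mem_centralizer_singleton_iff.2 hh.symm.eq))
  have sq1 : ∀ c ∈ centralizer (A : Set G), c ∈ A → c ^ 2 = 1 := fun c hc hc' => by
    have : e ⟨c, hc'⟩ ∈ center Co0 := Subgroup.mem_center_iff.2 fun l => inj (by
      rw [map_mul, map_mul, hφ]; exact hc _ (mA l))
    have e1 := hφ ⟨c, hc'⟩
    rcases Leech.mem_center_iff.1 this with y | y <;> rw [y] at e1
    · rw [show c = 1 from e1.symm.trans (map_one φ), one_pow]
    · rw [show c = φ negOne from e1.symm, sq, hzz]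
  have pw : ∀ (a : A) (c : G) (n : ℕ), c ∈ centralizer (A : Set G) → ((a : G) * c) ^ n = 1 →
      (c ^ n) ^ 2 = 1 := fun a c n hc h => by
    rw [Commute.mul_pow (hc a a.2)] at h
    exact sq1 _ (pow_mem hc n) (by rw [eq_inv_of_mul_eq_one_right h]; exact inv_mem (pow_mem a.2 n))
  have H : St φ := by
    refine ⟨inj, fun n hn => ?_, fun t h1 h3 => ?_⟩
    · obtain ⟨a, c, hc, rfl⟩ := hd n hn
      exact ⟨e a, c, by rw [hφ], fun m => hc _ (mA m)⟩
    obtain ⟨g, rfl⟩ := isConj_iff.1 h1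
    obtain ⟨a, k, hk, e1⟩ := hd (g⁻¹ * φ negOne * g) (by
      have := h3.symm.map (MulAut.conj g⁻¹).toMonoidHom
      simpa [mul_assoc] using this)
    have k4 : (k ^ 2) ^ 2 = 1 := pw a k 2 hk (by
      rw [← e1, sq]
      calc _ = g⁻¹ * (φ negOne * φ negOne) * g := by group
        _ = 1 := by rw [hzz]; group)
    obtain ⟨r, m, r1, r2, r3⟩ := cyc2 hR (z := ⟨_, hzC⟩) (by rw [orderOf_mk, h2]) u1 (k := ⟨k, hk⟩)
      (Subtype.ext (by rw [pow_succ 2 1, pow_one, pow_mul]; exact k4))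
    have r4 : (r : G) ^ m = φ negOne := congrArg Subtype.val r2
    have r5 : Commute (g⁻¹ * φ negOne * g) r := by
      rw [e1]
      exact Commute.mul_left (r.2 a a.2) (r1.symm.map (centralizer (A : Set G)).subtype)
    obtain ⟨b, c, hc, e2⟩ := hd (g * r * g⁻¹) (by
      have := r5.map (MulAut.conj g).toMonoidHom
      simpa [mul_assoc] using this)
    have e3 : g * φ negOne * g⁻¹ = (b : G) ^ m * c ^ m := by
      rw [← Commute.mul_pow (hc b b.2), ← e2, conj_pow, r4]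
    have e4 : (c ^ (m * 2)) ^ 2 = 1 := pw b c _ hc (by
      rw [← e2, conj_pow, pow_mul, r4, sq, hzz]; group)
    have e5 : (c ^ m) ^ 2 = 1 := congrArg Subtype.val (r3 ⟨c, hc⟩ (Subtype.ext (by
      rw [pow_mul] at e4; exact e4)))
    have e6 : g * φ negOne * g⁻¹ ∈ A := by
      rw [e3]
      refine mul_mem (pow_mem b.2 m) ?_
      rcases inv _ (pow_mem hc m) e5 with y | y <;> rw [y]
      exacts [one_mem _, mA _]
    exact ⟨e ⟨_, e6⟩, (hφ ⟨_, e6⟩).symm⟩
  obtain ⟨g, g1, g2⟩ := Zs.exists_conj hO hA h2 hzC hn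
  exact g2 (H.iso (isConj_iff.2 ⟨g, rfl⟩) g1)

end Cfsg.Lib.Layer.Cz
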