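import Mathlib

set_option autoImplicit false

open Finset MulAction

namespace Cfsg.Lib.Layer.Der

open Classical in
/-- number of fixed points -/
noncomputable def fx {G : Type*} (Ω : Type*) [Group G] [MulAction G Ω] [Fintype Ω] (g : G) : ℕ :=
  (univ.filter fun ω : Ω => g • ω = ω).card

variable {G Ω : Type*} [Group G] [Fintype G] [MulAction G Ω] [Fintype Ω]

open Classical in
noncomputable def st2 (G : Type*) [Group G] [Fintype G] [MulAction G Ω] (a b : Ω) : Finset G :=
  univ.filter fun g => g • a = a ∧ g • b = b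

open Classical in
noncomputable def line (G : Type*) [Group G] [MulAction G Ω] (a b : Ω) : Finset Ω :=
  univ.filter fun ω => ∀ g : G, g • a = a → g • b = b → g • ω = ω

def TT (G Ω : Type*) [Group G] [MulAction G Ω] : Prop :=
  ∀ a b c d : Ω, a ≠ b → c ≠ d → ∃ g : G, g • a = c ∧ g • b = d

omit [Fintype Ω] in
@[simp] lemma mem_st2 {a b : Ω} {g : G} : g ∈ st2 G a b ↔ g • a = a ∧ g • b = b := by
  simp [st2]

omit [Fintype G] in
@[simp] lemma mem_line {a b ω : Ω} :
    ω ∈ line G a b ↔ ∀ g : G, g • a = a → g • b = b → g • ω = ω := by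
  simp [line]

omit [Fintype G] in
lemma fx_conj (x g : G) : fx Ω (x * g * x⁻¹) = fx Ω g := by
  classical
  unfold fx
  refine card_bij (fun ω _ => x⁻¹ • ω) ?_ ?_ ?_
  · intro ω h
    simp only [mem_filter, mem_univ, true_and, mul_smul] at h ⊢
    rw [eq_inv_smul_iff]; exact h
  · intro a _ b _ h; simpa using h
  · intro ω h
    refine ⟨x • ω, ?_, by simp⟩
    simp only [mem_filter, mem_univ, true_and, mul_smul, inv_smul_smul] at h ⊢
    rw [h]

omit [Fintype G] in
lemma fx_one : fx Ω (1 : G) = Fintype.card Ω := by simp [fx]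

omit [Fintype G] in
lemma fx_le (g : G) : fx Ω g ≤ Fintype.card Ω := by
  classical exact card_le_univ _

omit [Fintype G] in
lemma fx_eq (g : G) : Nat.card (fixedBy Ω g) = fx Ω g := by
  classical
  unfold fx
  rw [Nat.card_eq_fintype_card, Fintype.card_subtype]
  congr 1

omit [Fintype Ω] in
lemma sum_st2 (h : TT G Ω) {a b c d : Ω} (hab : a ≠ b) (hcd : c ≠ d) (φ : G → ℚ)
    (hφ : ∀ x g, φ (x * g * x⁻¹) = φ g) : ∑ g ∈ st2 G c d, φ g = ∑ g ∈ st2 G a b, φ g := by
  obtain ⟨x, rfl, rfl⟩ := h a b c d hab hcd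
  symm
  refine sum_bij (fun g _ => x * g * x⁻¹) ?_ ?_ ?_ ?_
  · intro g hg; simp only [mem_st2] at hg ⊢; simp [mul_smul, hg.1, hg.2]
  · intro g _ g' _ h; simpa using h
  · intro g hg
    refine ⟨x⁻¹ * g * x, ?_, by group⟩
    simp only [mem_st2] at hg ⊢; simp [mul_smul, hg.1, hg.2]
  · intro g _; exact (hφ x g).symm

omit [Fintype Ω] in
lemma card_st2 (h : TT G Ω) {a b c d : Ω} (hab : a ≠ b) (hcd : c ≠ d) :
    (st2 G c d).card = (st2 G a b).card := by
  have := sum_st2 h hab hcd (fun _ => 1) (fun _ _ => rfl)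
  simpa using this

omit [Fintype G] in
lemma card_line (h : TT G Ω) {a b c d : Ω} (hab : a ≠ b) (hcd : c ≠ d) :
    (line G c d).card = (line G a b).card := by
  obtain ⟨x, rfl, rfl⟩ := h a b c d hab hcd
  symm
  refine card_bij (fun ω _ => x • ω) ?_ ?_ ?_
  · intro ω hω
    simp only [mem_line] at hω ⊢
    intro g h1 h2
    have := hω (x⁻¹ * g * x) (by simp [mul_smul, h1]) (by simp [mul_smul, h2])
    simpa [mul_smul, inv_smul_eq_iff] using this
  · intro g _ g' _ h; simpa using h
  · intro ω hω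
    refine ⟨x⁻¹ • ω, ?_, by simp⟩
    simp only [mem_line] at hω ⊢
    intro g h1 h2
    have := hω (x * g * x⁻¹) (by simp [mul_smul, h1]) (by simp [mul_smul, h2])
    simpa [mul_smul, smul_eq_iff_eq_inv_smul x] using this

lemma dc (h : TT G Ω) {a b : Ω} (hab : a ≠ b) (φ : G → ℚ) (hφ : ∀ x g, φ (x * g * x⁻¹) = φ g) :
    ∑ g : G, (fx Ω g : ℚ) * (fx Ω g - 1) * φ g =
      Fintype.card Ω * (Fintype.card Ω - 1) * ∑ g ∈ st2 G a b, φ g := by
  classical
  have h1 : ∀ g : G, (fx Ω g : ℚ) * (fx Ω g - 1) * φ g =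
      ∑ p ∈ (univ : Finset Ω).offDiag, if g ∈ st2 G p.1 p.2 then φ g else 0 := by
    intro g
    rw [← sum_filter, sum_const, nsmul_eq_mul]
    congr 1
    have : (univ : Finset Ω).offDiag.filter (fun p => g ∈ st2 G p.1 p.2) =
        (univ.filter fun ω : Ω => g • ω = ω).offDiag := by
      ext p; simp [mem_offDiag]; tauto
    rw [this, offDiag_card, Nat.cast_sub (Nat.le_mul_self _)]
    unfold fx; push_cast; ring
  simp only [h1]
  rw [sum_comm]
  have h2 : ∀ p ∈ (univ : Finset Ω).offDiag,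
      (∑ g : G, if g ∈ st2 G p.1 p.2 then φ g else 0) = ∑ g ∈ st2 G a b, φ g := by
    intro p hp
    rw [← sum_filter, filter_mem_eq_inter, univ_inter]
    exact sum_st2 h hab (mem_offDiag.mp hp).2.2 φ hφ
  rw [sum_congr rfl h2, sum_const, offDiag_card, nsmul_eq_mul, Nat.cast_sub (Nat.le_mul_self _)]
  simp only [card_univ]; push_cast; ring

lemma card_G (h : TT G Ω) {a b : Ω} (hab : a ≠ b) :
    Fintype.card G = Fintype.card Ω * (Fintype.card Ω - 1) * (st2 G a b).card := by
  classical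
  have h1 := card_eq_sum_card_fiberwise (s := (univ : Finset G)) (t := (univ : Finset Ω).offDiag)
    (f := fun g => (g • a, g • b)) (fun g _ => by simp [mem_offDiag, hab])
  rw [card_univ] at h1
  rw [h1, sum_congr rfl (g := fun _ => (st2 G a b).card), sum_const, offDiag_card, card_univ,
    smul_eq_mul, Nat.mul_sub_one]
  intro p hp
  obtain ⟨x, hx1, hx2⟩ := h a b p.1 p.2 hab (mem_offDiag.mp hp).2.2
  symm
  refine card_bij (fun g _ => x * g) ?_ ?_ ?_
  · intro g hg; simp only [mem_st2] at hg; simp [mul_smul, hg.1, hg.2, hx1, hx2]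
  · intro g _ g' _ h; simpa using h
  · intro g hg
    simp only [mem_filter, mem_univ, true_and, Prod.ext_iff] at hg
    refine ⟨x⁻¹ * g, ?_, by simp⟩
    simp [mul_smul, hg.1, hg.2, inv_smul_eq_iff, hx1, hx2]

lemma sum_fx (Ω : Type*) [MulAction G Ω] [Fintype Ω] :
    ∑ g : G, fx Ω g = Nat.card (orbitRel.Quotient G Ω) * Fintype.card G := by
  classical
  have := Fintype.ofFinite (orbitRel.Quotient G Ω)
  rw [Nat.card_eq_fintype_card, ← sum_card_fixedBy_eq_card_orbits_mul_card_group G Ω]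
  refine sum_congr rfl fun g _ => ?_
  rw [← fx_eq, Nat.card_eq_fintype_card]

lemma sum_fx_tr [IsPretransitive G Ω] [Nonempty Ω] : ∑ g : G, fx Ω g = Fintype.card G := by
  rw [sum_fx]
  have : Nat.card (orbitRel.Quotient G Ω) = 1 := by
    rw [Nat.card_eq_one_iff_unique]
    refine ⟨⟨fun x y => ?_⟩, ⟨Quotient.mk'' (Classical.arbitrary Ω)⟩⟩
    induction x using Quotient.inductionOn'
    induction y using Quotient.inductionOn'
    exact Quotient.sound' (exists_smul_eq G _ _)
  rw [this, one_mul]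

omit [Fintype G] in
lemma fx_prod (g : G) : fx (Ω × Ω) g = fx Ω g * fx Ω g := by
  classical
  unfold fx
  rw [← card_product]
  congr 1
  ext p; simp [Prod.ext_iff]

open Classical in
/-- number of derangements -/
noncomputable def nder (G Ω : Type*) [Group G] [Fintype G] [MulAction G Ω] : ℕ :=
  (univ.filter fun g : G => ∀ ω : Ω, g • ω ≠ ω).card

omit [Fintype G] in
lemma fx_zero (g : G) : fx Ω g = 0 ↔ ∀ ω : Ω, g • ω ≠ ω := by
  simp [fx, filter_eq_empty_iff]

lemma nder_eq : (nder G Ω : ℚ) = ∑ g : G, if fx Ω g = 0 then 1 else 0 := by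
  classical
  simp only [fx_zero, nder]
  rw [← sum_filter]; simp

lemma rank3 [IsPretransitive G Ω] (hn : 2 ≤ Fintype.card Ω) (h : ¬ TT G Ω) :
    2 * Fintype.card G ≤ Fintype.card Ω * nder G Ω := by
  classical
  have : Nonempty Ω := Fintype.card_pos_iff.mp (by omega)
  have h1 := sum_fx (G := G) (Ω × Ω)
  have h2 := sum_fx_tr (G := G) (Ω := Ω)
  have h3 : 3 ≤ Nat.card (orbitRel.Quotient G (Ω × Ω)) := by
    simp only [TT, not_forall, not_exists] at h
    obtain ⟨a, b, c, d, hab, hcd, h⟩ := h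
    have := Fintype.ofFinite (orbitRel.Quotient G (Ω × Ω))
    rw [Nat.card_eq_fintype_card]
    refine Fintype.two_lt_card_iff.mpr ⟨Quotient.mk'' (a, a), Quotient.mk'' (c, d),
      Quotient.mk'' (a, b), ?_, ?_, ?_⟩
    · intro e
      obtain ⟨g, hg⟩ := Quotient.exact' e
      simp only [Prod.smul_mk, Prod.mk.injEq] at hg
      exact hcd (smul_left_cancel g (hg.1.trans hg.2.symm))
    · intro e
      obtain ⟨g, hg⟩ := Quotient.exact' e
      simp only [Prod.smul_mk, Prod.mk.injEq] at hg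
      exact hab (smul_left_cancel g (hg.1.trans hg.2.symm))
    · intro e
      obtain ⟨g, hg⟩ := Quotient.exact' e
      simp only [Prod.smul_mk, Prod.mk.injEq] at hg
      exact h g hg
  simp only [fx_prod] at h1
  have h4 : ∑ g : G, (-(Fintype.card Ω : ℚ) * if fx Ω g = 0 then 1 else 0) ≤
      ∑ g : G, (((Fintype.card Ω : ℚ) + 1) * fx Ω g - fx Ω g * fx Ω g - Fintype.card Ω) := by
    refine sum_le_sum fun g _ => ?_
    split_ifs with h0
    · simp [h0]
    · have h5 : (1 : ℚ) ≤ fx Ω g := by exact_mod_cast Nat.one_le_iff_ne_zero.mpr h0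
      have h6 : (fx Ω g : ℚ) ≤ Fintype.card Ω := by exact_mod_cast fx_le g
      nlinarith
  rw [← mul_sum, ← nder_eq, sum_sub_distrib, sum_sub_distrib, ← mul_sum] at h4
  have h1' : ∑ g : G, (fx Ω g : ℚ) * fx Ω g =
      Nat.card (orbitRel.Quotient G (Ω × Ω)) * Fintype.card G := by exact_mod_cast h1
  have h2' : ∑ g : G, (fx Ω g : ℚ) = Fintype.card G := by exact_mod_cast h2
  have h3' : (3 : ℚ) ≤ Nat.card (orbitRel.Quotient G (Ω × Ω)) := by exact_mod_cast h3
  rw [h1', h2', sum_const, card_univ, nsmul_eq_mul] at h4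
  have h7 : (0 : ℚ) ≤ Fintype.card G := by positivity
  have : (2 : ℚ) * Fintype.card G ≤ Fintype.card Ω * nder G Ω := by nlinarith
  exact_mod_cast this

lemma nder_tt (h : TT G Ω) {a b : Ω} (hab : a ≠ b) :
    (nder G Ω : ℚ) = Fintype.card Ω * (Fintype.card Ω - 1) * ∑ g ∈ st2 G a b, 1 / (fx Ω g : ℚ) := by
  have : Nonempty Ω := ⟨a⟩
  have : IsPretransitive G Ω := ⟨fun x y => by
    obtain ⟨x', hx⟩ : ∃ x', x ≠ x' := by
      by_cases h : x = a
      · exact ⟨b, h ▸ hab⟩
      · exact ⟨a, h⟩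
    obtain ⟨y', hy⟩ : ∃ y', y ≠ y' := by
      by_cases h : y = a
      · exact ⟨b, h ▸ hab⟩
      · exact ⟨a, h⟩
    obtain ⟨g, hg, -⟩ := h x x' y y' hx hy
    exact ⟨g, hg⟩⟩
  rw [← dc h hab _ (fun x g => by rw [fx_conj]), nder_eq]
  have h2 : ∑ g : G, (fx Ω g : ℚ) = Fintype.card G := by exact_mod_cast sum_fx_tr (G := G) (Ω := Ω)
  have h3 : ∑ g : G, ((fx Ω g : ℚ) - 1) = 0 := by
    rw [sum_sub_distrib, h2]; simp
  rw [← add_zero (∑ g : G, if fx Ω g = 0 then (1 : ℚ) else 0)]
  nth_rewrite 2 [← h3]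
  rw [← sum_add_distrib]
  refine sum_congr rfl fun g _ => ?_
  split_ifs with h0
  · simp [h0]
  · have : (fx Ω g : ℚ) ≠ 0 := by exact_mod_cast h0
    field_simp; ring

omit [Fintype Ω] in
lemma st2_of_line [Fintype Ω] (h : TT G Ω) {x y u v : Ω} (hxy : x ≠ y) (huv : u ≠ v)
    (hu : u ∈ line G x y) (hv : v ∈ line G x y) : st2 G x y = st2 G u v := by
  refine eq_of_subset_of_card_le (fun g hg => ?_) (card_st2 h hxy huv).le
  simp only [mem_st2, mem_line] at *
  exact ⟨hu g hg.1 hg.2, hv g hg.1 hg.2⟩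

lemma lemA (h : TT G Ω) {a b : Ω} (hab : a ≠ b) {g : G} {x : Ω} (hx : g • x ≠ x) :
    fx Ω g * ((line G a b).card - 1) + 1 ≤ Fintype.card Ω := by
  classical
  set F := univ.filter fun ω : Ω => g • ω = ω with hF
  have hne : ∀ y ∈ F, x ≠ y := by
    rintro y hy rfl; exact hx (by simpa [hF] using hy)
  have hx' : ∀ y, x ∈ line G x y := fun y => mem_line.mpr fun _ h _ => h
  have hy' : ∀ y, y ∈ line G x y := fun y => mem_line.mpr fun _ _ h => h
  have h1 : (F.biUnion fun y => (line G x y).erase x).card = fx Ω g * ((line G a b).card - 1) := by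
    rw [card_biUnion]
    · rw [sum_congr rfl (g := fun _ => (line G a b).card - 1), sum_const, smul_eq_mul]
      · rfl
      · intro y hy
        rw [card_erase_of_mem (hx' y), card_line h hab (hne y hy)]
    · intro y hy y' hy2 hyy
      rw [Function.onFun, disjoint_left]
      intro z hz hz'
      simp only [mem_erase] at hz hz'
      have e1 := st2_of_line h (hne y hy) hz.1.symm (hx' y) hz.2
      have e2 := st2_of_line h (hne y' hy2) hz.1.symm (hx' y') hz'.2
      have e3 : y' ∈ line G x y := by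
        rw [mem_line]; intro k h1 h2
        have : k ∈ st2 G x y := mem_st2.mpr ⟨h1, h2⟩
        rw [e1, ← e2] at this
        exact (mem_st2.mp this).2
      have e4 := st2_of_line h (hne y hy) hyy (hy' y) e3
      have : g ∈ st2 G y y' := by
        simp only [hF, coe_filter, mem_univ, true_and, Set.mem_ofPred_eq] at hy hy2
        exact mem_st2.mpr ⟨hy, hy2⟩
      rw [← e4] at this
      exact hx (mem_st2.mp this).1
  have h2 : (F.biUnion fun y => (line G x y).erase x) ⊆ univ.erase x := by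
    intro z hz
    simp only [mem_biUnion, mem_erase] at hz
    obtain ⟨y, -, hz, -⟩ := hz
    simp [hz]
  have h3 := card_le_card h2
  rw [h1, card_erase_of_mem (mem_univ _), card_univ] at h3
  have : 0 < Fintype.card Ω := Fintype.card_pos_iff.mpr ⟨x⟩
  omega

open Classical in
lemma lemB (h : TT G Ω) {a b : Ω} (hab : a ≠ b) {g : G} {x : Ω} (hx : g • x ≠ x) :
    (fx Ω g : ℚ) * (fx Ω g - 1) ≤
      (Fintype.card Ω - fx Ω g) * ((st2 G a b).filter fun y => IsConj g y).card := by
  set K := univ.filter fun y : G => IsConj g y with hK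
  have hfK : ∀ y ∈ K, fx Ω y = fx Ω g := by
    intro y hy
    obtain ⟨c, rfl⟩ := isConj_iff.mp (mem_filter.mp hy).2
    exact fx_conj c g
  have h1 := dc h hab (fun y => if IsConj g y then 1 else 0) (fun c y => by
    have : IsConj g (c * y * c⁻¹) ↔ IsConj g y :=
      ⟨fun h => h.trans (isConj_iff.mpr ⟨c, rfl⟩).symm, fun h => h.trans (isConj_iff.mpr ⟨c, rfl⟩)⟩
    simp only [this])
  simp only [mul_ite, mul_one, mul_zero] at h1
  rw [← sum_filter, ← sum_filter, sum_congr rfl (g := fun _ => (fx Ω g : ℚ) * (fx Ω g - 1))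
    (fun y hy => by rw [hfK y hy]), sum_const, sum_const, nsmul_eq_mul, nsmul_eq_mul, mul_one,
    ← hK] at h1
  -- |G| ≤ t * c * (n - f)
  set P : Finset (G × Ω) := (K ×ˢ univ).filter fun p => p.1 • p.2 ≠ p.2 with hP
  have hPc : P.card = K.card * (Fintype.card Ω - fx Ω g) := by
    rw [card_eq_sum_card_fiberwise (f := Prod.fst) (t := K) (fun p hp => by
      simp only [hP, coe_filter, mem_product] at hp; exact hp.1.1),
      sum_congr rfl (g := fun _ => Fintype.card Ω - fx Ω g), sum_const, smul_eq_mul]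
    intro y hy
    rw [← hfK y hy]
    have := card_filter_add_card_filter_not (s := (univ : Finset Ω)) (fun ω => y • ω = ω)
    rw [card_univ] at this
    have e : (P.filter fun p => p.1 = y).card = (univ.filter fun ω : Ω => ¬ y • ω = ω).card := by
      refine card_bij (fun p _ => p.2) ?_ ?_ ?_
      · intro p hp
        simp only [hP, mem_filter, mem_product, mem_univ, true_and] at hp ⊢
        rw [← hp.2]; exact hp.1.2
      · intro p hp q hq e
        simp only [mem_filter] at hp hq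
        exact Prod.ext (hp.2.trans hq.2.symm) e
      · intro ω hω
        refine ⟨(y, ω), ?_, rfl⟩
        simp only [hP, mem_filter, mem_product, mem_univ, true_and, and_true] at hω ⊢
        exact ⟨hy, hω⟩
    rw [e]; unfold fx; omega
  have h2 := card_le_mul_card_image_of_maps_to (s := (univ : Finset G)) (t := P)
    (f := fun c => (c * g * c⁻¹, c • x)) (fun c _ => by
      simp only [hP, hK, mem_filter, mem_product, mem_univ, true_and, and_true, mul_smul,
        inv_smul_smul, ne_eq, smul_left_cancel_iff]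
      exact ⟨isConj_iff.mpr ⟨c, rfl⟩, hx⟩) (st2 G a b).card (fun p hp => by
      rcases (univ.filter fun c : G => (c * g * c⁻¹, c • x) = p).eq_empty_or_nonempty with e | ⟨c, hc⟩
      · rw [e]; simp
      rw [← card_st2 h hab hx.symm]
      refine card_le_card_of_injOn (fun d => c⁻¹ * d) (fun d hd => ?_) (fun d _ d' _ e => by simpa using e)
      simp only [coe_filter, mem_filter, mem_univ, true_and, Set.mem_ofPred_eq] at hc hd
      rw [← hc, Prod.mk.injEq] at hd
      simp only [mem_coe, mem_st2, mul_smul, inv_smul_eq_iff]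
      refine ⟨hd.2, ?_⟩
      have : d * g = c * g * c⁻¹ * d := by rw [← hd.1]; group
      rw [← mul_smul, this, mul_smul, mul_smul, hd.2, inv_smul_smul, mul_smul])
  rw [card_univ, card_G h hab, hPc, mul_comm _ (K.card * _)] at h2
  have ht : 0 < (st2 G a b).card := card_pos.mpr ⟨1, by simp⟩
  have h3 := Nat.le_of_mul_le_mul_right h2 ht
  have hn : 1 ≤ Fintype.card Ω := Fintype.card_pos_iff.mpr ⟨a⟩
  have h4 : (Fintype.card Ω : ℚ) * (Fintype.card Ω - 1) ≤ K.card * (Fintype.card Ω - fx Ω g) := by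
    have := (Nat.cast_le (α := ℚ)).mpr h3
    rwa [Nat.cast_mul, Nat.cast_mul, Nat.cast_sub hn, Nat.cast_sub (fx_le g), Nat.cast_one] at this
  have hc : (0 : ℚ) < K.card := by
    exact_mod_cast card_pos.mpr ⟨g, mem_filter.mpr ⟨mem_univ _, IsConj.refl g⟩⟩
  refine le_of_mul_le_mul_left ?_ hc
  rw [h1, ← mul_assoc]
  exact mul_le_mul_of_nonneg_right h4 (by positivity)

end Cfsg.Lib.Layer.Der
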