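import Cfsg.Agent.Lib.Layer.Der1

set_option autoImplicit false

open Finset MulAction

namespace Cfsg.Lib.Layer.Der

variable {G Ω : Type*} [Group G] [Fintype G] [MulAction G Ω] [Fintype Ω]

open Classical in
noncomputable def orb (G : Type*) [Group G] [Fintype G] [MulAction G Ω] (a b ω : Ω) : Finset Ω :=
  (st2 G a b).image fun g => g • ω

open Classical in
noncomputable def wt (G : Type*) [Group G] [Fintype G] [MulAction G Ω] (a b ω : Ω) : ℕ :=
  ((st2 G a b).filter fun g => g • ω = ω).card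

omit [Fintype Ω] in
lemma mem_orb {a b ω x : Ω} : x ∈ orb G a b ω ↔ ∃ g : G, (g • a = a ∧ g • b = b) ∧ g • ω = x := by
  simp [orb]

omit [Fintype Ω] in
lemma self_mem_orb (a b ω : Ω) : ω ∈ orb G a b ω := mem_orb.mpr ⟨1, by simp, by simp⟩

omit [Fintype Ω] in
lemma smul_mem_orb {a b ω x : Ω} {g : G} (hg : g ∈ st2 G a b) (hx : x ∈ orb G a b ω) :
    g • x ∈ orb G a b ω := by
  obtain ⟨k, hk, rfl⟩ := mem_orb.mp hx
  rw [mem_st2] at hg
  exact mem_orb.mpr ⟨g * k, by simp [mul_smul, hk.1, hk.2, hg.1, hg.2], mul_smul _ _ _⟩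

omit [Fintype Ω] in
lemma orb_eq {a b ω x : Ω} (hx : x ∈ orb G a b ω) : orb G a b x = orb G a b ω := by
  ext y
  constructor
  · intro hy
    obtain ⟨k, hk, rfl⟩ := mem_orb.mp hy
    exact smul_mem_orb (mem_st2.mpr hk) hx
  · intro hy
    obtain ⟨k, hk, rfl⟩ := mem_orb.mp hx
    obtain ⟨l, hl, rfl⟩ := mem_orb.mp hy
    exact mem_orb.mpr ⟨l * k⁻¹, by simp [mul_smul, hl.1, hl.2, inv_smul_eq_iff.mpr hk.1.symm,
      inv_smul_eq_iff.mpr hk.2.symm], by simp [mul_smul]⟩

omit [Fintype Ω] in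
lemma wt_mul (a b ω : Ω) : (orb G a b ω).card * wt G a b ω = (st2 G a b).card := by
  classical
  rw [card_eq_sum_card_fiberwise (s := st2 G a b) (t := orb G a b ω) (f := fun g => g • ω)
    (fun g hg => smul_mem_orb hg (self_mem_orb a b ω)),
    sum_congr rfl (g := fun _ => wt G a b ω), sum_const, smul_eq_mul]
  intro x hx
  obtain ⟨k, hk, rfl⟩ := mem_orb.mp hx
  symm
  refine card_bij (fun g _ => k * g) ?_ ?_ ?_
  · intro g hg
    simp only [mem_filter, mem_st2] at hg ⊢
    simp [mul_smul, hg.1.1, hg.1.2, hg.2, hk.1, hk.2]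
  · intro g _ g' _ h; simpa using h
  · intro g hg
    simp only [mem_filter, mem_st2] at hg
    refine ⟨k⁻¹ * g, ?_, by simp⟩
    simp [mul_smul, hg.1.1, hg.1.2, hg.2, inv_smul_eq_iff, hk.1, hk.2]

lemma two_le_orb {a b ω : Ω} (h : ω ∉ line G a b) : 2 ≤ (orb G a b ω).card := by
  simp only [mem_line, not_forall] at h
  obtain ⟨g, h1, h2, h3⟩ := h
  exact one_lt_card.mpr ⟨_, self_mem_orb a b ω, _, mem_orb.mpr ⟨g, ⟨h1, h2⟩, rfl⟩, Ne.symm h3⟩

lemma wt_line {a b ω : Ω} (h : ω ∈ line G a b) : wt G a b ω = (st2 G a b).card := by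
  classical
  unfold wt
  rw [filter_true_of_mem]
  intro g hg
  exact mem_line.mp h g (mem_st2.mp hg).1 (mem_st2.mp hg).2

lemma orb_line {a b ω : Ω} (h : ω ∈ line G a b) : (orb G a b ω).card = 1 := by
  have := wt_mul (G := G) a b ω
  rw [wt_line h] at this
  have ht : 0 < (st2 G a b).card := card_pos.mpr ⟨1, by simp⟩
  exact Nat.eq_of_mul_eq_mul_right ht (by rw [this, one_mul])

lemma sum_fx_st2 (a b : Ω) : ∑ g ∈ st2 G a b, fx Ω g = ∑ ω, wt G a b ω := by
  classical
  simp only [fx, wt, card_filter]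
  rw [sum_comm]

lemma S_bound (a b : Ω) (T : Finset Ω) (hT : ∀ ω ∈ T, 2 ≤ (orb G a b ω).card) :
    2 * (∑ g ∈ st2 G a b, (fx Ω g : ℚ)) ≤ (Fintype.card Ω + (line G a b).card) * (st2 G a b).card +
      ∑ ω ∈ T, (2 * (wt G a b ω : ℚ) - (st2 G a b).card) := by
  classical
  have h1 : ∑ g ∈ st2 G a b, (fx Ω g : ℚ) = ∑ ω, (wt G a b ω : ℚ) := by
    exact_mod_cast sum_fx_st2 (G := G) a b
  have h2 : ∀ ω, 2 * (wt G a b ω : ℚ) ≤ (st2 G a b).card +
      ((if ω ∈ line G a b then ((st2 G a b).card : ℚ) else 0) +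
        if ω ∈ T then 2 * (wt G a b ω : ℚ) - (st2 G a b).card else 0) := by
    intro ω
    by_cases h : ω ∈ line G a b
    · have : ω ∉ T := fun h' => by have := hT ω h'; rw [orb_line h] at this; omega
      rw [if_pos h, if_neg this, wt_line h]; linarith
    · rw [if_neg h]
      split_ifs
      · linarith
      · have h3 := two_le_orb h
        have h4 := wt_mul (G := G) a b ω
        have : 2 * wt G a b ω ≤ (st2 G a b).card := h4 ▸ Nat.mul_le_mul_right _ h3
        have : 2 * (wt G a b ω : ℚ) ≤ (st2 G a b).card := by exact_mod_cast this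
        linarith
  rw [h1, mul_sum]
  refine (sum_le_sum fun ω _ => h2 ω).trans (le_of_eq ?_)
  rw [sum_add_distrib, sum_add_distrib, ← sum_filter, ← sum_filter, filter_mem_eq_inter,
    filter_mem_eq_inter, univ_inter, univ_inter]
  simp only [sum_const, card_univ, nsmul_eq_mul]; ring

lemma S_eq (a b : Ω) (h : ∀ ω, (orb G a b ω).card ≤ 2) :
    2 * (∑ g ∈ st2 G a b, (fx Ω g : ℚ)) = (Fintype.card Ω + (line G a b).card) * (st2 G a b).card := by
  classical
  have h1 : ∑ g ∈ st2 G a b, (fx Ω g : ℚ) = ∑ ω, (wt G a b ω : ℚ) := by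
    exact_mod_cast sum_fx_st2 (G := G) a b
  have h2 : ∀ ω, 2 * (wt G a b ω : ℚ) = (st2 G a b).card +
      (if ω ∈ line G a b then ((st2 G a b).card : ℚ) else 0) := by
    intro ω
    by_cases h' : ω ∈ line G a b
    · rw [if_pos h', wt_line h']; ring
    · rw [if_neg h', add_zero]
      have h4 := wt_mul (G := G) a b ω
      rw [le_antisymm (h ω) (two_le_orb h')] at h4
      exact_mod_cast h4
  rw [h1, mul_sum, sum_congr rfl fun ω _ => h2 ω, sum_add_distrib, ← sum_filter,
    filter_mem_eq_inter, univ_inter]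
  simp only [sum_const, card_univ, nsmul_eq_mul]; ring

omit [Fintype Ω] in
lemma sum_orb (a b ω : Ω) : ∑ x ∈ orb G a b ω, (2 * (wt G a b x : ℚ) - (st2 G a b).card) =
    (2 - (orb G a b ω).card) * (st2 G a b).card := by
  have h0 : (0 : ℚ) < (orb G a b ω).card := by exact_mod_cast card_pos.mpr ⟨_, self_mem_orb a b ω⟩
  have h1 : ∀ x ∈ orb G a b ω, (wt G a b x : ℚ) = (st2 G a b).card / (orb G a b ω).card := by
    intro x hx
    have := wt_mul (G := G) a b x
    rw [orb_eq hx] at this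
    rw [← this]; push_cast; field_simp
  rw [sum_congr rfl (fun x hx => by rw [h1 x hx]), sum_const, nsmul_eq_mul]
  field_simp

lemma tricho (a b : Ω) :
    2 * (∑ g ∈ st2 G a b, (fx Ω g : ℚ)) ≤ (Fintype.card Ω + (line G a b).card - 2) * (st2 G a b).card ∨
    (∀ ω, (orb G a b ω).card ≤ 2) ∨
    ∃ ω, (orb G a b ω).card = 3 ∧ ∀ x, x ∉ orb G a b ω → (orb G a b x).card ≤ 2 := by
  classical
  by_contra hc
  push Not at hc
  obtain ⟨h1, ⟨ω, hω⟩, h3⟩ := hc
  have ht : (0 : ℚ) ≤ (st2 G a b).card := by positivity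
  by_cases h4 : (orb G a b ω).card = 3
  · obtain ⟨x, hx, hx2⟩ := h3 ω h4
    have hd : Disjoint (orb G a b ω) (orb G a b x) := by
      rw [disjoint_left]; intro y hy hy'
      apply hx; rw [← orb_eq hy, orb_eq hy']; exact self_mem_orb _ _ _
    have := S_bound (G := G) a b (orb G a b ω ∪ orb G a b x) (fun y hy => by
      rcases mem_union.mp hy with hy | hy <;> rw [orb_eq hy] <;> omega)
    rw [sum_union hd, sum_orb, sum_orb, h4] at this
    have h5 : (3 : ℚ) ≤ (orb G a b x).card := by exact_mod_cast hx2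
    push_cast at this
    nlinarith
  · have := S_bound (G := G) a b (orb G a b ω) (fun y hy => by rw [orb_eq hy]; omega)
    rw [sum_orb] at this
    have h5 : (4 : ℚ) ≤ (orb G a b ω).card := by exact_mod_cast (by omega : 4 ≤ (orb G a b ω).card)
    nlinarith

/-- the two point stabiliser as a subgroup -/
def H2 (G : Type*) [Group G] [MulAction G Ω] (a b : Ω) : Subgroup G := stabilizer G a ⊓ stabilizer G b

omit [Fintype Ω] in
lemma card_H2 (a b : Ω) : Nat.card (H2 G a b) = (st2 G a b).card := by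
  classical
  rw [Nat.card_eq_fintype_card, Fintype.card_subtype]
  congr 1; ext g; simp [H2]

omit [Fintype G] [Fintype Ω] in
lemma three_pts [DecidableEq Ω] {y : G} (hy : y ^ 3 = 1) {ω : Ω} (h : y • ω ≠ ω) :
    ({ω, y • ω, y • y • ω} : Finset Ω).card = 3 := by
  have h3 : y • y • y • ω = ω := by rw [← mul_smul, ← mul_smul, ← pow_three', hy, one_smul]
  refine card_eq_three.mpr ⟨_, _, _, h.symm, fun e => h ?_, fun e => h ?_, rfl⟩
  · rw [← e] at h3; exact h3
  · exact (smul_left_cancel y e).symm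

lemma no_three [FaithfulSMul G Ω] (h : TT G Ω) {a b : Ω} (hab : a ≠ b) (hn : 7 ≤ Fintype.card Ω)
    {ω : Ω} (h3 : (orb G a b ω).card = 3) (h2 : ∀ x, x ∉ orb G a b ω → (orb G a b x).card ≤ 2) :
    False := by
  classical
  have hsub : ∀ y ∈ st2 G a b, ∀ x, ({x, y • x, y • y • x} : Finset Ω) ⊆ orb G a b x := by
    intro y hy x z hz
    simp only [mem_insert, mem_singleton] at hz
    rcases hz with rfl | rfl | rfl
    · exact self_mem_orb _ _ _
    · exact smul_mem_orb hy (self_mem_orb _ _ _)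
    · exact smul_mem_orb hy (smul_mem_orb hy (self_mem_orb _ _ _))
  have hfix : ∀ y ∈ st2 G a b, y ^ 3 = 1 → ∀ x, x ∉ orb G a b ω → y • x = x := by
    intro y hy hy3 x hx
    by_contra hne
    have := card_le_card (hsub y hy x)
    rw [three_pts hy3 hne] at this
    have := h2 x hx; omega
  have horb : ∀ y ∈ st2 G a b, y ^ 3 = 1 → y ≠ 1 → orb G a b ω = {ω, y • ω, y • y • ω} := by
    intro y hy hy3 hy1
    have h33 : ∀ x : Ω, y • y • y • x = x := fun x => by
      rw [← mul_smul, ← mul_smul, ← pow_three', hy3, one_smul]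
    obtain ⟨x, hx⟩ : ∃ x : Ω, y • x ≠ x := by
      by_contra hc; push Not at hc
      exact hy1 (eq_of_smul_eq_smul (α := Ω) fun x => by rw [hc, one_smul])
    have hxo : x ∈ orb G a b ω := by
      by_contra hc; exact hx (hfix y hy hy3 x hc)
    have e : ({x, y • x, y • y • x} : Finset Ω) = orb G a b x :=
      eq_of_subset_of_card_le (hsub y hy x) (by rw [three_pts hy3 hx, orb_eq hxo, h3])
    have hω : y • ω ≠ ω := by
      have := self_mem_orb (G := G) a b ω
      rw [← orb_eq hxo, ← e] at this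
      simp only [mem_insert, mem_singleton] at this
      rcases this with rfl | rfl | rfl
      · exact hx
      · simpa using hx
      · simpa using hx
    exact (eq_of_subset_of_card_le (hsub y hy ω) (by rw [three_pts hy3 hω, h3])).symm
  have hd : 3 ∣ Nat.card (H2 G a b) := by rw [card_H2, ← wt_mul a b ω, h3]; exact dvd_mul_right _ _
  haveI : Fact (Nat.Prime 3) := ⟨by norm_num⟩
  obtain ⟨g, hg⟩ := exists_prime_orderOf_dvd_card' 3 hd
  have hg3 : (g : G) ^ 3 = 1 := by
    have := pow_orderOf_eq_one g; rw [hg] at this; exact_mod_cast congrArg Subtype.val this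
  have hg1 : (g : G) ≠ 1 := by
    intro e; have : g = 1 := Subtype.ext e; rw [this, orderOf_one] at hg; omega
  have hgH : (g : G) ∈ st2 G a b := mem_st2.mpr g.2
  obtain ⟨x, hx⟩ : ∃ x : Ω, (g : G) • x ≠ x := by
    by_contra hc; push Not at hc
    exact hg1 (eq_of_smul_eq_smul (α := Ω) fun x => by rw [hc, one_smul])
  have hB := lemB h hab hx
  have hf : Fintype.card Ω ≤ fx Ω (g : G) + 3 := by
    have : (univ : Finset Ω) ⊆ (univ.filter fun ω : Ω => (g : G) • ω = ω) ∪ orb G a b ω := by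
      intro x _
      by_cases hx : x ∈ orb G a b ω
      · exact mem_union_right _ hx
      · exact mem_union_left _ (mem_filter.mpr ⟨mem_univ _, hfix _ hgH hg3 x hx⟩)
    have := (card_le_card this).trans (card_union_le _ _)
    rw [h3, card_univ] at this
    unfold fx
    convert this
  have ha : ((st2 G a b).filter fun y => IsConj (g : G) y).card ≤ 3 := by
    rw [← h3]
    have hp : ∀ y ∈ (st2 G a b).filter fun y => IsConj (g : G) y, y ∈ st2 G a b ∧ y ^ 3 = 1 ∧ y ≠ 1 := by
      intro y hy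
      obtain ⟨h1, h4⟩ := mem_filter.mp hy
      obtain ⟨c, rfl⟩ := isConj_iff.mp h4
      refine ⟨h1, by rw [conj_pow, hg3]; simp, by simpa using hg1⟩
    refine card_le_card_of_injOn (fun y => y • ω)
      (fun y hy => smul_mem_orb (hp y hy).1 (self_mem_orb _ _ _)) fun y hy y' hy' e => ?_
    obtain ⟨p1, p2, p3⟩ := hp y hy
    obtain ⟨q1, q2, q3⟩ := hp y' hy'
    have e1 := horb y p1 p2 p3
    have e2 := horb y' q1 q2 q3
    have e' : y • ω = y' • ω := e
    have h33 : ∀ y : G, y ^ 3 = 1 → y • y • y • ω = ω := fun y hy3 => by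
      rw [← mul_smul, ← mul_smul, ← pow_three', hy3, one_smul]
    have e3 : y • y • ω = y' • y' • ω := by
      have h5 : y • y • ω ∈ orb G a b ω := by rw [e1]; simp
      have h6 := h3
      rw [e1] at h6
      rw [e2] at h5
      simp only [mem_insert, mem_singleton] at h5
      rcases h5 with h5 | h5 | h5
      · rw [h5] at h6
        have : ({ω, y • ω, ω} : Finset Ω) = {ω, y • ω} := by ext; simp; tauto
        rw [this] at h6; have := card_le_two (a := ω) (b := y • ω); omega
      · rw [h5, ← e'] at h6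
        have : ({ω, y • ω, y • ω} : Finset Ω) = {ω, y • ω} := by ext; simp
        rw [this] at h6; have := card_le_two (a := ω) (b := y • ω); omega
      · exact h5
    refine eq_of_smul_eq_smul (α := Ω) fun x => ?_
    by_cases hx : x ∈ orb G a b ω
    · rw [e1] at hx
      simp only [mem_insert, mem_singleton] at hx
      rcases hx with rfl | rfl | rfl
      · exact e'
      · rw [e3, e']
      · rw [h33 y p2, e3, h33 y' q2]
    · rw [hfix y p1 p2 x hx, hfix y' q1 q2 x hx]
  have ha' : (((st2 G a b).filter fun y => IsConj (g : G) y).card : ℚ) ≤ 3 := by exact_mod_cast ha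
  have hf' : (Fintype.card Ω : ℚ) ≤ fx Ω (g : G) + 3 := by exact_mod_cast hf
  have hn' : (7 : ℚ) ≤ Fintype.card Ω := by exact_mod_cast hn
  have hle : (fx Ω (g : G) : ℚ) ≤ Fintype.card Ω := by exact_mod_cast fx_le (Ω := Ω) (g : G)
  nlinarith

end Cfsg.Lib.Layer.Der
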