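import Cfsg.Agent.Lib.Layer.Der2

set_option autoImplicit false

open Finset MulAction

namespace Cfsg.Lib.Layer.Der

variable {G Ω : Type*} [Group G] [Fintype G] [MulAction G Ω] [Fintype Ω]

omit [Fintype Ω] in
lemma sq_one [FaithfulSMul G Ω] (h : TT G Ω) {a b : Ω} (hab : a ≠ b)
    (h2 : ∀ ω, (orb G a b ω).card ≤ 2) {c d : Ω} (hcd : c ≠ d) {g : G} (hg : g ∈ st2 G c d) :
    g * g = 1 := by
  classical
  have key : ∀ g ∈ st2 G a b, g * g = 1 := by
    intro g hg
    refine eq_of_smul_eq_smul (α := Ω) fun ω => ?_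
    rw [one_smul, mul_smul]
    by_contra hne
    have h1 : g • ω ≠ ω := fun e => hne (by rw [e, e])
    have : ({ω, g • ω, g • g • ω} : Finset Ω) ⊆ orb G a b ω := by
      intro z hz
      simp only [mem_insert, mem_singleton] at hz
      rcases hz with rfl | rfl | rfl
      · exact self_mem_orb _ _ _
      · exact smul_mem_orb hg (self_mem_orb _ _ _)
      · exact smul_mem_orb hg (smul_mem_orb hg (self_mem_orb _ _ _))
    have h3 := card_le_card this
    rw [card_eq_three.mpr ⟨_, _, _, h1.symm, Ne.symm hne,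
      fun e => h1 (smul_left_cancel g e).symm, rfl⟩] at h3
    have := h2 ω; omega
  obtain ⟨x, rfl, rfl⟩ := h a b c d hab hcd
  have := key (x⁻¹ * g * x) (by
    simp only [mem_st2] at hg ⊢; simp [mul_smul, hg.1, hg.2])
  have h3 : x⁻¹ * (g * g) * x = 1 := by rw [← this]; group
  simpa [mul_eq_one_iff_eq_inv] using h3

omit [Fintype Ω] in
lemma isP2 {c d : Ω} (h : ∀ g ∈ st2 G c d, g * g = 1) : IsPGroup 2 (H2 G c d) := fun g =>
  ⟨1, Subtype.ext (by simpa [pow_two] using h g (mem_st2.mpr g.2))⟩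

lemma k_two [FaithfulSMul G Ω] (h : TT G Ω) [IsPretransitive G Ω] {a b : Ω} (hab : a ≠ b)
    (hk : (line G a b).card = 2) (h2 : ∀ ω, (orb G a b ω).card ≤ 2) {g : G} (hg : g ∈ st2 G a b)
    (hg1 : g ≠ 1) : 3 * fx Ω g ≤ Fintype.card Ω + 2 := by
  classical
  haveI : Fact (Nat.Prime 2) := ⟨Nat.prime_two⟩
  have hP : ∀ β, a ≠ β → IsPGroup 2 (H2 G a β) := fun β hβ => isP2 fun g hg => sq_one h hab h2 hβ hg
  have hn2 : 2 ≤ Fintype.card Ω := Fintype.one_lt_card_iff.mpr ⟨a, b, hab⟩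
  have hodd : ¬ 2 ∣ Fintype.card Ω - 1 := by
    have h1 := (hP b hab).card_modEq_card_fixedPoints Ω
    have h3 : Nat.card (fixedPoints (H2 G a b) Ω) = 2 := by
      rw [← hk, Nat.card_eq_fintype_card, Fintype.card_subtype]
      congr 1; ext ω
      simp only [mem_filter, mem_univ, true_and, mem_fixedPoints, mem_line]
      exact ⟨fun h g h1 h2 => h ⟨g, h1, h2⟩, fun h g => h g g.2.1 g.2.2⟩
    rw [h3, Nat.card_eq_fintype_card] at h1
    unfold Nat.ModEq at h1
    omega
  set C : Subgroup G := Subgroup.centralizer {g} ⊓ stabilizer G a with hC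
  have ht : 0 < (st2 G a b).card := card_pos.mpr ⟨1, by simp⟩
  have hA : Nat.card (stabilizer G a) = (Fintype.card Ω - 1) * (st2 G a b).card := by
    have h1 := (stabilizer G a).card_mul_index
    rw [index_stabilizer_of_transitive, Nat.card_eq_fintype_card (α := G), card_G h hab,
      Nat.card_eq_fintype_card (α := Ω), mul_comm, mul_assoc] at h1
    exact Nat.eq_of_mul_eq_mul_left (by omega) h1
  have hle : ∀ β, a ≠ β → g • β = β → H2 G a β ≤ C := by
    intro β hβ hgβ x hx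
    refine ⟨Subgroup.mem_centralizer_singleton_iff.mpr ?_, hx.1⟩
    have hg' : g ∈ st2 G a β := mem_st2.mpr ⟨(mem_st2.mp hg).1, hgβ⟩
    have e1 := sq_one h hab h2 hβ hg'
    have e2 := sq_one h hab h2 hβ (mem_st2.mpr hx)
    have e3 := sq_one h hab h2 hβ (g := x * g) (mem_st2.mpr
      ⟨by rw [mul_smul, (mem_st2.mp hg).1]; exact hx.1, by rw [mul_smul, hgβ]; exact hx.2⟩)
    calc x * g = x * (x * g * (x * g)) * g * ((g * g) * (x * x))⁻¹ * (g * x) * (g * x)⁻¹ * 1 := by
          rw [e1, e2, e3]; group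
      _ = g * x := by
          have e1' : g⁻¹ = g := inv_eq_of_mul_eq_one_right e1
          have e2' : x⁻¹ = x := inv_eq_of_mul_eq_one_right e2
          have e4 : (x * g)⁻¹ = x * g := inv_eq_of_mul_eq_one_right e3
          rw [mul_inv_rev, e1', e2'] at e4
          rw [e1, e2, e3, e4]; group
  have hidx : ∀ β, a ≠ β → g • β = β → ((H2 G a β).subgroupOf C).index ∣ Fintype.card Ω - 1 := by
    intro β hβ hgβ
    have h1 := ((H2 G a β).subgroupOf C).card_mul_index
    rw [Nat.card_congr (Subgroup.subgroupOfEquivOfLe (hle β hβ hgβ)).toEquiv, card_H2,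
      card_st2 h hab hβ] at h1
    have h3 : Nat.card C ∣ Nat.card (stabilizer G a) := Subgroup.card_dvd_of_le inf_le_right
    rw [← h1, hA, mul_comm] at h3
    exact Nat.dvd_of_mul_dvd_mul_right ht h3
  let P : ∀ β, a ≠ β → g • β = β → Sylow 2 C := fun β hβ hgβ =>
    ((hP β hβ).comap_subtype (K := C)).toSylow fun hd => hodd (hd.trans (hidx β hβ hgβ))
  have hgb := (mem_st2.mp hg).2
  have horb : orbit C b = ↑((univ.filter fun ω : Ω => g • ω = ω).erase a) := by
    ext β
    simp only [coe_erase, coe_filter, mem_univ, true_and, Set.mem_sdiff, Set.mem_ofPred_eq,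
      Set.mem_singleton_iff]
    constructor
    · rintro ⟨c, rfl⟩
      have h1 : (c : G) * g = g * c := Subgroup.mem_centralizer_singleton_iff.mp c.2.1
      have h3 : (c : G) • a = a := c.2.2
      refine ⟨?_, fun e => hab ?_⟩
      · change g • (c : G) • b = (c : G) • b
        rw [← mul_smul, ← h1, mul_smul, hgb]
      · exact smul_left_cancel (c : G) (h3.trans e.symm)
    · rintro ⟨hβ, hβa⟩
      obtain ⟨c, hc⟩ := exists_smul_eq C (P b hab hgb) (P β (Ne.symm hβa) hβ)
      refine ⟨c, ?_⟩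
      have h1 : (c : G) • b ∈ line G a β := by
        rw [mem_line]; intro x h1 h3
        have hx : (⟨x, hle β (Ne.symm hβa) hβ ⟨h1, h3⟩⟩ : C) ∈ P β (Ne.symm hβa) hβ := ⟨h1, h3⟩
        rw [← hc] at hx
        change _ ∈ (↑(c • P b hab hgb) : Subgroup C) at hx
        rw [Sylow.coe_subgroup_smul, Subgroup.mem_pointwise_smul_iff_inv_smul_mem] at hx
        have h4 : ((c : G)⁻¹ * x * c) • b = b := by
          have := hx.2
          simpa using this
        rw [mul_smul, mul_smul, inv_smul_eq_iff] at h4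
        exact h4
      have h3 : line G a β = {a, β} := by
        symm
        refine eq_of_subset_of_card_le (fun z hz => ?_) ?_
        · simp only [mem_insert, mem_singleton] at hz
          rcases hz with rfl | rfl
          · exact mem_line.mpr fun _ h _ => h
          · exact mem_line.mpr fun _ _ h => h
        · rw [card_line h hab (Ne.symm hβa), hk, card_pair (Ne.symm hβa)]
      rw [h3] at h1
      simp only [mem_insert, mem_singleton] at h1
      rcases h1 with h1 | h1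
      · exact (hab (smul_left_cancel (c : G) ((show (c : G) • a = a from c.2.2).trans h1.symm))).elim
      · exact h1
  have hst : stabilizer C b = (H2 G a b).subgroupOf C := by
    ext c
    rw [mem_stabilizer_iff, Subgroup.mem_subgroupOf]
    exact ⟨fun h => ⟨c.2.2, h⟩, fun h => h.2⟩
  have h5 := hidx b hab hgb
  rw [← hst, index_stabilizer, horb, Set.ncard_coe_finset,
    card_erase_of_mem (by simpa using (mem_st2.mp hg).1)] at h5
  have h6 : fx Ω g < Fintype.card Ω := by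
    unfold fx
    refine card_lt_card (filter_ssubset.mpr ?_) |>.trans_le (card_univ (α := Ω)).le
    by_contra hc; push Not at hc
    exact hg1 (eq_of_smul_eq_smul (α := Ω) fun x => by rw [hc x (mem_univ _), one_smul])
  have h7 : fx Ω g - 1 ∣ Fintype.card Ω - 1 := by
    unfold fx; convert h5
  obtain ⟨q, hq⟩ := h7
  have hq0 : q ≠ 0 := by rintro rfl; omega
  have hq1 : q ≠ 1 := by rintro rfl; omega
  have hq2 : q ≠ 2 := by rintro rfl; omega
  have : (fx Ω g - 1) * 3 ≤ (fx Ω g - 1) * q := Nat.mul_le_mul_left _ (by omega)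
  omega

lemma arith_k3 {n u f : ℚ} (hu : u = 3 ∨ 4 ≤ u) (hn : 4 * u + 3 ≤ n)
    (hf : n * (u - 1) + 3 * (u + 1) ≤ 2 * u * f) (hB : f * (f - 1) ≤ (n - f) * u) : False := by
  rcases hu with rfl | hu
  · nlinarith [sq_nonneg (f - 4)]
  · have hf0 : 0 < f := by
      by_contra hc
      push Not at hc
      nlinarith
    have h1 : 3 * u - 1 / 2 ≤ f + u - 1 := by
      by_contra hc
      push Not at hc
      nlinarith
    have h2 : f * (3 * u - 1 / 2) ≤ n * u := by nlinarith
    have h3 : (n * (u - 1) + 3 * (u + 1)) * (3 * u - 1 / 2) ≤ 2 * u * (n * u) := by nlinarith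
    have h4 : 0 < n * (2 * u ^ 2 - 7 * u + 1) := mul_pos (by linarith) (by nlinarith)
    nlinarith

theorem main_tt [FaithfulSMul G Ω] (h : TT G Ω) [IsPretransitive G Ω] {a b : Ω} (hab : a ≠ b)
    (hn : 7 ≤ Fintype.card Ω) (ht : 2 ≤ (st2 G a b).card) :
    2 * ((st2 G a b).card : ℚ) ≤ Fintype.card Ω * ∑ g ∈ st2 G a b, 1 / (fx Ω g : ℚ) := by
  classical
  have h1m : (1 : G) ∈ st2 G a b := by simp
  set U := (st2 G a b).erase 1 with hU
  obtain ⟨u, hu⟩ : ∃ u, (st2 G a b).card = u + 1 := ⟨_, (Nat.sub_add_cancel (by omega)).symm⟩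
  have hUc : U.card = u := by rw [hU, card_erase_of_mem h1m]; omega
  have hn' : (7 : ℚ) ≤ Fintype.card Ω := by exact_mod_cast hn
  have hu1 : (1 : ℚ) ≤ u := by exact_mod_cast (by omega : 1 ≤ u)
  have hmv : ∀ g ∈ U, ∃ x : Ω, g • x ≠ x := by
    intro g hg
    by_contra hc; push Not at hc
    exact (mem_erase.mp hg).1 (eq_of_smul_eq_smul (α := Ω) fun x => by rw [hc, one_smul])
  have hpos : ∀ g ∈ U, (0 : ℚ) < fx Ω g := by
    intro g hg
    have : 0 < fx Ω g :=
      Nat.pos_of_ne_zero fun e => (fx_zero g).mp e a (mem_st2.mp (mem_erase.mp hg).2).1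
    exact_mod_cast this
  rw [← add_sum_erase _ _ h1m, ← hU, fx_one, mul_add, mul_one_div_cancel (by linarith), hu]
  push_cast
  have hS : ∑ g ∈ st2 G a b, (fx Ω g : ℚ) = Fintype.card Ω + ∑ g ∈ U, (fx Ω g : ℚ) := by
    rw [← add_sum_erase _ _ h1m, fx_one]
  set n : ℚ := (Fintype.card Ω : ℚ) with hndef
  have N1 : ∀ m : ℚ, 0 < m → (∀ g ∈ U, (fx Ω g : ℚ) ≤ m) → (2 * u + 1) * m ≤ n * u →
      2 * ((u : ℚ) + 1) ≤ 1 + n * ∑ g ∈ U, 1 / (fx Ω g : ℚ) := by
    intro m hm hle hh
    have : ∑ g ∈ U, 1 / m ≤ ∑ g ∈ U, 1 / (fx Ω g : ℚ) :=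
      sum_le_sum fun g hg => one_div_le_one_div_of_le (hpos g hg) (hle g hg)
    rw [sum_const, hUc, nsmul_eq_mul] at this
    have h2 : (2 * u + 1 : ℚ) ≤ n * (u * (1 / m)) := by
      rw [mul_one_div, ← mul_div_assoc, le_div_iff₀ hm]; exact hh
    nlinarith
  have hUpos : 0 < ∑ g ∈ U, (fx Ω g : ℚ) := sum_pos hpos (card_pos.mp (by omega))
  have N2 : (2 * u + 1) * ∑ g ∈ U, (fx Ω g : ℚ) ≤ n * u ^ 2 →
      2 * ((u : ℚ) + 1) ≤ 1 + n * ∑ g ∈ U, 1 / (fx Ω g : ℚ) := by
    intro hh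
    have := sq_sum_div_le_sum_sq_div U (fun _ => (1 : ℚ)) hpos
    simp only [sum_const, hUc, nsmul_eq_mul, mul_one, one_pow] at this
    have h2 : (2 * u + 1 : ℚ) ≤ n * (u ^ 2 / ∑ g ∈ U, (fx Ω g : ℚ)) := by
      rw [← mul_div_assoc, le_div_iff₀ hUpos]; exact hh
    nlinarith
  have hk2 : 2 ≤ (line G a b).card :=
    one_lt_card.mpr ⟨a, mem_line.mpr fun _ h _ => h, b, mem_line.mpr fun _ _ h => h, hab⟩
  have hA : ∀ g ∈ U, fx Ω g * ((line G a b).card - 1) + 1 ≤ Fintype.card Ω := fun g hg => by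
    obtain ⟨x, hx⟩ := hmv g hg
    exact lemA h hab hx
  by_cases hk4 : 4 ≤ (line G a b).card
  · refine N1 (n / 3) (by linarith) (fun g hg => ?_) (by nlinarith)
    have h1 := hA g hg
    have h2 : fx Ω g * 3 ≤ fx Ω g * ((line G a b).card - 1) := Nat.mul_le_mul_left _ (by omega)
    have h3 : ((fx Ω g * 3 : ℕ) : ℚ) ≤ n := by rw [hndef]; exact_mod_cast (by omega)
    push_cast at h3; linarith
  have hA3 : (line G a b).card = 3 → ∀ g ∈ U, (fx Ω g : ℚ) ≤ (n - 1) / 2 := by
    intro hk g hg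
    have h1 := hA g hg
    rw [hk] at h1
    have h3 : ((fx Ω g * 2 + 1 : ℕ) : ℚ) ≤ n := by rw [hndef]; exact_mod_cast h1
    push_cast at h3; linarith
  by_cases hk3 : (line G a b).card = 3 ∧ n ≤ 2 * u + 1
  · exact N1 ((n - 1) / 2) (by linarith) (hA3 hk3.1) (by nlinarith [hk3.2])
  have hk : (line G a b).card = 2 ∨ ((line G a b).card = 3 ∧ 2 * u + 1 ≤ n) := by
    by_cases h3 : (line G a b).card = 3
    · exact Or.inr ⟨h3, le_of_not_ge fun h => hk3 ⟨h3, h⟩⟩
    · left; omega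
  rcases tricho (G := G) a b with h1 | h1 | ⟨ω, h1, h2⟩
  · rw [hS, hu] at h1
    refine N2 ?_
    rcases hk with hk | ⟨hk, hk'⟩ <;> rw [hk] at h1 <;> push_cast at h1 <;> nlinarith
  swap
  · exact (no_three h hab hn h1 h2).elim
  have hSe := S_eq a b h1
  rw [hS, hu] at hSe
  have hu3 : u = 1 ∨ 3 ≤ u := by
    haveI : Fact (Nat.Prime 2) := ⟨Nat.prime_two⟩
    obtain ⟨e, he⟩ := (isP2 fun g hg => sq_one h hab h1 hab hg).exists_card_eq
    rw [card_H2, hu] at he
    rcases e with _ | _ | e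
    · omega
    · omega
    · rw [pow_add, pow_add] at he
      have := Nat.one_le_two_pow (n := e)
      omega
  have hB : ∀ g ∈ U, (fx Ω g : ℚ) * (fx Ω g - 1) ≤ (n - fx Ω g) * u := by
    intro g hg
    obtain ⟨x, hx⟩ := hmv g hg
    refine (lemB h hab hx).trans (mul_le_mul_of_nonneg_left ?_ ?_)
    · rw [← hUc]
      refine Nat.cast_le.mpr (card_le_card fun y hy => ?_)
      obtain ⟨hy1, hy2⟩ := mem_filter.mp hy
      refine mem_erase.mpr ⟨?_, hy1⟩
      rintro rfl
      exact (mem_erase.mp hg).1 (isConj_one_left.mp hy2)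
    · have : (fx Ω g : ℚ) ≤ n := by rw [hndef]; exact_mod_cast fx_le (Ω := Ω) g
      linarith
  rcases hk with hk | ⟨hk, hk'⟩
  · rcases hu3 with rfl | hu3
    · refine N2 ?_
      rw [hk] at hSe; push_cast at hSe ⊢; linarith
    · have hu3' : (3 : ℚ) ≤ u := by exact_mod_cast hu3
      refine N1 ((n + 2) / 3) (by linarith) (fun g hg => ?_) (by nlinarith)
      have := k_two h hab hk h1 (mem_erase.mp hg).2 (mem_erase.mp hg).1
      have h3 : ((3 * fx Ω g : ℕ) : ℚ) ≤ n + 2 := by rw [hndef]; exact_mod_cast this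
      push_cast at h3; linarith
  · rw [hk] at hSe
    rcases hu3 with rfl | hu3
    · refine N2 ?_
      obtain ⟨g, hg⟩ := card_eq_one.mp hUc
      have := hB g (by rw [hg]; simp)
      rw [hg, sum_singleton] at hSe ⊢
      push_cast at hSe this ⊢
      have h3 : (fx Ω g : ℚ) = 3 := by linarith
      rw [h3] at this ⊢
      linarith
    · exfalso
      have h4 : ∑ g ∈ U, (fx Ω g : ℚ) ≤ ∑ g ∈ U, (n - 1) / 2 := sum_le_sum (hA3 hk)
      rw [sum_const, hUc, nsmul_eq_mul] at h4
      obtain ⟨g, hg, hg2⟩ := exists_le_of_sum_le (s := U) (card_pos.mp (by omega))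
        (f := fun _ => (∑ g ∈ U, (fx Ω g : ℚ))) (g := fun g => u * (fx Ω g : ℚ))
        (by rw [sum_const, hUc, nsmul_eq_mul, ← mul_sum])
      push_cast at hSe
      refine arith_k3 (n := n) (u := u) (f := fx Ω g) ?_ (by nlinarith) (by nlinarith) (hB g hg)
      rcases hu3.eq_or_lt with e | e
      · left; exact_mod_cast e.symm
      · right; exact_mod_cast e

end Cfsg.Lib.Layer.Der
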