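import Cfsg.Agent.Lib.BS.Thompson
import Cfsg.Agent.Lib.Amalg.Ops

/-! Frobenius groups of automorphisms: module lemmas. -/

set_option autoImplicit false

namespace Cfsg.Lib.Layer.Fra

open Subgroup Cfsg.Lib.Core Cfsg.Lib.Transfer Cfsg.Lib.Coprime
open scoped Cfsg.Lib.Amalg

section Abs

variable {A W : Type*} [Group A] [CommGroup W] {K R : Subgroup A}

theorem exists_reps [Finite A] [Fintype K] [Fintype R] (hf : Fpf K R) (hn : R ≤ 𝐍 K) :
    ∃ T : Finset A, ∀ φ : A → W, φ 1 * ∏ r : R, ∏ t ∈ T, φ (r * t * (r : A)⁻¹) = ∏ k : K, φ k := by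
  classical
  have := Fintype.ofFinite A
  let s : Setoid A := ⟨fun a b => ∃ r ∈ R, r * a * r⁻¹ = b, fun a => ⟨1, one_mem _, by simp⟩, by
    rintro a _ ⟨r, hr, rfl⟩
    exact ⟨r⁻¹, inv_mem hr, by group⟩, by
    rintro a _ _ ⟨r, hr, rfl⟩ ⟨t, ht, rfl⟩
    exact ⟨t * r, mul_mem ht hr, by group⟩⟩
  refine ⟨Finset.univ.filter fun k : A => k ∈ K ∧ k ≠ 1 ∧ (Quotient.mk s k).out = k, fun φ => ?_⟩
  rw [← Finset.mul_prod_erase _ _ (Finset.mem_univ (1 : K)), ← Finset.prod_product']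
  congr 1
  refine Finset.prod_bij (fun p hp => ⟨p.1 * p.2 * (p.1 : A)⁻¹, Transfer.conj_mem_of_mem_normalizer (hn p.1.2)
    (Finset.mem_filter.1 (Finset.mem_product.1 hp).2).2.1⟩) ?_ ?_ ?_ fun _ _ => rfl
  · intro p hp
    have h := (Finset.mem_filter.1 (Finset.mem_product.1 hp).2).2
    exact Finset.mem_erase.2 ⟨fun e => h.2.1 (conj_eq_one_iff.1 (congrArg Subtype.val e)), Finset.mem_univ _⟩
  · rintro ⟨r, t⟩ hp ⟨r', t'⟩ hp' e
    have h := (Finset.mem_filter.1 (Finset.mem_product.1 hp).2).2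
    have h' := (Finset.mem_filter.1 (Finset.mem_product.1 hp').2).2
    have e1 : (r : A) * t * (r : A)⁻¹ = r' * t' * (r' : A)⁻¹ := congrArg Subtype.val e
    have e2 : ((r' : A)⁻¹ * r) * t * ((r' : A)⁻¹ * r)⁻¹ = t' := by
      rw [mul_inv_rev, inv_inv, mul_assoc (r' : A)⁻¹, mul_assoc (r' : A)⁻¹, ← mul_assoc _ (r : A)⁻¹, e1]; group
    have e3 : t = t' := by
      simp only at h h'
      rw [← h.2.2, ← h'.2.2, Quotient.sound (s := s) ⟨_, mul_mem (inv_mem r'.2) r.2, e2⟩]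
    subst e3
    have e4 : (r' : A)⁻¹ * r = 1 := hf.eq_one' (mul_mem (inv_mem r'.2) r.2) h.1 h.2.1 (by
      rw [mul_inv_eq_iff_eq_mul] at e2; first | exact e2 | exact e2.symm)
    rw [Subtype.ext (inv_mul_eq_one.1 e4)]
  · intro k hk
    obtain ⟨r, hr, e⟩ : s (Quotient.mk s (k : A)).out k := Quotient.mk_out (s := s) (k : A)
    have h1 : (Quotient.mk s (k : A)).out = r⁻¹ * k * r⁻¹⁻¹ := by
      generalize (Quotient.mk s (k : A)).out = t at e
      rw [← e]; group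
    refine ⟨(⟨r, hr⟩, (Quotient.mk s (k : A)).out), Finset.mem_product.2 ⟨Finset.mem_univ _,
      Finset.mem_filter.2 ⟨Finset.mem_univ _, ?_, ?_, by rw [Quotient.out_eq]⟩⟩, Subtype.ext e⟩
    · rw [h1]; exact Transfer.conj_mem_of_mem_normalizer (hn (inv_mem hr)) k.2
    · rw [h1]; exact fun i => (Finset.mem_erase.1 hk).1 (Subtype.ext (conj_eq_one_iff.1 i))

theorem norm_fixed [Fintype K] (ρ : A →* MulAut W) (w : W) {a : A} (ha : a ∈ K) :
    ρ a (∏ k : K, ρ k w) = ∏ k : K, ρ k w := by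
  rw [map_prod]
  exact Fintype.prod_equiv (Equiv.mulLeft (⟨a, ha⟩ : K)) _ _ fun k => by simp

/-- vanishing of `H¹(R, W)` -/
theorem cover_abs [Finite A] (ρ : A →* MulAut W) (hf : Fpf K R) (hn : R ≤ 𝐍 K)
    (hK : ∀ w, (∀ k ∈ K, ρ k w = w) → w = 1) (δ : R → W) (hδ : ∀ r s, δ (r * s) = δ r * ρ r (δ s)) :
    ∃ v, ∀ r : R, ρ r v = v * δ r := by
  have := Fintype.ofFinite K
  have := Fintype.ofFinite R
  obtain ⟨T, hT⟩ := exists_reps (W := W) hf hn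
  have h1 : ∀ w, ∏ r : R, ∏ t ∈ T, ρ (r * t * (r : A)⁻¹) w = w⁻¹ := fun w => by
    have := hT fun a => ρ a w
    rw [hK _ fun k hk => norm_fixed ρ w hk, map_one, MulAut.one_apply] at this
    exact eq_inv_of_mul_eq_one_right this
  refine ⟨∏ r : R, ∏ t ∈ T, ρ (r * t * (r : A)⁻¹) (δ r), fun s => ?_⟩
  rw [← inv_inv (δ s), ← h1, ← Finset.prod_mul_distrib, map_prod]
  refine Fintype.prod_equiv (Equiv.mulLeft s) _ _ fun r => ?_
  rw [map_prod, ← Finset.prod_mul_distrib]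
  refine Finset.prod_congr rfl fun t _ => ?_
  rw [← map_mul, Equiv.coe_mulLeft, hδ, mul_inv_cancel_comm, ← MulAut.mul_apply, ← MulAut.mul_apply, ← map_mul,
    ← map_mul]
  congr 2
  simp only [coe_mul]; group

theorem orbit_prod [Finite A] (ρ : A →* MulAut W) (K : Subgroup A) (w : W) (π : W →* W)
    (h : ∀ a ∈ K, ρ a w = w ∨ π (ρ a w) = 1) : ∃ v, (∀ a ∈ K, ρ a v = v) ∧ π v = π w := by
  classical
  have := Fintype.ofFinite K
  refine ⟨∏ y ∈ Finset.univ.image fun a : K => ρ a w, y, fun a ha => ?_, ?_⟩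
  · rw [map_prod]
    refine Finset.prod_bij (fun y _ => ρ a y) ?_ (fun _ _ _ _ e => (ρ a).injective e) ?_ fun _ _ => rfl
    · intro y hy
      obtain ⟨b, -, rfl⟩ := Finset.mem_image.1 hy
      exact Finset.mem_image.2 ⟨⟨a, ha⟩ * b, Finset.mem_univ _, by simp⟩
    · intro y hy
      obtain ⟨b, -, rfl⟩ := Finset.mem_image.1 hy
      exact ⟨_, Finset.mem_image.2 ⟨⟨a, ha⟩⁻¹ * b, Finset.mem_univ _, rfl⟩, by
        rw [← MulAut.mul_apply, ← map_mul]; simp⟩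
  · rw [map_prod, Finset.prod_eq_single w]
    · intro y hy e
      obtain ⟨b, -, rfl⟩ := Finset.mem_image.1 hy
      exact (h b b.2).resolve_left e
    · exact fun e => absurd (Finset.mem_image.2 ⟨1, Finset.mem_univ _, by simp⟩) e

end Abs

variable {G : Type*} [Group G] [Finite G] {V Y K R : Subgroup G}

open scoped IsMulCommutative

theorem cover [V.Normal] [IsMulCommutative V] (hf : Fpf K R) (hn : R ≤ 𝐍 K) (hK : V ⊓ 𝐂 K = ⊥) {x : G}
    (hx : ∀ r ∈ R, x⁻¹ * (r * x * r⁻¹) ∈ V) : ∃ v ∈ V, x * v ∈ 𝐂 R := by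
  obtain ⟨v, hv⟩ := cover_abs (W := V) MulAut.conjNormal hf hn (fun w hw => Subtype.ext (mem_bot.1 (hK.le
    ⟨w.2, fun k hk => mul_inv_eq_iff_eq_mul.1 (congrArg Subtype.val (hw k hk))⟩))) (fun r => ⟨_, hx r r.2⟩)
    fun r s => Subtype.ext (by simp only [coe_mul, MulAut.conjNormal_apply]; group)
  refine ⟨v⁻¹, inv_mem v.2, fun r hr => ?_⟩
  have h := congrArg Subtype.val (hv ⟨r, hr⟩)
  simp only [coe_mul, MulAut.conjNormal_apply] at h
  calc r * (x * (v : G)⁻¹) = x * (x⁻¹ * (r * x * r⁻¹)) * (r * v * r⁻¹)⁻¹ * r := by group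
    _ = x * (v : G)⁻¹ * r := by rw [h]; group

theorem key [V.Normal] [IsMulCommutative V] (hf : Fpf K R) (hn : R ≤ 𝐍 K) (hKY : K ≤ 𝐍 Y) (hRY : R ≤ 𝐍 Y)
    (hab : IsMulCommutative (Y.map (MulAut.conjNormal (H := V))))
    (hc : (Nat.card (Y.map (MulAut.conjNormal (H := V)))).Coprime (Nat.card V))
    (hc' : (Nat.card K).Coprime (Nat.card V)) (hK : V ⊓ 𝐂 K = ⊥) {u : G} (hu : u ∈ Y) (hR : V ⊓ 𝐂 R ≤ centralizer {u})
    {y : G} (hy : y ∈ V) (hy1 : y ≠ 1) (hm : ∀ z ∈ V, z ≠ 1 →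
      Nat.card (Y ⊓ centralizer {z} :) ≤ Nat.card (Y ⊓ centralizer {y} :)) : u ∈ centralizer {y} := by
  set ρ : G →* MulAut V := MulAut.conjNormal with hρ
  have hρ' : ∀ (g : G) (w : V), ρ g w = w ↔ (w : G) ∈ centralizer {g} := fun g w => by
    rw [mem_centralizer_singleton_iff, Subtype.ext_iff, hρ, MulAut.conjNormal_apply, mul_inv_eq_iff_eq_mul, eq_comm]
  have hy' : y ∈ 𝐂 (Y ⊓ centralizer {y} :) := fun b hb => mem_centralizer_singleton_iff.1 hb.2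
  have hm' : ∀ z ∈ V, z ≠ 1 → z ∈ 𝐂 (Y ⊓ centralizer {y} :) → Y ⊓ centralizer {z} = Y ⊓ centralizer {y} :=
    fun z h1 h2 h3 => (eq_of_le_of_card_ge (le_inf inf_le_left fun b hb =>
      mem_centralizer_singleton_iff.2 (h3 b hb)) (hm z h1 h2)).symm
  suffices u ∈ Y ⊓ centralizer {y} from this.2
  have hB : Y ⊓ centralizer {y} ≤ Y := inf_le_left
  generalize Y ⊓ centralizer {y} = B at hy' hm' hB ⊢
  have := Fintype.ofFinite (B.map ρ)
  let π : V →* V := ∏ b : B.map ρ, (b : MulAut V).toMonoidHom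
  have hπ : ∀ w, π w = ∏ b : B.map ρ, (MonoidHom.id _ (b : MulAut V)) w := fun w => MonoidHom.finsetProd_apply _ _ _
  have h1 : ∀ w, (π w : G) ∈ 𝐂 B := fun w b hb => by
    have := norm_fixed (K := B.map ρ) (MonoidHom.id _) w (mem_map_of_mem ρ hb)
    rw [← hπ] at this
    exact (mem_centralizer_singleton_iff.1 ((hρ' _ _).1 this)).symm
  have h2 : ∀ g ∈ Y, ∀ w, π (ρ g w) = ρ g (π w) := fun g hg w => by
    rw [hπ, hπ, map_prod]
    refine Finset.prod_congr rfl fun b _ => ?_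
    have := congrArg Subtype.val (mul_comm (⟨b, map_mono hB b.2⟩ : Y.map ρ) ⟨_, mem_map_of_mem ρ hg⟩)
    exact congrArg (fun α : MulAut V => α w) this
  have h3 : ∀ w : V, (w : G) ∈ 𝐂 B → π w = 1 → w = 1 := fun w hw e => by
    rw [hπ, Finset.prod_congr rfl (g := fun _ => w) (by
      rintro ⟨_, b, hb, rfl⟩ -
      exact (hρ' _ _).2 (mem_centralizer_singleton_iff.2 (hw b hb).symm)), Finset.prod_const, Finset.card_univ,
      ← Nat.card_eq_fintype_card] at e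
    have := pow_gcd_eq_one.2 ⟨e, pow_card_eq_one' (x := w)⟩
    rwa [(Nat.Coprime.coprime_dvd_left (card_dvd_of_le (map_mono hB)) hc).gcd_eq_one, pow_one] at this
  have h4 : ∀ A : Subgroup G, A ≤ 𝐍 Y → ∀ w : V, (w : G) ∈ 𝐂 B → (w : G) ∈ 𝐂 (A ⊓ 𝐍 B :) →
      ∃ v : V, (v : G) ∈ 𝐂 A ∧ π v = π w := fun A hA w a b => by
    obtain ⟨v, i, j⟩ := orbit_prod ρ A w π fun g hg => by
      by_cases e : g ∈ 𝐍 B
      · exact .inl ((hρ' _ _).2 (mem_centralizer_singleton_iff.2 (b g ⟨hg, e⟩).symm))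
      refine .inr (by_contra fun i => e (mem_normalizer_of_cj_le fun c hc => ?_))
      have j : c ∈ Y := (cj_eq_of_mem_normalizer (hA hg)).le (cj_mono g hB hc)
      rw [← hm' _ (π (ρ g w)).2 (fun k => i (Subtype.ext k)) (h1 _)]
      refine ⟨j, mem_centralizer_singleton_iff.2 (mem_centralizer_singleton_iff.1 ((hρ' _ _).1 ?_)).symm⟩
      rw [← h2 c j, ← MulAut.mul_apply, ← map_mul, show c * g = g * (g⁻¹ * c * g) by group, map_mul,
        MulAut.mul_apply, (hρ' _ w).2 (mem_centralizer_singleton_iff.2 (a _ (mem_cj.1 hc)).symm)]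
    exact ⟨v, fun g hg => (mem_centralizer_singleton_iff.1 ((hρ' _ _).1 (i g hg))).symm, j⟩
  have h5 : ∀ A : Subgroup G, A ⊓ 𝐍 B ≤ 𝐍 (V ⊓ 𝐂 B :) := fun A =>
    le_normalizer_inf le_normalizer_of_normal (le_normalizer_centralizer inf_le_right)
  have : IsMulCommutative (V ⊓ 𝐂 B :) := ⟨⟨fun a b => Subtype.ext
    (congrArg (Subtype.val : V → G) (mul_comm (⟨a, a.2.1⟩ : V) ⟨b, b.2.1⟩))⟩⟩
  have h6 := (hf.mono (K' := K ⊓ 𝐍 B) (R' := R ⊓ 𝐍 B) inf_le_left inf_le_left).inf_centralizer_ne_bot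
    (V := V ⊓ 𝐂 B) (le_normalizer_inf (inf_le_left.trans hn) (inf_le_right.trans le_normalizer)) (h5 K) (h5 R)
    (Nat.Coprime.coprime_dvd_left (card_dvd_of_le inf_le_left)
      (Nat.Coprime.coprime_dvd_right (card_dvd_of_le inf_le_left) hc')) fun e => by
      obtain ⟨v, i, j⟩ := h4 K hKY ⟨y, hy⟩ hy' fun k hk => (e hk y ⟨hy, hy'⟩).symm
      rw [show v = 1 from Subtype.ext (mem_bot.1 (hK.le ⟨v.2, i⟩)), map_one] at j
      exact hy1 (congrArg Subtype.val (h3 _ hy' j.symm))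
  obtain ⟨⟨w, ⟨a, b⟩, c⟩, d⟩ := ne_bot_iff_exists_ne_one.1 h6
  obtain ⟨v, i, j⟩ := h4 R hRY ⟨w, a⟩ b c
  rw [← hm' _ (π v).2 (fun k => d (Subtype.ext (congrArg (Subtype.val : V → G) (h3 ⟨w, a⟩ b (j ▸ Subtype.ext k))))) (h1 _)]
  refine ⟨hu, mem_centralizer_singleton_iff.2 (mem_centralizer_singleton_iff.1 ((hρ' _ _).1 ?_)).symm⟩
  rw [← h2 u hu, (hρ' _ _).2 (hR ⟨v.2, i⟩)]

end Cfsg.Lib.Layer.Fra
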