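import Cfsg.Agent.Lib.Layer.FraA
import Cfsg.Agent.Lib.Coprime.FrobKernel
import Cfsg.Agent.Lib.Coprime.Action

/-! Frobenius groups of automorphisms with fixed point free kernel: nilpotency. -/

set_option autoImplicit false

namespace Cfsg.Lib.Layer.Fra

open Subgroup Cfsg.Lib.Core Cfsg.Lib.Transfer Cfsg.Lib.Coprime
open scoped Cfsg.Lib.Amalg commutatorElement IsMulCommutative

universe u

section
variable {G : Type u} [Group G] [Finite G] {p : ℕ} [Fact p.Prime] {A P X Y V K R : Subgroup G}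

theorem fix_res (hP : IsPGroup p P) (hn : A ≤ 𝐍 P) (h : P ⊓ 𝐂 A = ⊥) : P ⊓ 𝐂 (resOf p A) = ⊥ := by
  by_contra h1
  obtain ⟨T, hT⟩ := exists_sylowIn (p := p) A
  refine inf_centralizer_ne_bot_of_isPGroup (hP.to_le inf_le_left) hT.isPGroup (hT.le.trans
    (le_normalizer_inf hn (le_normalizer_centralizer (le_normalizer_resOf A)))) h1 ?_
  rw [inf_assoc, ← centralizer_sup, hT.resOf_sup, h]

theorem fix_map {G' : Type*} [Group G'] (f : G →* G') (hP : IsPGroup p f.ker) (hA : PNil p A) (hn : A ≤ 𝐍 X)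
    (hk : f.ker ≤ X) (h : X ⊓ 𝐂 A = ⊥) : X.map f ⊓ 𝐂 (A.map f) = ⊥ := by
  have h1 := fix_res hP (le_normalizer_of_normal (K := A)) (le_bot_iff.1 (h ▸ inf_le_inf_right _ hk))
  have h2 := Coprime.map_inf_centralizer f ((resOf_le A).trans hn) (by
    rw [inf_eq_right.2 hk]; exact Coprime.coprime_card_of_isPGroup hP hA.coprime) (.inr (by
      rw [inf_eq_right.2 hk]; exact Coprime.isSolvable_of_isPGroup hP))
  refine eq_bot_iff.2 fun y hy => ?_
  obtain ⟨x, hx, rfl⟩ := h2.ge ⟨hy.1, centralizer_anti (map_mono (resOf_le A)) hy.2⟩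
  have h3 : x ∈ X ⊓ 𝐂 A := ⟨hx.1, fun a ha => by
    have i : ⁅a, x⁆ ∈ f.ker ⊓ 𝐂 (resOf p A) := mem_inf.2 ⟨by
      rw [MonoidHom.mem_ker, map_commutatorElement, commutatorElement_eq_one_iff_mul_comm]
      exact hy.2 _ (mem_map_of_mem f ha), mul_mem (Core.conj_mem_of_mem_normalizer
        (le_normalizer_centralizer (le_normalizer_resOf A) ha) hx.2) (inv_mem hx.2)⟩
    rw [h1] at i
    exact commutatorElement_eq_one_iff_mul_comm.1 i⟩
  rw [h] at h3
  rw [mem_bot.1 h3, map_one]; exact one_mem _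

theorem cover_map [V.Normal] [IsMulCommutative V] (hf : Fpf K R) (hn : R ≤ 𝐍 K) (hV : V ≤ X) (hK : X ⊓ 𝐂 K = ⊥) :
    X.map (QuotientGroup.mk' V) ⊓ 𝐂 (R.map (QuotientGroup.mk' V)) ≤ (X ⊓ 𝐂 R).map (QuotientGroup.mk' V) := by
  rintro _ ⟨⟨x, hx, rfl⟩, h⟩
  obtain ⟨v, hv, i⟩ := cover hf hn (le_bot_iff.1 (hK ▸ inf_le_inf_right _ hV)) (x := x) fun r hr => by
    rw [← QuotientGroup.eq_one_iff, ← QuotientGroup.mk'_apply, map_mul, map_mul, map_mul, h _ (mem_map_of_mem _ hr)]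
    simp
  exact ⟨x * v, ⟨mul_mem hx (hV hv), i⟩, by simpa using hv⟩

theorem nil_of_two {G₁ G₂ : Type*} [Group G₁] [Group G₂] (f : G →* G₁) (g : G →* G₂) (h1 : Group.IsNilpotent (X.map f))
    (h2 : Group.IsNilpotent (X.map g)) (h : X ⊓ (f.ker ⊓ g.ker) ≤ 𝐂 X) : Group.IsNilpotent X :=
  Subgroup.isNilpotent_of_ker_le_center ((f.subgroupMap X).prod (g.subgroupMap X)) fun x hx =>
    mem_center_iff.2 fun y => Subtype.ext (h ⟨x.2, congrArg Subtype.val (congrArg Prod.fst hx),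
      congrArg Subtype.val (congrArg Prod.snd hx)⟩ y y.2)

theorem op_ne_bot (hX : Group.IsNilpotent X) (h : p ∣ Nat.card X) : pCoreOf p X ≠ ⊥ := fun e => by
  obtain ⟨T, hT⟩ := exists_sylowIn (p := p) X
  exact hT.eq_bot_iff.1 (le_bot_iff.1 ((le_pCoreOf_of_nilpotent hT.isPGroup hT.le).trans e.le)) h

theorem exists_center [P.Normal] (hP : IsPGroup p P) (h : P ≠ ⊥) :
    ∃ V : Subgroup G, V.Normal ∧ IsMulCommutative V ∧ V ≠ ⊥ ∧ V ≤ P ∧
      ∀ K : Subgroup G, K.Normal → K ≤ V → K = ⊥ ∨ K = V := by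
  obtain ⟨V, a, b, c, d⟩ := exists_minimal_normal_le (P ⊓ 𝐂 P)
    (inf_centralizer_ne_bot_of_isPGroup hP hP le_normalizer h)
  exact ⟨V, a, Amalg.isMulCommutative_iff_le_cent.2 (c.trans (inf_le_right.trans (centralizer_anti
    (c.trans inf_le_left)))), b, c.trans inf_le_left, d⟩

omit [Finite G] [Fact p.Prime] in
theorem op_normal [X.Normal] : (pCoreOf p X).Normal :=
  normalizer_eq_top_iff.1 (top_le_iff.1 (le_normalizer_of_normal.trans (Amalg.norm_le_norm_op X)))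

structure Hyp (X K R : Subgroup G) : Prop where
  fpf : Fpf K R
  nRK : R ≤ 𝐍 K
  nil : Group.IsNilpotent K
  nK : K ≤ 𝐍 X
  nR : R ≤ 𝐍 X
  cK : X ⊓ 𝐂 K = ⊥
  cR : Group.IsNilpotent (X ⊓ 𝐂 R :)

omit [Finite G] in
theorem Hyp.mono (h : Hyp X K R) (hY : Y ≤ X) (a : K ≤ 𝐍 Y) (b : R ≤ 𝐍 Y) : Hyp Y K R :=
  have := h.cR
  ⟨h.fpf, h.nRK, h.nil, a, b, le_bot_iff.1 (h.cK ▸ inf_le_inf_right _ hY), isNilpotent_of_le (inf_le_inf_right _ hY)⟩

omit [Finite G] [Fact p.Prime] in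
theorem Hyp.res (h : Hyp X K R) (a : X ⊓ 𝐂 (resOf p K) = ⊥) : Hyp X (resOf p K) R :=
  have := h.nil
  ⟨h.fpf.mono (resOf_le K) le_rfl, h.nRK.trans (normalizer_le_normalizer_resOf K), isNilpotent_of_le (resOf_le K),
    (resOf_le K).trans h.nK, h.nR, a, h.cR⟩

theorem Hyp.quot (h : Hyp X K R) [V.Normal] [IsMulCommutative V] (hV : IsPGroup p V) (hX : V ≤ X) :
    Hyp (X.map (QuotientGroup.mk' V)) (K.map (QuotientGroup.mk' V)) (R.map (QuotientGroup.mk' V)) :=
  have := h.nil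
  have := h.cR
  have := isNilpotent_map (X ⊓ 𝐂 R) (QuotientGroup.mk' V)
  have hk := QuotientGroup.ker_mk' V
  ⟨h.fpf.map _ h.nRK, (map_mono h.nRK).trans (le_normalizer_map _), isNilpotent_map _ _,
    (map_mono h.nK).trans (le_normalizer_map _), (map_mono h.nR).trans (le_normalizer_map _),
    fix_map _ (hk.symm ▸ hV) (pnil_of_isNilpotent h.nil) h.nK (hk.le.trans hX) h.cK,
    isNilpotent_of_le (cover_map h.fpf h.nRK hX h.cK)⟩

omit [Finite G] in
theorem Hyp.sub (h : Hyp X K R) : Hyp (X.subgroupOf (𝐍 X)) (K.subgroupOf (𝐍 X)) (R.subgroupOf (𝐍 X)) := by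
  have := h.nil
  have := h.cR
  have := normal_in_normalizer (H := X)
  refine ⟨h.fpf.subgroupOf _, fun r hr => mem_normalizer_iff.2 fun x => mem_normalizer_iff.1 (h.nRK hr) x,
    isNilpotent_subgroupOf _ _, le_normalizer_of_normal, le_normalizer_of_normal, ?_, ?_⟩
  · rw [centralizer_subgroupOf h.nK, subgroupOf, subgroupOf, ← comap_inf, h.cK]
    exact bot_subgroupOf _
  · rw [centralizer_subgroupOf h.nR, subgroupOf, subgroupOf, ← comap_inf]
    exact isNilpotent_subgroupOf _ _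

end

def IH (n : ℕ) : Prop := ∀ (G : Type u) [Group G] [Finite G] (X K R : Subgroup G),
  Nat.card X + Nat.card K < n → Hyp X K R → Group.IsNilpotent X

variable {G : Type u} [Group G] [Finite G] {p : ℕ} [Fact p.Prime] {A P X Y V K R : Subgroup G}

theorem IH.sub (ih : IH.{u} (Nat.card X + Nat.card K)) (h : Hyp X K R) (hY : Y < X) (a : K ≤ 𝐍 Y) (b : R ≤ 𝐍 Y) :
    Group.IsNilpotent Y :=
  ih G Y K R (Nat.add_lt_add_right (Transfer.card_lt_of_lt hY) _) (h.mono hY.le a b)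

theorem IH.quot (ih : IH.{u} (Nat.card X + Nat.card K)) (h : Hyp X K R) [V.Normal] [IsMulCommutative V]
    (hV : IsPGroup p V) (hX : V ≤ X) (h1 : V ≠ ⊥) : Group.IsNilpotent (X.map (QuotientGroup.mk' V)) := by
  refine ih _ _ _ _ (Nat.add_lt_add_of_lt_of_le ?_ (Nat.le_of_dvd Nat.card_pos (card_map_dvd _ _))) (h.quot hV hX)
  rw [← card_map_mk'_mul V X, inf_eq_left.2 hX]
  exact lt_mul_of_one_lt_right Nat.card_pos ((one_lt_card_iff_ne_bot V).2 h1)

theorem solv_case [X.Normal] (ih : IH.{u} (Nat.card X + Nat.card K)) (h : Hyp X K R) (h0 : pCoreOf p X ≠ ⊥) :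
    Group.IsNilpotent X := by
  have := op_normal (p := p) (X := X)
  obtain ⟨V, _, _, v1, v2, v3⟩ := exists_center (Amalg.op_isPGroup X) h0
  have vp : IsPGroup p V := (Amalg.op_isPGroup X).to_le v2
  replace v2 := v2.trans (Amalg.op_le X)
  have hN := ih.quot h vp v2 v1
  have hq := h.quot vp v2
  have hk := QuotientGroup.ker_mk' V
  have hcov := cover_map h.fpf h.nRK v2 h.cK
  have hcard := card_map_mk'_mul V X
  rw [inf_eq_left.2 v2] at hcard
  have hs := QuotientGroup.mk'_surjective V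
  generalize QuotientGroup.mk' V = f at hN hq hk hcov hcard hs
  by_cases hp : IsPGroup p X
  · exact hp.isNilpotent
  obtain ⟨q, q1, q2, q3⟩ : ∃ q : ℕ, q.Prime ∧ q ∣ Nat.card X ∧ q ≠ p := by
    by_contra hc
    push Not at hc
    exact hp (IsPGroup.of_card (Nat.eq_prime_pow_of_unique_prime_dvd Nat.card_pos.ne' fun {d} hd hdK => hc d hd hdK))
  have := Fact.mk q1
  have qV : q.Coprime (Nat.card V) := Coprime.coprime_card_of_isPGroup vp ((Nat.coprime_primes q1 Fact.out).2 q3)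
  have := ‹X.Normal›.map f hs
  have := op_normal (p := q) (X := X.map f)
  obtain ⟨U, _, _, u1, u2, -⟩ := exists_center (Amalg.op_isPGroup (X.map f))
    (op_ne_bot hN (qV.dvd_of_dvd_mul_right (hcard ▸ q2)))
  have uq : IsPGroup q U := (Amalg.op_isPGroup _).to_le u2
  replace u2 := u2.trans (Amalg.op_le _)
  have hU := hq.mono u2 le_normalizer_of_normal le_normalizer_of_normal
  have hU' := hU.res (fix_res uq hU.nK hU.cK)
  obtain ⟨⟨w, w1, w2⟩, w3⟩ := ne_bot_iff_exists_ne_one.1 (hU'.fpf.inf_centralizer_ne_bot hU'.nRK hU'.nK hU'.nR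
    (Coprime.coprime_card_of_isPGroup uq (pnil_of_isNilpotent hU.nil).coprime) fun e =>
      u1 ((inf_eq_left.2 (Amalg.le_cent_symm e)).symm.trans hU'.cK))
  obtain ⟨x, x1, rfl⟩ := hcov ⟨u2 w1, w2⟩
  have hY : ∀ y ∈ U.comap f, ∃ k, y ^ q ^ k ∈ V := fun y hy => by
    obtain ⟨k, e⟩ := uq ⟨_, hy⟩
    exact ⟨k, hk.le (by rw [MonoidHom.mem_ker, map_pow]; exact congrArg Subtype.val e)⟩
  obtain ⟨k, x2⟩ := hY x w1
  have x3 : (x ^ Nat.card V) ^ q ^ k = 1 := by
    rw [← pow_mul, mul_comm, pow_mul]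
    exact congrArg Subtype.val (pow_card_eq_one' (x := (⟨_, x2⟩ : V)))
  have x4 : x ^ Nat.card V ≠ 1 := fun e => w3 (Subtype.ext (by
    have a : f x ^ q ^ k = 1 := by rw [← map_pow]; exact hk.ge x2
    have b : f x ^ Nat.card V = 1 := by rw [← map_pow, e, map_one]
    have := pow_gcd_eq_one.2 ⟨a, b⟩
    rwa [(qV.pow_left k).gcd_eq_one, pow_one] at this))
  have x5 : x ^ Nat.card V ∈ U.comap f := (U.comap f).pow_mem w1 _
  have x6 := pow_mem x1 (Nat.card V)
  generalize x ^ Nat.card V = u at x3 x4 x5 x6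
  have hρ : ∀ v ∈ V, MulAut.conjNormal (H := V) v = 1 := fun v hv => MulEquiv.ext fun y => Subtype.ext
    (mul_inv_eq_iff_eq_mul.2 (congrArg Subtype.val (mul_comm (⟨v, hv⟩ : V) y)))
  have hV := h.mono v2 le_normalizer_of_normal le_normalizer_of_normal
  have hV' := hV.res (fix_res vp hV.nK hV.cK)
  have hkey := fun y => key (V := V) (Y := U.comap f) (u := u) (y := y) hV'.fpf hV'.nRK le_normalizer_of_normal
    le_normalizer_of_normal ⟨⟨by
      rintro ⟨_, a, ha, rfl⟩ ⟨_, b, hb, rfl⟩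
      refine Subtype.ext (commutatorElement_eq_one_iff_mul_comm.1 ?_)
      rw [← map_commutatorElement]
      refine hρ _ (hk.le ?_)
      rw [MonoidHom.mem_ker, map_commutatorElement, commutatorElement_eq_one_iff_mul_comm]
      exact congrArg Subtype.val (mul_comm (⟨_, ha⟩ : U) ⟨_, hb⟩)⟩⟩
    (IsPGroup.coprime_card_of_ne q p q3 _ _ (by
      rintro ⟨_, a, ha, rfl⟩
      obtain ⟨k, e⟩ := hY a ha
      exact ⟨k, Subtype.ext (by rw [coe_pow, ← map_pow]; exact hρ _ e)⟩) vp)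
    (Coprime.coprime_card_of_isPGroup vp (pnil_of_isNilpotent hV.nil).coprime) hV'.cK x5 (fun v hv => by
      have := h.cR
      refine mem_centralizer_singleton_iff.2 (commute_of_coprime_of_mem_nilpotent (L := X ⊓ 𝐂 R)
        ⟨v2 hv.1, hv.2⟩ x6 ?_)
      exact Nat.Coprime.coprime_dvd_left (V.orderOf_dvd_natCard hv.1) (Nat.Coprime.coprime_dvd_right
        (orderOf_dvd_of_pow_eq_one x3) (qV.pow_left k).symm))
  generalize hYn : U.comap f = Y at hkey
  have : Y.Normal := hYn ▸ inferInstance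
  let S : Set G := {y | y ∈ V ∧ y ≠ 1 ∧ ∀ z ∈ V, z ≠ 1 →
    Nat.card (Y ⊓ centralizer {z} :) ≤ Nat.card (Y ⊓ centralizer {y} :)}
  have hS : closure S = V := by
    refine (v3 _ ⟨fun x hx g => (closure_le ((closure S).comap (MulAut.conj g).toMonoidHom)).2
      (fun y hy => subset_closure ?_) hx⟩ ((closure_le _).2 fun y hy => hy.1)).resolve_left fun e => ?_
    · refine ⟨‹V.Normal›.conj_mem y hy.1 g, fun e => hy.2.1 (conj_eq_one_iff.1 e),
        fun z a b => (hy.2.2 z a b).trans ?_⟩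
      rw [← card_cj g]
      refine card_le_of_le (cj_le_iff.2 fun c hc => ⟨this.conj_mem c hc.1 g, mem_centralizer_singleton_iff.2 ?_⟩)
      have := mem_centralizer_singleton_iff.1 hc.2
      show g * c * g⁻¹ * (g * y * g⁻¹) = g * y * g⁻¹ * (g * c * g⁻¹)
      rw [conj_mul, conj_mul, this]
    · obtain ⟨y, a, b⟩ := Set.exists_max_image {y | y ∈ V ∧ y ≠ 1} (fun y => Nat.card (Y ⊓ centralizer {y} :))
        (Set.toFinite _) (by
          obtain ⟨⟨y, a⟩, b⟩ := ne_bot_iff_exists_ne_one.1 v1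
          exact ⟨y, a, fun e => b (Subtype.ext e)⟩)
      exact a.2 (mem_bot.1 (e.le (subset_closure ⟨a.1, a.2, fun z c d => b z ⟨c, d⟩⟩)))
  have hu : u ∈ X ⊓ 𝐂 V := ⟨x6.1, fun v hv => (mem_centralizer_singleton_iff.1 (((closure_le (centralizer {u})).2
    fun y hy => mem_centralizer_singleton_iff.2 (mem_centralizer_singleton_iff.1
      (hkey y hy.1 hy.2.1 hy.2.2)).symm) (hS.ge hv)))⟩
  have hC : Group.IsNilpotent (X ⊓ 𝐂 V :) :=
    have : Group.IsNilpotent ((X ⊓ 𝐂 V).map f) := isNilpotent_of_le (map_mono inf_le_left)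
    nil_of_two f f this this (inf_le_right.trans (inf_le_left.trans (hk.le.trans (Amalg.le_cent_symm inf_le_right))))
  have := op_normal (p := q) (X := X ⊓ 𝐂 V)
  obtain ⟨Z, _, _, z1, z2, -⟩ := exists_center (Amalg.op_isPGroup (p := q) (X ⊓ 𝐂 V)) fun e => x4 (mem_bot.1 (e.le
    (le_pCoreOf_of_nilpotent (H := zpowers u) (by
      obtain ⟨j, -, e⟩ := (Nat.dvd_prime_pow q1).1 (orderOf_dvd_of_pow_eq_one x3)
      exact IsPGroup.of_card ((Nat.card_zpowers u).trans e)) (zpowers_le.2 hu) (mem_zpowers u))))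
  have zq : IsPGroup q Z := (Amalg.op_isPGroup _).to_le z2
  refine nil_of_two f _ hN (ih.quot h zq (z2.trans ((Amalg.op_le _).trans inf_le_left)) z1) ?_
  rw [hk, QuotientGroup.ker_mk', (IsPGroup.disjoint_of_ne p q q3.symm _ _ vp zq).eq_bot, inf_bot_eq]
  exact bot_le

theorem no_odd (ih : IH.{u} (Nat.card X + Nat.card K)) (h : Hyp X K R)
    (h0 : ∀ (q : ℕ) [Fact q.Prime], pCoreOf q X = ⊥) (hp : p ≠ 2) (hP : IsPGroup p P) (h1 : P ≤ X) (h2 : K ≤ 𝐍 P)
    (h3 : R ≤ 𝐍 P) : P = ⊥ := by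
  by_contra h4
  obtain ⟨Q, a, ⟨b, c, d, e⟩, hm⟩ := exists_maximal_ge (fun Q => IsPGroup p Q ∧ Q ≤ X ∧ K ≤ 𝐍 Q ∧ R ≤ 𝐍 Q)
    ⟨hP, h1, h2, h3⟩
  have q1 : Q ≠ ⊥ := fun i => h4 (le_bot_iff.1 (a.trans i.le))
  have key : ∀ N : Subgroup G, N ≤ Q → N ≠ ⊥ → 𝐍 Q ≤ 𝐍 N → Group.IsNilpotent (X ⊓ 𝐍 N :) := fun N i j k =>
    ih.sub h (inf_le_left.lt_of_ne fun l => j (le_bot_iff.1 ((Amalg.le_op (i.trans c) (l ▸ inf_le_right)
      (b.to_le i)).trans (h0 p).le))) (le_normalizer_inf h.nK (d.trans (k.trans le_normalizer)))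
      (le_normalizer_inf h.nR (e.trans (k.trans le_normalizer)))
  have hM := key Q le_rfl q1 le_rfl
  have hQ : pCoreOf p (X ⊓ 𝐍 Q) = Q := hm _ ⟨Amalg.op_isPGroup _, (Amalg.op_le _).trans inf_le_left,
    (le_normalizer_inf h.nK (d.trans le_normalizer)).trans (Amalg.norm_le_norm_op _),
    (le_normalizer_inf h.nR (e.trans le_normalizer)).trans (Amalg.norm_le_norm_op _)⟩
    (Amalg.le_op (le_inf c le_normalizer) inf_le_right b)
  have hS : SylowIn p Q X := sylowIn_of_sylowIn_normalizer (sylowIn_of_maximal (le_inf c le_normalizer) b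
    fun T i _ j => (le_pCoreOf_of_nilpotent i j).trans hQ.le)
  have hn := hS.thompson_pnil hp (pnil_of_isNilpotent (key _ (thompsonOf_le Q) (thompsonOf_ne_bot_of_isPGroup b q1)
    (normalizer_le_normalizer_thompsonOf Q))) ((pnil_of_isNilpotent (key _ inf_le_left
      (inf_centralizer_ne_bot_of_isPGroup b b le_normalizer q1) (normalizer_le_normalizer_center Q))).mono
      (inf_le_inf_left _ (centralizer_le_normalizer _)))
  have h5 := ih.sub h ((resOf_le X).lt_of_ne fun i => hn (by rw [i]; exact not_not.1 (mt hS.eq_bot_iff.2 q1)))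
    (h.nK.trans (normalizer_le_normalizer_resOf X)) (h.nR.trans (normalizer_le_normalizer_resOf X))
  have h6 : resOf p X = ⊥ := by
    by_contra i
    obtain ⟨q, q2, q3⟩ := Nat.exists_prime_and_dvd (mt card_eq_one.1 i)
    have := Fact.mk q2
    exact op_ne_bot h5 q3 (le_bot_iff.1 ((Amalg.le_op ((Amalg.op_le _).trans (resOf_le X))
      ((le_normalizer_resOf X).trans (Amalg.norm_le_norm_op _)) (Amalg.op_isPGroup _)).trans (h0 q).le))
  have h7 := hS.resOf_sup
  rw [h6, bot_sup_eq] at h7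
  exact q1 (le_bot_iff.1 ((Amalg.le_op c (h7 ▸ le_normalizer) b).trans (h0 p).le))

theorem simple_case (ih : IH.{u} (Nat.card X + Nat.card K)) (h : Hyp X K R)
    (h0 : ∀ (q : ℕ) [Fact q.Prime], pCoreOf q X = ⊥) : Group.IsNilpotent X := by
  by_contra hX
  have h1 : ∀ Y < X, K ≤ 𝐍 Y → R ≤ 𝐍 Y → ∀ q : ℕ, q.Prime → q ∣ Nat.card Y → q = 2 := fun Y a b c q d e => by
    have := Fact.mk d
    by_contra i
    exact op_ne_bot (ih.sub h a b c) e (no_odd ih h h0 i (Amalg.op_isPGroup _) ((Amalg.op_le _).trans a.le)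
      (b.trans (Amalg.norm_le_norm_op _)) (c.trans (Amalg.norm_le_norm_op _)))
  have hK := h.nil
  have hc : (Nat.card K).Coprime (Nat.card X) := by
    by_contra i
    obtain ⟨r, r1, r2, r3⟩ := Nat.Prime.not_coprime_iff_dvd.1 i
    have := Fact.mk r1
    have hT : SylowIn r (pCoreOf r K) K := sylowIn_of_maximal (Amalg.op_le K) (Amalg.op_isPGroup K)
      fun T i _ j => le_pCoreOf_of_nilpotent i j
    have t1 := Amalg.le_norm_op (p := r) K
    have t2 := h.nRK.trans (Amalg.norm_le_norm_op (p := r) K)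
    generalize pCoreOf r K = T at hT t1 t2
    have a1 : ∀ Y : Subgroup G, T ≤ 𝐍 Y → r ∣ Nat.card Y → r ∣ Nat.card (Y ⊓ 𝐂 T :) := fun Y a b => by
      obtain ⟨S, s1, s2⟩ := exists_sylowIn_ge hT.isPGroup (le_sup_right (a := Y))
      have s3 := s2.inf_of_le (sup_le le_normalizer a) le_sup_left
      have s4 := inf_centralizer_ne_bot_of_isPGroup s3.isPGroup hT.isPGroup (le_normalizer_inf
        (s1.trans le_normalizer) a) fun e => s3.eq_bot_iff.1 e b
      exact ((s3.isPGroup.to_le inf_le_left).card_eq_or_dvd.resolve_left fun e => s4 (card_eq_one.1 e)).trans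
        (card_dvd_of_le (inf_le_inf_right _ inf_le_right))
    have a2 : X ⊓ 𝐂 (resOf r K) ⊓ 𝐂 T = ⊥ := by rw [inf_assoc, ← centralizer_sup, hT.resOf_sup, h.cK]
    have b1 := le_normalizer_inf h.nK (le_normalizer_centralizer (le_normalizer_resOf (p := r) K))
    have b2 := le_normalizer_inf h.nR (le_normalizer_centralizer (h.nRK.trans (normalizer_le_normalizer_resOf
      (p := r) K)))
    have a3 : ¬ r ∣ Nat.card (X ⊓ 𝐂 (resOf r K) :) := fun e => by
      have := a1 _ (hT.le.trans b1) e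
      rw [a2, card_bot, Nat.dvd_one] at this
      exact r1.one_lt.ne' this
    have a4 : X ⊓ 𝐂 (resOf r K) ≠ ⊥ := fun e => hX (ih G X _ R (Nat.add_lt_add_left (Transfer.card_lt_of_lt
      ((resOf_le K).lt_of_ne fun j => pnil_of_isNilpotent (p := r) hK (by rw [j]; exact r2))) _) (h.res e))
    obtain ⟨s, s1, s2⟩ := Nat.exists_prime_and_dvd (mt card_eq_one.1 a4)
    have a5 := h1 _ (inf_le_left.lt_of_ne fun e => a3 (by rw [e]; exact r3)) b1 b2 s s1 s2
    have a6 := h1 (X ⊓ 𝐂 T) (inf_le_left.lt_of_ne fun e => a4 ((inf_eq_left.2 (inf_le_left.trans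
      (inf_eq_left.1 e))).symm.trans a2)) (le_normalizer_inf h.nK (le_normalizer_centralizer t1))
      (le_normalizer_inf h.nR (le_normalizer_centralizer t2)) r r1 (a1 X (hT.le.trans h.nK) r3)
    rw [a5, ← a6] at s2
    exact a3 s2
  have := Fact.mk Nat.prime_two
  by_cases hp : IsPGroup 2 X
  · exact hX hp.isNilpotent
  obtain ⟨q, q1, q2, q3⟩ : ∃ q : ℕ, q.Prime ∧ q ∣ Nat.card X ∧ q ≠ 2 := by
    by_contra hc
    push Not at hc
    exact hp (IsPGroup.of_card (Nat.eq_prime_pow_of_unique_prime_dvd Nat.card_pos.ne' fun {d} hd hdK => hc d hd hdK))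
  have := Fact.mk q1
  have hs : Group.IsSolvable K ∨ Group.IsSolvable X := .inl IsNilpotent.to_isSolvable
  obtain ⟨P, a, b⟩ := exists_invariant_sylowIn h.nK hc hs q
  refine a.eq_bot_iff.1 (no_odd ih h h0 q3 a.isPGroup a.le b fun r hr => cj_eq_iff.1 ?_) q2
  refine invariant_sylowIn_unique h.nK hc hs h.cK (cj_eq_of_mem_normalizer (h.nR hr) ▸ a.cj r) a ?_ b
  rw [← cj_normalizer, ← cj_eq_of_mem_normalizer (h.nRK hr)]
  exact cj_mono r b

theorem main (n : ℕ) : IH.{u} n := by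
  induction n with
  | zero => exact fun _ _ _ _ _ _ h => absurd h (Nat.not_lt_zero _)
  | succ n ih =>
  intro G _ _ X K R hn h
  rcases (Nat.lt_succ_iff.1 hn).lt_or_eq with e | e
  · exact ih G X K R e h
  by_cases h0 : ∀ (q : ℕ) [Fact q.Prime], pCoreOf q X = ⊥
  · exact simple_case (e ▸ ih) h h0
  push Not at h0
  obtain ⟨q, _, h0⟩ := h0
  have := normal_in_normalizer (H := X)
  have e1 := subgroupOfEquivOfLe (le_normalizer (H := X))
  have := solv_case (p := q) (by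
    rw [Core.card_subgroupOf_of_le le_normalizer, Core.card_subgroupOf_of_le h.nK, e]; exact ih) h.sub fun i => h0 (by
      have := (Amalg.le_op (K := (pCoreOf q X).subgroupOf (𝐍 X)) (comap_mono (Amalg.op_le X)) (fun r hr =>
        mem_normalizer_iff.2 fun x => mem_normalizer_iff.1 (Amalg.le_norm_op X hr) x)
        (Amalg.op_isPGroup X).comap_subtype).trans i.le
      rw [← map_subtype_subgroupOf_of_le ((Amalg.op_le X).trans le_normalizer), le_bot_iff.1 this, Subgroup.map_bot])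
  exact Group.nilpotent_of_mulEquiv e1

theorem Hyp.nilpotent (h : Hyp X K R) : Group.IsNilpotent X := main _ G X K R (Nat.lt_succ_self _) h

end Cfsg.Lib.Layer.Fra
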