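import Cfsg.Agent.Lib.Core.Fitting

/-! Prime graphs: fibre products, semidirect products with a `2`-group, a transfer lemma. -/

set_option autoImplicit false

namespace Cfsg.Lib.Layer.Gk

open Subgroup

universe u

/-- there is an element of order `p * q` -/
def Adj (G : Type*) [Group G] (p q : ℕ) : Prop := ∃ g : G, orderOf g = p * q

/-- the prime graph of `A` is a subgraph of the prime graph of `B` -/
def Sub (A B : Type*) [Group A] [Group B] : Prop :=
  (∀ p : ℕ, p.Prime → p ∣ Nat.card A → p ∣ Nat.card B) ∧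
    ∀ p q : ℕ, p.Prime → q.Prime → p ≠ q → Adj A p q → Adj B p q

/-- there is a non-trivial normal subgroup of prime power order -/
def Bad (A : Type*) [Group A] : Prop := ∃ r : ℕ, r.Prime ∧ ∃ N : Subgroup A, N.Normal ∧ N ≠ ⊥ ∧ IsPGroup r N

section
variable {A B C : Type*} [Group A] [Group B] [Group C] {p q : ℕ}

theorem Adj.symm (h : Adj A p q) : Adj A q p := by
  obtain ⟨g, hg⟩ := h
  exact ⟨g, by rw [hg, mul_comm]⟩

theorem Adj.of_inj (f : A →* B) (hf : Function.Injective f) (h : Adj A p q) : Adj B p q := by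
  obtain ⟨g, hg⟩ := h
  exact ⟨f g, by rw [orderOf_injective f hf, hg]⟩

theorem Adj.of_surj [Finite A] (f : A →* B) (hf : Function.Surjective f) (h : Adj B p q) : Adj A p q := by
  obtain ⟨g, hg⟩ := h
  obtain ⟨a, rfl⟩ := hf g
  have hd : p * q ∣ orderOf a := hg ▸ orderOf_map_dvd f a
  exact ⟨a ^ (orderOf a / (p * q)), orderOf_pow_orderOf_div (orderOf_pos a).ne' hd⟩

theorem Adj.of_commute (hp : p.Prime) (hq : q.Prime) (hpq : p ≠ q) {a b : A} (hc : Commute a b)
    (ha : orderOf a = p) (hb : orderOf b = q) : Adj A p q :=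
  ⟨a * b, by
    rw [hc.orderOf_mul_eq_mul_orderOf_of_coprime (by rw [ha, hb]; exact (Nat.coprime_primes hp hq).2 hpq), ha, hb]⟩

theorem Sub.refl : Sub A A := ⟨fun _ _ h => h, fun _ _ _ _ _ h => h⟩

theorem Sub.trans (h : Sub A B) (h' : Sub B C) : Sub A C :=
  ⟨fun p hp hd => h'.1 p hp (h.1 p hp hd), fun p q hp hq hpq ha => h'.2 p q hp hq hpq (h.2 p q hp hq hpq ha)⟩

theorem Sub.of_surj [Finite A] (f : A →* B) (hf : Function.Surjective f) : Sub B A :=
  ⟨fun _ _ hd => hd.trans (card_dvd_of_surjective f hf), fun _ _ _ _ _ h => h.of_surj f hf⟩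

theorem Sub.of_inj (f : A →* B) (hf : Function.Injective f) : Sub A B :=
  ⟨fun _ _ hd => hd.trans (card_dvd_of_injective f hf), fun _ _ _ _ _ h => h.of_inj f hf⟩

theorem dvd_pq (hp : p.Prime) (hq : q.Prime) {n : ℕ} (h : n ∣ p * q) : n = p * q ∨ n ∣ p ∨ n ∣ q := by
  obtain ⟨a, b, ha, hb, rfl⟩ := exists_dvd_and_dvd_of_dvd_mul h
  rcases (Nat.dvd_prime hp).1 ha with rfl | rfl
  · exact Or.inr (Or.inr (by simpa using hb))
  · rcases (Nat.dvd_prime hq).1 hb with rfl | rfl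
    · exact Or.inr (Or.inl (by simp))
    · exact Or.inl rfl

/-- the fibre product -/
def fib (α : A →* C) (β : B →* C) : Subgroup (A × B) :=
  MonoidHom.eqLocus (α.comp (MonoidHom.fst A B)) (β.comp (MonoidHom.snd A B))

theorem mem_fib {α : A →* C} {β : B →* C} {g : A × B} : g ∈ fib α β ↔ α g.1 = β g.2 := Iff.rfl

def fib1 (α : A →* C) (β : B →* C) : fib α β →* A := (MonoidHom.fst A B).comp (fib α β).subtype
def fib2 (α : A →* C) (β : B →* C) : fib α β →* B := (MonoidHom.snd A B).comp (fib α β).subtype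

theorem fib1_surj (α : A →* C) {β : B →* C} (hβ : Function.Surjective β) : Function.Surjective (fib1 α β) := by
  intro a
  obtain ⟨b, hb⟩ := hβ (α a)
  exact ⟨⟨(a, b), hb.symm⟩, rfl⟩

theorem fib_aux [Finite A] [Finite B] {α : A →* C} {β : B →* C} (hp : p.Prime) (hq : q.Prime) (hpq : p ≠ q)
    {a : A} {b : B} (hab : α a = β b) (ho : Nat.lcm (orderOf a) (orderOf b) = p * q) (ha : orderOf a ∣ p) :
    Adj B p q ∨ ((∃ a : A, α a = 1 ∧ orderOf a = p) ∧ ∃ b : B, β b = 1 ∧ orderOf b = q) := by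
  have hb : orderOf b ∣ p * q := ho ▸ Nat.dvd_lcm_right _ _
  rcases dvd_pq hp hq hb with h | h | h
  · exact Or.inl ⟨b, h⟩
  · exfalso
    have h1 : p * q ∣ p := ho ▸ Nat.lcm_dvd ha h
    have h2 : q ∣ p := (Dvd.intro_left p rfl).trans h1
    exact hpq ((Nat.prime_dvd_prime_iff_eq hq hp).1 h2).symm
  · have hc : Nat.Coprime p q := (Nat.coprime_primes hp hq).2 hpq
    have h1 : orderOf (α a) ∣ p := (orderOf_map_dvd α a).trans ha
    have h2 : orderOf (α a) ∣ q := hab ▸ (orderOf_map_dvd β b).trans h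
    have h3 : α a = 1 := orderOf_eq_one_iff.1 (Nat.eq_one_of_dvd_coprimes hc h1 h2)
    refine Or.inr ⟨⟨a, h3, ?_⟩, b, hab ▸ h3, ?_⟩
    · rcases (Nat.dvd_prime hp).1 ha with h4 | h4
      · exfalso
        rw [h4, Nat.lcm_one_left] at ho
        have h5 : p ∣ q := (Dvd.intro q rfl).trans (ho ▸ h)
        exact hpq ((Nat.prime_dvd_prime_iff_eq hp hq).1 h5)
      · exact h4
    · rcases (Nat.dvd_prime hq).1 h with h4 | h4
      · exfalso
        rw [h4, Nat.lcm_one_right] at ho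
        have h5 : q ∣ p := (Dvd.intro_left p rfl).trans (ho ▸ ha)
        exact hpq ((Nat.prime_dvd_prime_iff_eq hq hp).1 h5).symm
      · exact h4

/-- the prime graph of a fibre product -/
theorem fib_sub [Finite A] [Finite B] {α : A →* C} {β : B →* C} (hB : Sub B A)
    (h : ∀ p q : ℕ, p.Prime → q.Prime → p ≠ q → (∃ a : A, α a = 1 ∧ orderOf a = p) →
      (∃ b : B, β b = 1 ∧ orderOf b = q) → Adj A p q) : Sub (fib α β) A := by
  refine ⟨fun p hp hd => ?_, fun p q hp hq hpq => ?_⟩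
  · have h1 : p ∣ Nat.card A * Nat.card B := by
      rw [← Nat.card_prod]; exact hd.trans (card_subgroup_dvd_card _)
    rcases (Nat.Prime.dvd_mul hp).1 h1 with h2 | h2
    · exact h2
    · exact hB.1 p hp h2
  · rintro ⟨⟨⟨a, b⟩, hab⟩, hg⟩
    have ho : Nat.lcm (orderOf a) (orderOf b) = p * q := by
      rw [← hg, ← Prod.orderOf_mk, Subgroup.orderOf_mk]
    have ha : orderOf a ∣ p * q := ho ▸ Nat.dvd_lcm_left _ _
    replace hab : α a = β b := hab
    rcases dvd_pq hp hq ha with h1 | h1 | h1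
    · exact ⟨a, h1⟩
    · rcases fib_aux hp hq hpq hab ho h1 with h2 | h2
      · exact hB.2 p q hp hq hpq h2
      · exact h p q hp hq hpq h2.1 h2.2
    · rcases fib_aux hq hp hpq.symm hab (by rw [ho, mul_comm]) h1 with h2 | h2
      · exact hB.2 p q hp hq hpq h2.symm
      · exact (h q p hq hp hpq.symm h2.1 h2.2).symm

theorem eq_of_pgroup {r : ℕ} (hr : r.Prime) {N : Subgroup A} (hN : IsPGroup r N) {a : A} (ha : a ∈ N)
    (hp : p.Prime) (ho : orderOf a = p) : p = r := by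
  obtain ⟨k, hk⟩ := hN ⟨a, ha⟩
  have h1 : a ^ r ^ k = 1 := congrArg Subtype.val hk
  have h2 : p ∣ r ^ k := ho ▸ orderOf_dvd_of_pow_eq_one h1
  exact (Nat.prime_dvd_prime_iff_eq hp hr).1 (hp.dvd_of_dvd_pow h2)

end

theorem Bad.step {H : Type u} [Group H] [Finite H] (h : Bad H) :
    ∃ (K : Type u) (_ : Group K) (_ : Finite K), Sub H K ∧ Sub K H ∧ Bad K ∧ Nat.card H < Nat.card K := by
  obtain ⟨r, hr, N, hN, hN1, hNr⟩ := h
  let α := QuotientGroup.mk' N
  have hα : Function.Surjective α := QuotientGroup.mk'_surjective N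
  have hs := fib1_surj α hα
  have hker : (fib1 α α).ker ≠ ⊥ := by
    obtain ⟨n, hn, hn1⟩ := (Subgroup.ne_bot_iff_exists_ne_one.1 hN1).imp (fun n h => And.intro n.2 h) |>.imp
      (fun _ h => h)
    intro hb
    have hm : ((1 : H), (n : H)) ∈ fib α α := by
      rw [mem_fib, map_one]; exact ((QuotientGroup.eq_one_iff _).2 hn).symm
    have h1 : (⟨_, hm⟩ : fib α α) ∈ (fib1 α α).ker := rfl
    rw [hb, mem_bot] at h1
    exact hn1 (Subtype.ext (congrArg (fun x : fib α α => x.1.2) h1))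
  refine ⟨fib α α, inferInstance, inferInstance, Sub.of_surj _ hs, fib_sub Sub.refl ?_, ⟨r, hr, (fib1 α α).ker,
    inferInstance, hker, ?_⟩, ?_⟩
  · rintro p q hp hq hpq ⟨a, ha, hao⟩ ⟨b, hb, hbo⟩
    exact absurd ((eq_of_pgroup hr hNr ((QuotientGroup.eq_one_iff _).1 ha) hp hao).trans
      (eq_of_pgroup hr hNr ((QuotientGroup.eq_one_iff _).1 hb) hq hbo).symm) hpq
  · rintro ⟨⟨⟨a, b⟩, hab⟩, hk⟩
    have ha : a = 1 := hk
    subst ha
    have hb : b ∈ N := by
      have h1 : α b = 1 := by rw [← (mem_fib.1 hab : α 1 = α b), map_one]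
      exact (QuotientGroup.eq_one_iff _).1 h1
    obtain ⟨k, hk'⟩ := hNr ⟨b, hb⟩
    refine ⟨k, Subtype.ext (Subtype.ext (Prod.ext (by simp) ?_))⟩
    simpa using congrArg Subtype.val hk'
  · have h1 := card_eq_card_quotient_mul_card_subgroup (fib1 α α).ker
    rw [Nat.card_congr (QuotientGroup.quotientKerEquivOfSurjective _ hs).toEquiv] at h1
    have h2 : 1 < Nat.card (fib1 α α).ker := (Subgroup.one_lt_card_iff_ne_bot _).2 hker
    rw [h1]
    exact lt_mul_of_one_lt_right Nat.card_pos h2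

theorem Bad.unbounded {H : Type u} [Group H] [Finite H] (h : Bad H) (n : ℕ) :
    ∃ (K : Type u) (_ : Group K) (_ : Finite K), Sub H K ∧ Sub K H ∧ Bad K ∧ n < Nat.card K := by
  induction n with
  | zero => exact ⟨H, inferInstance, inferInstance, Sub.refl, Sub.refl, h, Nat.card_pos⟩
  | succ n ih =>
    obtain ⟨K, _, _, h1, h2, h3, h4⟩ := ih
    obtain ⟨K', _, _, h5, h6, h7, h8⟩ := h3.step
    exact ⟨K', inferInstance, inferInstance, h1.trans h5, h6.trans h2, h7, by omega⟩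

section
variable {K W : Type*} [Group K] [Finite K] [CommGroup W] [Finite W]

theorem sd_aux (hW : IsPGroup 2 W) (φ : K →* MulAut W)
    (hf : ∀ (x : K) (p : ℕ), p.Prime → p ≠ 2 → ¬ Adj K 2 p → orderOf x = p → ∀ w, φ x w = w → w = 1)
    {p q : ℕ} (hp : p.Prime) (hq : q.Prime) (hpq : p ≠ q) {g : W ⋊[φ] K} (hg : orderOf g = p * q)
    (h1 : orderOf g.right ∣ p) : Adj K p q := by
  haveI : Finite (W ⋊[φ] K) := Finite.of_equiv _ SemidirectProduct.equivProd.symm
  have key : ∀ (x : W ⋊[φ] K) (r : ℕ), r.Prime → orderOf x = r → x.right = 1 → r = 2 := by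
    intro x r hr hx hx1
    have h2 : x = SemidirectProduct.inl x.left := by ext <;> simp [hx1]
    have h3 : orderOf x.left = r := by
      rw [← hx, ← orderOf_injective _ (SemidirectProduct.inl_injective (φ := φ)), ← h2]
    exact eq_of_pgroup Nat.prime_two (N := ⊤) (hW.to_subgroup ⊤) (mem_top _) hr h3
  have hb : orderOf (g ^ p) = q := by
    rw [orderOf_pow_of_dvd hp.ne_zero (hg ▸ Dvd.intro q rfl), hg, Nat.mul_div_cancel_left _ hp.pos]
  have ha : orderOf (g ^ q) = p := by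
    rw [orderOf_pow_of_dvd hq.ne_zero (hg ▸ Dvd.intro_left p rfl), hg, Nat.mul_div_cancel _ hq.pos]
  have hb1 : (g ^ p).right = 1 := by
    have : (g ^ p).right = g.right ^ p := map_pow (SemidirectProduct.rightHom (φ := φ)) g p
    rw [this]; exact orderOf_dvd_iff_pow_eq_one.1 h1
  have hq2 : q = 2 := key _ q hq hb hb1
  subst hq2
  by_contra hn
  have ha1 : orderOf (g ^ 2).right = p := by
    have h2 : orderOf (g ^ 2).right ∣ p := ha ▸ orderOf_map_dvd (SemidirectProduct.rightHom (φ := φ)) (g ^ 2)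
    rcases (Nat.dvd_prime hp).1 h2 with h3 | h3
    · exact absurd (key _ p hp ha (orderOf_eq_one_iff.1 h3)) hpq
    · exact h3
  have hc : g ^ 2 * g ^ p = g ^ p * g ^ 2 := (Commute.pow_pow_self g 2 p).eq
  have hl := congrArg SemidirectProduct.left hc
  rw [SemidirectProduct.mul_left, SemidirectProduct.mul_left, hb1, map_one, MulAut.one_apply, mul_comm] at hl
  have h4 := hf _ p hp hpq (fun h => hn h.symm) ha1 _ (mul_right_cancel hl)
  have h5 : g ^ p = 1 := by ext <;> simp [h4, hb1]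
  rw [h5, orderOf_one] at hb
  exact absurd hb (by norm_num)

theorem sd_sub (hW : IsPGroup 2 W) (φ : K →* MulAut W) (h2 : 2 ∣ Nat.card K)
    (hf : ∀ (x : K) (p : ℕ), p.Prime → p ≠ 2 → ¬ Adj K 2 p → orderOf x = p → ∀ w, φ x w = w → w = 1) :
    Sub (W ⋊[φ] K) K := by
  refine ⟨fun p hp hd => ?_, fun p q hp hq hpq => ?_⟩
  · rw [Nat.card_congr SemidirectProduct.equivProd, Nat.card_prod] at hd
    rcases (Nat.Prime.dvd_mul hp).1 hd with h | h
    · haveI : Fact (Nat.Prime 2) := ⟨Nat.prime_two⟩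
      obtain ⟨n, hn⟩ := hW.exists_card_eq
      rw [hn] at h
      rw [(Nat.prime_dvd_prime_iff_eq hp Nat.prime_two).1 (hp.dvd_of_dvd_pow h)]
      exact h2
    · exact h
  · rintro ⟨g, hg⟩
    have h1 : orderOf g.right ∣ p * q := hg ▸ orderOf_map_dvd (SemidirectProduct.rightHom (φ := φ)) g
    rcases dvd_pq hp hq h1 with h | h | h
    · exact ⟨_, h⟩
    · exact sd_aux hW φ hf hp hq hpq hg h
    · exact (sd_aux hW φ hf hq hp hpq.symm (by rw [hg, mul_comm]) h).symm

omit [Finite K] [Finite W] in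
theorem sd_bad [Nontrivial W] (hW : IsPGroup 2 W) (φ : K →* MulAut W) : Bad (W ⋊[φ] K) := by
  refine ⟨2, Nat.prime_two, (SemidirectProduct.rightHom (φ := φ)).ker, inferInstance, ?_, ?_⟩
  · rw [← SemidirectProduct.range_inl_eq_ker_rightHom]
    obtain ⟨w, hw⟩ := exists_ne (1 : W)
    intro h
    have h1 : (SemidirectProduct.inl w : W ⋊[φ] K) ∈ (SemidirectProduct.inl : W →* W ⋊[φ] K).range := ⟨w, rfl⟩
    rw [h, mem_bot] at h1
    exact hw (SemidirectProduct.inl_injective (by rw [h1, map_one]))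
  · rw [← SemidirectProduct.range_inl_eq_ker_rightHom]
    exact hW.of_surjective _ (MonoidHom.rangeRestrict_surjective _)

end

/-- transfer to an abelian Sylow subgroup -/
theorem tr {R G : Type*} [Group R] [Finite R] [Group G] [Finite G] {q : ℕ} [Fact q.Prime] (f : R →* G)
    (hf : Function.Surjective f) {X : Set R} (hX : closure X = ⊤) (hq : ∀ x ∈ X, (orderOf x).Coprime q)
    (Q : Sylow q R) (hc : ∀ a ∈ Q, ∀ b ∈ Q, Commute (f a) (f b)) {z : R} (hz : z ∈ Q)
    (hz' : ∀ g, Commute (f z) g) : f z = 1 := by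
  let P : Sylow q G := Q.mapSurjective hf
  haveI : IsMulCommutative (P : Subgroup G) := ⟨⟨by
    rintro ⟨_, a, ha, rfl⟩ ⟨_, b, hb, rfl⟩
    exact Subtype.ext (hc a ha b hb).eq⟩⟩
  letI : CommGroup (P : Subgroup G) := open scoped IsMulCommutative in inferInstance
  let t : G →* (P : Subgroup G) := MonoidHom.transfer (MonoidHom.id (P : Subgroup G))
  have h1 : t.comp f = 1 := by
    refine MonoidHom.eq_of_eqOn_dense hX fun x hx => ?_
    obtain ⟨k, hk⟩ := P.isPGroup' (t (f x))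
    have h2 : orderOf (t (f x)) ∣ q ^ k := orderOf_dvd_of_pow_eq_one hk
    have h3 : orderOf (t (f x)) ∣ orderOf x := orderOf_map_dvd (t.comp f) x
    exact orderOf_eq_one_iff.1 (Nat.eq_one_of_dvd_coprimes ((hq x hx).pow_right k) h3 h2)
  have key : ∀ (k : ℕ) (g₀ : G), g₀⁻¹ * f z ^ k * g₀ ∈ (P : Subgroup G) → g₀⁻¹ * f z ^ k * g₀ = f z ^ k := by
    intro k g₀ _
    rw [mul_assoc, ((hz' g₀).pow_left k).eq, inv_mul_cancel_left]
  have h2 := MonoidHom.transfer_eq_pow (MonoidHom.id (P : Subgroup G)) (f z) key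
  have h3 : t (f z) = 1 := DFunLike.congr_fun h1 z
  have h4 : f z ^ (P : Subgroup G).index = 1 := by
    have h5 := h3.symm.trans h2
    exact (congrArg Subtype.val h5).symm
  obtain ⟨k, hk⟩ := P.isPGroup' ⟨f z, ⟨z, hz, rfl⟩⟩
  have h6 : f z ^ q ^ k = 1 := congrArg Subtype.val hk
  have h7 : ((P : Subgroup G).index).Coprime (q ^ k) :=
    ((Nat.Prime.coprime_iff_not_dvd Fact.out).2 P.not_dvd_index).symm.pow_right k
  exact orderOf_eq_one_iff.1 (Nat.eq_one_of_dvd_coprimes h7 (orderOf_dvd_of_pow_eq_one h4)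
    (orderOf_dvd_of_pow_eq_one h6))

end Cfsg.Lib.Layer.Gk
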