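import Cfsg.Agent.Lib.Layer.GkA
import Cfsg.Agent.Lib.BG1.Sec3a
import Cfsg.Agent.Lib.Coprime.CharAction

/-! Prime graphs: a group with a normal subgroup of even order all of whose odd primes are adjacent to `2`
shares its prime graph with a group having a non-trivial normal `2`-subgroup. -/

set_option autoImplicit false

namespace Cfsg.Lib.Layer.Gk

open Subgroup Cfsg.Lib.Core

universe u

section
variable {L V : Type u} [Group L] [CommGroup V]

/-- the coinduced module -/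
def coind (ρ : L →* MulAut V) (R Y : Subgroup L) : Subgroup (L → V) where
  carrier := {f | (∀ r ∈ R, ∀ g, f (r * g) = ρ r (f g)) ∧ ∀ y ∈ Y, ∀ g, f (y * g) = f g}
  one_mem' := ⟨fun r _ g => by simp, fun _ _ _ => rfl⟩
  mul_mem' := fun {a b} ha hb => ⟨fun r hr g => by simp [ha.1 r hr g, hb.1 r hr g],
    fun y hy g => by simp [ha.2 y hy g, hb.2 y hy g]⟩
  inv_mem' := fun {a} ha => ⟨fun r hr g => by simp [ha.1 r hr g], fun y hy g => by simp [ha.2 y hy g]⟩

def coindT (ρ : L →* MulAut V) (R Y : Subgroup L) (a : L) (f : coind ρ R Y) : coind ρ R Y :=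
  ⟨fun g => f.1 (g * a), fun r hr g => by simpa [mul_assoc] using f.2.1 r hr (g * a),
    fun y hy g => by simpa [mul_assoc] using f.2.2 y hy (g * a)⟩

def coindA (ρ : L →* MulAut V) (R Y : Subgroup L) : L →* MulAut (coind ρ R Y) where
  toFun a :=
    { toFun := coindT ρ R Y a
      invFun := coindT ρ R Y a⁻¹
      left_inv := fun f => Subtype.ext (funext fun g => by simp [coindT])
      right_inv := fun f => Subtype.ext (funext fun g => by simp [coindT])
      map_mul' := fun _ _ => rfl }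
  map_one' := MulEquiv.ext fun f => Subtype.ext (funext fun g => by simp [coindT])
  map_mul' a b := MulEquiv.ext fun f => Subtype.ext (funext fun g => congrArg f.1 (mul_assoc g a b).symm)

theorem coindA_apply (ρ : L →* MulAut V) (R Y : Subgroup L) (a : L) (f : coind ρ R Y) (g : L) :
    (coindA ρ R Y a f).1 g = f.1 (g * a) := rfl

theorem coind_nontrivial [Nontrivial V] (ρ : L →* MulAut V) (R Y : Subgroup L) [hY : Y.Normal]
    (hRY : ∀ z ∈ R, z ∈ Y → ρ z = 1) : Nontrivial (coind ρ R Y) := by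
  classical
  obtain ⟨v, hv⟩ := exists_ne (1 : V)
  let f : L → V := fun g => if h : ∃ r ∈ R, r⁻¹ * g ∈ Y then ρ h.choose v else 1
  have key : ∀ g r, r ∈ R → r⁻¹ * g ∈ Y → f g = ρ r v := by
    intro g r hr hg
    have h : ∃ r ∈ R, r⁻¹ * g ∈ Y := ⟨r, hr, hg⟩
    have h1 : f g = ρ h.choose v := dif_pos h
    obtain ⟨h2, h3⟩ := h.choose_spec
    have h4 : ρ (r⁻¹ * h.choose) = 1 := by
      refine hRY _ (mul_mem (inv_mem hr) h2) ?_
      have h5 := mul_mem hg (inv_mem h3)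
      simpa [mul_assoc] using h5
    rw [map_mul, map_inv, inv_mul_eq_one] at h4
    rw [h1, h4]
  have hf : f ∈ coind ρ R Y := by
    refine ⟨fun r₀ hr₀ g => ?_, fun y hy g => ?_⟩
    · by_cases h : ∃ r ∈ R, r⁻¹ * g ∈ Y
      · obtain ⟨r, hr, hg⟩ := h
        rw [key g r hr hg, key (r₀ * g) (r₀ * r) (mul_mem hr₀ hr) (by simpa [mul_assoc] using hg), map_mul]
        rfl
      · have h' : ¬ ∃ r ∈ R, r⁻¹ * (r₀ * g) ∈ Y := by
          rintro ⟨r, hr, hg⟩
          exact h ⟨r₀⁻¹ * r, mul_mem (inv_mem hr₀) hr, by simpa [mul_assoc] using hg⟩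
        have h1 : f g = 1 := dif_neg h
        have h2 : f (r₀ * g) = 1 := dif_neg h'
        rw [h1, h2, map_one]
    · have hc : ∀ r : L, r⁻¹ * y * r ∈ Y := fun r => by simpa using hY.conj_mem y hy r⁻¹
      by_cases h : ∃ r ∈ R, r⁻¹ * g ∈ Y
      · obtain ⟨r, hr, hg⟩ := h
        rw [key g r hr hg, key (y * g) r hr (by simpa [mul_assoc] using mul_mem (hc r) hg)]
      · have h' : ¬ ∃ r ∈ R, r⁻¹ * (y * g) ∈ Y := by
          rintro ⟨r, hr, hg⟩
          exact h ⟨r, hr, by simpa [mul_assoc] using mul_mem (inv_mem (hc r)) hg⟩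
        have h1 : f g = 1 := dif_neg h
        have h2 : f (y * g) = 1 := dif_neg h'
        rw [h1, h2]
  refine ⟨⟨⟨f, hf⟩, 1, fun h => hv ?_⟩⟩
  have h1 : f 1 = 1 := congrFun (congrArg Subtype.val h) 1
  rw [key 1 1 (one_mem _) (by simp), map_one] at h1
  exact h1

theorem exists_mod [Finite L] [Finite V] [Nontrivial V] (hV : IsPGroup 2 V) (ρ : L →* MulAut V)
    (R Y : Subgroup L) [hR : R.Normal] [hY : Y.Normal] (hRY : ∀ z ∈ R, z ∈ Y → ρ z = 1) :
    ∃ (W : Type u) (_ : CommGroup W) (_ : Finite W) (_ : Nontrivial W), IsPGroup 2 W ∧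
      ∃ σ : L ⧸ Y →* MulAut W, ∀ x ∈ R, (∀ (g : L) (v : V), ρ (g * x * g⁻¹) v = v → v = 1) →
        ∀ w, σ (x : L ⧸ Y) w = w → w = 1 := by
  haveI : Fact (Nat.Prime 2) := ⟨Nat.prime_two⟩
  obtain ⟨n, hn⟩ := hV.exists_card_eq
  have hk : Y ≤ (coindA ρ R Y).ker := by
    intro y hy
    refine MulEquiv.ext fun f => Subtype.ext (funext fun g => ?_)
    have h1 := f.2.2 _ (hY.conj_mem y hy g) g
    rw [inv_mul_cancel_right] at h1
    exact h1
  refine ⟨coind ρ R Y, inferInstance, inferInstance, coind_nontrivial ρ R Y hRY, fun f => ⟨n, ?_⟩,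
    QuotientGroup.lift Y (coindA ρ R Y) hk, fun x hx h w hw => ?_⟩
  · refine Subtype.ext (funext fun g => ?_)
    have : f.1 g ^ 2 ^ n = 1 := by rw [← hn]; exact pow_card_eq_one'
    simpa using this
  · refine Subtype.ext (funext fun g => h g _ ?_)
    have h1 : w.1 (g * x) = w.1 g := congrFun (congrArg Subtype.val hw) g
    rw [← w.2.1 _ (hR.conj_mem x hx g) g, inv_mul_cancel_right, h1]

end

theorem inf_ker {L A : Type*} [Group L] [Finite L] [Group A] [Finite A] (ρ : L →* A) (X : Set L) (D Y : Subgroup L)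
    (π : Set ℕ) (hY : IsPiNumber π (Nat.card Y))
    (hX : ∀ q, q.Prime → q ∈ π → q ∣ Nat.card Y → ∀ x ∈ X, (orderOf x).Coprime q)
    (hc : ∀ y ∈ Y, ∀ x ∈ X, Commute (ρ y) (ρ x))
    (hD : ∀ q, q.Prime → q ∈ π → ∀ x ∈ D, ∀ a : ℕ, x ^ q ^ a = 1 → x ∈ Y)
    (hcyc : ∀ q, q.Prime → q ∈ π → ∀ Q : Subgroup L, IsPGroup q Q → ∃ g ∈ Q, ∀ y ∈ Q, ∃ n : ℤ, y * (g ^ n)⁻¹ ∈ D)
    {z : L} (hz : z ∈ closure X) (hzY : z ∈ Y) : ρ z = 1 := by
  have hc' : ∀ y ∈ Y, ∀ r ∈ closure X, Commute (ρ y) (ρ r) := by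
    intro y hy r hr
    induction hr using closure_induction with
    | mem x hx => exact hc y hy x hx
    | one => simp
    | mul a b _ _ ha hb => rw [map_mul]; exact ha.mul_right hb
    | inv a _ ha => rw [map_inv]; exact ha.inv_right
  by_contra hne
  obtain ⟨q, hq, hqd⟩ := Nat.exists_prime_and_dvd (mt orderOf_eq_one_iff.1 hne)
  have hqz : q ∣ orderOf z := hqd.trans (orderOf_map_dvd ρ z)
  have hqY : q ∣ Nat.card Y := hqz.trans (Subgroup.orderOf_dvd_natCard Y hzY)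
  have hqπ := hY q hq hqY
  haveI := Fact.mk hq
  obtain ⟨a, m, hm, ham⟩ := Nat.exists_eq_pow_mul_and_not_dvd (orderOf_pos z).ne' q hq.ne_one
  have hz1 : (z ^ m) ^ q ^ a = 1 := by rw [← pow_mul, mul_comm, ← ham, pow_orderOf_eq_one]
  let R := closure X
  let z' : R := ⟨z ^ m, pow_mem hz m⟩
  have hp : IsPGroup q (zpowers z') := by
    rintro ⟨_, k, rfl⟩
    refine ⟨a, Subtype.ext (Subtype.ext ?_)⟩
    have : ((z ^ m) ^ k) ^ q ^ a = 1 := by
      rw [← zpow_natCast, ← zpow_mul, mul_comm, zpow_mul, zpow_natCast, hz1, one_zpow]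
    simpa [z'] using this
  obtain ⟨Q, hQ⟩ := hp.exists_le_sylow
  let f := (ρ.comp R.subtype).rangeRestrict
  have hf : Function.Surjective f := MonoidHom.rangeRestrict_surjective _
  have hQp : IsPGroup q ((Q : Subgroup R).map R.subtype) := Q.isPGroup'.map _
  obtain ⟨g, hg, hgen⟩ := hcyc q hq hqπ _ hQp
  have hgR : g ∈ R := map_subtype_le _ hg
  have hdec : ∀ b : R, b ∈ Q → ∃ n : ℤ, ∃ d ∈ Y, (b : L) = d * g ^ n := by
    intro b hb
    have hb' : (b : L) ∈ (Q : Subgroup R).map R.subtype := ⟨b, hb, rfl⟩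
    obtain ⟨n, hn⟩ := hgen b hb'
    obtain ⟨k, hk⟩ := hQp ⟨_, mul_mem hb' (inv_mem (zpow_mem hg n))⟩
    exact ⟨n, _, hD q hq hqπ _ hn k (congrArg Subtype.val hk), by simp⟩
  have h1 := tr f hf (closure_preimage_eq_top X) (q := q)
    (fun x hx => by rw [← Subgroup.orderOf_coe]; exact hX q hq hqπ hqY _ hx) Q
    (fun b hb c hc2 => by
      refine Subtype.ext ?_
      change ρ b * ρ c = ρ c * ρ b
      obtain ⟨n, d, hd, hbd⟩ := hdec b hb
      obtain ⟨n', d', hd', hcd⟩ := hdec c hc2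
      refine Commute.eq ?_
      rw [hbd, map_mul]
      refine (hc' d hd c c.2).mul_left ?_
      rw [hcd, map_mul, map_zpow, map_zpow]
      exact ((hc' d' hd' g hgR).symm.zpow_left n).mul_right (Commute.zpow_zpow_self _ _ _))
    (hQ (mem_zpowers z'))
    (fun b => by
      obtain ⟨b, rfl⟩ := hf b
      exact Subtype.ext (hc' _ (pow_mem hzY m) b b.2).eq)
  have h2 : ρ (z ^ m) = 1 := congrArg Subtype.val h1
  rw [map_pow] at h2
  exact hm (hqd.trans (orderOf_dvd_of_pow_eq_one h2))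

theorem mem_core {L : Type*} [Group L] [Finite L] (D : Subgroup L) [D.Normal]
    (hmin : ∀ M : Subgroup L, M ⊔ D = ⊤ → M = ⊤) (π : Set ℕ) {q : ℕ} (hq : q.Prime) (hπ : q ∈ π) {x : L}
    (hx : x ∈ D) {a : ℕ} (hxa : x ^ q ^ a = 1) : x ∈ (piCore π D).map D.subtype := by
  haveI := Fact.mk hq
  have hp : IsPGroup q (zpowers (⟨x, hx⟩ : D)) := by
    rintro ⟨_, k, rfl⟩
    refine ⟨a, Subtype.ext (Subtype.ext ?_)⟩
    have : (x ^ k) ^ q ^ a = 1 := by
      rw [← zpow_natCast, ← zpow_mul, mul_comm, zpow_mul, zpow_natCast, hxa, one_zpow]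
    simpa using this
  obtain ⟨Q, hQ⟩ := hp.exists_le_sylow
  have h1 := hmin _ Q.normalizer_sup_eq_top
  have h2 : IsPiNumber π (Nat.card ((Q : Subgroup D).map D.subtype)) :=
    ((isPGroup_iff_isPiNumber hq).1 (Q.isPGroup'.map _)).mono (Set.singleton_subset_iff.2 hπ)
  exact le_piCoreOf (map_subtype_le _) (by rw [h1]; exact le_top) h2 ⟨_, hQ (mem_zpowers _), rfl⟩

section
variable {H : Type*} [Group H] [Finite H]

theorem exists_L (S : Subgroup H) [S.Normal] (N : Subgroup H) (hN : N ⊔ S = ⊤) :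
    ∃ L : Subgroup H, L ≤ N ∧ L ⊔ S = ⊤ ∧ ∀ M : Subgroup L, M ⊔ S.subgroupOf L = ⊤ → M = ⊤ := by
  obtain ⟨L, hL, h1, hmin⟩ := exists_minimal_le (fun K : Subgroup H => K ⊔ S = ⊤) (H := N) hN
  refine ⟨L, hL, h1, fun M hM => ?_⟩
  have h2 := congrArg (Subgroup.map L.subtype) hM
  rw [Subgroup.map_sup, subgroupOf_map_subtype, ← MonoidHom.range_eq_map, range_subtype] at h2
  have h3 : M.map L.subtype ⊔ S = ⊤ := by
    rw [eq_top_iff, ← h1]
    exact sup_le (h2.ge.trans (sup_le le_sup_left (inf_le_left.trans le_sup_right))) le_sup_right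
  have h4 := hmin _ h3 (map_subtype_le _)
  apply map_injective L.subtype_injective
  rw [h4, ← MonoidHom.range_eq_map, range_subtype]

omit [Finite H] in
theorem surj_of_sup (S : Subgroup H) [S.Normal] {N : Subgroup H} (hN : N ⊔ S = ⊤) :
    Function.Surjective ((QuotientGroup.mk' S).comp N.subtype) := by
  intro y
  obtain ⟨y, rfl⟩ := QuotientGroup.mk'_surjective S y
  have h1 : y ∈ ((N ⊔ S : Subgroup H) : Set H) := by rw [hN]; exact mem_top y
  rw [mul_normal] at h1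
  obtain ⟨n, hn, s, hs, rfl⟩ := h1
  refine ⟨⟨n, hn⟩, ?_⟩
  simp only [MonoidHom.comp_apply, coe_subtype, map_mul]
  rw [show QuotientGroup.mk' S s = 1 from (QuotientGroup.eq_one_iff _).2 hs, mul_one]

theorem adj_of_commute {p q : ℕ} (hp : p.Prime) (hq : q.Prime) (hpq : p ≠ q) {a b : H} (hc : Commute a b)
    (ha : p ∣ orderOf a) (hb : q ∣ orderOf b) : Adj H p q :=
  Adj.of_commute hp hq hpq (hc.pow_pow _ _) (orderOf_pow_orderOf_div (orderOf_pos a).ne' ha)
    (orderOf_pow_orderOf_div (orderOf_pos b).ne' hb)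

theorem dvd_orderOf {p : ℕ} (hp : p.Prime) {P : Subgroup H} (hP : IsPGroup p P) {a : H} (ha : a ∈ P) (h1 : a ≠ 1) :
    p ∣ orderOf a := by
  obtain ⟨r, hr, hd⟩ := Nat.exists_prime_and_dvd (mt orderOf_eq_one_iff.1 h1)
  rwa [← eq_of_pgroup hp hP (pow_mem ha _) hr (orderOf_pow_orderOf_div (orderOf_pos a).ne' hd)]

theorem cyc (S : Subgroup H) [S.Normal] {q r : ℕ} (hq : q.Prime) (hq2 : q ≠ 2) (hr : r.Prime) (hrq : r ≠ q)
    (hrS : r ∣ Nat.card S) (hn : ¬ Adj H q r) (X : Subgroup (H ⧸ S)) (hX : IsPGroup q X) : IsCyclic X := by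
  haveI := Fact.mk hq
  haveI := Fact.mk hr
  obtain ⟨T⟩ : Nonempty (Sylow r S) := inferInstance
  have hT := T.normalizer_sup_eq_top
  set K := (T : Subgroup S).map S.subtype with hK
  have hK1 : K ≠ ⊥ := by
    rw [hK, Ne, map_eq_bot_iff_of_injective _ S.subtype_injective]
    exact T.ne_bot_of_dvd_card hrS
  have hKp : IsPGroup r K := T.isPGroup'.map _
  have hs := surj_of_sup S hT
  obtain ⟨P', hP'⟩ := hX.exists_le_sylow
  obtain ⟨P, rfl⟩ := Sylow.mapSurjective_surjective hs q P'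
  have hPp : IsPGroup q ((P : Subgroup (normalizer (K : Set H))).map (normalizer (K : Set H)).subtype) :=
    P.isPGroup'.map _
  have hodd : Odd (Nat.card ((P : Subgroup (normalizer (K : Set H))).map (normalizer (K : Set H)).subtype)) := by
    obtain ⟨n, hn⟩ := hPp.exists_card_eq
    rw [hn]; exact (hq.odd_of_ne_two hq2).pow
  have hreg : BG1.Regular K ((P : Subgroup (normalizer (K : Set H))).map (normalizer (K : Set H)).subtype) := by
    intro x hx hx1
    rw [eq_bot_iff]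
    rintro k ⟨hk, hkx⟩
    by_contra hk1
    have hc : Commute x k := (mem_centralizer_singleton_iff.1 hkx).symm
    exact hn (adj_of_commute hq hr hrq.symm hc (dvd_orderOf hq hPp hx hx1) (dvd_orderOf hr hKp hk hk1))
  have h1 := hreg.isCyclic_of_pgroup hq hPp hodd hK1 (map_subtype_le _)
  haveI : IsCyclic (P : Subgroup (normalizer (K : Set H))) :=
    isCyclic_of_surjective _ (equivMapOfInjective _ _ (normalizer (K : Set H)).subtype_injective).symm.surjective
  haveI : IsCyclic ((P.mapSurjective hs : Sylow q (H ⧸ S)) : Subgroup (H ⧸ S)) :=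
    isCyclic_of_surjective _ (MonoidHom.subgroupMap_surjective _ (P : Subgroup (normalizer (K : Set H))))
  exact Subgroup.isCyclic_of_le hP'

end

end Cfsg.Lib.Layer.Gk
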