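import Cfsg.Agent.Lib.Layer.GkB
import Cfsg.Agent.S0205

/-! Prime graphs: a non-trivial group is almost simple or shares its prime graph with a group having a
non-trivial normal subgroup of prime power order. -/

set_option autoImplicit false

namespace Cfsg.Lib.Layer.Gk

open Subgroup Cfsg.Lib.Core
open scoped commutatorElement

universe u

variable {H : Type u} [Group H] [Finite H]

theorem exists_V (S : Subgroup H) [S.Normal] (h2 : 2 ∣ Nat.card S) :
    ∃ V : Subgroup H, V ≠ ⊥ ∧ IsPGroup 2 V ∧ IsMulCommutative V ∧ normalizer (V : Set H) ⊔ S = ⊤ := by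
  haveI : Fact (Nat.Prime 2) := ⟨Nat.prime_two⟩
  obtain ⟨T⟩ : Nonempty (Sylow 2 S) := inferInstance
  have hT := T.normalizer_sup_eq_top
  set K := (T : Subgroup S).map S.subtype with hK
  have hK1 : K ≠ ⊥ := by
    rw [hK, Ne, map_eq_bot_iff_of_injective _ S.subtype_injective]
    exact T.ne_bot_of_dvd_card h2
  have hKp : IsPGroup 2 K := T.isPGroup'.map _
  refine ⟨K ⊓ centralizer (K : Set H), ?_, hKp.to_inf_left, ⟨⟨?_⟩⟩, ?_⟩
  · haveI := (nontrivial_iff_ne_bot K).2 hK1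
    haveI := hKp.center_nontrivial
    obtain ⟨z, hz⟩ := exists_ne (1 : center K)
    intro h
    have h1 : (z.1 : H) ∈ K ⊓ centralizer (K : Set H) :=
      ⟨z.1.2, fun k hk => congrArg Subtype.val (mem_center_iff.1 z.2 ⟨k, hk⟩)⟩
    rw [h, mem_bot] at h1
    exact hz (Subtype.ext (Subtype.ext h1))
  · rintro ⟨a, ha⟩ ⟨b, hb⟩
    exact Subtype.ext (hb.2 a ha.1)
  · rw [eq_top_iff, ← hT]
    refine sup_le_sup_right (fun g hg => ?_) _
    have key : ∀ g ∈ normalizer (K : Set H), ∀ x ∈ K ⊓ centralizer (K : Set H),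
        g * x * g⁻¹ ∈ K ⊓ centralizer (K : Set H) := by
      intro g hg x hx
      refine ⟨(mem_normalizer_iff.1 hg x).1 hx.1, fun k hk => ?_⟩
      have h1 : g⁻¹ * k * g⁻¹⁻¹ ∈ K := (mem_normalizer_iff.1 (inv_mem hg) k).1 hk
      have h2 := hx.2 _ h1
      calc k * (g * x * g⁻¹) = g * (g⁻¹ * k * g⁻¹⁻¹ * x) * g⁻¹ := by group
        _ = g * x * g⁻¹ * k := by rw [h2]; group
    refine mem_normalizer_iff.2 fun x => ⟨key g hg x, fun h => ?_⟩
    simpa [mul_assoc] using key g⁻¹ (inv_mem hg) _ h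

theorem mainM (S : Subgroup H) [S.Normal] (h2 : 2 ∣ Nat.card S)
    (hS : ∀ r : ℕ, r.Prime → r ≠ 2 → r ∣ Nat.card S → Adj H 2 r) :
    ∃ (K : Type u) (_ : Group K) (_ : Finite K), Sub H K ∧ Sub K H ∧ Bad K := by
  haveI : Fact (Nat.Prime 2) := ⟨Nat.prime_two⟩
  obtain ⟨V, hV1, hVp, hVc, hVN⟩ := exists_V S h2
  obtain ⟨L, hLN, hLS, hmin⟩ := exists_L S _ hVN
  letI : CommGroup V := open scoped IsMulCommutative in inferInstance
  haveI : Nontrivial V := (nontrivial_iff_ne_bot V).2 hV1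
  let D : Subgroup L := S.subgroupOf L
  let π : Set ℕ := {q | ∃ r : ℕ, r.Prime ∧ r ≠ q ∧ r ∣ Nat.card S ∧ ¬ Adj H q r}
  have hπ2 : ∀ q ∈ π, q ≠ 2 := by
    rintro q ⟨r, hr, hrq, hrS, hn⟩ rfl
    exact hn (hS r hr hrq hrS)
  let Y : Subgroup L := (piCore π D).map D.subtype
  have hYD : Y ≤ D := map_subtype_le _
  haveI : (piCore π D).Characteristic := piCore_characteristic _ _
  haveI hYn : Y.Normal := inferInstance
  have hYπ : IsPiNumber π (Nat.card Y) := isPi_piCoreOf D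
  have hYS : Nat.card Y ∣ Nat.card S := by
    rw [← card_map_of_injective (f := L.subtype) L.subtype_injective]
    exact card_dvd_of_le (map_le_iff_le_comap.2 hYD)
  let ρ : L →* MulAut V := V.normalizerMonoidHom.comp (inclusion hLN)
  have hρ : ∀ (g : L) (v : V), ((ρ g v : V) : H) = g * v * (g : H)⁻¹ := fun _ _ => rfl
  let X : Set L := {x | (orderOf x).Prime ∧ orderOf x ≠ 2 ∧ ¬ Adj H 2 (orderOf x)}
  have hXc : ∀ x ∈ X, ∀ g : L, g * x * g⁻¹ ∈ X := by
    intro x hx g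
    have : orderOf (g * x * g⁻¹) = orderOf x := (SemiconjBy.orderOf_eq g (by simp [SemiconjBy])).symm
    change _ ∧ _ ∧ _
    rw [this]; exact hx
  haveI hRn : (closure X).Normal := ⟨fun x hx g => by
    induction hx using closure_induction with
    | mem x hx => exact subset_closure (hXc x hx g)
    | one => simp
    | mul a b _ _ ha hb => simpa [mul_assoc] using mul_mem ha hb
    | inv a _ ha => simpa [mul_assoc] using inv_mem ha⟩
  have hXS : ∀ x ∈ X, ¬ orderOf x ∣ Nat.card S := fun x hx h => hx.2.2 (hS _ hx.1 hx.2.1 h)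
  have hfix : ∀ x ∈ X, ∀ v ∈ V, Commute (x : H) v → v = 1 := by
    intro x hx v hv hc
    by_contra h1
    exact hx.2.2 (adj_of_commute Nat.prime_two hx.1 hx.2.1.symm hc.symm (dvd_orderOf Nat.prime_two hVp hv h1)
      (by rw [Subgroup.orderOf_coe]))
  have hYo : Odd (Nat.card Y) := by
    rw [← Nat.not_even_iff_odd, even_iff_two_dvd]
    exact fun h => hπ2 2 (hYπ 2 Nat.prime_two h) rfl
  have hcom : ∀ y ∈ Y, ∀ x ∈ X, Commute (ρ y) (ρ x) := by
    intro y hy x hx
    have hc1 : Nat.card (Y.map L.subtype) = Nat.card Y := card_map_of_injective L.subtype_injective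
    have hc2 : Nat.card (zpowers (x : H)) = orderOf x := by rw [Nat.card_zpowers, Subgroup.orderOf_coe]
    have hn : zpowers (x : H) ≤ normalizer ((Y.map L.subtype : Subgroup H) : Set H) := by
      rw [zpowers_le]
      refine mem_normalizer_iff.2 fun a => ⟨?_, ?_⟩
      · rintro ⟨b, hb, rfl⟩
        exact ⟨_, hYn.conj_mem b hb x, rfl⟩
      · rintro ⟨b, hb, h⟩
        refine ⟨_, hYn.conj_mem b hb x⁻¹, ?_⟩
        have h' : (b : H) = x * a * (x : H)⁻¹ := h
        change ((x : H)⁻¹ * b * (x : H)⁻¹⁻¹) = a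
        rw [h']; group
    obtain ⟨n, hVn⟩ := hVp.exists_card_eq
    have h := Coprime.commutator_le_centralizer_of_prime_of_odd (V := V) hn (by rw [hc2]; exact hx.1)
      (by rw [hc1, hc2]; exact (Nat.Prime.coprime_iff_not_dvd hx.1).2 fun h => hXS x hx (h.trans hYS))
      (by rw [hc1]; exact hYo) inferInstance
      (sup_le ((map_subtype_le _).trans hLN) (by rw [zpowers_le]; exact hLN x.2))
      (by
        rw [hVn]
        refine Nat.Coprime.pow_right n (Nat.Coprime.coprime_dvd_left (card_sup_dvd' hn) ?_)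
        rw [hc1, hc2]
        exact Nat.coprime_two_right.2 (hYo.mul (hx.1.odd_of_ne_two hx.2.1)))
      (by
        rw [eq_bot_iff]
        rintro v ⟨hv, hvc⟩
        exact hfix x hx v hv (hvc _ (mem_zpowers _)))
    have h1 := h (commutator_mem_commutator (⟨y, hy, rfl⟩ : (y : H) ∈ Y.map L.subtype) (mem_zpowers (x : H)))
    rw [← commutatorElement_eq_one_iff_commute, ← map_commutatorElement]
    refine MulEquiv.ext fun v => Subtype.ext ?_
    rw [hρ]
    have h2 : (v : H) * ⁅(y : H), (x : H)⁆ = ⁅(y : H), (x : H)⁆ * v := h1 v v.2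
    change ⁅(y : H), (x : H)⁆ * v * ⁅(y : H), (x : H)⁆⁻¹ = v
    rw [← h2, mul_inv_cancel_right]
  have hD : ∀ q : ℕ, q.Prime → q ∈ π → ∀ x ∈ D, ∀ a : ℕ, x ^ q ^ a = 1 → x ∈ Y :=
    fun q hq hqπ x hx a ha => mem_core D hmin π hq hqπ hx ha
  let β₀ : L →* H ⧸ S := (QuotientGroup.mk' S).comp L.subtype
  have hβ₀ : ∀ l : L, β₀ l = 1 ↔ l ∈ D := fun l => QuotientGroup.eq_one_iff _
  have hcyc : ∀ q : ℕ, q.Prime → q ∈ π → ∀ Q : Subgroup L, IsPGroup q Q →
      ∃ g ∈ Q, ∀ y ∈ Q, ∃ n : ℤ, y * (g ^ n)⁻¹ ∈ D := by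
    intro q hq hqπ Q hQ
    obtain ⟨r, hr, hrq, hrS, hn⟩ := id hqπ
    obtain ⟨⟨_, g, hg, rfl⟩, hgen⟩ := (cyc S hq (hπ2 q hqπ) hr hrq hrS hn (Q.map β₀) (hQ.map _)).exists_generator
    refine ⟨g, hg, fun y hy => ?_⟩
    obtain ⟨n, hn⟩ := hgen ⟨β₀ y, y, hy, rfl⟩
    refine ⟨n, (hβ₀ _).1 ?_⟩
    have h1 : β₀ g ^ n = β₀ y := congrArg Subtype.val hn
    rw [map_mul, map_inv, map_zpow, h1, mul_inv_cancel]
  have hRY : ∀ z ∈ closure X, z ∈ Y → ρ z = 1 := fun z hz hzY =>
    inf_ker ρ X D Y π hYπ (fun q hq _ hqY x hx => (Nat.coprime_primes hx.1 hq).2 fun h =>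
      hXS x hx (h ▸ hqY.trans hYS)) hcom hD hcyc hz hzY
  obtain ⟨W, _, _, _, hW, σ, hσ⟩ := exists_mod hVp ρ (closure X) Y hRY
  let β : L ⧸ Y →* H ⧸ S := QuotientGroup.lift Y β₀ fun y hy => (hβ₀ y).2 (hYD hy)
  have hβ : Function.Surjective β := by
    intro y
    obtain ⟨l, hl⟩ := surj_of_sup S hLS y
    exact ⟨l, hl⟩
  let α := QuotientGroup.mk' S
  have hHK : Sub H (fib α β) := Sub.of_surj _ (fib1_surj α hβ)
  have hKH : Sub (fib α β) H := by
    refine fib_sub ((Sub.of_surj _ (QuotientGroup.mk'_surjective Y)).trans (Sub.of_inj _ L.subtype_injective)) ?_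
    rintro p q hp hq hpq ⟨a, ha, hao⟩ ⟨b, hb, hbo⟩
    by_contra hn
    have hpS : p ∣ Nat.card S := hao ▸ Subgroup.orderOf_dvd_natCard S ((QuotientGroup.eq_one_iff _).1 ha)
    have hqπ : q ∈ π := ⟨p, hp, hpq, hpS, fun h => hn h.symm⟩
    obtain ⟨l, rfl⟩ := QuotientGroup.mk_surjective b
    have hl : l ∈ D := (hβ₀ l).1 hb
    obtain ⟨k, m, hm, hkm⟩ := Nat.exists_eq_pow_mul_and_not_dvd (orderOf_pos l).ne' q hq.ne_one
    have h1 : l ^ m ∈ Y := hD q hq hqπ _ (pow_mem hl m) k (by rw [← pow_mul, mul_comm, ← hkm, pow_orderOf_eq_one])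
    have h3 : (l : L ⧸ Y) ^ m = 1 := by rw [← QuotientGroup.mk_pow]; exact (QuotientGroup.eq_one_iff _).2 h1
    exact hm (hbo ▸ orderOf_dvd_of_pow_eq_one h3)
  let φ : fib α β →* MulAut W := σ.comp (fib2 α β)
  haveI : Finite (W ⋊[φ] fib α β) := Finite.of_equiv _ SemidirectProduct.equivProd.symm
  refine ⟨W ⋊[φ] fib α β, inferInstance, inferInstance,
    hHK.trans (Sub.of_surj _ SemidirectProduct.rightHom_surjective),
    (sd_sub hW φ (hHK.1 2 Nat.prime_two (h2.trans (card_subgroup_dvd_card S))) ?_).trans hKH, sd_bad hW φ⟩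
  rintro ⟨⟨a, b⟩, hab⟩ p hp hp2 hn hx w hw
  have hn' : ¬ Adj H 2 p := fun h => hn (hHK.2 2 p Nat.prime_two hp hp2.symm h)
  have hpS : ¬ p ∣ Nat.card S := fun h => hn' (hS p hp hp2 h)
  obtain ⟨l, rfl⟩ := QuotientGroup.mk_surjective b
  have hx1 : ((a, (l : L ⧸ Y)) : H × (L ⧸ Y)) ^ p = 1 := by
    have := congrArg Subtype.val (pow_orderOf_eq_one (⟨(a, (l : L ⧸ Y)), hab⟩ : fib α β))
    rwa [hx] at this
  have ha1 : a ^ p = 1 := congrArg Prod.fst hx1
  have hl1 : (l : L ⧸ Y) ^ p = 1 := congrArg Prod.snd hx1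
  have hlne : (l : L ⧸ Y) ≠ 1 := by
    intro h
    have h1 : α a = 1 := by rw [(mem_fib.1 hab : α a = β l), h, map_one]
    have h3 : orderOf a ∣ Nat.card S := Subgroup.orderOf_dvd_natCard S ((QuotientGroup.eq_one_iff _).1 h1)
    rcases (Nat.dvd_prime hp).1 (orderOf_dvd_of_pow_eq_one ha1) with h4 | h4
    · have h5 : (⟨(a, (l : L ⧸ Y)), hab⟩ : fib α β) = 1 :=
        Subtype.ext (Prod.ext (orderOf_eq_one_iff.1 h4) h)
      rw [h5, orderOf_one] at hx
      exact hp.ne_one hx.symm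
    · exact hpS (h4 ▸ h3)
  have hcop : Nat.Coprime p (Nat.card Y) := (Nat.Prime.coprime_iff_not_dvd hp).2 fun h => hpS (h.trans hYS)
  obtain ⟨m, hm1, hm2⟩ := Nat.chineseRemainder hcop 1 0
  have hlY : l ^ p ∈ Y := by rw [← QuotientGroup.eq_one_iff, QuotientGroup.mk_pow]; exact hl1
  have hq : ((l ^ m : L) : L ⧸ Y) = l := by
    rw [QuotientGroup.mk_pow, pow_eq_pow_of_modEq hm1 hl1, pow_one]
  have ho : orderOf (l ^ m) = p := by
    haveI := Fact.mk hp
    refine orderOf_eq_prime ?_ fun h => hlne (by rw [← hq, h]; rfl)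
    obtain ⟨c, hc⟩ := (Nat.modEq_zero_iff_dvd).1 hm2
    have h1 : (l ^ p) ^ Nat.card Y = 1 := orderOf_dvd_iff_pow_eq_one.1 (Subgroup.orderOf_dvd_natCard Y hlY)
    rw [← pow_mul, mul_comm, pow_mul, hc, pow_mul, h1, one_pow]
  have hX : l ^ m ∈ X := by
    change _ ∧ _ ∧ _
    rw [ho]; exact ⟨hp, hp2, hn'⟩
  refine hσ _ (subset_closure hX) (fun g v hv => Subtype.ext (hfix _ (hXc _ hX g) v v.2 ?_)) w (by rw [hq]; exact hw)
  have h1 := congrArg Subtype.val hv
  rw [hρ, mul_inv_eq_iff_eq_mul] at h1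
  exact h1

theorem main [Nontrivial H] :
    (∃ N : Subgroup H, N.Normal ∧ IsSimpleGroup N ∧ ¬ IsMulCommutative N ∧ centralizer (N : Set H) = ⊥) ∨
      ∃ (K : Type u) (_ : Group K) (_ : Finite K), Sub H K ∧ Sub K H ∧ Bad K := by
  haveI : Fact (Nat.Prime 2) := ⟨Nat.prime_two⟩
  by_cases hb : Bad H
  · exact Or.inr ⟨H, inferInstance, inferInstance, Sub.refl, Sub.refl, hb⟩
  have hev : ∀ N : Subgroup H, N.Normal → N ≠ ⊥ → 2 ∣ Nat.card N := by
    intro N hN hN1
    by_contra h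
    haveI := Cfsg.Agent.S0205.result (G := N) (by rwa [← Nat.not_even_iff_odd, even_iff_two_dvd])
    obtain ⟨p, hp, h1⟩ := exists_pCore_inf_ne_bot_of_solvable N hN1
    haveI := Fact.mk hp
    exact hb ⟨p, hp, _, inferInstance, h1, (isPGroup_pCore p H).to_inf_left⟩
  obtain ⟨S, hS, hS1, -, hmin⟩ := exists_minimal_normal_le (⊤ : Subgroup H) top_ne_bot
  by_cases hC : centralizer (S : Set H) = ⊥
  · by_cases hs : IsSimpleGroup S
    · refine Or.inl ⟨S, hS, hs, fun hc => hS1 ?_, hC⟩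
      rw [eq_bot_iff, ← hC]
      intro a ha b hb
      exact congrArg Subtype.val (hc.is_comm.comm (⟨b, hb⟩ : S) ⟨a, ha⟩)
    · refine Or.inr (mainM S (hev S hS hS1) fun r hr hr2 hrS => ?_)
      haveI := (nontrivial_iff_ne_bot S).2 hS1
      obtain ⟨U₀, hU₀, hU₀1, hU₀2⟩ : ∃ U : Subgroup S, U.Normal ∧ U ≠ ⊥ ∧ U ≠ ⊤ := by
        by_contra h
        push Not at h
        exact hs ⟨fun U hU => by by_cases h1 : U = ⊥; exact Or.inl h1; exact Or.inr (h U hU h1)⟩
      obtain ⟨U, hU, hU1, hUU, hUm⟩ := exists_minimal_normal_le U₀ hU₀1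
      have hdv : ∀ p : ℕ, p.Prime → p ∣ Nat.card S → p ∣ Nat.card U := by
        intro p hp hpS
        by_contra h
        have h1 : U ≤ piCore ({p}ᶜ : Set ℕ) S := le_piCore fun q hq hqU hqp => h (by
          rw [← Set.mem_singleton_iff.1 hqp]; exact hqU)
        haveI : (piCore ({p}ᶜ : Set ℕ) S).Characteristic := piCore_characteristic _ _
        rcases hmin ((piCore ({p}ᶜ : Set ℕ) S).map S.subtype) inferInstance (map_subtype_le _) with h2 | h2
        · rw [map_eq_bot_iff_of_injective _ S.subtype_injective] at h2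
          exact hU1 (eq_bot_iff.2 (h2 ▸ h1))
        · exact piCoreOf_eq_self_iff.1 h2 p hp hpS rfl
      obtain ⟨h, hh⟩ : ∃ h : H, ¬ U ≤ U.comap (MulAut.conjNormal h : MulAut S).toMonoidHom := by
        by_contra h
        push Not at h
        have hn : (U.map S.subtype).Normal := ⟨by
          rintro _ ⟨u, hu, rfl⟩ g
          exact ⟨_, h g hu, rfl⟩⟩
        rcases hmin _ hn (map_subtype_le _) with h2 | h2
        · exact hU1 ((map_eq_bot_iff_of_injective _ S.subtype_injective).1 h2)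
        · refine hU₀2 (eq_top_iff.2 (le_trans (fun s _ => ?_) hUU))
          obtain ⟨u, hu, h3⟩ := h2.ge s.2
          rwa [← (Subtype.ext h3 : u = s)]
      set U' := U.comap (MulAut.conjNormal h : MulAut S).toMonoidHom with hU'
      have hU'n : U'.Normal := hU.comap _
      have hdis : Disjoint U U' := by
        rcases hUm (U ⊓ U') inferInstance inf_le_left with h1 | h1
        · exact disjoint_iff.2 h1
        · exact absurd (inf_eq_left.1 h1) hh
      haveI := Fact.mk hr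
      obtain ⟨y, hy⟩ := exists_prime_orderOf_dvd_card' r (hdv r hr hrS)
      obtain ⟨t, ht⟩ := exists_prime_orderOf_dvd_card' 2 (hdv 2 Nat.prime_two (hev S hS hS1))
      let t' : S := (MulAut.conjNormal h : MulAut S).symm t
      have ht' : t' ∈ U' := by
        change (MulAut.conjNormal h : MulAut S) t' ∈ U
        simp [t']
      have hc := commute_of_normal_of_disjoint U U' hU hU'n hdis y t' y.2 ht'
      refine Adj.of_inj S.subtype S.subtype_injective (Adj.of_commute Nat.prime_two hr hr2.symm hc.symm ?_ ?_)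
      · rw [MulEquiv.orderOf_eq, Subgroup.orderOf_coe, ht]
      · rw [Subgroup.orderOf_coe, hy]
  · refine Or.inr (mainM S (hev S hS hS1) fun r hr hr2 hrS => ?_)
    haveI := Fact.mk hr
    obtain ⟨y, hy⟩ := exists_prime_orderOf_dvd_card' r hrS
    obtain ⟨t, ht⟩ := exists_prime_orderOf_dvd_card' 2 (hev _ inferInstance hC)
    have hc : Commute (y : H) t := t.2 y y.2
    exact Adj.of_commute Nat.prime_two hr hr2.symm hc.symm (by rw [Subgroup.orderOf_coe, ht])
      (by rw [Subgroup.orderOf_coe, hy])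

/-- boundedly many groups with the same prime graph force almost simplicity -/
theorem almost_simple [Nontrivial H] (n : ℕ)
    (h : ∀ (K : Type) [Group K] [Finite K], Sub H K → Sub K H → Nat.card K ≤ n) :
    ∃ N : Subgroup H, N.Normal ∧ IsSimpleGroup N ∧ ¬ IsMulCommutative N ∧ centralizer (N : Set H) = ⊥ := by
  refine main.resolve_right ?_
  rintro ⟨K, _, _, h1, h2, h3⟩
  obtain ⟨K', _, _, h4, h5, -, h6⟩ := h3.unbounded n
  haveI : Small.{0} K' := by
    obtain ⟨m, ⟨e⟩⟩ := Finite.exists_equiv_fin K'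
    exact small_map e
  let f : Shrink.{0} K' ≃* K' := Shrink.mulEquiv
  haveI : Finite (Shrink.{0} K') := Finite.of_equiv _ f.symm.toEquiv
  have h7 := h (Shrink.{0} K') ((h1.trans h4).trans (Sub.of_surj f.toMonoidHom f.surjective))
    ((Sub.of_inj f.toMonoidHom f.injective).trans (h5.trans h2))
  rw [Nat.card_congr f.toEquiv] at h7
  omega

end Cfsg.Lib.Layer.Gk
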