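import Cfsg.Agent.Lib.Layer.Misc
import Cfsg.Agent.Lib.PGrp.TwoMax
import Cfsg.Agent.Lib.PGrp.Rank2

/-! Blackburn: a 2-group all of whose quotients have 2-rank at most 2 is metacyclic. -/

set_option autoImplicit false
set_option linter.unusedSectionVars false

namespace Cfsg.Lib.Layer.Meta2
open Subgroup Cfsg.Lib.PGrp
open scoped commutatorElement

universe u
variable {G : Type u} [Group G] [Finite G]

theorem eq_or_of_mem_zpowers {t x : G} (ht : t ^ 2 = 1) (h : x ∈ zpowers t) : x = 1 ∨ x = t := by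
  obtain ⟨k, rfl⟩ := h
  have h2 : t ^ (2 : ℤ) = 1 := by exact_mod_cast ht
  obtain ⟨j, rfl | rfl⟩ := Int.even_or_odd' k
  · left; simp only [zpow_mul, h2, one_zpow]
  · right; simp only [zpow_add, zpow_mul, h2, one_zpow, one_mul, zpow_one]

theorem commutator_le_of_pair {a b : G} (h : zpowers a ⊔ zpowers b = ⊤) {V : Subgroup G} [V.Normal]
    (hV : ⁅a, b⁆ ∈ V) : _root_.commutator G ≤ V := by
  have := commutator_closure_pair_le (N := V) (le_normalizer_of_normal (mem_top a))
    (le_normalizer_of_normal (mem_top b)) hV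
  rwa [closure_pair_eq_sup, h] at this

theorem class_two (hG : IsPGroup 2 G) (hZ : _root_.commutator G ≤ center G)
    (h2 : ∀ x ∈ _root_.commutator G, x ^ 2 = 1) (hg : ∃ a b : G, zpowers a ⊔ zpowers b = ⊤)
    (hr : PRankLE 2 2 G) : IsMetacyclic G := by
  obtain ⟨⟨a, b⟩, hab, hmin⟩ := Set.exists_min_image {q : G × G | zpowers q.1 ⊔ zpowers q.2 = ⊤}
    (fun q => orderOf q.2) (Set.toFinite _) (let ⟨a, b, h⟩ := hg; ⟨(a, b), h⟩)
  replace hab : zpowers a ⊔ zpowers b = ⊤ := hab
  set c := ⁅a, b⁆ with hc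
  have hcZ : c ∈ center G := hZ (commutator_mem a b)
  have hc2 : c ^ 2 = 1 := h2 _ (commutator_mem a b)
  haveI : (zpowers c).Normal := normal_of_le_center (zpowers_le.2 hcZ)
  have hD : _root_.commutator G ≤ zpowers c := commutator_le_of_pair hab (mem_zpowers _)
  have fin : ∀ x y : G, zpowers x ⊔ zpowers y = ⊤ → c ∈ zpowers x → IsMetacyclic G := fun x y h hx =>
    isMetacyclic_iff.2 ⟨x, y, normal_of_commutator_mem fun u _ g =>
      zpowers_le.2 hx (hD (commutator_mem u g)), h⟩
  by_cases hc1 : c = 1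
  · exact fin a b hab (hc1 ▸ one_mem _)
  obtain ⟨m, hm⟩ := IsPGroup.iff_orderOf.1 hG a
  obtain ⟨n, hn⟩ := IsPGroup.iff_orderOf.1 hG b
  have hnm : n ≤ m := by
    have := hmin (b, a) (by rw [Set.mem_ofPred_eq, sup_comm]; exact hab)
    simp only [hm, hn] at this
    exact (Nat.pow_le_pow_iff_right one_lt_two).1 this
  obtain _ | n := n
  · rw [pow_zero, orderOf_eq_one_iff] at hn
    exact absurd (by rw [hc, hn, commutatorElement_one_right]) hc1
  obtain ⟨k, rfl⟩ : ∃ k, m = k + n + 1 := ⟨m - n - 1, by omega⟩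
  have ne : ∀ (x : G) (j : ℕ), orderOf x = 2 ^ (j + 1) → x ^ 2 ^ j ≠ 1 ∧ (x ^ 2 ^ j) ^ 2 = 1 := fun x j h =>
    ⟨pow_ne_one_of_lt_orderOf (by positivity) (h ▸ Nat.pow_lt_pow_right one_lt_two j.lt_succ_self),
      by rw [← pow_mul, ← pow_succ, ← h, pow_orderOf_eq_one]⟩
  obtain ⟨a1, a2⟩ := ne a _ hm
  obtain ⟨b1, b2⟩ := ne b _ hn
  by_cases h3 : b ^ 2 ^ n * a ^ 2 ^ (k + n) ∈ zpowers c
  · have h4 : zpowers (b * a ^ 2 ^ k) ⊔ zpowers a = ⊤ := by
      rw [eq_top_iff, ← hab]
      refine sup_le le_sup_right (zpowers_le.2 ?_)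
      exact (mul_mem_cancel_right (mem_sup_right (npow_mem_zpowers a (2 ^ k)))).1 (mem_sup_left (mem_zpowers _))
    have h5 : (b * a ^ 2 ^ k) ^ 2 ^ n ∈ zpowers c := by
      have hq := (Subgroup.Normal.quotient_commutative_iff_commutator_le.2 hD).is_comm.comm
      rw [← QuotientGroup.eq_one_iff] at h3 ⊢
      rw [← h3, QuotientGroup.mk_pow, QuotientGroup.mk_mul, Commute.mul_pow (hq _ _), QuotientGroup.mk_mul,
        ← QuotientGroup.mk_pow, ← QuotientGroup.mk_pow, ← pow_mul, ← pow_add]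
    rcases eq_or_of_mem_zpowers hc2 h5 with h | h
    · have h6 := hmin (a, b * a ^ 2 ^ k) (by rw [Set.mem_ofPred_eq, sup_comm]; exact h4)
      have h7 := Nat.le_of_dvd (by positivity) (orderOf_dvd_of_pow_eq_one h)
      simp only [hn] at h6
      have := Nat.pow_lt_pow_right one_lt_two n.lt_succ_self
      omega
    · exact fin _ _ h4 (h ▸ npow_mem_zpowers _ _)
  by_cases h4 : a ^ 2 ^ (k + n) ∈ zpowers c
  · exact fin a b hab ((eq_or_of_mem_zpowers hc2 h4).resolve_left a1 ▸ npow_mem_zpowers _ _)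
  by_cases h5 : b ^ 2 ^ n ∈ zpowers c
  · exact fin b a ((sup_comm _ _).trans hab) ((eq_or_of_mem_zpowers hc2 h5).resolve_left b1 ▸ npow_mem_zpowers _ _)
  by_cases h6 : k + n = 0
  · obtain ⟨rfl, rfl⟩ : k = 0 ∧ n = 0 := by omega
    simp only [add_zero, pow_zero, pow_one] at a2 b2
    refine fin (a * b) b ?_ ⟨(2 : ℕ), ?_⟩
    · rw [eq_top_iff, ← hab]
      refine sup_le (zpowers_le.2 ?_) le_sup_right
      exact (mul_mem_cancel_right (mem_sup_right (mem_zpowers b))).1 (mem_sup_left (mem_zpowers _))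
    · simp only [zpow_natCast]
      rw [hc, commutatorElement_def, inv_eq_of_mul_eq_one_right ((sq a).symm.trans a2),
        inv_eq_of_mul_eq_one_right ((sq b).symm.trans b2), sq]
      simp only [mul_assoc]
  exfalso
  obtain ⟨j, hj⟩ := Nat.exists_eq_succ_of_ne_zero h6
  have h7 : a ^ 2 ^ (k + n) ∈ center G := by
    rw [hj, pow_succ, pow_mul]
    refine mem_center_iff.2 fun g => (commutatorElement_eq_one_iff_mul_comm.1 ?_).symm
    rw [commutator_pow_left (commute_of_mem_center (hZ (commutator_mem _ _)) _)]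
    exact h2 _ (commutator_mem _ _)
  have hE : zpowers c ⊔ zpowers (a ^ 2 ^ (k + n)) ≤ center G := sup_le (zpowers_le.2 hcZ) (zpowers_le.2 h7)
  haveI := normal_of_le_center hE
  have h8 : b ^ 2 ^ n ∉ zpowers c ⊔ zpowers (a ^ 2 ^ (k + n)) := fun h => by
    obtain ⟨u, hu, v, hv, e⟩ := mem_sup_of_normal_left.1 h
    rcases eq_or_of_mem_zpowers a2 hv with rfl | rfl
    · exact h5 (by rw [← e, mul_one]; exact hu)
    · exact h3 (by rw [← e, mul_assoc, ← sq, a2, mul_one]; exact hu)
  have h9 := card_sup_zpowers (p := 2) h8 (b2 ▸ one_mem _)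
  rw [card_sup_zpowers (p := 2) h4 (a2 ▸ one_mem _), Nat.card_zpowers, orderOf_eq_prime hc2 hc1] at h9
  have h10 := pRankLE_iff.1 hr _ (isElementaryAbelian_sup_zpowers (isElementaryAbelian_sup_zpowers
    (isElementaryAbelian_zpowers hc2) (center_le_centralizer _ h7) a2)
    (by rw [centralizer_eq_top_of_le_center hE]; trivial) b2)
  omega

theorem exists_pair (hG : IsPGroup 2 G) (h : (frattini G).index ≤ 4) : ∃ a b : G, zpowers a ⊔ zpowers b = ⊤ := by
  obtain ⟨a, ha⟩ : ∃ a : G, (frattini G ⊔ zpowers a).index ≤ 2 := by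
    by_cases h1 : frattini G = ⊤
    · exact ⟨1, by rw [h1, top_sup_eq, index_top]; norm_num⟩
    obtain ⟨a, ha⟩ := SetLike.exists_of_lt (lt_top_iff_ne_top.2 h1)
    refine ⟨a, ?_⟩
    have h2 := card_sup_zpowers (p := 2) ha.2 (pow_mem_frattini hG a)
    have h3 := (frattini G ⊔ zpowers a).card_mul_index
    have h4 := (frattini G).card_mul_index
    have h5 : 0 < Nat.card (frattini G) := Nat.card_pos
    rw [h2, ← h4, mul_comm 2, mul_assoc] at h3
    have := Nat.eq_of_mul_eq_mul_left h5 h3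
    omega
  obtain ⟨b, hb⟩ := exists_sup_zpowers_eq_top_of_index_le hG ha
  exact ⟨a, b, frattini_nongenerating (by rw [sup_comm, ← sup_assoc, hb])⟩

theorem main (n : ℕ) : ∀ (G : Type u) [Group G] [Finite G], Nat.card G = n → IsPGroup 2 G →
    (∀ (X : Type u) [Group X] (f : G →* X), Function.Surjective f → PRankLE 2 2 X) → IsMetacyclic G := by
  induction n using Nat.strong_induction_on with
  | _ n ih =>
  rintro G _ _ rfl hG h
  haveI := powerClosure_normal 2 1 (_root_.commutator G)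
  by_cases hR : ⁅_root_.commutator G, (⊤ : Subgroup G)⁆ ⊔ powerClosure 2 1 (_root_.commutator G) = ⊥
  · rw [sup_eq_bot_iff, commutator_commutator_top_eq_bot_iff, ← commutator_le_center_iff,
      powerClosure_eq_bot_iff] at hR
    refine class_two hG hR.1 hR.2 (exists_pair hG ?_) (h G (MonoidHom.id G) Function.surjective_id)
    rw [index_eq_card, ← card_top]
    refine h _ _ (QuotientGroup.mk'_surjective _) ⊤ (isMulCommutative_top_iff.2
      (Subgroup.Normal.quotient_commutative_iff_commutator_le.2 (commutator_le_frattini hG)).is_comm.comm) fun g _ => ?_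
    obtain ⟨g, rfl⟩ := QuotientGroup.mk_surjective g
    rw [← QuotientGroup.mk_pow, QuotientGroup.eq_one_iff]
    exact pow_mem_frattini hG g
  obtain ⟨z, hz, hzZ, hzo⟩ := exists_central_orderOf_eq hG _ hR
  have hz2 : z ^ 2 = 1 := hzo ▸ pow_orderOf_eq_one z
  haveI : (zpowers z).Normal := normal_of_le_center (zpowers_le.2 hzZ)
  have hlt : Nat.card (G ⧸ zpowers z) < Nat.card G := by
    have := (zpowers z).card_mul_index
    rw [Nat.card_zpowers, hzo] at this
    have h1 : 0 < Nat.card G := Nat.card_pos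
    rw [← index_eq_card]; omega
  obtain ⟨a', b', hn, hs⟩ := isMetacyclic_iff.1 (ih _ hlt (G ⧸ zpowers z) rfl (hG.to_quotient _) fun X _ f hf =>
    h X (f.comp (QuotientGroup.mk' _)) (hf.comp (QuotientGroup.mk'_surjective _)))
  obtain ⟨a, rfl⟩ := QuotientGroup.mk'_surjective _ a'
  obtain ⟨b, rfl⟩ := QuotientGroup.mk'_surjective _ b'
  have hU : (zpowers z ⊔ zpowers a).Normal := by
    have := hn.comap (QuotientGroup.mk' (zpowers z))
    rwa [← MonoidHom.map_zpowers, comap_map_eq, QuotientGroup.ker_mk', sup_comm] at this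
  have hD : ⁅_root_.commutator G, (⊤ : Subgroup G)⁆ ⊔ powerClosure 2 1 (_root_.commutator G) ≤ _root_.commutator G :=
    sup_le (commutator_le_left _ _) (powerClosure_le _ _ _)
  have hab : zpowers a ⊔ zpowers b = ⊤ := by
    have := congrArg (comap (QuotientGroup.mk' (zpowers z))) hs
    rw [← MonoidHom.map_zpowers, ← MonoidHom.map_zpowers, ← Subgroup.map_sup, comap_map_eq, QuotientGroup.ker_mk',
      comap_top] at this
    exact eq_top_of_sup_commutator hG (eq_top_iff.2 (this ▸ sup_le_sup_left (zpowers_le.2 (hD hz)) _))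
  by_cases hza : z ∈ zpowers a
  · rw [sup_eq_right.2 (zpowers_le.2 hza)] at hU
    exact isMetacyclic_iff.2 ⟨a, b, hU, hab⟩
  exfalso
  have hW : powerClosure 2 1 (zpowers z ⊔ zpowers a) = zpowers (a ^ 2) := by
    refine le_antisymm (powerClosure_le_iff.2 fun x hx => ?_) (zpowers_le.2 (pow_mem_powerClosure_one
      (mem_sup_right (mem_zpowers a))))
    obtain ⟨u, hu, _, ⟨k, rfl⟩, rfl⟩ := mem_sup_of_normal_left.1 hx
    rw [pow_one, (commute_of_mem_center (zpowers_le.2 hzZ hu) _).mul_pow]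
    refine mul_mem ?_ ⟨k, by simp only [← zpow_natCast, ← zpow_mul, mul_comm]⟩
    rcases eq_or_of_mem_zpowers hz2 hu with rfl | rfl
    · rw [one_pow]; exact one_mem _
    · rw [hz2]; exact one_mem _
  haveI : (zpowers (a ^ 2)).Normal := hW ▸ powerClosure_normal 2 1 _
  have hc : ∀ g, ⁅z, g⁆ ∈ zpowers (a ^ 2) := fun g => by
    rw [commutatorElement_eq_one_iff_commute.2 (commute_of_mem_center hzZ g)]; exact one_mem _
  have hDU : _root_.commutator G ≤ zpowers z ⊔ zpowers a :=
    commutator_le_of_sup_zpowers_eq_top (b := b) (by rw [sup_assoc, hab, sup_top_eq])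
  have hV : _root_.commutator G ≤ zpowers (a ^ 2) ⊔ zpowers z := by
    refine commutator_le_of_pair hab ?_
    by_cases ha : a ∈ zpowers (a ^ 2) ⊔ zpowers z
    · exact commutator_le_left _ (⊤ : Subgroup G) (commutator_mem_commutator ha (mem_top b))
    have e : (zpowers (a ^ 2) ⊔ zpowers z) ⊔ zpowers a = zpowers z ⊔ zpowers a := by
      refine le_antisymm (sup_le (sup_le (zpowers_le.2 (mem_sup_right (npow_mem_zpowers a 2))) le_sup_left)
        le_sup_right) (sup_le_sup_right le_sup_right _)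
    have h1 := card_sup_zpowers (p := 2) ha (mem_sup_left (mem_zpowers _))
    rw [e] at h1
    exact commutator_le_of_card_eq_mul hG _ _ (e ▸ le_sup_left) h1
      (commutator_mem_commutator (mem_sup_right (mem_zpowers a)) (mem_top b))
  have : ⁅_root_.commutator G, (⊤ : Subgroup G)⁆ ⊔ powerClosure 2 1 (_root_.commutator G) ≤ zpowers (a ^ 2) :=
    sup_le ((commutator_mono hV le_rfl).trans (commutator_sup_zpowers_le hc)) (hW ▸ powerClosure_mono hDU)
  exact hza (zpowers_le.2 (npow_mem_zpowers a 2) (this hz))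

theorem of_sectional (hG : IsPGroup 2 G) (h : SectionalPRankLE 2 2 G) : IsMetacyclic G :=
  main _ G rfl hG fun _ _ f hf => by
    have hs : Function.Surjective (f.comp (⊤ : Subgroup G).subtype) := fun y =>
      let ⟨x, hx⟩ := hf y; ⟨⟨x, trivial⟩, hx⟩
    exact pRankLE_of_injective (f := (QuotientGroup.quotientKerEquivOfSurjective _ hs).symm.toMonoidHom)
      (MulEquiv.injective _) (h ⊤ _)

end Cfsg.Lib.Layer.Meta2
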