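/-
Classes of `{2,p}`-transpositions for `p ≥ 5`: commuting is an equivalence relation.
-/
import Cfsg.Agent.Lib.Root.Inv3
import Cfsg.Agent.S1175
import Cfsg.Agent.Lib.Gsm.SimS0
import Cfsg.Agent.Lib.Block.ZStar
import Cfsg.Agent.Lib.FT.Sec14d
import Cfsg.Agent.Lib.Known2.TT2

set_option autoImplicit false
set_option linter.unusedSectionVars false

universe u

namespace Cfsg.Lib.Layer.PT

open Subgroup Cfsg.Lib.Invol Cfsg.Lib.RInv Cfsg.Lib.BS Relation

variable {G : Type u} [Group G] {D : Set G} {p : ℕ} {a b c d e x y : G}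

theorem hA : ASC.{u} := fun _ _ _ _ M hM z hz hzM h1 h2 h3 => Cfsg.Agent.S1175.result M hM z hz hzM h1 h2 h3

theorem eq_one_of_cop {g : G} {m n : ℕ} (h : m.Coprime n) (h1 : g ^ m = 1) (h2 : g ^ n = 1) : g = 1 :=
  orderOf_eq_one_iff.1 (Nat.eq_one_of_dvd_coprimes h (orderOf_dvd_of_pow_eq_one h1) (orderOf_dvd_of_pow_eq_one h2))

/-- The simple Bender groups have products of involutions of two different odd orders. -/
theorem bender [Finite G] [IsSimpleGroup G] {H : Subgroup G} (hH : IsStronglyEmbedded H) (hp : p.Prime) (h3 : p ≠ 3)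
    (h : ∀ a b : G, orderOf a = 2 → orderOf b = 2 → a * b = b * a ∨ (a * b) ^ p = 1) : False := by
  obtain ⟨Q, t, r, -, h2⟩ := bro.simple hH
  obtain ⟨s, w, hs⟩ := r.exists_SE
  have n1 : s * t ≠ t * s := fun e => r.tH (se_mem_of_commute hH hs.two hs.mem e.symm)
  have n2 : s * t ≠ 1 := fun e => n1 (e.trans (mul_eq_one_comm.1 e).symm)
  have h4 := (h s t hs.two r.two_t).resolve_left n1
  have h5 : w ≠ s := fun e => n2 (eq_one_of_cop ((Nat.coprime_primes hp Nat.prime_three).2 h3) h4 ((r.r_eq_s_iff hs).1 e))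
  have h6 : p = 5 := by_contra fun e => n2 (eq_one_of_cop ((Nat.coprime_primes hp Nat.prime_five).2 e) h4
    (r.sq_r h2 hs ((r.good' h2).four w hs.rQ) h5).2)
  subst h6
  obtain ⟨k, hk, hi, hK⟩ := r.exists_K_eq h2
  have k1 : k ≠ 1 := fun e => r.K_ne_bot h2 (by rw [hK, e, zpowers_one_eq_bot])
  have k2 : orderOf (t * k) = 2 := two_of_mul_self (by
    rw [r.t_inv] at hi
    rw [← mul_assoc, hi, inv_mul_cancel]) fun e => r.tH (by
      rw [eq_inv_of_mul_eq_one_left e]; exact inv_mem hk.1)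
  have k3 : k ^ 5 = 1 := by
    have := (h t (t * k) r.two_t k2).resolve_left fun e => k1 (eq_one_of_mul_self (r.odd_D hk) (by
      rw [r.tt'] at e
      rw [r.t_inv] at hi
      rw [← eq_inv_iff_mul_eq_one, ← hi, ← e]))
    rwa [r.tt'] at this
  have := Fact.mk Nat.prime_five
  obtain ⟨n, -, hn⟩ := r.exists_card_Q0 h2
  rw [← r.card_K_add_one h2, hK, Nat.card_zpowers, orderOf_eq_prime k3 k1] at hn
  exact absurd (Nat.prime_three.dvd_of_dvd_pow (hn ▸ (by norm_num : 3 ∣ 5 + 1))) (by norm_num)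

/-- `{2,p}`-transpositions. -/
structure PT (p : ℕ) (D : Set G) : Prop where
  odd : Odd p
  two : ∀ d ∈ D, orderOf d = 2
  cj : ∀ d ∈ D, ∀ e ∈ D, e * d * e⁻¹ ∈ D
  pair : ∀ a ∈ D, ∀ b ∈ D, Commute a b ∨ (a * b) ^ p = 1

namespace PT

variable (h : PT p D)
include h

theorem ri : RI D := ⟨h.two, h.cj, fun a ha b hb => (h.pair a ha b hb).imp id fun k => Or.inl (odd_of_pow h.odd k)⟩

theorem sq (hd : d ∈ D) : d * d = 1 := h.ri.sq hd

theorem mono {E : Set G} (hE : E ⊆ D) (hc : ∀ d ∈ E, ∀ e ∈ E, e * d * e⁻¹ ∈ E) : PT p E :=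
  ⟨h.odd, fun d hd => h.two d (hE hd), hc, fun a ha b hb => h.pair a (hE ha) b (hE hb)⟩

theorem image {H : Type*} [Group H] (φ : G →* H) (h1 : ∀ d ∈ D, φ d ≠ 1) : PT p (φ '' D) :=
  ⟨h.odd, (h.ri.image φ h1).two, (h.ri.image φ h1).cj, by
    rintro _ ⟨a, ha, rfl⟩ _ ⟨b, hb, rfl⟩
    exact (h.pair a ha b hb).imp (·.map φ) fun k => by rw [← map_mul, ← map_pow, k, map_one]⟩

theorem preimage (H : Subgroup G) : PT p (H.subtype ⁻¹' D) :=
  ⟨h.odd, (h.ri.preimage H).two, (h.ri.preimage H).cj, fun a ha b hb =>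
    (h.pair _ ha _ hb).imp (fun k => Subtype.ext k.eq) Subtype.ext⟩

theorem od (hx : x ∈ D) (hy : y ∈ D) (hn : ¬ Commute x y) : Od x y :=
  ⟨fun e => hn (e ▸ Commute.refl x), odd_of_pow h.odd ((h.pair x hx y hy).resolve_left hn)⟩

theorem of_four (hx : x ∈ D) (hy : y ∈ D) (h4 : (x * y) ^ 2 ^ 2 = 1) : Commute x y :=
  by_contra fun hn => h.ri.not_od_of_pow hx h4 (h.od hx hy hn)

theorem of_conj (hx : x ∈ D) (hy : y ∈ D) (hc : Commute x (y * x * y)) : Commute x y := h.of_four hx hy (by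
  rw [show (x * y) ^ 2 ^ 2 = x * (y * x * y) * (x * (y * x * y)) by simp [pow_succ, mul_assoc],
    hc.symm.mul_mul_mul_comm, h.sq hx, h.sq (h.ri.cj' hx hy), one_mul])

theorem cent (ha : a ∈ D) (hb : b ∈ D) (hab : Commute a b) (hne : a ≠ b) (he : e ∈ D) (hc : Commute e (a * b)) :
    Commute e a := by
  by_contra hn
  have h1 := (h.pair e he a ha).resolve_left hn
  have h2 : ¬ Commute e b := fun k => hn (by simpa [mul_assoc, h.sq hb] using hc.mul_right k)
  have h3 := (h.pair e he b hb).resolve_left h2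
  rw [show e * b = e * a * (a * b) by rw [mul_assoc, cn (h.sq ha)],
    (hc.mul_left ((Commute.refl a).mul_right hab)).mul_pow, h1, one_mul, pow_odd_of_sq (by
      rw [hab.symm.mul_mul_mul_comm, h.sq ha, h.sq hb, one_mul]) h.odd] at h3
  exact hne (by rw [← cn (h.sq ha) b, h3, mul_one])

theorem of_pair (ha : a ∈ D) (hd : d ∈ D) (hn : ¬ Commute a d) (h1 : Commute b a) (h2 : Commute b (d * a * d)) :
    Commute b d := by
  obtain ⟨m, hm⟩ := exists_sqrt (h.od ha hd hn).2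
  have h3 : Commute b (a * d) := by
    rw [← hm, ← (Commute.refl _).mul_pow]
    exact (by simpa only [mul_assoc] using h1.mul_right h2 : Commute b (a * d * (a * d))).pow_right m
  simpa only [cn (h.sq ha)] using h1.mul_right h3

end PT

theorem no_four (hp : p.Prime) (h3 : p ≠ 3) (n : ℕ) : ∀ (G : Type u) [Group G] [Finite G], Nat.card G = n →
    ∀ (D : Set G) (a b x : G), PT p D → a ∈ D → b ∈ D → a * b ∈ D → x ∈ D → Commute a x := by
  induction n using Nat.strong_induction_on with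
  | _ n ih =>
  intro G _ _ hn D₀ a b x h₀ ha hb hab hx
  have sub : ∀ H : Subgroup G, H ≠ ⊤ → ∀ a ∈ D₀, ∀ b ∈ D₀, a * b ∈ D₀ → ∀ x ∈ D₀, a ∈ H → b ∈ H → x ∈ H → Commute a x :=
    fun H hH a ha b hb hab x hx h1 h2 h3 => (ih _ (hn ▸ Core.card_lt_of_ne_top hH) H rfl _ ⟨a, h1⟩ ⟨b, h2⟩ ⟨x, h3⟩
      (h₀.preimage H) ha hb hab hx).map H.subtype
  have same : ∀ a ∈ D₀, ∀ b ∈ D₀, a * b ∈ D₀ → ∀ y ∈ D₀, Commute y a → Commute y b := fun a ha b hb hab y hy k =>
    h₀.cent hb hab ((show Commute b a from (h₀.ri.pc ha hb hab).symm).mul_right (Commute.refl b))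
      (fun e => h₀.ri.ne ha (by simpa using e)) hy (by
        rwa [← mul_assoc, ← h₀.ri.pc ha hb hab, mul_assoc, h₀.sq hb, mul_one])
  by_contra hc
  let D := {d | ∃ g ∈ closure D₀, g * a * g⁻¹ = d}
  have hD : D ⊆ D₀ := fun d ⟨g, hg, e⟩ => e ▸ h₀.ri.cjc hg ha
  have hD' : ∀ g ∈ closure D₀, ∀ d ∈ D, g * d * g⁻¹ ∈ D := fun g hg d ⟨g', hg', e⟩ =>
    ⟨g * g', mul_mem hg hg', by rw [← e]; group⟩
  have h : PT p D := h₀.mono hD fun d hd e he => hD' e (subset_closure (hD he)) d hd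
  have nb : ∀ y ∈ D, ∀ z ∈ D₀, ¬ Commute y z → z ∈ D := fun y hy z hz k => by
    obtain ⟨m, hm⟩ := exists_conj_of_odd (h.sq hy) (h₀.sq hz) (h₀.od (hD hy) hz k).2
    exact hm ▸ hD' _ (pow_mem (mul_mem (subset_closure (hD hy)) (subset_closure hz)) m) y hy
  have ha' : a ∈ D := ⟨1, one_mem _, by simp⟩
  have hx' := nb a ha' x hx hc
  have hb' := nb x hx' b hb fun k => hc (same b hb a ha (h₀.ri.pc ha hb hab ▸ hab) x hx k).symm
  have hab' := nb x hx' _ hab fun k => hc (same _ hab a ha (by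
    rwa [h₀.ri.pc ha hb hab, mul_assoc, h₀.sq ha, mul_one]) x hx k).symm
  have top : closure D = ⊤ := by_contra fun k =>
    hc (sub _ k a ha b hb hab x hx (subset_closure ha') (subset_closure hb') (subset_closure hx'))
  have T : ∀ y ∈ D, ∀ z ∈ D, Commute a y → Commute y z → Commute a z := fun y hy z hz k1 k2 =>
    sub (centralizer {y}) (fun e => by
      obtain ⟨g, -, rfl⟩ := hy
      exact hc (by simpa [mul_assoc] using (show Commute (g * a * g⁻¹) (g * x * g⁻¹) from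
        (mem_centralizer_singleton_iff.1 (e.ge (mem_top _))).symm).conj g⁻¹)) a ha b hb hab z (hD hz)
      (mem_centralizer_singleton_iff.2 k1) (mem_centralizer_singleton_iff.2 (same a ha b hb hab y (hD hy) k1.symm).symm)
      (mem_centralizer_singleton_iff.2 k2.symm)
  have nr : ∀ y, ReflTransGen (NO D) a y → Commute a y := fun y k => by
    induction k with
    | refl => rfl
    | tail _ k ih => exact T _ k.1 _ k.2.1 ih (by_contra fun e => k.2.2 (h.od k.1 k.2.1 e))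
  obtain ⟨_, h5, H, hH⟩ := h.ri.exists_se hA top ⟨a, ha', b, hb', hab'⟩ ha' hx' fun k => hc (nr x k)
  have h' := h.image (QuotientGroup.mk' (twoZCore G)) fun d hd k => h5 d hd ((QuotientGroup.eq_one_iff d).1 k)
  have all : ∀ s : G ⧸ twoZCore G, orderOf s = 2 → s ∈ QuotientGroup.mk' (twoZCore G) '' D := fun s hs => by
    obtain ⟨g, rfl⟩ := isConj_iff.1 (se_isConj hH (h'.two _ ⟨a, ha', rfl⟩) hs)
    obtain ⟨g, rfl⟩ := QuotientGroup.mk_surjective g
    exact ⟨_, hD' g (closure_mono hD (top.ge (mem_top g))) a ha', rfl⟩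
  exact bender hH hp h3 fun s t hs ht => h'.pair s (all s hs) t (all t ht)

namespace PT

variable [Finite G] (h : PT p D) (hp : p.Prime) (h3 : p ≠ 3) (hc : ∀ g, ∀ d ∈ D, g * d * g⁻¹ ∈ D)
include h hp h3 hc

theorem tri (ha : a ∈ D) (hb : b ∈ D) (hab : Commute a b) (hx : x ∈ D) (h1 : ¬ Commute x a) (h2 : ¬ Commute x b) :
    Commute x (a * b * x * (a * b)) := by
  by_contra hn
  have ht : a * b * (a * b) = 1 := by rw [hab.symm.mul_mul_mul_comm, h.sq ha, h.sq hb, one_mul]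
  have hne : a ≠ b := fun e => hn (by rw [e, h.sq hb]; simp)
  obtain ⟨g, z, e1, e2, e3, e4⟩ := exists_t (h.sq hx) ht (h.od hx (by
    simpa only [inv_eq_of_mul_eq_one_right ht] using hc (a * b) x hx) hn).2
  have hf : z * (a * b) ∈ D := e1 ▸ hc g x hx
  have f1 : Commute (z * (a * b)) (a * b) := Commute.mul_left e3 (Commute.refl _)
  have f2 := h.cent ha hb hab hne hf f1
  have f3 := h.cent hb ha hab.symm hne.symm hf (hab.eq ▸ f1)
  have za : Commute a z := by
    simpa only [mul_assoc (z), ht, mul_one] using f2.symm.mul_right ((Commute.refl a).mul_right hab)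
  have zb : Commute b z := by
    simpa only [mul_assoc (z), ht, mul_one] using f3.symm.mul_right (hab.symm.mul_right (Commute.refl b))
  have m : ∀ {y}, Commute y z → y ∈ centralizer ({z} : Set G) := fun k => mem_centralizer_singleton_iff.2 k
  let C := centralizer ({z} : Set G)
  let z' : C := ⟨z, m rfl⟩
  have zc : ∀ y : C, Commute y z' := fun y => Subtype.ext (mem_centralizer_singleton_iff.1 y.2)
  haveI : (zpowers z').Normal := ⟨fun n hn g => by
    obtain ⟨k, rfl⟩ := hn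
    rw [((zc g).zpow_right k).eq, mul_inv_cancel_right]
    exact ⟨k, rfl⟩⟩
  have zz : z' * z' = 1 := Subtype.ext e4
  have mz : ∀ y ∈ zpowers z', y = 1 ∨ y = z' := fun y ⟨k, hk⟩ => by
    rcases Int.even_or_odd' k with ⟨k, rfl | rfl⟩
    · left; rw [← hk]; simp [zpow_mul, pow_two, zz]
    · right; rw [← hk]; simp [zpow_add, zpow_mul, pow_two, zz]
  have h' := ((h.preimage C).mono (E := {y | y.1 ∈ D ∧ y ≠ z'}) (fun _ k => k.1) fun d hd e he =>
    ⟨h.cj _ hd.1 _ he.1, fun k => hd.2 (by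
      rw [mul_inv_eq_iff_eq_mul, ← (zc e).eq] at k; exact mul_left_cancel k)⟩).image
    (QuotientGroup.mk' (zpowers z')) fun d hd k => (mz d ((QuotientGroup.eq_one_iff d).1 k)).elim
      (fun e => h.ri.ne hd.1 (congrArg Subtype.val e)) hd.2
  have nz : ∀ y : C, ¬ Commute x y.1 → y ≠ z' := fun y k e => k (e ▸ Commute.symm e2)
  have := no_four hp h3 _ _ rfl _ _ _ _ h' ⟨⟨a, m za⟩, ⟨ha, nz _ h1⟩, rfl⟩ ⟨⟨b, m zb⟩, ⟨hb, nz _ h2⟩, rfl⟩
    ⟨⟨z * (a * b), m (Commute.mul_left rfl (za.mul_left zb))⟩, ⟨hf, nz _ fun k => h1 (h.cent ha hb hab hne hx (by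
      simpa only [cn e4] using (Commute.symm e2).mul_right k))⟩, by
      rw [← map_mul]
      exact QuotientGroup.eq.2 (by
        rw [show (⟨z * (a * b), _⟩ : C) = z' * (⟨a, m za⟩ * ⟨b, m zb⟩) from rfl, ← (zc _).eq, mul_inv_rev, mul_assoc,
          inv_mul_cancel, mul_one]
        exact inv_mem (mem_zpowers _))⟩
    ⟨⟨x, m (Commute.symm e2)⟩, ⟨hx, fun e => h1 ((show x = z from congrArg Subtype.val e) ▸ za.symm)⟩, rfl⟩
  have k : ((⟨a, m za⟩ * ⟨x, m (Commute.symm e2)⟩ : C) * (⟨a, m za⟩ * ⟨x, m (Commute.symm e2)⟩)) ∈ zpowers z' := by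
    rw [← QuotientGroup.eq_one_iff]
    simp only [QuotientGroup.mk_mul]
    rw [show ∀ u v : C ⧸ zpowers z', Commute u v → u * v * (u * v) = u * u * (v * v) from fun u v k =>
      k.symm.mul_mul_mul_comm _ _, ← QuotientGroup.mk_mul, ← QuotientGroup.mk_mul, ← QuotientGroup.mk_mul]
    · exact congrArg _ (Subtype.ext (by simp [h.sq ha, h.sq hx]))
    · exact this
  refine h1 (h.of_four ha hx ?_).symm
  rw [show 2 ^ 2 = 2 * 2 from rfl, pow_mul, pow_two, pow_two]
  rcases mz _ k with k | k <;> rw [show a * x * (a * x) = _ from congrArg Subtype.val k]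
  · simp
  · exact e4

theorem same (ha : a ∈ D) (hb : b ∈ D) (hab : Commute a b) (hd : d ∈ D) (h1 : ¬ Commute d a) (h2 : ¬ Commute d b)
    (hy : c ∈ D) (hcb : Commute c b) : Commute c a := by
  by_contra hca
  have hne : a ≠ b := fun e => hca (e ▸ hcb)
  have dd := h.sq hd
  have aa := h.sq ha
  have bb := h.sq hb
  obtain ⟨n, hn⟩ : ∃ n, n = a * b := ⟨_, rfl⟩
  obtain ⟨m, hm⟩ : ∃ m, m = d * n * d := ⟨_, rfl⟩
  have nn : n * n = 1 := by rw [hn, hab.symm.mul_mul_mul_comm, aa, bb, one_mul]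
  have mm : m * m = 1 := by rw [hm]; simp only [mul_assoc, cn dd, cn nn, dd]
  have mi : m⁻¹ = m := inv_eq_of_mul_eq_one_right mm
  have c1 : Commute m n := by
    have := (h.tri hp h3 hc ha hb hab hd h1 h2).eq
    rw [← hn] at this
    show m * n = n * m
    rw [hm]; simpa only [mul_assoc] using this
  have ha1 := h.ri.cj' ha hd
  have hb1 := h.ri.cj' hb hd
  have e1 : d * a * d * (d * b * d) = m := by rw [hm, hn]; simp only [mul_assoc, cn dd]
  have c0 : Commute (d * a * d) (d * b * d) := by simpa only [h.ri.inv hd] using hab.conj d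
  have n1 : ¬ Commute b (d * a * d) := fun k => h2 (h.of_pair ha hd (fun k => h1 k.symm) hab.symm k).symm
  have c2 : Commute b (m * b * m) := e1 ▸ h.tri hp h3 hc ha1 hb1 c0 hb n1 fun k => h2 (h.of_conj hb hd k).symm
  have hx : m * b * m ∈ D := by simpa only [mi] using hc m b hb
  have hy' : m * a * m ∈ D := by simpa only [mi] using hc m a ha
  have e2 : m * a * m * (m * b * m) = a * b := by
    calc _ = m * n * m := by rw [hn]; simp only [mul_assoc, cn mm]
      _ = _ := by rw [c1.eq, mul_assoc, mm, mul_one, hn]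
  have nb : Commute n b := hn ▸ hab.mul_left (Commute.refl b)
  have na : Commute n a := hn ▸ (Commute.refl a).mul_left hab.symm
  have c3 : Commute a (m * b * m) := by
    have := ((c1.symm.mul_right nb).mul_right c1.symm).mul_left c2
    rwa [hn, mul_assoc a, bb, mul_one] at this
  have c4 : Commute a (m * a * m) := by
    have := ((c1.symm.mul_right na).mul_right c1.symm).mul_left (show Commute b (m * a * m) by
      have := (hab.symm.mul_right (Commute.refl b)).mul_right c2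
      rwa [← e2, mul_assoc _ _ (m * b * m), h.sq hx, mul_one] at this)
    rwa [hn, mul_assoc a, bb, mul_one] at this
  have n2 : m * b * m ≠ b := fun k => n1 (h.cent ha1 hb1 c0 (fun k => hne (by simpa using k)) hb (by
    rw [e1, Commute, SemiconjBy, ← mul_right_inj m, ← mul_assoc, k, cn mm]))
  have n3 : a ≠ m * b * m := fun k => by
    have k1 : d * b * n * (d * b)⁻¹ = m := by
      rw [mul_assoc d, ← nb.eq, mul_inv_rev, h.ri.inv hd, hm]; simp only [mul_assoc, mul_inv_cancel_left]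
    have k2 : d * b * (m * n) * (d * b)⁻¹ = n := by
      have : m * n = b * m * b := by
        rw [hn, k]; simp only [mul_assoc, cn mm]
      rw [this, mul_inv_rev, h.ri.inv hd, h.ri.inv hb, hm]; simp only [mul_assoc, cn bb, cn dd, dd, mul_one]
    have k3 : d * b * m * (d * b)⁻¹ = n * m := by
      rw [← k2, ← k1]
      conv_lhs => rw [← mul_one (d * b * n * (d * b)⁻¹), ← nn]
      group
    have k4 : Commute ((d * b) ^ 3) n := by
      rw [Commute, SemiconjBy, ← mul_inv_eq_iff_eq_mul, show (d * b) ^ 3 * n * ((d * b) ^ 3)⁻¹ =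
        d * b * (d * b * (d * b * n * (d * b)⁻¹) * (d * b)⁻¹) * (d * b)⁻¹ by
          generalize d * b = u; simp only [pow_succ, pow_zero, one_mul, mul_inv_rev, mul_assoc], k1, k3, ← c1.eq, k2]
    have k5 : d * b ∈ centralizer ({n} : Set G) := Transfer.mem_of_pow_mem_of_coprime
      (((Nat.coprime_primes hp Nat.prime_three).2 h3).coprime_dvd_left (orderOf_dvd_of_pow_eq_one
        ((h.pair d hd b hb).resolve_left h2))) (mem_centralizer_singleton_iff.2 k4)
    refine h1 (h.cent ha hb hab hne hd ?_)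
    simpa only [mul_assoc, bb, mul_one, ← hn] using (show Commute (d * b) n from
      mem_centralizer_singleton_iff.1 k5).mul_left nb.symm
  have e3 : a * (m * b * m) = m * a * m * b := by
    rw [← mul_right_inj (m * a * m), ← mul_assoc, ← c4.eq, mul_assoc, e2, cn aa, cn (h.sq hy')]
  have n4 : ¬ Commute c (m * b * m) := fun k => hca (h.cent ha hy' c4 (fun e => n2 (by
    rw [← e] at e3; exact mul_left_cancel e3)) hy (by
      have := hcb.mul_right k
      rwa [show b * (m * b * m) = a * (m * a * m) by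
        rw [← mul_right_inj a, cn aa, ← mul_assoc, ← e2, mul_assoc, h.sq hx, mul_one]] at this))
  have k := h.tri hp h3 hc ha hx c3 hy hca n4
  rw [e3, mul_assoc _ b, ← hcb.eq, show m * a * m * (c * b) * (m * a * m * b) = m * a * m * c * (b * (m * a * m) * b) by
    group, show b * (m * a * m) * b = m * a * m by
      rw [mul_assoc, ← e3, ← mul_assoc, ← hab.eq, ← e2, mul_assoc, h.sq hx, mul_one]] at k
  exact hca (h.cent ha hx c3 n3 hy (e3 ▸ (h.of_conj hy hy' k).mul_right hcb))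

end PT

theorem mem_core [Finite G] {n : G} (hn : n * n = 1) (h : ∀ g, ∃ k, (n * (g * n * g⁻¹)) ^ 2 ^ k = 1) : n ∈ pCore 2 G :=
  haveI := Fact.mk Nat.prime_two
  Known2.mem_pCore_of_baer_suzuki fun g ⟨w, hw⟩ => by
    have hn' : g * n * g⁻¹ * (g * n * g⁻¹) = 1 := by rw [conj_mul, hn]; simp
    obtain ⟨k, hk⟩ := h g
    obtain ⟨i, rfl | rfl⟩ := (mem_closure_invols_iff hn hn' w).1 hw
    · exact ⟨k, Subtype.ext (by
        simp only [SubgroupClass.coe_pow]
        rw [← zpow_natCast, ← zpow_mul, mul_comm, zpow_mul, zpow_natCast, hk, one_zpow]; rfl)⟩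
    · exact ⟨1, Subtype.ext (by
        simp only [pow_one, pow_two, coe_mul, mul_zpow_mul_self (left_inverts hn hn'), hn]; rfl)⟩

theorem PT.core [Finite G] (h : PT p D) (hp : p.Prime) (h3 : p ≠ 3) (hc : ∀ g, ∀ d ∈ D, g * d * g⁻¹ ∈ D)
    (hn : ∀ a ∈ D, ∀ b ∈ D, Commute a b → ∃ d ∈ D, ¬ Commute d a ∧ ¬ Commute d b) (ha : a ∈ D) (hb : b ∈ D)
    (hab : Commute a b) : a * b ∈ pCore 2 G := by
  have T : ∀ a ∈ D, ∀ b ∈ D, ∀ c ∈ D, Commute a b → Commute c b → Commute c a := fun a ha b hb c hc' k1 k2 =>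
    let ⟨_, hd, h1, h2⟩ := hn a ha b hb k1; h.same hp h3 hc ha hb k1 hd h1 h2 hc' k2
  have nn : a * b * (a * b) = 1 := by rw [hab.symm.mul_mul_mul_comm, h.sq ha, h.sq hb, one_mul]
  have ni := inv_eq_of_mul_eq_one_right nn
  have K : ∀ x ∈ D, a * b * x * (a * b) ∈ D ∧ Commute x (a * b * x * (a * b)) := fun x hx => by
    refine ⟨by simpa only [ni] using hc (a * b) x hx, ?_⟩
    by_cases k : Commute x a
    · have := k.mul_right (T b hb a ha x hx hab.symm k)
      exact (this.mul_right (Commute.refl x)).mul_right this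
    · exact h.tri hp h3 hc ha hb hab hx k fun k' => k (T a ha b hb x hx hab k')
  refine mem_core nn fun g => ⟨2, ?_⟩
  have ha' := hc g a ha
  have hb' := hc g b hb
  have c0 := hab.conj g
  rw [← conj_mul]
  generalize g * a * g⁻¹ = x, g * b * g⁻¹ = y at *
  obtain ⟨hx, cx⟩ := K x ha'
  obtain ⟨hy, cy⟩ := K y hb'
  have e : a * b * (x * y) * (a * b * (x * y)) = a * b * x * (a * b) * (a * b * y * (a * b)) * (x * y) := by
    generalize a * b = n at *
    simp only [mul_assoc, cn nn]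
  generalize a * b * x * (a * b) = x', a * b * y * (a * b) = y' at *
  have c1 := T y hb' x ha' x' hx c0.symm cx.symm
  have c2 := T x ha' y hb' y' hy c0 cy.symm
  have c3 := T x' hx x ha' y' hy cx.symm c2
  rw [show 2 ^ 2 = 2 * 2 from rfl, pow_mul, pow_two, pow_two, e,
    ((cx.mul_right c2.symm).mul_left (c1.symm.mul_right cy)).mul_mul_mul_comm, c3.mul_mul_mul_comm,
    c0.symm.mul_mul_mul_comm, h.sq hx, h.sq hy, h.sq ha', h.sq hb']
  simp

theorem main [Finite G] (hsol : ∀ N : Subgroup G, N.Normal → Group.IsSolvable N → N = ⊥) (hinv : ∀ d ∈ D, orderOf d = 2)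
    (hconj : ∃ d ∈ D, D = conjugatesOf d) (hgen : closure D = ⊤) (hx : x ∈ D)
    (hr : ∀ u ∈ D, ∀ v ∈ D, ∀ w ∈ D, u ≠ x → v ≠ x → w ≠ x → (∃ g, Commute g x ∧ g * u * g⁻¹ = v) ∨
      (∃ g, Commute g x ∧ g * u * g⁻¹ = w) ∨ ∃ g, Commute g x ∧ g * v * g⁻¹ = w) : IsThreeTranspositionClass D := by
  have hc : ∀ g, ∀ d ∈ D, g * d * g⁻¹ ∈ D := fun g d hd => by
    obtain ⟨d, -, rfl⟩ := hconj
    exact IsConj.trans hd (isConj_iff.2 ⟨g, rfl⟩)
  have tr : ∀ a ∈ D, ∃ g, g * x * g⁻¹ = a := fun a ha => by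
    obtain ⟨d, -, rfl⟩ := hconj
    exact isConj_iff.1 (IsConj.trans (IsConj.symm hx) ha)
  have sq : ∀ d ∈ D, d * d = 1 := fun d hd => mul_self_of_two (hinv d hd)
  have x1 : x ≠ 1 := fun e => by simpa [e] using hinv x hx
  have := Fact.mk Nat.prime_two
  have h2 : pCore 2 G = ⊥ := hsol _ inferInstance (by
    have := (Core.isPGroup_pCore 2 G).isNilpotent; infer_instance)
  have cj : ∀ {g u}, Commute g x → x * (g * u * g⁻¹) = g * (x * u) * g⁻¹ := fun k => by
    rw [← conj_mul, k.eq, mul_inv_cancel_right]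
  obtain ⟨z, hz, hz2⟩ : ∃ z ∈ D, ∀ k, (x * z) ^ 2 ^ k ≠ 1 := by
    by_contra! k
    exact x1 (mem_bot.1 (h2 ▸ mem_core (sq x hx) fun g => k _ (hc g x hx)))
  obtain ⟨y, hy, hxy, hne⟩ : ∃ y ∈ D, Commute x y ∧ y ≠ x := by
    by_contra! k
    exact x1 (mem_bot.1 (hsol (center G) inferInstance (Group.isSolvable_of_comm fun a b =>
      Subtype.ext (mem_center_iff.1 b.2 a)) ▸ Block.z_star_center (hsol _ inferInstance
      (FT.odd_order_solvable _ (Core.odd_card_oddCore G))) ⟨hinv x hx, fun g e => k _ (hc g x hx) e⟩))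
  have nc : ∀ w ∈ D, Commute x w → (x * w) ^ 2 ^ 1 = 1 := fun w hw k => by
    rw [pow_one, pow_two, k.symm.mul_mul_mul_comm, sq x hx, sq w hw, one_mul]
  have hxz : ¬ Commute x z := fun k => hz2 1 (nc z hz k)
  have cc : ∀ {g u}, Commute g x → Commute x u → Commute x (g * u * g⁻¹) := fun k k' =>
    (k.symm.mul_right k').mul_right k.symm.inv_right
  have cc' : ∀ {g u}, Commute g x → Commute x (g * u * g⁻¹) → Commute x u := fun k k' => by
    simpa [mul_assoc] using cc k.inv_left k'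
  have hzx : z ≠ x := fun e => hxz (e ▸ Commute.refl _)
  have o1 : ∀ w ∈ D, ¬ Commute x w → ∃ g, Commute g x ∧ g * z * g⁻¹ = w := fun w hw k =>
    ((hr y hy z hz w hw hne hzx fun e => k (e ▸ Commute.refl _)).resolve_left
      fun ⟨_, k1, k2⟩ => hxz (k2 ▸ cc k1 hxy)).resolve_left fun ⟨_, k1, k2⟩ => k (k2 ▸ cc k1 hxy)
  have o2 : ∀ w ∈ D, Commute x w → w ≠ x → ∃ g, Commute g x ∧ g * y * g⁻¹ = w := fun w hw k k' =>
    (hr y hy w hw z hz hne k' hzx).resolve_right fun e => e.elim (fun ⟨_, k1, k2⟩ => hxz (k2 ▸ cc k1 hxy))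
      fun ⟨_, k1, k2⟩ => hxz (k2 ▸ cc k1 k)
  obtain ⟨p, hp, hp2, hpz⟩ : ∃ p, p.Prime ∧ p ≠ 2 ∧ (x * z) ^ p = 1 := by
    obtain ⟨i, m, hm, e⟩ := Nat.exists_eq_two_pow_mul_odd (orderOf_pos (x * z)).ne'
    have m1 : m ≠ 1 := fun e' => hz2 i (by rw [← pow_orderOf_eq_one (x * z), e, e', mul_one])
    obtain ⟨p, hp, k, rfl⟩ := Nat.exists_prime_and_dvd m1
    have hp2 : p ≠ 2 := fun e => by simp [e, ← Nat.not_even_iff_odd] at hm
    have := Fact.mk hp
    have e1 : x * ((x * z) ^ (2 ^ i * k) * x * ((x * z) ^ (2 ^ i * k))⁻¹) = ((x * z) ^ (2 ^ i * k * 2))⁻¹ := by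
      have := conj_pow_of_inv (left_inverts (sq x hx) (sq z hz)) (2 ^ i * k)
      rw [inv_eq_of_mul_eq_one_right (sq x hx)] at this
      rw [← mul_assoc, ← mul_assoc, this, pow_mul _ _ 2, pow_two, mul_inv_rev]
    have e2 : (x * z) ^ (2 ^ i * k * 2) ≠ 1 := fun e3 => by
      have := orderOf_dvd_of_pow_eq_one e3
      rw [e, mul_comm p, ← mul_assoc] at this
      exact hp2 ((Nat.prime_dvd_prime_iff_eq hp Nat.prime_two).1 (Nat.dvd_of_mul_dvd_mul_left (by
        have := (Nat.odd_mul.1 hm).2.pos; positivity) this))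
    have e3 : (((x * z) ^ (2 ^ i * k * 2))⁻¹) ^ p = 1 := by
      rw [inv_pow, ← pow_mul, show 2 ^ i * k * 2 * p = 2 ^ i * (p * k) * 2 by ring, ← e, pow_mul, pow_orderOf_eq_one]
      simp
    obtain ⟨g, k1, k2⟩ := o1 _ (hc ((x * z) ^ (2 ^ i * k)) x hx) fun k => e2 (inv_eq_one.1 (eq_one_of_cop
      ((Nat.coprime_primes hp Nat.prime_two).2 hp2) e3 (e1 ▸ nc _ (hc _ x hx) k)))
    rw [← e1, ← k2, cj k1, conj_pow] at e3
    exact ⟨p, hp, hp2, by simpa using e3⟩
  have h : PT p D := ⟨hp.odd_of_ne_two hp2, hinv, fun d hd e _ => hc e d hd, fun a ha b hb => by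
    obtain ⟨g, rfl⟩ := tr a ha
    refine or_iff_not_imp_left.2 fun k => ?_
    obtain ⟨g', k1, k2⟩ := o1 _ (hc g⁻¹ b hb) fun k' => k (by simpa [mul_assoc] using k'.conj g)
    rw [show g * x * g⁻¹ * b = g * (x * (g⁻¹ * b * g⁻¹⁻¹)) * g⁻¹ by group, ← k2, cj k1, conj_pow, conj_pow, hpz]
    simp⟩
  refine ⟨⟨hinv, fun a ha b hb => (h.pair a ha b hb).imp (fun k => by
    rw [pow_two, k.symm.mul_mul_mul_comm, sq a ha, sq b hb, one_mul]) fun k => ?_⟩, hconj, hgen⟩
  by_cases h3 : p = 3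
  · exact h3 ▸ k
  have key : ∀ a ∈ D, ∀ b ∈ D, Commute a b → a ≠ b → ∃ g, g * x * g⁻¹ = a ∧ g * y * g⁻¹ = b := fun a ha b hb k1 k2 => by
    obtain ⟨g, rfl⟩ := tr a ha
    obtain ⟨g', k3, k4⟩ := o2 _ (hc g⁻¹ b hb) (by simpa [mul_assoc] using k1.conj g⁻¹) fun e => k2 (by rw [← e]; group)
    exact ⟨g * g', by rw [mul_assoc g, k3.eq]; group, by
      rw [show g * g' * y * (g * g')⁻¹ = g * (g' * y * g'⁻¹) * g⁻¹ by group, k4]; group⟩
  obtain ⟨d, hd, d1, d2⟩ : ∃ d ∈ D, ¬ Commute d x ∧ ¬ Commute d y := by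
    by_contra! hn
    have eq : ∀ a ∈ D, ∀ b ∈ D, ∀ d ∈ D, ¬ Commute d a → ¬ Commute d b → a = b ∨ ¬ Commute a b := fun a ha b hb d hd k1 k2 =>
      or_iff_not_imp_right.2 fun k => by_contra fun k' => by
        obtain ⟨g, rfl, rfl⟩ := key a ha b hb (not_not.1 k) k'
        exact k2 (by simpa [mul_assoc] using (hn _ (hc g⁻¹ d hd) fun e => k1 (by simpa [mul_assoc] using e.conj g)).conj g)
    have inv : ∀ g ∈ closure D, ∀ w ∈ D, (w = x ∨ ¬ Commute w x) → g * w * g⁻¹ = x ∨ ¬ Commute (g * w * g⁻¹) x := fun g hg => by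
      induction hg using closure_induction'' with
      | mem e he | inv_mem e he =>
        intro w hw k
        simp only [h.ri.inv he]
        by_cases k1 : Commute w e
        · rwa [← k1.eq, mul_assoc, sq e he, mul_one]
        have k2 : ¬ Commute w (e * w * e) := fun k2 => k1 (h.of_conj hw he k2)
        rcases k with rfl | k
        · exact Or.inr fun k3 => k2 k3.symm
        · exact eq _ (h.ri.cj' hw he) x hx w hw k2 k
      | one => simp
      | mul g g' _ _ h1 h2 => exact fun w hw k => by simpa only [mul_assoc, mul_inv_rev] using h1 _ (hc g' w hw) (h2 w hw k)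
    obtain ⟨g, rfl⟩ := tr y hy
    exact (inv g (hgen.ge (mem_top g)) x hx (Or.inl rfl)).elim hne fun k => k hxy.symm
  have := h.core hp h3 hc (fun a ha b hb k => by
    by_cases e : a = b
    · obtain ⟨g, rfl⟩ := tr a ha
      exact ⟨_, hc g d hd, e ▸ ⟨fun k => d1 (Known2.commute_conj_conj_iff.1 k), fun k => d1 (Known2.commute_conj_conj_iff.1 k)⟩⟩
    · obtain ⟨g, rfl, rfl⟩ := key a ha b hb k e
      exact ⟨_, hc g d hd, fun k => d1 (Known2.commute_conj_conj_iff.1 k), fun k => d2 (Known2.commute_conj_conj_iff.1 k)⟩)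
    hx hy hxy
  rw [h2, mem_bot] at this
  exact absurd (by rw [← cn (sq x hx) y, this, mul_one]) hne

end Cfsg.Lib.Layer.PT
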