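/-
Odd transpositions: basic lemmas and classes with transitive commuting relation.
-/
import Cfsg.Agent.Lib.Layer.PTr

set_option autoImplicit false
set_option linter.unusedSectionVars false

universe u

namespace Cfsg.Lib.Layer.OTr

open Subgroup Cfsg.Lib.Invol Cfsg.Lib.RInv Cfsg.Lib.BS Relation

variable {G : Type u} [Group G] {D : Set G} {a b c d e m r r' s s' t u x y z : G} {k k' : ℕ}

/-- odd transpositions -/
structure OT (D : Set G) : Prop where
  two : ∀ d ∈ D, orderOf d = 2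
  cj : ∀ d ∈ D, ∀ e ∈ D, e * d * e⁻¹ ∈ D
  pair : ∀ a ∈ D, ∀ b ∈ D, Commute a b ∨ Odd (orderOf (a * b))

theorem ot (h : IsOddTranspositionSet D) : OT D :=
  ⟨h.1.1, fun d hd e _ => h.1.3 d hd e, fun a ha b hb => (h.1.4 a ha b hb).imp id fun k =>
    k.resolve_right fun k => h.2 a ha b hb k.1⟩

namespace OT

variable (h : OT D)
include h

theorem ri : RI D := ⟨h.two, h.cj, fun a ha b hb => (h.pair a ha b hb).imp id Or.inl⟩

theorem sq (hd : d ∈ D) : d * d = 1 := h.ri.sq hd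

theorem inv (hd : d ∈ D) : d⁻¹ = d := h.ri.inv hd

theorem cj' (hd : d ∈ D) (he : e ∈ D) : e * d * e ∈ D := h.ri.cj' hd he

theorem mono {E : Set G} (hE : E ⊆ D) (hc : ∀ d ∈ E, ∀ e ∈ E, e * d * e⁻¹ ∈ E) : OT E :=
  ⟨fun d hd => h.two d (hE hd), hc, fun a ha b hb => h.pair a (hE ha) b (hE hb)⟩

theorem image {H : Type*} [Group H] (φ : G →* H) (h1 : ∀ d ∈ D, φ d ≠ 1) : OT (φ '' D) :=
  ⟨(h.ri.image φ h1).two, (h.ri.image φ h1).cj, by
    rintro _ ⟨a, ha, rfl⟩ _ ⟨b, hb, rfl⟩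
    exact (h.pair a ha b hb).imp (·.map φ) fun k => by rw [← map_mul]; exact k.of_dvd_nat (orderOf_map_dvd φ _)⟩

theorem preimage (H : Subgroup G) : OT (H.subtype ⁻¹' D) :=
  ⟨(h.ri.preimage H).two, (h.ri.preimage H).cj, fun a ha b hb =>
    (h.pair _ ha _ hb).imp (fun k => Subtype.ext k.eq) fun k => orderOf_coe (a * b) ▸ k⟩

theorem od (hx : x ∈ D) (hy : y ∈ D) (hn : ¬ Commute x y) : Od x y :=
  ⟨fun e => hn (e ▸ Commute.refl x), (h.pair x hx y hy).resolve_left hn⟩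

theorem od_iff (hx : x ∈ D) (hy : y ∈ D) : Od x y ↔ ¬ Commute x y := ⟨fun k => h.ri.nc k hx hy, h.od hx hy⟩

theorem of_pow (hx : x ∈ D) (hy : y ∈ D) (h4 : (x * y) ^ 2 ^ k = 1) : Commute x y :=
  by_contra fun hn => h.ri.not_od_of_pow hx h4 (h.od hx hy hn)

theorem of_conj (hx : x ∈ D) (hy : y ∈ D) (hc : Commute x (y * x * y)) : Commute x y := h.of_pow (k := 2) hx hy (by
  rw [show (x * y) ^ 2 ^ 2 = x * (y * x * y) * (x * (y * x * y)) by simp [pow_succ, mul_assoc],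
    hc.symm.mul_mul_mul_comm, h.sq hx, h.sq (h.cj' hx hy), one_mul])

theorem sq2 (ha : a ∈ D) (hb : b ∈ D) (hab : Commute a b) : a * b * (a * b) = 1 := by
  rw [hab.symm.mul_mul_mul_comm, h.sq ha, h.sq hb, one_mul]

theorem cent (ha : a ∈ D) (hb : b ∈ D) (hab : Commute a b) (hne : a ≠ b) (he : e ∈ D) (hc : Commute e (a * b)) :
    Commute e a := by
  by_contra hn
  have h2 : ¬ Commute e b := fun k => hn (by simpa [mul_assoc, h.sq hb] using hc.mul_right k)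
  have := eq_one_of_odd_odd (h.sq2 ha hb hab) (hc.mul_left ((Commute.refl a).mul_right hab)) (h.od he ha hn).2
    (by rw [mul_assoc, cn (h.sq ha)]; exact (h.od he hb h2).2)
  exact hne (by rw [← cn (h.sq ha) b, this, mul_one])

theorem of_pair (ha : a ∈ D) (hd : d ∈ D) (hn : ¬ Commute a d) (h1 : Commute b a) (h2 : Commute b (d * a * d)) :
    Commute b d := by
  obtain ⟨m, hm⟩ := exists_sqrt (h.od ha hd hn).2
  have h3 : Commute b (a * d) := by
    rw [← hm, ← (Commute.refl _).mul_pow]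
    exact (by simpa only [mul_assoc] using h1.mul_right h2 : Commute b (a * d * (a * d))).pow_right m
  simpa only [cn (h.sq ha)] using h1.mul_right h3

theorem mid_inj (hm : m ∈ D) (hx : x ∈ D) (hd : d ∈ D) (hn : ¬ Commute d m) (hc : Commute (m * x) d) : m = x := by
  by_contra hne
  refine hn (h.cent hm hx ?_ hne hd hc.symm)
  have h1 : d * m * (m * x) * (d * m)⁻¹ = (m * x)⁻¹ := by
    rw [mul_inv_rev, mul_assoc d, mul_assoc d, ← mul_assoc (m * (m * x)), left_inverts (h.sq hm) (h.sq hx),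
      hc.inv_left.inv_right, mul_inv_cancel_left]
  have h2 : d * m ∈ centralizer ({m * x} : Set G) := mem_of_odd_of_mul_self_mem (h.od hd hm hn).2
    (mem_centralizer_singleton_iff.2 (by
      rw [← mul_inv_eq_iff_eq_mul, show d * m * (d * m) * (m * x) * (d * m * (d * m))⁻¹ =
        d * m * (d * m * (m * x) * (d * m)⁻¹) * (d * m)⁻¹ by group, h1, show d * m * (m * x)⁻¹ * (d * m)⁻¹ =
        (d * m * (m * x) * (d * m)⁻¹)⁻¹ by group, h1, inv_inv]))
  rw [mem_centralizer_singleton_iff.1 h2, mul_inv_cancel_right, mul_inv_rev, h.inv hm, h.inv hx] at h1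
  exact h1

theorem sw (ha : a ∈ D) (hab : Commute a b) : Commute (a * x * a) (b * x * b) ↔ Commute x (a * b * x * (a * b)) := by
  rw [← Known2.commute_conj_conj_iff (g := a), h.inv ha, hab.eq]
  simp only [mul_assoc, cn (h.sq ha), h.sq ha, mul_one]
  rw [← mul_assoc a b, hab.eq, mul_assoc]

theorem dich (ha : a ∈ D) (hb : b ∈ D) (hab : Commute a b) (hx : x ∈ D) (hn : ¬ Commute (a * x * a) (b * x * b)) :
    ∃ z, z * z = 1 ∧ Commute z x ∧ Commute z a ∧ Commute z b ∧ z * (a * b) ∈ D := by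
  have hne : a ≠ b := fun e => hn (e ▸ Commute.refl _)
  rw [h.sw ha hab] at hn
  have hj := h.sq2 ha hb hab
  have hd := h.sq hx
  have hj' : a * b ∈ closure D := mul_mem (subset_closure ha) (subset_closure hb)
  obtain ⟨m, hm⟩ := (h.od hx (by simpa only [inv_eq_of_mul_eq_one_right hj] using h.ri.cjc hj' hx) hn).2
  have key : ∀ j ∈ closure D, j * j = 1 → orderOf (x * (j * x * j)) = 2 * m + 1 →
      ∃ z, z * z = 1 ∧ Commute z x ∧ Commute z j ∧ z * j ∈ D := fun j hj' hj hm => by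
    have h1 : (x * j) ^ (2 * m + 1) * (x * j) ^ (2 * m + 1) = 1 := by
      rw [← (Commute.refl _).mul_pow, ← hm, mul_assoc, ← mul_assoc j]; exact pow_orderOf_eq_one _
    refine ⟨_, h1, commute_of_inverts (conj_pow_of_inv (left_inverts hd hj) _) h1,
      commute_of_inverts (conj_pow_of_inv (right_inverts hd hj) _) h1, ?_⟩
    convert h.ri.cjc (pow_mem (mul_mem (subset_closure hx) hj') m) hx using 1
    rw [← conj_pow_of_inv (left_inverts hd hj) m, inv_eq_of_mul_eq_one_right hd, pow_succ, two_mul, pow_add]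
    simp only [mul_assoc, cn hd, hj, mul_one]
  obtain ⟨z, e4, e2, e3, hf⟩ := key _ hj' hj hm
  have f1 : Commute (z * (a * b)) (a * b) := e3.mul_left (Commute.refl _)
  have f2 := h.cent ha hb hab hne hf f1
  have f3 := h.cent hb ha hab.symm hne.symm hf (hab.eq ▸ f1)
  exact ⟨z, e4, e2, by simpa only [mul_assoc z, hj, mul_one] using f2.mul_left ((Commute.refl a).mul_left hab.symm),
    by simpa only [mul_assoc z, hj, mul_one] using f3.mul_left (hab.mul_left (Commute.refl b)), hf⟩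

theorem same (ha : a ∈ D) (hb : b ∈ D) (hab : a * b ∈ D) (hy : y ∈ D) (k : Commute y a) : Commute y b :=
  h.cent hb hab ((show Commute b a from (h.ri.pc ha hb hab).symm).mul_right (Commute.refl b))
    (fun e => h.ri.ne ha (by simpa using e)) hy (by
      rwa [← mul_assoc, ← h.ri.pc ha hb hab, mul_assoc, h.sq hb, mul_one])

theorem same' (ha : a ∈ D) (hb : b ∈ D) (hab : a * b ∈ D) (hy : y ∈ D) (k : Commute y b) : Commute y a :=
  h.same hb ha (h.ri.pc ha hb hab ▸ hab) hy k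

theorem same'' (ha : a ∈ D) (hb : b ∈ D) (hab : a * b ∈ D) (hy : y ∈ D) (k : Commute y (a * b)) : Commute y a :=
  h.cent ha hb (h.ri.pc ha hb hab) (fun e => h.ri.ne hab (by rw [e, h.sq hb])) hy k

theorem b1 (all : ∀ s, orderOf s = 2 → s ∈ D) (hx : x ∈ D) (hy : y ∈ D) (hxy : Commute x y) (hu : u ∈ D)
    (hn : ¬ Commute u x) (hc : Commute (x * u * x) (y * u * y)) : x = y := by
  by_contra hne
  exact hn (h.cent hx hy hxy hne hu (h.of_conj hu (all _ (two_of_mul_self (h.sq2 hx hy hxy) fun e =>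
    hne (by rw [← cn (h.sq hx) y, e, mul_one]))) ((h.sw hx hxy).1 hc)))

end OT

/-- odd transpositions with a four-group and transitive commuting relation -/
structure BC (D : Set G) : Prop extends OT D where
  four : ∃ a ∈ D, ∃ b ∈ D, a * b ∈ D
  tr : ∀ a ∈ D, ∀ b ∈ D, ∀ c ∈ D, Commute a b → Commute b c → Commute a c

theorem BC.pre (h : BC D) : BC ((closure D).subtype ⁻¹' D) :=
  ⟨h.toOT.preimage _, let ⟨a, ha, b, hb, k⟩ := h.four; ⟨⟨a, subset_closure ha⟩, ha, ⟨b, subset_closure hb⟩, hb, k⟩,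
    fun _ ha _ hb _ hc h1 h2 => Subtype.ext (h.tr _ ha _ hb _ hc (h1.map (closure D).subtype) (h2.map (closure D).subtype)).eq⟩

/-- the quotient map -/
abbrev qm (G : Type u) [Group G] : G →* G ⧸ twoZCore G := QuotientGroup.mk' (twoZCore G)

namespace BC

variable [Finite G] (h : BC D)
include h

section top

variable (hG : closure D = ⊤)
include hG

theorem pack (he : e ∈ D) (ht : t ∈ D) (hn : ¬ Commute e t) : IsSimpleGroup (G ⧸ twoZCore G) ∧ OT (qm G '' D) ∧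
    (∀ x ∈ D, ∀ y ∈ D, Commute (qm G x) (qm G y) → Commute x y) ∧ (∀ s, orderOf s = 2 → s ∈ qm G '' D) ∧
    ∃ H Q, RO H Q (qm G t) ∧ R2 (⊤ : Subgroup (G ⧸ twoZCore G)) ∧ qm G e ∈ H := by
  have nr : ∀ y, ReflTransGen (NO D) e y → Commute e y := fun y k => by
    induction k with
    | refl => rfl
    | tail _ k ih => exact h.tr _ he _ k.1 _ k.2.1 ih (by_contra fun e => k.2.2 (h.od k.1 k.2.1 e))
  obtain ⟨_, h5, H, hH⟩ := h.ri.exists_se PT.hA hG h.four he ht fun k => hn (nr t k)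
  have h' := h.toOT.image (qm G) fun d hd k => h5 d hd ((QuotientGroup.eq_one_iff d).1 k)
  have h1 : ∀ x ∈ D, ∀ y ∈ D, Commute (qm G x) (qm G y) → Commute x y := fun x hx y hy k => by_contra fun k' =>
    h'.ri.nc (h.ri.od_quot hx hy (h.od hx hy k')) ⟨x, hx, rfl⟩ ⟨y, hy, rfl⟩ k
  have e2 := h'.two _ ⟨e, he, rfl⟩
  refine ⟨‹_›, h', h1, fun s hs => ?_, ?_⟩
  · obtain ⟨g, rfl⟩ := isConj_iff.1 (se_isConj hH e2 hs)
    obtain ⟨g, rfl⟩ := QuotientGroup.mk_surjective g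
    exact ⟨_, h.ri.cjc (hG.ge (mem_top g)) he, rfl⟩
  obtain ⟨s, hs, s2⟩ := se_exists_two hH
  obtain ⟨g, hg⟩ := isConj_iff.1 (se_isConj hH s2 e2)
  have hH' := se_conj hH g
  have m : qm G e ∈ H.map (MulAut.conj g).toMonoidHom := ⟨s, hs, hg⟩
  obtain ⟨Q, t₀, R, -, h2⟩ := bro.simple hH'
  have t2 := h'.two _ ⟨t, ht, rfl⟩
  exact ⟨_, Q, RO.of_regular hH' R.le R.norm (fun _ _ => R.two_trans') (fun g hg u hu k =>
    R.eq_one_of_conj_mem (g := g⁻¹) (fun k => hg (inv_mem_iff.1 k)) hu (by simpa [mul_assoc] using k))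
    (fun k => hn (h1 e he t ht (R.commute_twos h2 e2 m (mul_self_of_two t2) k))) t2, h2, m⟩

theorem b2' (he : e ∈ D) (ht : t ∈ D) (hn : ¬ Commute e t) : ∃ s ∈ D, ∃ r, ∃ k : ℕ, Commute s e ∧ r ^ 2 ^ k = 1 ∧
    Commute (r * s * r⁻¹) s ∧ Commute (t * s * t) (r⁻¹ * t * r) ∧
    Commute (t * s * t * s * (t * s * t)) (r⁻¹ * t * r * s * (r⁻¹ * t * r)) := by
  obtain ⟨_, h', h1, all, H, Q, R, h2, m⟩ := h.pack hG he ht hn
  obtain ⟨s, w, hs⟩ := R.exists_SE
  obtain ⟨s, hs', rfl⟩ := all s hs.two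
  obtain ⟨r, rfl⟩ := QuotientGroup.mk'_surjective _ w
  obtain ⟨i, n, hn, eo⟩ := Nat.exists_eq_two_pow_mul_odd (orderOf_pos r).ne'
  have e1 : qm G (r ^ (n * n)) = qm G r := by
    obtain ⟨j, rfl⟩ := hn
    rw [map_pow, show (2 * j + 1) * (2 * j + 1) = 4 * (j * j + j) + 1 by ring, pow_succ, pow_mul,
      show qm G r ^ 4 = 1 by simpa [pow_succ, mul_assoc] using (R.good' h2).four _ hs.rQ, one_pow, one_mul]
  have cj : ∀ g, ∀ d ∈ D, g * d * g⁻¹ ∈ D := fun g d => h.ri.cjc (hG.ge (mem_top g))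
  have m1 := h.cj' hs' ht
  have m2 : (r ^ (n * n))⁻¹ * t * r ^ (n * n) ∈ D := by simpa using cj (r ^ (n * n))⁻¹ t ht
  have e2 : qm G (t * s * t) = qm G ((r ^ (n * n))⁻¹ * t * r ^ (n * n)) := by
    simp only [map_mul, map_inv, e1]; exact hs.eq
  refine ⟨s, hs', r ^ (n * n), i, h1 s hs' e he (R.commute_twos h2 hs.two hs.mem (h'.sq ⟨e, he, rfl⟩) m), by
    rw [← pow_mul, show n * n * 2 ^ i = 2 ^ i * n * n by ring, ← eo, pow_mul, pow_orderOf_eq_one, one_pow],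
    h1 _ (cj _ s hs') s hs' ?_, h1 _ m1 _ m2 (e2 ▸ Commute.refl _), h1 _ (h.cj' hs' m1) _ (h.cj' hs' m2) ?_⟩
  · rw [map_mul, map_mul, map_inv, e1, ← (R.commute_two h2 hs.two hs.mem hs.rQ).eq, mul_inv_cancel_right]
  · rw [map_mul _ _ (t * s * t), map_mul _ (t * s * t), e2, ← map_mul, ← map_mul]

theorem b3' (ht : t ∈ D) (hs : s ∈ D) (hs' : s' ∈ D) (hc : Commute s s') (hn : ¬ Commute s t) (hr : r ^ 2 ^ k = 1)
    (hr' : r' ^ 2 ^ k' = 1) (h1 : Commute (r * s * r⁻¹) s) (h1' : Commute (r' * s' * r'⁻¹) s')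
    (h2 : Commute (t * s * t) (r⁻¹ * t * r)) (h2' : Commute (t * s' * t) (r'⁻¹ * t * r'))
    (h3 : Commute (t * s * t * s * (t * s * t)) (r⁻¹ * t * r * s * (r⁻¹ * t * r)))
    (h3' : Commute (t * s' * t * s' * (t * s' * t)) (r'⁻¹ * t * r' * s' * (r'⁻¹ * t * r'))) :
    Commute (s * t * s) (s' * t * s') := by
  obtain ⟨_, h', k1, all, H, Q, R, k2, m⟩ := h.pack hG hs ht hn
  have cj : ∀ g, ∀ d ∈ D, g * d * g⁻¹ ∈ D := fun g d => h.ri.cjc (hG.ge (mem_top g))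
  have key : ∀ s ∈ D, ∀ r k, qm G s ∈ H → ¬ Commute s t → r ^ 2 ^ k = 1 → Commute (r * s * r⁻¹) s →
      Commute (t * s * t) (r⁻¹ * t * r) → Commute (t * s * t * s * (t * s * t)) (r⁻¹ * t * r * s * (r⁻¹ * t * r)) →
      SE H Q (qm G t) (qm G s) (qm G r) := fun s hs r k m hn hr h1 h2 h3 => by
    have s2 := h'.two _ ⟨s, hs, rfl⟩
    have m2 : r⁻¹ * t * r ∈ D := by simpa using cj r⁻¹ t ht
    refine ⟨s2, m, R.mem_Q_of_pow (se_mem R.se s2 m (se_mem_of_commute R.se s2 m (by simpa using h1.map (qm G))))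
      (k := k) (by rw [← map_pow, hr, map_one]; exact one_mem _), ?_⟩
    simpa using h'.b1 all ⟨_, h.cj' hs ht, rfl⟩ ⟨_, m2, rfl⟩ (h2.map _) ⟨s, hs, rfl⟩
      (fun k => hn (h.of_conj hs ht (k1 _ hs _ (h.cj' hs ht) k))) (by simpa only [map_mul] using h3.map (qm G))
  have := (R.SE_unique (key s hs r k m hn hr h1 h2 h3) (key s' hs' r' k' (se_mem_of_commute R.se (h'.two _ ⟨s, hs, rfl⟩) m
    (hc.symm.map _)) (fun e => hn (h.tr _ hs _ hs' _ ht hc e)) hr' h1' h2' h3')).1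
  exact k1 _ (h.cj' ht hs) _ (h.cj' ht hs') (by simp only [map_mul, this]; rfl)

theorem b4' (ha : a ∈ D) (hb : b ∈ D) (hd : d ∈ D) (hab : Commute a b) (hn : ¬ Commute d a)
    (hc : Commute (a * d * a) (b * d * b)) : ∃ m ∈ D, Commute m d ∧ m * (d * b * d) * m = a := by
  obtain ⟨_, h', k1, all, -⟩ := h.pack hG hd ha hn
  have e := h'.b1 all ⟨a, ha, rfl⟩ ⟨b, hb, rfl⟩ (hab.map _) ⟨d, hd, rfl⟩ (fun k => hn (k1 _ hd _ ha k))
    (by simpa only [map_mul] using hc.map (qm G))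
  have n1 : ¬ Commute b d := fun k => hn (h.tr _ ha _ hb _ hd hab k).symm
  obtain ⟨g, -, hm, e1⟩ := h.ri.mid (h.cj' hb hd) ha (h.od (h.cj' hb hd) ha fun k =>
    n1 (h.of_conj hb hd (h.tr _ (h.cj' hb hd) _ ha _ hb k hab).symm))
  generalize g * (d * b * d) * g⁻¹ = m at hm e1
  refine ⟨m, hm, k1 _ hm _ hd ?_, e1⟩
  rw [h'.mid_inj ⟨d, hd, rfl⟩ ⟨m, hm, rfl⟩ ⟨b, hb, rfl⟩ (fun k => n1 (k1 _ hb _ hd k)) (by
    have := congrArg (qm G) e1
    rw [e] at this
    rw [Commute, SemiconjBy]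
    conv_lhs => rw [← this]
    simp only [map_mul, mul_assoc, cn (h'.sq ⟨d, hd, rfl⟩), cn (h'.sq ⟨m, hm, rfl⟩)])]

end top

theorem b2 (he : e ∈ D) (ht : t ∈ D) (hn : ¬ Commute e t) : ∃ s ∈ D, ∃ r ∈ closure D, ∃ k : ℕ, Commute s e ∧ r ^ 2 ^ k = 1 ∧
    Commute (r * s * r⁻¹) s ∧ Commute (t * s * t) (r⁻¹ * t * r) ∧
    Commute (t * s * t * s * (t * s * t)) (r⁻¹ * t * r * s * (r⁻¹ * t * r)) := by
  obtain ⟨s, hs, r, k, h1, h2, h3, h4, h5⟩ := h.pre.b2' closure_closure_coe_preimage (e := ⟨e, subset_closure he⟩)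
    (t := ⟨t, subset_closure ht⟩) he ht fun k => hn (by exact k.map (closure D).subtype)
  exact ⟨s, hs, r, r.2, k, h1.map (closure D).subtype, congrArg Subtype.val h2, h3.map (closure D).subtype,
    h4.map (closure D).subtype, h5.map (closure D).subtype⟩

theorem b3 (ht : t ∈ D) (hs : s ∈ D) (hs' : s' ∈ D) (hc : Commute s s') (hn : ¬ Commute s t) (m : r ∈ closure D)
    (m' : r' ∈ closure D) (hr : r ^ 2 ^ k = 1)
    (hr' : r' ^ 2 ^ k' = 1) (h1 : Commute (r * s * r⁻¹) s) (h1' : Commute (r' * s' * r'⁻¹) s')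
    (h2 : Commute (t * s * t) (r⁻¹ * t * r)) (h2' : Commute (t * s' * t) (r'⁻¹ * t * r'))
    (h3 : Commute (t * s * t * s * (t * s * t)) (r⁻¹ * t * r * s * (r⁻¹ * t * r)))
    (h3' : Commute (t * s' * t * s' * (t * s' * t)) (r'⁻¹ * t * r' * s' * (r'⁻¹ * t * r'))) :
    Commute (s * t * s) (s' * t * s') :=
  (h.pre.b3' closure_closure_coe_preimage (t := ⟨t, subset_closure ht⟩) (s := ⟨s, subset_closure hs⟩)
    (s' := ⟨s', subset_closure hs'⟩) (r := ⟨r, m⟩) (r' := ⟨r', m'⟩) ht hs hs' (Subtype.ext hc.eq)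
    (fun k => hn (by exact k.map (closure D).subtype)) (Subtype.ext hr) (Subtype.ext hr') (Subtype.ext h1.eq) (Subtype.ext h1'.eq)
    (Subtype.ext h2.eq) (Subtype.ext h2'.eq) (Subtype.ext h3.eq) (Subtype.ext h3'.eq)).map (closure D).subtype

theorem b4 (ha : a ∈ D) (hb : b ∈ D) (hd : d ∈ D) (hab : Commute a b) (hn : ¬ Commute d a)
    (hc : Commute (a * d * a) (b * d * b)) : ∃ m ∈ D, Commute m d ∧ m * (d * b * d) * m = a := by
  obtain ⟨m, hm, h1, h2⟩ := h.pre.b4' closure_closure_coe_preimage (a := ⟨a, subset_closure ha⟩)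
    (b := ⟨b, subset_closure hb⟩) (d := ⟨d, subset_closure hd⟩) ha hb hd (Subtype.ext hab.eq)
    (fun k => hn (by exact k.map (closure D).subtype)) (Subtype.ext hc.eq)
  exact ⟨m, hm, h1.map (closure D).subtype, congrArg Subtype.val h2⟩

end BC

end Cfsg.Lib.Layer.OTr
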