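/-
Odd transpositions: connected commuting graph has diameter two.
-/
import Cfsg.Agent.Lib.Layer.OTa

set_option autoImplicit false
set_option linter.unusedSectionVars false

universe u

namespace Cfsg.Lib.Layer.OTr

open Subgroup Cfsg.Lib.Invol Cfsg.Lib.RInv Cfsg.Lib.BS Relation

variable {G : Type u} [Group G] {D S T : Set G} {a b c d e f g m r s t u x y z : G}

/-- the class of `d` in `⟨S⟩` -/
def Kl (S : Set G) (d : G) : Set G := {u | ∃ g ∈ closure S, g * d * g⁻¹ = u}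

theorem Kl.self : d ∈ Kl S d := ⟨1, one_mem _, by simp⟩

theorem Kl.mono (h : S ⊆ T) : Kl S d ⊆ Kl T d := fun _ ⟨g, hg, e⟩ => ⟨g, closure_mono h hg, e⟩

theorem Kl.cj (hg : g ∈ closure S) (hu : u ∈ Kl S d) : g * u * g⁻¹ ∈ Kl S d :=
  let ⟨k, hk, e⟩ := hu; ⟨g * k, mul_mem hg hk, by rw [← e]; group⟩

theorem Kl.le (hd : d ∈ S) : Kl S d ⊆ closure S := by
  rintro _ ⟨g, hg, rfl⟩
  exact mul_mem (mul_mem hg (subset_closure hd)) (inv_mem hg)

/-- generating data -/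
structure Gen (D S : Set G) (d : G) : Prop extends OT D where
  sub : S ⊆ D
  mem : d ∈ S
  adj : ∀ s ∈ S, s = d ∨ ¬ Commute s d
  ex : ∃ s ∈ S, ¬ Commute s d

namespace Gen

variable (h : Gen D S d)
include h

theorem kD : Kl S d ⊆ D := by
  rintro _ ⟨g, hg, rfl⟩
  exact h.ri.cjc (closure_mono h.sub hg) (h.sub h.mem)

theorem sk : S ⊆ Kl S d := fun s hs => (h.adj s hs).elim (fun e => e ▸ Kl.self) fun k => by
  obtain ⟨g, hg, -, e⟩ := h.ri.mid (h.sub h.mem) (h.sub hs) (h.od (h.sub h.mem) (h.sub hs) fun k' => k k'.symm)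
  have m : g * d * g⁻¹ ∈ closure S := Kl.le h.mem ⟨g, closure_mono (by simp [Set.insert_subset_iff, h.mem, hs]) hg, rfl⟩
  exact ⟨_, m, by rwa [h.inv (h.ri.cjc (closure_mono (by simp [Set.insert_subset_iff, h.sub h.mem, h.sub hs]) hg) (h.sub h.mem))]⟩

theorem cl_eq : closure (Kl S d) = closure S := le_antisymm ((closure_le _).2 (Kl.le h.mem)) (closure_mono h.sk)

theorem ot : OT (Kl S d) := h.toOT.mono h.kD fun _ hu _ he => Kl.cj (Kl.le h.mem he) hu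

theorem cl : CL (Kl S d) := by
  obtain ⟨s, hs, k⟩ := h.ex
  refine h.ot.ri.cl_of_cls ?_ (h.sk hs) Kl.self (h.od (h.sub hs) (h.sub h.mem) k)
  rintro _ ⟨g, hg, rfl⟩ _ ⟨g', hg', rfl⟩
  exact ⟨g' * g⁻¹, h.cl_eq.ge (mul_mem hg' (inv_mem hg)), by group⟩

end Gen

theorem cl_image {H : Type*} [Group H] (hD : CL D) (φ : G →* H) (h1 : ∀ d ∈ D, φ d ≠ 1)
    (h2 : ∀ x ∈ D, ∀ y ∈ D, Od x y → φ x ≠ φ y) : CL (φ '' D) := by
  refine ⟨hD.toRI.image φ h1, ?_, ?_⟩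
  · rintro _ ⟨a, ha, rfl⟩ _ ⟨b, hb, rfl⟩
    obtain ⟨g, hg, rfl⟩ := hD.cls a ha b hb
    exact ⟨φ g, MonoidHom.map_closure φ D ▸ mem_map_of_mem φ hg, by simp⟩
  · rintro _ ⟨a, ha, rfl⟩
    obtain ⟨x, hx, k⟩ := hD.ni a ha
    exact ⟨_, ⟨x, hx, rfl⟩, k.map φ (h2 a ha x hx k)⟩

theorem cl_preimage (hD : CL D) {H : Subgroup G} (h1 : D ⊆ H) : CL (H.subtype ⁻¹' D) := by
  refine ⟨hD.toRI.preimage H, fun a ha b hb => ?_, fun a ha => ?_⟩
  · obtain ⟨g, hg, e⟩ := hD.cls _ ha _ hb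
    refine ⟨⟨g, (closure_le H).2 h1 hg⟩, ?_, Subtype.ext e⟩
    rw [← (Set.image_preimage_eq_of_subset (f := H.subtype) (by simpa using h1) : _ = D), ← MonoidHom.map_closure] at hg
    obtain ⟨k, hk, rfl⟩ := hg
    exact hk
  · obtain ⟨x, hx, k⟩ := hD.ni _ ha
    exact ⟨⟨x, h1 hx⟩, hx, od_coe.1 k⟩

/-- the set `E_d` -/
abbrev E (D : Set G) (d : G) : Set G := sameCommutingClass D d

theorem E.iff : e ∈ E D d ↔ e ∈ D ∧ ∀ y ∈ D, Commute y d ↔ Commute y e := same_iff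
theorem E.mem (h : e ∈ E D d) : e ∈ D := h.1
theorem E.of (h : e ∈ E D d) (hy : y ∈ D) (k : Commute y d) : Commute y e := ((E.iff.1 h).2 y hy).1 k
theorem E.of' (h : e ∈ E D d) (hy : y ∈ D) (k : Commute y e) : Commute y d := ((E.iff.1 h).2 y hy).2 k
theorem E.self (hd : d ∈ D) : d ∈ E D d := ⟨hd, rfl⟩
theorem E.comm (h : e ∈ E D d) (h' : f ∈ E D d) : Commute e f := E.of h' h.1 (E.of' h h.1 (Commute.refl _))
theorem E.eq (h : e ∈ E D d) : E D e = E D d := by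
  ext u; simp only [sameCommutingClass, Set.mem_ofPred_eq, h.2]

theorem cent_closure (h : ∀ s ∈ S, Commute z s) (hg : g ∈ closure S) : Commute z g := by
  induction hg using closure_induction with
  | mem s hs => exact h s hs
  | one => exact Commute.one_right z
  | mul _ _ _ _ h1 h2 => exact h1.mul_right h2
  | inv _ _ h1 => exact h1.inv_right

theorem OT.prodE (h : OT D) (ha : a ∈ D) (hb : b ∈ D) (hab : a * b ∈ D) : b ∈ E D a ∧ a * b ∈ E D a :=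
  ⟨E.iff.2 ⟨hb, fun _ hy => ⟨h.same ha hb hab hy, h.same' ha hb hab hy⟩⟩,
    E.iff.2 ⟨hab, fun _ hy => ⟨fun k => k.mul_right (h.same ha hb hab hy k), h.same'' ha hb hab hy⟩⟩⟩

theorem OT.dichE (h : OT D) (ha : a ∈ D) (hb : b ∈ D) (hab : Commute a b) (hx : x ∈ D)
    (hn : ¬ Commute (a * x * a) (b * x * b)) :
    ∃ z, z * z = 1 ∧ Commute z x ∧ z * (a * b) ∈ D ∧ (∀ e ∈ E D a, Commute z e) ∧ ∀ e ∈ E D b, Commute z e := by
  obtain ⟨z, h1, h2, h3, h4, h5⟩ := h.dich ha hb hab hx hn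
  have e : z = z * (a * b) * (a * b) := by rw [mul_assoc, h.sq2 ha hb hab, mul_one]
  refine ⟨z, h1, h2, h5, fun f hf => ?_, fun f hf => ?_⟩ <;> rw [e]
  · exact (E.of hf h5 (h3.mul_left ((Commute.refl a).mul_left hab.symm))).mul_left
      ((E.of hf ha (Commute.refl a)).mul_left (E.of hf hb hab.symm))
  · exact (E.of hf h5 (h4.mul_left (hab.mul_left (Commute.refl b)))).mul_left
      ((E.of hf ha hab).mul_left (E.of hf hb (Commute.refl b)))

theorem OT.zed (h : OT D) (hc : c ∈ D) (hb : b ∈ D) (hcb : c * b ∈ D) (ha : a ∈ D) (hca : Commute c a) (hd : d ∈ D)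
    (hn : ¬ Commute d c) : ∃ c1 ∈ E D c, ∃ z, z * z = 1 ∧ Commute z d ∧ z * (c1 * a) ∈ D ∧ (∀ e ∈ E D c, Commute z e) ∧
      ∀ e ∈ E D a, Commute z e := by
  obtain ⟨k1, k2⟩ := h.prodE hc hb hcb
  by_cases h1 : Commute (c * d * c) (a * d * a)
  · by_cases h2 : Commute (b * d * b) (a * d * a)
    · have hab := E.of k1 ha hca.symm
      have n1 : ¬ Commute d (c * b) := fun k => hn (E.of' k2 hd k)
      have e1 : c * b = b * c := (E.comm (E.self hc) k1).eq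
      have := h.of_pair (b := c * (a * d * a) * c) hd hcb n1
        (by simpa only [mul_assoc, h.inv hc, cn (h.sq hc), h.sq hc, mul_one] using (h1.symm.conj c))
        (by nth_rw 2 [e1]; simpa only [mul_assoc, h.inv hc] using (h2.symm.conj c))
      have k3 := (this.conj c).conj a
      rw [(E.of k2 hc (Commute.refl c)).eq, mul_inv_cancel_right, (E.of k2 ha hca.symm).eq, mul_inv_cancel_right] at k3
      exact (n1 (by simpa only [mul_assoc, h.inv hc, h.inv ha, cn (h.sq hc), cn (h.sq ha), h.sq hc, h.sq ha, mul_one] using k3)).elim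
    · obtain ⟨z, e1, e2, e3, e4, e5⟩ := h.dichE hb ha (E.of k1 ha hca.symm).symm hd h2
      exact ⟨b, k1, z, e1, e2, e3, E.eq k1 ▸ e4, e5⟩
  · exact ⟨c, E.self hc, h.dichE hc ha hca hd h1⟩

/-- a class of odd transpositions with a four-group -/
structure OC (D : Set G) : Prop extends OT D where
  cl : CL D
  four : ∃ a ∈ D, ∃ b ∈ D, a * b ∈ D

theorem OT.memE [Finite G] (h : OT D) (hD : CL D) (ha : a ∈ D) (he : e ∈ D) (k : ∀ y ∈ D, Commute y a → Commute y e) :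
    e ∈ E D a :=
  E.iff.2 ⟨he, fun y hy => ⟨k y hy, fun k' => by_contra fun n => (h.od_iff he hy).1 (hD.sub_symm he ha (fun x hx o =>
    h.od ha hx fun k' => (h.od_iff he hx).1 o (k x hx k'.symm).symm) hy (h.od ha hy fun k => n k.symm)) k'.symm⟩⟩

theorem OC.P [Finite G] (h : OC D) (ha : a ∈ D) (hd : d ∈ D) (hn : ¬ Commute d a) (he : e ∈ D)
    (h1 : e ∈ closure (E D a ∪ {d})) (h2 : Commute e a) : e ∈ E D a := by
  refine h.memE h.cl ha he fun c hc hca => by_contra fun n => ?_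
  have key : ∀ z, Commute z d → (∀ f ∈ E D a, Commute z f) → Commute z e := fun z k1 k2 =>
    cent_closure (by rintro _ (k | rfl); exacts [k2 _ k, k1]) h1
  obtain ⟨b, hb, hcb⟩ := h.cl.exists_prod h.four hc
  obtain ⟨c1, m, z, e1, e2, e3, e4, e5⟩ := h.zed hc hb hcb ha hca hd fun k => n (key c k.symm fun f hf => E.of hf hc hca)
  have k1 := E.of m ha hca.symm
  have k2 : c1 * (z * (c1 * a)) = z * a := by rw [← (e4 c1 m).left_comm, cn (h.sq m.1)]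
  refine n (E.of' m he (h.cent m.1 e3 ((e4 c1 m).symm.mul_right ((Commute.refl _).mul_right k1.symm)) (fun k => hn ?_) he
    (k2 ▸ (key z e2 e5).symm.mul_right h2))).symm
  rw [← k, h.sq m.1] at k2
  rw [← cn e1 a, ← k2, mul_one]
  exact e2.symm

theorem OC.gen (h : OC D) (ha : a ∈ D) (hd : d ∈ D) (hn : ¬ Commute d a) (h1 : S ⊆ D) (h2 : ∀ s ∈ S, ¬ Commute s d)
    (h3 : E D a ⊆ S) : Gen D (S ∪ {d}) d ∧ OC (Kl (S ∪ {d}) d) := by
  have k : Gen D (S ∪ {d}) d := ⟨h.toOT, Set.union_subset h1 (by simpa), .inr rfl,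
    fun s hs => hs.symm.imp id (h2 s), a, .inl (h3 (E.self ha)), fun k => hn k.symm⟩
  obtain ⟨b, hb, hab⟩ := h.cl.exists_prod h.four ha
  obtain ⟨k1, k2⟩ := h.prodE ha hb hab
  exact ⟨k, k.ot, k.cl, a, k.sk (.inl (h3 (E.self ha))), b, k.sk (.inl (h3 k1)), k.sk (.inl (h3 k2))⟩

theorem OC.bc [Finite G] (h : OC D) (hn : ¬ ∀ a ∈ D, ∀ b ∈ D, ReflTransGen (NO D) a b) : BC D := by
  simp only [not_forall] at hn
  obtain ⟨e, he, f, hf, hn⟩ := hn
  exact ⟨h.toOT, h.four, fun a ha b hb c hc h1 h2 => h.ri.comm_of_disc PT.hA h.four he hf hn ha hc hb h1 h2.symm⟩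

theorem OC.step [Finite G] (h : OC D) (ha : a ∈ D) (hb : b ∈ D) (hy : y ∈ D) (hd : d ∈ D) (hab : Commute a b)
    (hyb : Commute y b) (hyd : Commute y d) (n1 : ¬ Commute d a) (n2 : ¬ Commute d b)
    (B : BC (Kl (E D a ∪ E D b ∪ {d}) d)) : ∃ r ∈ D, Commute r a ∧ Commute r d := by
  have na : ∀ s ∈ E D a, ¬ Commute s d := fun s hs k => n1 (E.of' hs hd k.symm)
  have nb : ∀ s ∈ E D b, ¬ Commute s d := fun s hs k => n2 (E.of' hs hd k.symm)
  obtain ⟨g, -⟩ := h.gen ha hd n1 (Set.union_subset (fun _ => E.mem) fun _ => E.mem) (fun s hs => hs.elim (na s) (nb s))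
    Set.subset_union_left
  obtain ⟨g0, o0⟩ := h.gen ha hd n1 (fun _ => E.mem) na subset_rfl
  obtain ⟨g1, o1⟩ := h.gen hb hd n2 (fun _ => E.mem) nb subset_rfl
  have s0 : Kl (E D a ∪ {d}) d ⊆ Kl (E D a ∪ E D b ∪ {d}) d := Kl.mono (Set.union_subset_union_left _ Set.subset_union_left)
  have s1 : Kl (E D b ∪ {d}) d ⊆ Kl (E D a ∪ E D b ∪ {d}) d := Kl.mono (Set.union_subset_union_left _ Set.subset_union_right)
  have ma := g0.sk (.inl (E.self ha))
  have mb := g1.sk (.inl (E.self hb))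
  obtain ⟨a1, m0, r0, p0, k0, q1, q2, q3, q4, q5⟩ := BC.b2 ⟨o0.toOT, o0.four, fun _ hx _ hy _ hz =>
    B.tr _ (s0 hx) _ (s0 hy) _ (s0 hz)⟩ ma Kl.self fun k => n1 k.symm
  obtain ⟨b1, m1, r1, p1, k1, w1, w2, w3, w4, w5⟩ := BC.b2 ⟨o1.toOT, o1.four, fun _ hx _ hy _ hz =>
    B.tr _ (s1 hx) _ (s1 hy) _ (s1 hz)⟩ mb Kl.self fun k => n2 k.symm
  have c1 : Commute a1 b1 := B.tr _ (s0 m0) _ (s1 mb) _ (s1 m1) (B.tr _ (s0 m0) _ (s0 ma) _ (s1 mb) q1 hab) w1.symm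
  have c2 : ¬ Commute d a1 := fun k => n1 (B.tr _ Kl.self _ (s0 m0) _ (s0 ma) k q1)
  obtain ⟨m, hm, e1, e2⟩ := B.b4 (s0 m0) (s1 m1) Kl.self c1 c2 (B.b3 Kl.self (s0 m0) (s1 m1) c1 (fun k => c2 k.symm)
    (closure_mono s0 p0) (closure_mono s1 p1) q2 w2 q3 w3 q4 w4 q5 w5)
  have c3 : Commute y b1 := cent_closure (by rintro _ (k | rfl); exacts [E.of k hy hyb, hyd]) (Kl.le g1.mem m1)
  have hm' := g.kD hm
  have c4 : Commute (m * y * m) a1 := by
    rw [← e2]; simpa only [h.inv hm'] using ((hyd.mul_right c3).mul_right hyd).conj m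
  refine ⟨_, h.cj' hy hm', E.of' (h.P ha hd n1 (g0.kD m0) (Kl.le g0.mem m0) q1) (h.cj' hy hm') c4, ?_⟩
  exact (e1.symm.mul_right hyd.symm |>.mul_right e1.symm).symm

theorem OC.near_aux (n : ℕ) : ∀ (G : Type u) [Group G] [Finite G] (D : Set G), Nat.card G = n → OC D →
    (∀ a ∈ D, ∀ b ∈ D, ReflTransGen (NO D) a b) → ∀ a ∈ D, ∀ d ∈ D, ∃ r ∈ D, Commute r a ∧ Commute r d := by
  induction n using Nat.strong_induction_on with | _ n ih => ?_
  intro G _ _ D hn h hc a ha d hd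
  have := hc d hd a ha
  clear hc
  induction this with
  | refl => exact ⟨d, hd, rfl, rfl⟩
  | @tail b a _ k ih' => ?_
  have hb := k.1
  obtain ⟨y, hy, hyb, hyd⟩ := ih' hb
  have hab : Commute a b := by_contra fun n => k.2.2 (h.od ha hb n).symm
  by_contra far
  have n1 : ¬ Commute d a := fun k => far ⟨d, hd, k, rfl⟩
  have n2 : ¬ Commute d b := fun k => far ⟨b, hb, hab.symm, k.symm⟩
  have na : ∀ s ∈ E D a, ¬ Commute s d := fun s hs k => n1 (E.of' hs hd k.symm)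
  have nb : ∀ s ∈ E D b, ¬ Commute s d := fun s hs k => n2 (E.of' hs hd k.symm)
  obtain ⟨g, o⟩ := h.gen ha hd n1 (Set.union_subset (fun _ => E.mem) fun _ => E.mem) (fun s hs => hs.elim (na s) (nb s))
    Set.subset_union_left
  refine far (h.step ha hb hy hd hab hyb hyd n1 n2 (o.bc fun con => far ?_))
  obtain ⟨a', ha', haa⟩ := h.cl.exists_prod h.four ha
  obtain ⟨a1, m, z, e1, e2, e3, e4, e5⟩ := h.zed ha ha' haa hb hab hd n1
  have z1 : z ≠ 1 := fun e => far ⟨y, hy, E.of' m hy (h.same' m.1 hb (by simpa [e] using e3) hy hyb), hyd⟩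
  set K := Kl (E D a ∪ E D b ∪ {d}) d
  have cz : ∀ x ∈ K, Commute z x := fun x hx =>
    cent_closure (by rintro _ ((k | k) | rfl); exacts [e4 _ k, e5 _ k, e2]) (Kl.le g.mem hx)
  let C := centralizer ({z} : Set G)
  have hK : K ⊆ C := fun x hx => mem_centralizer_singleton_iff.2 (cz x hx).symm
  let z' : C := ⟨z, mem_centralizer_singleton_iff.2 rfl⟩
  have zc : z' ∈ center C := mem_center_iff.2 fun g => Subtype.ext (mem_centralizer_singleton_iff.1 g.2)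
  have : (zpowers z').Normal := ⟨fun n hn g => by rwa [mem_center_iff.1 (zpowers_le_of_mem zc hn) g, mul_inv_cancel_right]⟩
  have p2 : ∀ w ∈ zpowers z', w ^ 2 = 1 := by
    rintro _ ⟨i, rfl⟩
    rw [← zpow_natCast, ← zpow_mul, mul_comm, zpow_mul, zpow_natCast, show z' ^ 2 = 1 from Subtype.ext (by simpa [sq]), one_zpow]
  let φ := QuotientGroup.mk' (zpowers z')
  have o1 := o.toOT.preimage C
  have c1 := cl_preimage o.cl hK
  have refl : ∀ x ∈ C.subtype ⁻¹' K, ∀ y ∈ C.subtype ⁻¹' K, Commute (φ x) (φ y) → Commute x y := fun x hx y hy k =>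
    o1.of_pow (k := 2) hx hy (by
      rw [show 2 ^ 2 = 2 * 2 from rfl, pow_mul]
      refine p2 _ ((QuotientGroup.eq_one_iff _).1 (show φ _ = 1 from ?_))
      rw [map_pow, map_mul, k.mul_pow, ← map_pow, ← map_pow, sq, sq, o1.sq hx, o1.sq hy, map_one, one_mul])
  have ne1 : ∀ x ∈ C.subtype ⁻¹' K, φ x ≠ 1 := fun x hx e =>
    let ⟨y, hy, k⟩ := c1.ni x hx; (o1.od_iff hx hy).1 k (refl x hx y hy (e ▸ Commute.one_left _))
  have o2 : OC (φ '' (C.subtype ⁻¹' K)) := ⟨o1.image φ ne1, cl_image c1 φ ne1 fun x hx y hy k e =>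
    (o1.od_iff hx hy).1 k (refl x hx y hy (e ▸ Commute.refl _)), let ⟨a, ha, b, hb, k⟩ := o.four
      ⟨_, ⟨⟨a, hK ha⟩, ha, rfl⟩, _, ⟨⟨b, hK hb⟩, hb, rfl⟩, ⟨a * b, hK k⟩, k, rfl⟩⟩
  have ma : a ∈ K := g.sk (.inl (.inl (E.self ha)))
  have md : d ∈ K := Kl.self
  obtain ⟨_, ⟨r, hr, rfl⟩, k1, k2⟩ := ih _ (by
      have := card_eq_card_quotient_mul_card_subgroup (zpowers z')
      have h1 := (one_lt_card_iff_ne_bot _).2 (zpowers_ne_bot.2 (show z' ≠ 1 from fun e => z1 (congrArg Subtype.val e)))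
      have h2 := card_le_card_group C
      have h3 : 0 < Nat.card (C ⧸ zpowers z') := Nat.card_pos
      nlinarith) _ _ rfl o2 (by
      classical
      let ψ : G → C ⧸ zpowers z' := fun x => if hx : x ∈ C then φ ⟨x, hx⟩ else 1
      have eψ : ∀ x : C, ψ x = φ x := fun x => dif_pos x.2
      rintro _ ⟨x, hx, rfl⟩ _ ⟨y, hy, rfl⟩
      rw [← eψ, ← eψ]
      refine rtg_map ψ (fun u v k => .single ?_) (con _ hx _ hy)
      rw [eψ ⟨u, hK k.1⟩, eψ ⟨v, hK k.2.1⟩]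
      refine ⟨⟨_, k.1, rfl⟩, ⟨_, k.2.1, rfl⟩, fun k' => (o2.od_iff ⟨_, k.1, rfl⟩ ⟨_, k.2.1, rfl⟩).1 k' (Commute.map ?_ φ)⟩
      exact Subtype.ext (by_contra fun n => k.2.2 (o.od k.1 k.2.1 n))) _ ⟨⟨a, hK ma⟩, ma, rfl⟩ _ ⟨⟨d, hK md⟩, md, rfl⟩
  exact ⟨r, g.kD hr, (refl r hr _ ma k1).map C.subtype, (refl r hr _ md k2).map C.subtype⟩

theorem OC.near [Finite G] (h : OC D) (hc : ∀ a ∈ D, ∀ b ∈ D, ReflTransGen (NO D) a b) (ha : a ∈ D) (hd : d ∈ D) :
    ∃ r ∈ D, Commute r a ∧ Commute r d := near_aux _ G D rfl h hc a ha d hd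

theorem OT.conn (h : OT D) (hc : IsConnectedSet (CommAdj D) D) : ∀ a ∈ D, ∀ b ∈ D, ReflTransGen (NO D) a b :=
  fun a ha b hb => rtg_map id (fun _ _ k => .single ⟨k.1, k.2.1, h.ri.no k.1 k.2.1 k.2.2.2⟩) (hc a ha b hb)

end Cfsg.Lib.Layer.OTr
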