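/-
Odd transpositions: the groups `⟨E_d, x⟩`.
-/
import Cfsg.Agent.Lib.Layer.OTb
import Cfsg.Agent.S0102
import Cfsg.Agent.S0331
import Cfsg.Agent.Lib.Linear.SL2Sub
import Cfsg.Agent.Lib.Known.PSL2

set_option autoImplicit false
set_option linter.unusedSectionVars false

universe u

namespace Cfsg.Lib.Layer.OTr

open Subgroup Cfsg.Lib.Invol Cfsg.Lib.RInv Cfsg.Lib.BS Relation

variable {G : Type u} [Group G] [Finite G] {D S T : Set G} {a b c d e f g m n r s t u x y z : G}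

theorem ro_zass [IsSimpleGroup G] {H Q : Subgroup G} (h : RO H Q t) (h2 : R2 (⊤ : Subgroup G)) (hV : Vg H t = ⊥) :
    (IsMulCommutative Q ∧ ∃ (F : Type) (_ : Field F) (_ : Fintype F), Fintype.card F = Nat.card (Q0g Q) ∧
      Nonempty (G ≃* Matrix.ProjectiveSpecialLinearGroup (Fin 2) F)) ∨ (¬ IsMulCommutative Q ∧ Lie.IsoSuzuki G) := by
  have z := h.z3 h2 h.core_bot hV
  have hD : BN.E2 G ((1 : G) : G ⧸ H) t = Kg H t := by
    rw [BN.E2, h.stab_t, MulAction.stabilizer_quotient, ← sup_bot_eq (Kg H t), ← hV, h.sup_KV]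
  have hE := hD ▸ h.K_ne_bot h2
  have hZ := BN.zass_of z h.one_ne_t hE fun R hR h1 h3 => by
    rcases hR.eq_bot_or_eq_top with rfl | rfl
    · obtain ⟨r, hr, e⟩ := h1 (1 : G) t
      exact h.one_ne_t (by rw [← e, mem_bot.1 hr, one_smul])
    · exact h.Q_ne_bot (eq_bot_iff.2 fun x hx => h3 x trivial (1 : G) (fix_pt.2 (by simpa using h.le hx)))
  have hQ : Q = z.K (1 : G) := z.eq_K_of_card (by rw [MulAction.stabilizer_quotient]; exact h.le)
    h.index_H.symm fun u hu h1 c e => by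
      obtain ⟨c, rfl⟩ := QuotientGroup.mk_surjective c
      exact QuotientGroup.eq.2 (by simpa using h.mem_of_conj_mem (g := c⁻¹) hu h1 (by simpa using fix_pt.1 e))
  have he := hQ ▸ h.even
  refine (em (IsMulCommutative Q)).imp (fun hc => ⟨hc, ?_⟩) fun hc => ⟨hc, ?_⟩
  · obtain ⟨k, _, _, -, h4, e⟩ := BN.zass_psl_of_comm_even hZ z h.one_ne_t (hQ ▸ hc) he
    obtain ⟨F, _, _, h5, -, e'⟩ := BN.exists_psl_zero e
    rw [hD, h.card_K_add_one h2] at h4
    exact ⟨F, _, _, h5.trans h4, e'⟩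
  have hna : ∃ x ∈ Q, ∃ y ∈ Q, x * y ≠ y * x := by
    by_contra hn; push Not at hn; exact hc (PGrp.isMulCommutative_iff_forall.2 hn)
  obtain ⟨s, r, hs⟩ := h.exists_SE
  exact (BN.ZO.suzuki' (h := z) ⟨h.one_ne_t, he, hE, ⟨by rw [smul_pt, mul_one], by rw [smul_pt, h.tt]⟩,
    hQ ▸ Q0g_le Q (h.s_mem_Q0 hs), hs.two, hQ ▸ hs.rQ, by
      rw [← mul_inv_cancel_left r (t * r), ← mul_assoc r⁻¹, ← hs.eq, mul_assoc r _ t, h.tt'', mul_assoc]⟩
    (hQ ▸ (h.good' h2).two) (hQ ▸ hna)).2.2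

theorem ro_V [IsSimpleGroup G] {H Q : Subgroup G} (h : RO H Q t) (h2 : R2 (⊤ : Subgroup G)) (hS : ∀ s ∈ S, s ∈ Q0g Q)
    (hG : closure (S ∪ {t}) = ⊤) : Vg H t = ⊥ := by
  by_contra hV
  obtain ⟨s, c, hn, -⟩ := h.c3_of h2 hV
  have := (h.inf_sup_t (Q0g_le Q) (Kg_le H t) (fun _ => h.t_conj_K) h.K_norm_Q0 fun _ => h.form_Q0 h2 c.se).2.1
  rw [show Q0g Q ⊔ Kg H t ⊔ zpowers t = ⊤ from eq_top_iff.2 (hG.ge.trans ((closure_le _).2 (by
    rintro _ (k | rfl); exacts [mem_sup_left (mem_sup_left (hS _ k)), mem_sup_right (mem_zpowers _)]))), inf_top_eq] at this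
  exact hn (this ▸ h.isMulCommutative_Q0 h2)

theorem cent_one (hO : pCore 2 G = ⊥) (hz : z * z = 1) (hc : ∀ g, Commute z g) : z = 1 :=
  mem_bot.1 (hO ▸ PT.mem_core hz fun g => ⟨0, by rw [← (hc g).eq, mul_inv_cancel_right, hz, one_pow]⟩)

theorem twoZ_bot (hO : pCore 2 G = ⊥) (hp : commutator G = ⊤)
    (hc : ∀ p : ℕ, p.Prime → p ≠ 2 → ∀ P : Subgroup (G ⧸ twoZCore G), IsPGroup p P → IsCyclic P) : twoZCore G = ⊥ := by
  have hz : twoZCore G ≤ center G := fun z hz => mem_center_iff.2 fun g => by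
    have := mem_center_iff.1 hz (g : G ⧸ pCore 2 G)
    rw [← mul_inv_eq_one, ← mem_bot, ← hO, ← QuotientGroup.eq_one_iff]
    exact mul_inv_eq_one.2 this
  by_contra hne
  obtain ⟨z, h1, h2⟩ := Coprime.exists_mem_orderOf_prime hne
  have := Fact.mk h2
  by_cases e : orderOf z = 2
  · exact ne_one_of_two e (cent_one hO (mul_self_of_two e) fun g => (mem_center_iff.1 (hz h1) g).symm)
  refine Cfsg.Agent.S0102.result (p := orderOf z) (σ := qm G) ?_ (fun P => hc _ h2 e _ P.2) (QuotientGroup.mk'_surjective _)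
    (by rwa [QuotientGroup.ker_mk']) hp (by rw [QuotientGroup.ker_mk']; exact orderOf_dvd_natCard _ h1)
  rw [commutator_def, ← map_top_of_surjective _ (QuotientGroup.mk'_surjective (twoZCore G)), ← map_commutator, ← commutator_def, hp]

theorem cyc_of {L : Type*} [Group L] (φ : G ≃* L) {p : ℕ} (h : ∀ P : Subgroup L, IsPGroup p P → IsCyclic P) (P : Subgroup G)
    (hP : IsPGroup p P) : IsCyclic P := (P.equivMapOfInjective _ φ.injective).isCyclic.2 (h _ (hP.map φ.toMonoidHom))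

theorem cyc_psl {F : Type} [Field F] [Fintype F] [CharP F 2] (φ : G ≃* Matrix.ProjectiveSpecialLinearGroup (Fin 2) F) (p : ℕ)
    (hp : p.Prime) (h2 : p ≠ 2) (P : Subgroup G) (hP : IsPGroup p P) : IsCyclic P :=
  have := Fact.mk hp
  cyc_of (φ.trans (Known.pmkEquiv CharTwo.two_eq_zero).symm) (fun _ => Linear.sl2_isCyclic_of_isPGroup (fun e =>
    h2 ((Nat.prime_dvd_prime_iff_eq Nat.prime_two hp).1 ((CharP.cast_eq_zero_iff F 2 p).1 e)).symm) h2) P hP

theorem cyc_sz (h : Lie.IsoSuzuki G) (p : ℕ) (hp : p.Prime) (h2 : p ≠ 2) (P : Subgroup G) (hP : IsPGroup p P) : IsCyclic P := by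
  have := Fact.mk hp
  obtain ⟨F, _, _, m, hm, hF, ⟨φ⟩⟩ := h
  have := BN.Sz.szField_of_card hm hF
  refine cyc_of (φ.trans (BN.Sz.szEquiv m).symm) (fun P hP => ?_) P hP
  obtain ⟨R, hR⟩ := hP.exists_le_sylow
  have := Cfsg.Agent.S0331.result hm hF h2 R
  exact isCyclic_of_le hR

theorem OC.disc (h : OC D) (hS : S ⊆ E D e) (he : e ∈ D) (hx : x ∈ D) (hG : closure (S ∪ {x}) = ⊤) : BC D :=
  h.bc fun hc => by
    obtain ⟨r, hr, h1, h2⟩ := h.near hc he hx
    obtain ⟨y, hy, k⟩ := h.cl.ni r hr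
    exact (h.od_iff hr hy).1 k (cent_closure (by rintro _ (k | rfl); exacts [E.of (hS k) hr h1, h2]) (hG.ge (mem_top y)))

theorem OC.ident (h : OC D) (hO : pCore 2 G = ⊥) (hS : S ⊆ E D e) (he : e ∈ D) (hx : x ∈ D) (hn : ¬ Commute e x)
    (hG : closure (S ∪ {x}) = ⊤) : (∃ (F : Type) (_ : Field F) (_ : Fintype F), CharP F 2 ∧ 4 ≤ Fintype.card F ∧
      Nonempty (G ≃* Matrix.ProjectiveSpecialLinearGroup (Fin 2) F)) ∨ Lie.IsoSuzuki G := by
  have hD : closure D = ⊤ := eq_top_iff.2 (hG.ge.trans (closure_mono (Set.union_subset (fun _ k => (hS k).1) (by simpa))))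
  obtain ⟨_, h', -, -, H, Q, R, h2, m⟩ := (h.disc hS he hx hG).pack hD he hx hn
  have hV := ro_V R h2 (S := qm G '' S) (by
    rintro _ ⟨s, hs, rfl⟩
    exact R.mem_Q0_of_two (se_mem_of_commute R.se (h'.two _ ⟨e, he, rfl⟩) m ((E.of (hS hs) he rfl).symm.map _))
      (h'.sq ⟨s, (hS hs).1, rfl⟩)) (by
    rw [← Set.image_singleton, ← Set.image_union, ← MonoidHom.map_closure, hG, map_top_of_surjective _ (QuotientGroup.mk'_surjective _)])
  have hp : commutator G = ⊤ := by rw [commutator_def, ← hD, h.cl.perfect h.four]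
  have iso : twoZCore G = ⊥ → Nonempty (G ≃* G ⧸ twoZCore G) := fun e =>
    ⟨QuotientGroup.quotientBot.symm.trans (QuotientGroup.quotientMulEquivOfEq e.symm)⟩
  rcases ro_zass R h2 hV with ⟨-, F, _, _, hF, ⟨φ⟩⟩ | ⟨-, hz⟩
  · obtain ⟨n, hn, e⟩ := R.exists_card_Q0 h2
    have := charP_two_of_card (hF.trans e)
    obtain ⟨ψ⟩ := iso (twoZ_bot hO hp (cyc_psl φ))
    exact .inl ⟨F, _, _, this, hF ▸ e ▸ Nat.pow_le_pow_right two_pos hn, ⟨ψ.trans φ⟩⟩
  · obtain ⟨ψ⟩ := iso (twoZ_bot hO hp (cyc_sz hz))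
    obtain ⟨F, _, _, m, hm, hF, ⟨φ⟩⟩ := hz
    exact .inr ⟨F, _, _, m, hm, hF, ⟨ψ.trans φ⟩⟩

theorem OT.conjE (h : OT D) (hg : g ∈ closure D) (hf : f ∈ E D e) : g * f * g⁻¹ ∈ E D (g * e * g⁻¹) :=
  E.iff.2 ⟨h.ri.cjc hg hf.1, fun y hy => by
    have := (E.iff.1 hf).2 _ (h.ri.cjc (inv_mem hg) hy)
    rw [← Known2.commute_conj_conj_iff (g := g), ← Known2.commute_conj_conj_iff (g := g) (e := f)] at this
    simpa [mul_assoc] using this⟩

theorem sq_closure (h1 : ∀ s ∈ S, s * s = 1) (h2 : ∀ s ∈ S, ∀ t ∈ S, Commute s t) (hg : g ∈ closure S) : g * g = 1 := by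
  induction hg using closure_induction with
  | mem s hs => exact h1 s hs
  | one => exact one_mul 1
  | mul x y hx hy k1 k2 => rw [(cent_closure (fun s hs => (cent_closure (h2 s hs) hy).symm) hx).mul_mul_mul_comm, k1, k2, one_mul]
  | inv _ _ k => rw [← mul_inv_rev, k, inv_one]

/-- generation data -/
structure Sy (D : Set G) (e x : G) : Prop extends OT D where
  cl : CL D
  core : pCore 2 G = ⊥
  he : e ∈ D
  hx : x ∈ D
  nc : ¬ Commute x e
  gen : closure (E D e ∪ {x}) = ⊤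

namespace Sy

variable (h : Sy D e x)
include h

theorem mid : ∃ m ∈ D, m * e * m⁻¹ = x ∧ m * x * m⁻¹ = e := by
  obtain ⟨g, -, hm, e1⟩ := h.ri.mid h.he h.hx (h.od h.he h.hx fun k => h.nc k.symm)
  refine ⟨_, hm, by rw [h.inv hm, e1], ?_⟩
  generalize g * e * g⁻¹ = m at hm e1
  simp [← e1, h.inv hm, mul_assoc, cn (h.sq hm), h.sq hm]

theorem symm : Sy D x e := ⟨h.toOT, h.cl, h.core, h.hx, h.he, fun k => h.nc k.symm, by
  obtain ⟨m, hm, e1, e2⟩ := h.mid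
  rw [eq_top_iff, ← map_top_of_surjective (MulAut.conj m).toMonoidHom (MulAut.conj m).surjective, ← h.gen, MonoidHom.map_closure]
  refine closure_mono ?_
  rintro _ ⟨f, k | rfl, rfl⟩
  exacts [.inl (e1 ▸ h.conjE (subset_closure hm) k), .inr e2]⟩

theorem one (hz : z * z = 1) (h1 : Commute z x) (h2 : ∀ f ∈ E D e, Commute z f) : z = 1 :=
  cent_one h.core hz fun g => cent_closure (by rintro _ (k | rfl); exacts [h2 _ k, h1]) (h.gen.ge (mem_top g))

theorem ci (ha : a ∈ E D e) (hb : b ∈ E D e) (hab : a * b ∉ D) (hs : s ∈ E D x) (ht : t ∈ E D x) :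
    Commute s (a * b * t * (a * b)) := by
  have hj := h.sq2 ha.1 hb.1 (E.comm ha hb)
  have cj : ∀ y ∈ D, a * b * y * (a * b) ∈ D := fun y hy => by
    simpa only [inv_eq_of_mul_eq_one_right hj] using h.ri.cjc (mul_mem (subset_closure ha.1) (subset_closure hb.1)) hy
  have sw : ∀ y z, Commute y (a * b * z * (a * b)) → Commute z (a * b * y * (a * b)) := fun y z k => by
    simpa only [inv_eq_of_mul_eq_one_right hj, mul_assoc (a * b), mul_assoc z, hj, cn hj, mul_one] using k.symm.conj (a * b)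
  refine sw _ _ (E.of ht (cj _ hs.1) (sw _ _ (E.of hs (cj _ h.hx) (Commute.symm (by_contra fun k => ?_))).symm).symm).symm
  obtain ⟨z, e1, e2, e3, e4, -⟩ := h.dichE ha.1 hb.1 (E.comm ha hb) h.hx fun k' => k ((h.sw ha.1 (E.comm ha hb)).1 k')
  exact hab (by simpa [h.one e1 e2 (E.eq ha ▸ e4)] using e3)

variable (h4 : ¬ ∃ a ∈ D, ∃ b ∈ D, a * b ∈ D)
include h4

theorem cm (ha : a ∈ E D e) (hb : b ∈ E D e) (hs : s ∈ E D x) (ht : t ∈ E D x) : Commute (a * b) (s * t) := by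
  have hj := h.sq2 ha.1 hb.1 (E.comm ha hb)
  have hk := h.sq2 hs.1 ht.1 (E.comm hs ht)
  have n1 : a * b ∉ D := fun k => h4 ⟨a, ha.1, b, hb.1, k⟩
  have n2 : s * t ∉ D := fun k => h4 ⟨s, hs.1, t, ht.1, k⟩
  have e1 : a * b * (s * t) * (a * b) = a * b * s * (a * b) * (a * b * t * (a * b)) := by
    simp only [mul_assoc (a * b), mul_assoc s, cn hj]
  have e2 : s * t * (a * b) * (s * t) = s * t * a * (s * t) * (s * t * b * (s * t)) := by
    simp only [mul_assoc (s * t), mul_assoc a, cn hk]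
  have c1 : ∀ y ∈ E D x, Commute y (a * b * (s * t) * (a * b)) := fun y hy =>
    e1 ▸ (h.ci ha hb n1 hy hs).mul_right (h.ci ha hb n1 hy ht)
  have := h.one (z := a * b * (s * t) * (a * b) * (s * t)) (by
      rw [((c1 s hs).mul_left (c1 t ht)).mul_mul_mul_comm, hk]
      simp only [mul_assoc (a * b), mul_assoc (s * t), cn hj, cn hk, hj, mul_one])
    ((c1 x (E.self h.hx)).mul_right ((E.comm (E.self h.hx) hs).mul_right (E.comm (E.self h.hx) ht))).symm fun f hf => by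
      rw [mul_assoc (a * b), mul_assoc (a * b), e2]
      exact (((E.comm hf ha).mul_right (E.comm hf hb)).mul_right
        ((h.symm.ci hs ht n2 hf ha).mul_right (h.symm.ci hs ht n2 hf hb))).symm
  rw [mul_assoc, mul_eq_one_iff_eq_inv, mul_inv_rev, inv_eq_of_mul_eq_one_right hj, inv_eq_of_mul_eq_one_right hk] at this
  exact this

theorem nm (hf : f ∈ E D e) (hne : f ≠ e) (ha : a ∈ E D e) (hs : s ∈ E D x) (ht : t ∈ E D x) : s * t * a * (s * t)⁻¹ ∈ E D e := by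
  obtain ⟨b, hb, hab⟩ : ∃ b ∈ E D e, a ≠ b := (em (a = e)).elim (fun k => ⟨f, hf, k ▸ hne.symm⟩) fun k => ⟨e, E.self h.he, k⟩
  have m : s * t ∈ closure D := mul_mem (subset_closure hs.1) (subset_closure ht.1)
  refine h.memE h.cl h.he (h.ri.cjc m ha.1) fun y hy k => h.cent (h.ri.cjc m ha.1) (h.ri.cjc m hb.1) ((E.comm ha hb).conj _)
    (by simpa using hab) hy ?_
  rw [conj_mul, ← (h.cm h4 ha hb hs ht).eq, mul_inv_cancel_right]
  exact (E.of ha hy k).mul_right (E.of hb hy k)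

theorem no4 (hf : f ∈ E D e) : f = e := by
  by_contra hne
  obtain ⟨m, hm, e1, e2⟩ := h.mid
  let T : Set G := {w | (∃ a ∈ E D e, ∃ b ∈ E D e, a * b = w) ∨ ∃ a ∈ E D x, ∃ b ∈ E D x, a * b = w}
  have key : ∀ {e x f : G} {T : Set G}, Sy D e x → f ∈ E D e → f ≠ e → (∀ a ∈ E D e, ∀ b ∈ E D e, a * b ∈ T) →
      (∀ a ∈ E D x, ∀ b ∈ E D x, a * b ∈ T) → (∀ w ∈ T, (∃ a ∈ E D e, ∃ b ∈ E D e, a * b = w) ∨ ∃ a ∈ E D x, ∃ b ∈ E D x, a * b = w) →
      ∀ c ∈ E D e, c ∈ normalizer (closure T : Set G) := fun {e x f T} h hf hne h1 h2 h3 c hc => by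
    refine mem_norm_of fun w hw => (?_ : closure T ≤ (closure T).comap (MulAut.conj c).toMonoidHom) hw
    refine (closure_le _).2 fun w hw => show c * w * c⁻¹ ∈ closure T from ?_
    rcases h3 w hw with ⟨a, ha, b, hb, rfl⟩ | ⟨a, ha, b, hb, rfl⟩
    · rw [((E.comm hc ha).mul_right (E.comm hc hb)).eq, mul_inv_cancel_right]; exact subset_closure hw
    · rw [h.inv hc.1, show c * (a * b) * c = c * (a * b * c * (a * b)⁻¹) * (a * b) by group]
      exact mul_mem (subset_closure (h1 _ hc _ (h.nm h4 hf hne hc ha hb))) (subset_closure hw)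
  have hN : (closure T).Normal := normalizer_eq_top_iff.1 (eq_top_iff.2 (h.gen.ge.trans ((closure_le _).2 (by
    rintro c (k | rfl)
    · exact key h hf hne (fun a ha b hb => .inl ⟨a, ha, b, hb, rfl⟩) (fun a ha b hb => .inr ⟨a, ha, b, hb, rfl⟩) (fun _ k => k) c k
    · exact key h.symm (e1 ▸ h.conjE (subset_closure hm) hf) (by simpa [← e1] using hne) (fun a ha b hb => .inr ⟨a, ha, b, hb, rfl⟩)
        (fun a ha b hb => .inl ⟨a, ha, b, hb, rfl⟩) (fun _ k => k.symm) _ (E.self h.hx)))))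
  have c0 : ∀ {e a b c d : G}, a ∈ E D e → b ∈ E D e → c ∈ E D e → d ∈ E D e → Commute (a * b) (c * d) := fun ha hb hc hd =>
    ((E.comm ha hc).mul_right (E.comm ha hd)).mul_left ((E.comm hb hc).mul_right (E.comm hb hd))
  have := Core.le_pCore (N := closure T) (p := 2) (fun w => ⟨1, Subtype.ext (by
    simpa [sq] using sq_closure (by rintro _ (⟨a, ha, b, hb, rfl⟩ | ⟨a, ha, b, hb, rfl⟩) <;> exact h.sq2 ha.1 hb.1 (E.comm ha hb)) (by
      rintro _ (⟨a, ha, b, hb, rfl⟩ | ⟨a, ha, b, hb, rfl⟩) _ (⟨c, hc, d, hd, rfl⟩ | ⟨c, hc, d, hd, rfl⟩)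
      exacts [c0 ha hb hc hd, h.cm h4 ha hb hc hd, (h.cm h4 hc hd ha hb).symm, c0 ha hb hc hd]) w.2)⟩)
    (subset_closure (.inl ⟨e, E.self h.he, f, hf, rfl⟩))
  rw [h.core, mem_bot] at this
  exact hne (by rw [← cn (h.sq h.he) f, this, mul_one])

end Sy

theorem Sy.main (h : Sy D e x) : (∃ (F : Type) (_ : Field F) (_ : Fintype F), CharP F 2 ∧ 4 ≤ Fintype.card F ∧
      Nonempty (G ≃* Matrix.ProjectiveSpecialLinearGroup (Fin 2) F)) ∨ Lie.IsoSuzuki G ∨ ∃ n, Nonempty (G ≃* DihedralGroup n) := by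
  by_cases h4 : ∃ a ∈ D, ∃ b ∈ D, a * b ∈ D
  · exact (OC.ident ⟨h.toOT, h.cl, h4⟩ h.core subset_rfl h.he h.hx (fun k => h.nc k.symm) h.gen).imp_right .inl
  obtain ⟨φ⟩ := closure_mulEquiv_dihedral (x := x) (r := x * e) (h.sq h.hx) (left_inverts (h.sq h.hx) (h.sq h.he)) rfl fun k =>
    h.nc (by simpa [cn (h.sq h.hx)] using (Commute.refl x).mul_right (commute_of_zpowers k (Commute.refl _)).symm)
  have : closure {x, x * e} = ⊤ := eq_top_iff.2 (h.gen.ge.trans ((closure_le _).2 (by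
    rintro _ (k | rfl)
    · rw [h.no4 h4 k]; nth_rw 2 [← cn (h.sq h.hx) e]; exact mul_mem (subset_closure (by simp)) (subset_closure (by simp))
    · exact subset_closure (by simp))))
  exact .inr (.inr ⟨_, ⟨topEquiv.symm.trans ((MulEquiv.subgroupCongr this).symm.trans φ)⟩⟩)

theorem OT.sy (h : OT D) (hd : d ∈ D) (hx : x ∈ D) (hn : ¬ Commute d x) :
    ∃ D' e y, Sy (G := closure (E D d ∪ {x}) ⧸ pCore 2 (closure (E D d ∪ {x}))) D' e y := by
  have g : Gen D (E D d ∪ {x}) x := ⟨h, Set.union_subset (fun _ => E.mem) (by simpa), .inr rfl,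
    fun s hs => hs.symm.imp id fun k k' => hn (E.of' k hx k'.symm).symm, d, .inl (E.self hd), hn⟩
  set X := closure (E D d ∪ {x})
  have hK : Kl (E D d ∪ {x}) x ⊆ X := Kl.le g.mem
  set K := Kl (E D d ∪ {x}) x
  let φ := QuotientGroup.mk' (pCore 2 X)
  have o1 := g.ot.preimage X
  have c1 := cl_preimage g.cl hK
  have refl : ∀ x ∈ X.subtype ⁻¹' K, ∀ y ∈ X.subtype ⁻¹' K, Commute (φ x) (φ y) → Commute x y := fun x hx y hy k => by
    obtain ⟨i, hi⟩ := Core.isPGroup_pCore 2 X ⟨(x * y) ^ 2, (QuotientGroup.eq_one_iff _).1 (show φ _ = 1 by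
      rw [map_pow, map_mul, k.mul_pow, ← map_pow, ← map_pow, pow_two, pow_two, o1.sq hx, o1.sq hy, map_one, one_mul])⟩
    exact o1.of_pow (k := i + 1) hx hy (by rw [pow_succ', pow_mul]; exact congrArg Subtype.val hi)
  have ne1 : ∀ x ∈ X.subtype ⁻¹' K, φ x ≠ 1 := fun x hx e =>
    let ⟨y, hy, k⟩ := c1.ni x hx; (o1.od_iff hx hy).1 k (refl x hx y hy (e ▸ Commute.one_left _))
  have md : d ∈ K := g.sk (.inl (E.self hd))
  have mx : x ∈ K := Kl.self
  refine ⟨φ '' (X.subtype ⁻¹' K), φ ⟨d, hK md⟩, φ ⟨x, hK mx⟩, o1.image φ ne1, cl_image c1 φ ne1 fun x hx y hy k e =>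
    (o1.od_iff hx hy).1 k (refl x hx y hy (e ▸ Commute.refl _)), Core.pCore_quotient_pCore, ⟨_, md, rfl⟩, ⟨_, mx, rfl⟩,
    fun k => hn ((refl _ mx _ md k).map X.subtype).symm, ?_⟩
  rw [eq_top_iff, ← map_top_of_surjective φ (QuotientGroup.mk'_surjective _), ← closure_closure_coe_preimage, MonoidHom.map_closure]
  refine closure_mono ?_
  rintro _ ⟨f, k | k, rfl⟩
  · have mf := g.sk (.inl k)
    refine .inl (E.iff.2 ⟨⟨_, mf, rfl⟩, ?_⟩)
    rintro _ ⟨y, hy, rfl⟩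
    exact ⟨fun k' => Commute.map (Subtype.ext (E.of k (g.kD hy) ((refl _ hy _ md k').map X.subtype)).eq) φ,
      fun k' => Commute.map (Subtype.ext (E.of' k (g.kD hy) ((refl _ hy _ mf k').map X.subtype)).eq) φ⟩
  · exact .inr (congrArg φ (Subtype.ext k))

end Cfsg.Lib.Layer.OTr
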