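/-
Odd transpositions: the module computation excluding Suzuki groups.
-/
import Cfsg.Agent.Lib.Layer.OTc

set_option autoImplicit false
set_option linter.unusedSectionVars false

universe u

namespace Cfsg.Lib.Layer.OTr

open Subgroup Cfsg.Lib.Invol Cfsg.Lib.RInv

theorem ring_part {R Γ : Type*} [Ring R] [Group Γ] [Fintype Γ] (τ : Γ →* R) (h2 : ∀ x : R, x + x = 0)
    (ho : Odd (Nat.card Γ)) (hc : ∀ g h : Γ, g * h = h * g) {κ : R} (inv : ∀ g X, κ * X = 0 → κ * (τ g * X) = 0)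
    {S : Γ → Prop} (rel : ∀ h, S h → ∃ h', κ * (1 + τ (h * h) + τ (h' * h')) = 0 ∧
      κ + τ h * κ * τ h⁻¹ = τ h' * κ * τ h'⁻¹) {h : Γ} (s1 : S h) (s3 : S (h * h * h)) : (∑ g, τ g) * κ = 0 := by
  have one : ∀ h h' : Γ, κ * (1 + τ (h * h) + τ (h' * h')) = 0 → κ * (1 + τ h + τ h') = 0 := fun h h' k => by
    have st : ∀ j, κ * (1 + τ (h ^ 2 ^ (j + 1)) + τ (h' ^ 2 ^ (j + 1))) = 0 := fun j => by
      induction j with
      | zero => simpa [pow_two] using k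
      | succ j ih =>
        rw [pow_succ 2 (j + 1), pow_mul, pow_mul, pow_two, pow_two, map_mul, map_mul]
        have e := congrArg τ (hc (h ^ 2 ^ (j + 1)) (h' ^ 2 ^ (j + 1)))
        rw [map_mul, map_mul] at e
        have i1 := inv (h' ^ 2 ^ (j + 1)) _ ih
        have i2 := inv (h ^ 2 ^ (j + 1)) _ ih
        generalize τ (h ^ 2 ^ (j + 1)) = x at *
        generalize τ (h' ^ 2 ^ (j + 1)) = y at *
        linear_combination (norm := noncomm_ring) ih + i1 + i2 - h2 (κ * x) - h2 (κ * y) - h2 (κ * x * y) + κ * e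
    have e : ∀ g : Γ, g ^ 2 ^ ((Nat.card Γ).totient - 1 + 1) = g := fun g => by
      rw [Nat.sub_add_cancel (Nat.totient_pos.2 Nat.card_pos)]
      have := (Nat.ModEq.pow_totient ho.coprime_two_left).of_dvd (orderOf_dvd_natCard g)
      rw [pow_eq_pow_iff_modEq.2 this, pow_one]
    simpa only [e] using st ((Nat.card Γ).totient - 1)
  set ε := ∑ g, τ g
  have eτ : ∀ g, ε * τ g = ε := fun g => by
    rw [Finset.sum_mul]; exact Fintype.sum_equiv (Equiv.mulRight g) _ _ fun x => (map_mul τ x g).symm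
  obtain ⟨h', k1, k2⟩ := rel h s1
  obtain ⟨h'', k3, -⟩ := rel _ s3
  replace k1 := one _ _ k1
  replace k3 := one _ _ k3
  have k4 := congrArg (fun X => ε * X * (τ h * τ h')) k2
  have e1 : τ h⁻¹ * (τ h * τ h') = τ h' := by rw [← mul_assoc, ← map_mul, inv_mul_cancel, map_one, one_mul]
  have e2 : τ h'⁻¹ * (τ h * τ h') = τ h := by rw [← map_mul, ← map_mul, hc h, inv_mul_cancel_left]
  simp only [mul_add, add_mul, ← mul_assoc ε, eτ, mul_assoc (ε * κ), e1, e2] at k4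
  have k5 := inv h _ k1
  have k6 : ε * κ * τ h'' = 0 := by
    rw [map_mul, map_mul] at k3
    generalize τ h = x at *
    generalize τ h' = y at *
    have k7 : ε * κ * (1 + x + x * x) = 0 := by
      linear_combination (norm := noncomm_ring) ε * k1 + ε * k5 - k4 - h2 (ε * κ * x)
    linear_combination (norm := noncomm_ring) ε * k3 - k7 * (1 + x) + h2 (ε * κ * x) + h2 (ε * κ * x * x)
  simpa [mul_assoc, ← map_mul] using congrArg (· * τ h''⁻¹) k6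

variable {G : Type u} [Group G] [Finite G] {U X Γ : Subgroup G} {A : Set G} {a b c h s t u v w z ρ ρ' μ : G}

/-- `[a, v^t]` -/
def Dl (t a v : G) : G := a * (t * v * t) * a * (t * v * t)
/-- `[u, ρ]` -/
def ka (ρ u : G) : G := u * (ρ⁻¹ * u * ρ)
/-- elements acting trivially -/
def In (U X : Subgroup G) (μ : G) : Prop := (∀ u ∈ U, Commute μ u) ∧ ∀ x ∈ X, Commute μ x

/-- the module -/
structure Cf (U : Subgroup G) (A : Set G) (t : G) : Prop where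
  tt : t * t = 1
  sq : ∀ u ∈ U, u * u = 1
  cm : ∀ u ∈ U, ∀ v ∈ U, Dl t u v ∈ U
  zt : ∀ u ∈ U, t * u * t ∈ U → Commute t u
  aa : ∀ a ∈ A, a * a = 1
  au : ∀ a ∈ A, ∀ u ∈ U, Commute a u
  dl : ∀ a ∈ A, ∀ v ∈ U, Dl t a v ∈ U
  inj : ∀ a ∈ A, ∀ v ∈ U, Commute t (Dl t a v) → Commute t v

/-- elements of the Sylow subgroup -/
structure Ro (U X : Subgroup G) (A : Set G) (t ρ a : G) : Prop where
  tX : t ∈ X
  nU : ∀ u ∈ U, ρ⁻¹ * u * ρ ∈ U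
  ca : ∀ b ∈ A, Commute ρ b
  mem : a ∈ A
  nN : ∀ v ∈ U, ∃ v' ∈ U, ∃ w ∈ U, ρ⁻¹ * (t * v * t) * ρ = t * v' * t * w
  sq : ∃ μ, In U X μ ∧ ρ * ρ = a * μ
  zc : ∀ z ∈ U, Commute t z → Commute ρ z

theorem In.n (h : In U X μ) (ht : t ∈ X) (hv : v ∈ U) : Commute μ (t * v * t) :=
  ((h.2 t ht).mul_right (h.1 v hv)).mul_right (h.2 t ht)

namespace Cf

variable (C : Cf U A t)
include C

theorem co (hu : u ∈ U) (hv : v ∈ U) : Commute u v := by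
  rw [Commute, SemiconjBy, ← inv_eq_of_mul_eq_one_right (C.sq _ (mul_mem hu hv)), mul_inv_rev,
    inv_eq_of_mul_eq_one_right (C.sq _ hu), inv_eq_of_mul_eq_one_right (C.sq _ hv)]

theorem nn (hv : v ∈ U) : t * v * t * (t * v * t) = 1 := by simp only [mul_assoc, cn C.tt, cn (C.sq v hv), C.tt]

theorem nm (u v : G) : t * (u * v) * t = t * u * t * (t * v * t) := by simp only [mul_assoc, cn C.tt]

theorem cz (hu : u ∈ U) (hv : v ∈ U) : Commute t (Dl t u v) := C.zt _ (C.cm u hu v hv) (by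
  convert inv_mem (C.cm v hv u hu) using 1
  simp only [Dl, mul_inv_rev, inv_eq_of_mul_eq_one_right C.tt, inv_eq_of_mul_eq_one_right (C.sq _ hu),
    inv_eq_of_mul_eq_one_right (C.sq _ hv), mul_assoc, C.tt, cn C.tt, mul_one])

theorem tz (h : Commute t z) : t * z * t = z := by rw [h.eq, mul_assoc, C.tt, mul_one]

theorem dl_mul (ha : a ∈ A) (hu : u ∈ U) (hv : v ∈ U) : Dl t a (u * v) = Dl t a u * Dl t a v * Dl t (Dl t a v) u := by
  have h1 := C.sq _ (C.dl a ha v hv)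
  have h2 : Commute (t * u * t) (t * v * t) := by rw [Commute, SemiconjBy, ← C.nm, (C.co hu hv).eq, C.nm]
  have h3 := C.nn hu
  have h4 : Dl t a v * Dl t (Dl t a v) u = t * u * t * Dl t a v * (t * u * t) := by
    rw [Dl.eq_def t (Dl t a v), mul_assoc (Dl t a v), mul_assoc (Dl t a v), cn h1]
  rw [mul_assoc, h4, Dl, Dl, Dl, C.nm]
  generalize t * u * t = n at *
  generalize t * v * t = m at *
  simp only [mul_assoc, cn h3, cn (C.aa a ha)]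
  rw [h2.eq]

theorem dl_z (ha : a ∈ A) (hz : z ∈ U) (h : Commute t z) : Dl t a z = 1 := by
  rw [Dl, C.tz h, (C.au a ha z hz).eq, mul_assoc z, C.aa a ha, mul_one, C.sq z hz]

theorem surj (ha : a ∈ A) (hu : u ∈ U) : ∃ v ∈ U, ∃ z ∈ U, Commute t z ∧ u = Dl t a v * z := by
  let Z := (centralizer {t}).subgroupOf U
  have mZ : ∀ x : U, x ∈ Z ↔ Commute t x := fun x => mem_centralizer_singleton_iff.trans eq_comm
  have : Z.Normal := ⟨fun n hn g => by rwa [show g * n = n * g from Subtype.ext (C.co g.2 n.2).eq, mul_inv_cancel_right]⟩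
  let f : U →* U ⧸ Z := MonoidHom.mk' (fun v => (⟨_, C.dl a ha v v.2⟩ : U)) fun u v => by
    rw [← QuotientGroup.mk_mul, eq_comm, QuotientGroup.eq, mZ]
    show Commute t ((Dl t a u * Dl t a v)⁻¹ * Dl t a (u * v))
    rw [C.dl_mul ha u.2 v.2, inv_mul_cancel_left]
    exact C.cz (C.dl a ha v v.2) u.2
  have k : Z = f.ker := Subgroup.ext fun v => by
    rw [MonoidHom.mem_ker, MonoidHom.mk'_apply, QuotientGroup.eq_one_iff, mZ, mZ]
    exact ⟨fun k => by simp [C.dl_z ha v.2 k], C.inj a ha v v.2⟩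
  obtain ⟨v, hv⟩ := Finite.surjective_of_injective ((QuotientGroup.injective_lift_iff Z f k.le).2 k) (⟨u, hu⟩ : U)
  obtain ⟨v, rfl⟩ := QuotientGroup.mk_surjective v
  exact ⟨v, v.2, _, mul_mem (inv_mem (C.dl a ha v v.2)) hu, (mZ _).1 (QuotientGroup.eq.1 hv), (mul_inv_cancel_left _ _).symm⟩

theorem ndn (ha : a ∈ A) (hv : v ∈ U) : a * (t * v * t) * a = t * v * t * Dl t a v := by
  rw [← inv_eq_of_mul_eq_one_right (C.sq _ (C.dl a ha v hv)), Dl]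
  have h3 := C.nn hv
  generalize t * v * t = n at *
  simp only [mul_inv_rev, inv_eq_of_mul_eq_one_right h3, inv_eq_of_mul_eq_one_right (C.aa a ha), mul_assoc, cn h3]

theorem ka_mul (R : Ro U X A t ρ a) (hv : v ∈ U) (hu : u ∈ U) : ka ρ (u * v) = ka ρ u * ka ρ v := by
  rw [ka, ka, ka, ← (C.co hv (R.nU u hu)).mul_mul_mul_comm]; group

theorem ka_iff (hu : u ∈ U) : ka ρ u = 1 ↔ Commute ρ u := by
  rw [ka, mul_eq_one_iff_inv_eq, inv_eq_of_mul_eq_one_right (C.sq u hu), mul_assoc, eq_inv_mul_iff_mul_eq]; rfl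

theorem ka_mem (R : Ro U X A t ρ a) (hu : u ∈ U) : ka ρ u ∈ U := mul_mem hu (R.nU u hu)

theorem ka_ka (R : Ro U X A t ρ a) (hu : u ∈ U) : Commute ρ (ka ρ u) := by
  obtain ⟨μ, h1, h2⟩ := R.sq
  have : Commute (ρ * ρ) u := h2 ▸ (C.au a R.mem u hu).mul_left (h1.1 u hu)
  rw [← C.ka_iff (C.ka_mem R hu), ka, ka, show ρ⁻¹ * (u * (ρ⁻¹ * u * ρ)) * ρ = ρ⁻¹ * u * ρ * ((ρ * ρ)⁻¹ * u * (ρ * ρ)) by group,
    this.inv_left.eq, inv_mul_cancel_right, mul_assoc, cn (C.sq _ (R.nU u hu)), C.sq u hu]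

theorem ka_dl (R : Ro U X A t ρ a) (hb : b ∈ A) {v'} (hv : v ∈ U) (hv' : v' ∈ U) (hw : w ∈ U) (e : ρ⁻¹ * (t * v * t) * ρ = t * v' * t * w) :
    Commute t (ka ρ (Dl t b v)) ↔ Commute t (Dl t b (v * v')) := by
  have e1 : ρ⁻¹ * b * ρ = b := by rw [mul_assoc, ← (R.ca b hb).eq, inv_mul_cancel_left]
  have e2 : ρ⁻¹ * Dl t b v * ρ = Dl t b v' * (Dl t w v')⁻¹ := by
    calc _ = ρ⁻¹ * b * ρ * (ρ⁻¹ * (t * v * t) * ρ) * (ρ⁻¹ * b * ρ) * (ρ⁻¹ * (t * v * t) * ρ) := by rw [Dl]; group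
      _ = _ := by
        have h3 := C.nn hv'
        rw [e1, e, Dl, Dl]
        generalize t * v' * t = n at *
        simp only [mul_inv_rev, inv_eq_of_mul_eq_one_right h3, inv_eq_of_mul_eq_one_right (C.sq w hw), mul_assoc, cn h3,
          (C.au b hb w hw).symm.left_comm]
  rw [ka, e2, C.dl_mul hb hv hv', ← mul_assoc]
  have k : ∀ x y, Commute t y → (Commute t (x * y) ↔ Commute t x) := fun x y h =>
    ⟨fun k => by simpa using k.mul_right h.inv_right, fun k => k.mul_right h⟩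
  rw [k _ _ (C.cz hw hv').inv_right, k _ _ (C.cz (C.dl b hb _ hv') hv)]

theorem fix (R : Ro U X A t ρ a) (hb : b ∈ A) (hv : v ∈ U) (h : Commute t (ka ρ (Dl t b v))) :
    ∃ w ∈ U, ρ⁻¹ * (t * v * t) * ρ = t * v * t * w := by
  obtain ⟨v', hv', w, hw, e⟩ := R.nN v hv
  have := C.tz (C.inj b hb _ (mul_mem hv hv') ((C.ka_dl R hb hv hv' hw e).1 h))
  exact ⟨v * v' * w, mul_mem (mul_mem hv hv') hw, by rw [e, ← this, C.nm, mul_assoc (t * v * t), cn (C.nn hv)]⟩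

theorem dl_eq (R : Ro U X A t ρ a) (hv : v ∈ U) (e : ρ⁻¹ * (t * v * t) * ρ = t * v * t * c) : Dl t a v = ka ρ c := by
  obtain ⟨μ, h1, h2⟩ := R.sq
  have : (ρ * ρ)⁻¹ * (t * v * t) * (ρ * ρ) = t * v * t * ka ρ c := by
    calc _ = ρ⁻¹ * (ρ⁻¹ * (t * v * t) * ρ) * ρ := by group
      _ = ρ⁻¹ * (t * v * t * c) * ρ := by rw [e]
      _ = ρ⁻¹ * (t * v * t) * ρ * (ρ⁻¹ * c * ρ) := by group
      _ = _ := by rw [e, ka, mul_assoc]
  rw [h2, mul_inv_rev, inv_eq_of_mul_eq_one_right (C.aa a R.mem), mul_assoc μ⁻¹, mul_assoc μ⁻¹, ← mul_assoc _ a, C.ndn R.mem hv,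
    ← ((h1.n R.tX hv).mul_right (h1.1 _ (C.dl a R.mem v hv))).eq, inv_mul_cancel_left] at this
  exact mul_left_cancel this

theorem dec (R : Ro U X A t ρ a) (hu : u ∈ U) (h : Commute t (ka ρ u)) : ∃ v ∈ U, ∃ c ∈ U, ∃ z ∈ U, Commute t z ∧
    u = ka ρ c * z ∧ Dl t a v = ka ρ c ∧ ρ⁻¹ * (t * v * t) * ρ = t * v * t * c := by
  obtain ⟨v, hv, z, hz, h1, rfl⟩ := C.surj R.mem hu
  rw [C.ka_mul R hz (C.dl a R.mem v hv), (C.ka_iff hz).2 (R.zc z hz h1), mul_one] at h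
  obtain ⟨c, hc, e⟩ := C.fix R R.mem hv h
  exact ⟨v, hv, c, hc, z, hz, h1, by rw [C.dl_eq R hv e], C.dl_eq R hv e, e⟩

theorem ker (R : Ro U X A t ρ a) (hu : u ∈ U) (h : Commute t (ka ρ u)) : Commute ρ u := by
  obtain ⟨v, hv, c, hc, z, hz, h1, rfl, -⟩ := C.dec R hu h
  exact (C.ka_ka R hc).mul_right (R.zc z hz h1)

theorem im (R : Ro U X A t ρ a) (hw : w ∈ U) : ∃ v ∈ U, Dl t a v = ka ρ w := by
  obtain ⟨v, hv, c, hc, z, hz, h1, e, e1, -⟩ := C.dec R (C.ka_mem R hw) (by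
    rw [(C.ka_iff (C.ka_mem R hw)).2 (C.ka_ka R hw)]; exact Commute.one_right t)
  have e2 : ka ρ (c * w) = z := by rw [C.ka_mul R hw hc, e, cn (C.sq _ (C.ka_mem R hc))]
  rw [← e2, (C.ka_iff (mul_mem hc hw)).2 (C.ker R (mul_mem hc hw) (e2 ▸ h1)), mul_one] at e
  exact ⟨v, hv, e1.trans e.symm⟩

theorem quad (R : Ro U X A t ρ a) (R' : Ro U X A t ρ' b) (dis : ∀ v ∈ U, ∀ v' ∈ U, Dl t a v = Dl t b v' → Dl t a v = 1)
    (hc : ∀ u ∈ U, (ρ * ρ')⁻¹ * u * (ρ * ρ') = (ρ' * ρ)⁻¹ * u * (ρ' * ρ)) (hw : w ∈ U) : Commute ρ (ka ρ' w) := by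
  obtain ⟨v, hv, e⟩ := C.im R (C.ka_mem R' hw)
  obtain ⟨v', hv', e'⟩ := C.im R' (C.ka_mem R hw)
  rw [← C.ka_iff (C.ka_mem R' hw), ← e]
  refine dis v hv v' hv' (e.trans (Eq.trans ?_ e'.symm))
  calc _ = w * (ρ'⁻¹ * w * ρ') * (ρ⁻¹ * w * ρ * ((ρ' * ρ)⁻¹ * w * (ρ' * ρ))) := by rw [ka, ka]; group
    _ = w * (ρ⁻¹ * w * ρ) * (ρ'⁻¹ * w * ρ' * ((ρ * ρ')⁻¹ * w * (ρ * ρ'))) := by
      rw [hc w hw, (C.co (R'.nU w hw) (R.nU w hw)).mul_mul_mul_comm]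
    _ = _ := by rw [ka, ka]; group

theorem se (R : Ro U X A t ρ s) (hs : t * s * t = ρ⁻¹ * t * ρ) (hv : v ∈ U) (hc : c ∈ U)
    (e : ρ⁻¹ * (t * v * t) * ρ = t * v * t * c) : Commute ρ (v * c) := by
  have hd := C.dl s R.mem c hc
  have e1 : ρ⁻¹ * v * ρ = t * (v * Dl t s c) * t * (c * Dl t c (Dl t s c)) := by
    calc _ = ρ⁻¹ * t * ρ * (ρ⁻¹ * (t * v * t) * ρ) * (ρ⁻¹ * t * ρ) := by
          simp only [mul_assoc, mul_inv_cancel_left, cn C.tt]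
      _ = t * v * (s * (t * c * t) * s) * t := by
          rw [← hs, e]; simp only [mul_assoc, cn C.tt, (C.au s R.mem v hv).left_comm, cn (C.aa s R.mem)]
      _ = _ := by
          rw [C.ndn R.mem hc, Dl.eq_def t c]
          simp only [mul_assoc, cn C.tt, cn (C.sq c hc), cn (C.sq _ hd)]
  have h1 : Commute t (v * Dl t s c) := C.zt _ (mul_mem hv hd) ((mul_mem_cancel_right (mul_mem hc (C.cm c hc _ hd))).1
    (e1 ▸ R.nU v hv))
  have := (C.ka_ka R hv).mul_right (R.zc _ (C.cm c hc _ hd) (C.cz hc hd)).inv_right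
  rw [ka, e1, C.tz h1, ← mul_assoc, ← mul_assoc, mul_inv_cancel_right, mul_assoc, (C.co (mul_mem hv hd) hc).eq, ← mul_assoc] at this
  simpa only [mul_inv_cancel_right] using this.mul_right (R.zc _ (mul_mem hv hd) h1).inv_right

/-- `U` is commutative -/
@[reducible] def cg : CommGroup U := { (inferInstance : Group U) with mul_comm := fun a b => Subtype.ext (C.co a.2 b.2).eq }

theorem id7 {v1 w1 c1 v2 w2 c2 : G} (hv : v ∈ U) (hw : w ∈ U) (hc : c ∈ U) (hv1 : v1 ∈ U) (hw1 : w1 ∈ U) (hc1 : c1 ∈ U)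
    (hv2 : v2 ∈ U) (hw2 : w2 ∈ U) (hc2 : c2 ∈ U) :
    v * w * (v1 * w1) * (v2 * w2) * (v * c * (v1 * c1) * (v2 * c2)) * (c * c1 * c2) = w * w1 * w2 := by
  letI := C.cg
  have : ∀ v w c v1 w1 c1 v2 w2 c2 : U, v * w * (v1 * w1) * (v2 * w2) * (v * c * (v1 * c1) * (v2 * c2)) * (c * c1 * c2) =
    w * w1 * w2 * (v * v) * (v1 * v1) * (v2 * v2) * (c * c) * (c1 * c1) * (c2 * c2) := by intros; ac_rfl
  simpa [C.sq, *] using congrArg Subtype.val (this ⟨_, hv⟩ ⟨_, hw⟩ ⟨_, hc⟩ ⟨_, hv1⟩ ⟨_, hw1⟩ ⟨_, hc1⟩ ⟨_, hv2⟩ ⟨_, hw2⟩ ⟨_, hc2⟩)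

end Cf

/-- the torus -/
structure To (U X : Subgroup G) (A : Set G) (t ρ s : G) (Γ : Subgroup G) : Prop where
  tX : t ∈ X
  le : Γ ≤ X
  odd : Odd (Nat.card Γ)
  co : ∀ g ∈ Γ, ∀ h ∈ Γ, Commute g h
  nU : ∀ h ∈ Γ, ∀ u ∈ U, h * u * h⁻¹ ∈ U
  nA : ∀ h ∈ Γ, ∀ a ∈ A, h * a * h⁻¹ ∈ A
  inv : ∀ h ∈ Γ, In U X (h * (t * h * t))
  zc : ∀ h ∈ Γ, ∀ z ∈ U, Commute t z → Commute h z
  fx : ∀ h ∈ Γ, Commute h s → Commute h ρ
  cm : ∀ h ∈ Γ, ∀ u ∈ U, (ρ * (h * ρ * h⁻¹))⁻¹ * u * (ρ * (h * ρ * h⁻¹)) = (h * ρ * h⁻¹ * ρ)⁻¹ * u * (h * ρ * h⁻¹ * ρ)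
  add : ∀ h ∈ Γ, ¬ Commute h s → ∃ h' ∈ Γ, ∃ a, (a ∈ A ∨ a = 1) ∧ ∃ μ, In U X μ ∧ ρ * (h * ρ * h⁻¹) = h' * ρ * h'⁻¹ * (a * μ)
  ex : ∃ h ∈ Γ, ¬ Commute h s ∧ ¬ Commute (h * h * h) s

namespace To

variable (T : To U X A t ρ s Γ) (C : Cf U A t)
include T C

theorem cn (hh : h ∈ Γ) (hv : v ∈ U) : h⁻¹ * (t * v * t) * h = t * (h * v * h⁻¹) * t := by
  have := ((T.inv _ (inv_mem hh)).n T.tX (T.nU h hh v hv)).eq
  have e := (T.inv _ (inv_mem hh)).2 h (T.le hh)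
  calc _ = h⁻¹ * (t * h⁻¹ * t) * (t * (h * v * h⁻¹) * t) * (h⁻¹ * (t * h⁻¹ * t))⁻¹ := by
        simp only [mul_inv_rev, inv_eq_of_mul_eq_one_right C.tt, mul_assoc, RInv.cn C.tt, inv_mul_cancel_left, inv_inv]
    _ = _ := by rw [this, mul_inv_cancel_right]

theorem nU' (hh : h ∈ Γ) (hu : u ∈ U) : h⁻¹ * u * h ∈ U := by simpa using T.nU _ (inv_mem hh) u hu

theorem ro (R : Ro U X A t ρ s) (hh : h ∈ Γ) : Ro U X A t (h * ρ * h⁻¹) (h * s * h⁻¹) := by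
  refine ⟨R.tX, fun u hu => ?_, fun b hb => ?_, T.nA h hh s R.mem, fun v hv => ?_, ?_, fun z hz k => ?_⟩
  · simpa [mul_assoc] using T.nU h hh _ (R.nU _ (T.nU' C hh hu))
  · simpa [mul_assoc] using (R.ca _ (T.nA _ (inv_mem hh) b hb)).conj h
  · obtain ⟨v', hv', w, hw, e⟩ := R.nN _ (T.nU h hh v hv)
    refine ⟨_, T.nU _ (inv_mem hh) v' hv', _, T.nU h hh w hw, ?_⟩
    rw [← T.cn C (inv_mem hh) hv', inv_inv, conj_mul, ← e, ← T.cn C hh hv]; group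
  · obtain ⟨μ, h1, h2⟩ := R.sq
    exact ⟨μ, h1, by rw [conj_mul, h2, ← mul_assoc, mul_assoc _ μ, (h1.2 h (T.le hh)).inv_right.eq, ← mul_assoc]⟩
  · exact ((T.zc h hh z hz k).mul_left (R.zc z hz k)).mul_left (T.zc h hh z hz k).inv_left

variable (R : Ro U X A t ρ s) (hs : t * s * t = ρ⁻¹ * t * ρ)
  (dis : ∀ a ∈ A, ∀ b ∈ A, a ≠ b → ∀ v ∈ U, ∀ v' ∈ U, Dl t a v = Dl t b v' → Dl t a v = 1)
include R dis

theorem q1 (hh : h ∈ Γ) (hw : w ∈ U) : Commute ρ (ka (h * ρ * h⁻¹) w) ∧ Commute (h * ρ * h⁻¹) (ka ρ w) := by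
  by_cases k : Commute h s
  · rw [(T.fx h hh k).eq, mul_inv_cancel_right]; exact ⟨C.ka_ka R hw, C.ka_ka R hw⟩
  have n : s ≠ h * s * h⁻¹ := fun e => k (mul_inv_eq_iff_eq_mul.1 e.symm)
  have R' := T.ro C R hh
  exact ⟨C.quad R R' (dis _ R.mem _ R'.mem n) (T.cm h hh) hw,
    C.quad R' R (dis _ R'.mem _ R.mem n.symm) (fun u hu => (T.cm h hh u hu).symm) hw⟩

theorem q2 (hh : h ∈ Γ) (hu : u ∈ U) (k : Commute ρ u) : Commute (h * ρ * h⁻¹) u := by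
  obtain ⟨v, hv, c, hc, z, hz, h1, rfl, -⟩ := C.dec R hu (by rw [(C.ka_iff hu).2 k]; exact Commute.one_right t)
  exact (T.q1 C R dis hh hc).2.mul_right ((T.ro C R hh).zc z hz h1)

theorem q3 (hh : h ∈ Γ) (hu : u ∈ U) (k : Commute ρ u) : Commute ρ (h * u * h⁻¹) := by
  simpa [mul_assoc] using (T.q2 C R dis (inv_mem hh) hu k).conj h

theorem q6 {h'} (hh : h ∈ Γ) (hh' : h' ∈ Γ) (ha : a ∈ A ∨ a = 1) (hμ : In U X μ)
    (e : ρ * (h * ρ * h⁻¹) = h' * ρ * h'⁻¹ * (a * μ)) (hu : u ∈ U) : ka ρ u * ka (h * ρ * h⁻¹) u = ka (h' * ρ * h'⁻¹) u := by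
  have m := (T.ro C R hh').nU _ hu
  have c1 : Commute (a * μ) _ := Commute.mul_left (ha.elim (fun ha => C.au a ha _ m) fun e => e ▸ Commute.one_left _) (hμ.1 _ m)
  have c2 := (T.q1 C R dis hh hu).2
  calc _ = u * ((h * ρ * h⁻¹)⁻¹ * u * ((h * ρ * h⁻¹) * ka ρ u)) := by
        rw [(C.co (C.ka_mem R hu) (C.ka_mem (T.ro C R hh) hu)).eq, ka.eq_def (h * ρ * h⁻¹)]; simp only [mul_assoc]
    _ = u * ((h * ρ * h⁻¹)⁻¹ * (u * u) * (ρ⁻¹ * u * ρ) * (h * ρ * h⁻¹)) := by rw [c2.eq, ka]; simp only [mul_assoc]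
    _ = u * ((ρ * (h * ρ * h⁻¹))⁻¹ * u * (ρ * (h * ρ * h⁻¹))) := by rw [C.sq u hu]; group
    _ = u * ((a * μ)⁻¹ * ((h' * ρ * h'⁻¹)⁻¹ * u * (h' * ρ * h'⁻¹) * (a * μ))) := by rw [e]; group
    _ = _ := by rw [← c1.eq, inv_mul_cancel_left, ka]

include hs

theorem q4 (hh : h ∈ Γ) (hv : v ∈ U) (hc : c ∈ U) (e : ρ⁻¹ * (t * v * t) * ρ = t * v * t * c) :
    ∃ c ∈ U, (h * ρ * h⁻¹)⁻¹ * (t * v * t) * (h * ρ * h⁻¹) = t * v * t * c ∧ Commute ρ (h * h * v * (h * h)⁻¹ * c) := by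
  have m := C.dl s R.mem v hv
  obtain ⟨c', hc', e'⟩ := C.fix (T.ro C R hh) R.mem hv (by
    rw [(C.ka_iff m).2 (T.q2 C R dis hh m (C.dl_eq R hv e ▸ C.ka_ka R hc))]; exact Commute.one_right t)
  refine ⟨c', hc', e', ?_⟩
  have := T.q3 C R dis hh (mul_mem (T.nU h hh v hv) (T.nU' C hh hc')) (C.se R hs (T.nU h hh v hv) (T.nU' C hh hc') (by
    rw [← T.cn C hh hv]
    calc _ = h⁻¹ * ((h * ρ * h⁻¹)⁻¹ * (t * v * t) * (h * ρ * h⁻¹)) * h := by group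
      _ = _ := by rw [e']; group))
  convert this using 1; group

theorem q5 {h'} (hh : h ∈ Γ) (hh' : h' ∈ Γ) (ha : a ∈ A ∨ a = 1) (hμ : In U X μ) (e : ρ * (h * ρ * h⁻¹) = h' * ρ * h'⁻¹ * (a * μ))
    (hw : w ∈ U) : Commute ρ (w * (h * h * w * (h * h)⁻¹) * (h' * h' * w * (h' * h')⁻¹)) := by
  obtain ⟨v, hv, c, hc, z, hz, h1, e1, -, e2⟩ := C.dec R (C.ka_mem R hw) (by
    rw [(C.ka_iff (C.ka_mem R hw)).2 (C.ka_ka R hw)]; exact Commute.one_right t)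
  have k0 := C.se R hs hv hc e2
  have k1 : Commute ρ (c * w) := C.ker R (mul_mem hc hw) (by rwa [C.ka_mul R hw hc, e1, RInv.cn (C.sq _ (C.ka_mem R hc))])
  have k2 : Commute ρ (v * w) := by simpa only [mul_assoc, RInv.cn (C.sq c hc)] using k0.mul_right k1
  obtain ⟨c1, m1, e3, k3⟩ := T.q4 C R hs dis hh hv hc e2
  obtain ⟨c2, m2, e4, k4⟩ := T.q4 C R hs dis hh' hv hc e2
  obtain ⟨d, md, e5, k5⟩ : ∃ d ∈ U, a⁻¹ * (t * v * t * c2) * a = t * v * t * (d * c2) ∧ Commute ρ d := by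
    rcases ha with ha | rfl
    · refine ⟨_, C.dl a ha v hv, ?_, C.ker R (C.dl a ha v hv) ((C.ka_dl R ha hv hv hc e2).2 (by
        rw [C.dl_z ha (mul_mem hv hv) (by simp [C.sq v hv])]; exact Commute.one_right t))⟩
      rw [← mul_assoc (t * v * t), ← C.ndn ha hv, inv_eq_of_mul_eq_one_right (C.aa a ha), mul_assoc _ a, (C.au a ha c2 m2).eq]
      simp only [mul_assoc]
    · exact ⟨1, one_mem _, by simp, Commute.one_right _⟩
  have m3 := (T.ro C R hh).nU c hc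
  have e6 : c1 * ((h * ρ * h⁻¹)⁻¹ * c * (h * ρ * h⁻¹)) = d * c2 := mul_left_cancel (a := t * v * t) (by
    calc _ = (h * ρ * h⁻¹)⁻¹ * (ρ⁻¹ * (t * v * t) * ρ) * (h * ρ * h⁻¹) := by rw [← mul_assoc, ← e3, e2]; group
      _ = (ρ * (h * ρ * h⁻¹))⁻¹ * (t * v * t) * (ρ * (h * ρ * h⁻¹)) := by group
      _ = μ⁻¹ * (a⁻¹ * ((h' * ρ * h'⁻¹)⁻¹ * (t * v * t) * (h' * ρ * h'⁻¹)) * a) * μ := by rw [e]; group
      _ = _ := by rw [e4, e5, mul_assoc, ← ((hμ.n R.tX hv).mul_right (hμ.1 _ (mul_mem md m2))).eq, inv_mul_cancel_left])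
  have k6 : Commute ρ (c * c1 * c2) := by
    have := (T.q1 C R dis hh hc).1.mul_right k5
    rwa [ka, eq_mul_inv_of_mul_eq e6.symm, (C.co m1 m3).eq, mul_assoc c, mul_assoc _ c1, RInv.cn (C.sq _ m3),
      inv_eq_of_mul_eq_one_right (C.sq _ m2), ← mul_assoc] at this
  have k7 := T.q3 C R dis (mul_mem hh hh) (mul_mem hv hw) k2
  have k8 := T.q3 C R dis (mul_mem hh' hh') (mul_mem hv hw) k2
  rw [← conj_mul] at k7 k8
  rw [← C.id7 hv hw hc (T.nU _ (mul_mem hh hh) v hv) (T.nU _ (mul_mem hh hh) w hw) m1 (T.nU _ (mul_mem hh' hh') v hv)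
    (T.nU _ (mul_mem hh' hh') w hw) m2]
  exact (((k2.mul_right k7).mul_right k8).mul_right ((k0.mul_right k3).mul_right k4)).mul_right k6

theorem contra (hu : u ∈ U) : Commute t u := by
  letI := C.cg
  haveI := Fintype.ofFinite Γ
  let L : ∀ g : G, (∀ u ∈ U, g * u * g⁻¹ ∈ U) → AddMonoid.End (Additive U) := fun g hg =>
    AddMonoidHom.mk' (fun u => Additive.ofMul ⟨_, hg _ u.toMul.2⟩) fun u v => Subtype.ext (conj_mul).symm
  let τ : Γ →* AddMonoid.End (Additive U) :=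
    ⟨⟨fun h => L h (T.nU h h.2), AddMonoidHom.ext fun u => Subtype.ext (show (1 : G) * u.toMul * 1⁻¹ = u.toMul by simp)⟩,
      fun g h => AddMonoidHom.ext fun u => Subtype.ext (show (g * h : G) * u.toMul * (g * h : G)⁻¹ = g * (h * u.toMul * (h : G)⁻¹) * (g : G)⁻¹ by group)⟩
  let κ : AddMonoid.End (Additive U) := 1 + L ρ⁻¹ (by simpa using R.nU)
  have eτ : ∀ (h : Γ) (u : Additive U), ((τ h u).toMul : G) = h * u.toMul * h⁻¹ := fun _ _ => rfl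
  have eκ : ∀ u : Additive U, ((κ u).toMul : G) = ka ρ u.toMul := fun u => by rw [ka, ← inv_inv ρ, inv_inv ρ⁻¹]; rfl
  have z0 : ∀ u : Additive U, κ u = 0 ↔ Commute ρ (u.toMul : G) := fun u => by
    rw [← C.ka_iff u.toMul.2, ← eκ]; exact Subtype.ext_iff
  have eh : ∀ (h : Γ) (u : Additive U), (((τ h * κ * τ h⁻¹) u).toMul : G) = ka (h * ρ * h⁻¹) u.toMul := fun h u => by
    show ((τ h (κ (τ h⁻¹ u))).toMul : G) = _
    rw [eτ, eκ, eτ, ka, ka]; simp [mul_assoc]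
  have h2 : ∀ x : Additive U, x + x = 0 := fun x => Subtype.ext (C.sq _ x.toMul.2)
  obtain ⟨h, hh, s1, s3⟩ := T.ex
  have key := ring_part τ (fun x => AddMonoidHom.ext fun u => h2 _) T.odd (fun g h => Subtype.ext (T.co _ g.2 _ h.2).eq) (κ := κ)
    (fun g Y k => AddMonoidHom.ext fun u => (z0 _).2 (T.q3 C R dis g.2 (Y u).toMul.2 ((z0 _).1 (DFunLike.congr_fun k u))))
    (S := fun h => ¬ Commute (h : G) s) (fun h k => by
      obtain ⟨h', hh', a, ha, μ, hμ, e⟩ := T.add h h.2 k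
      refine ⟨⟨h', hh'⟩, AddMonoidHom.ext fun u => (z0 _).2 (T.q5 C R hs dis h.2 hh' ha hμ e u.toMul.2), AddMonoidHom.ext fun u =>
        Subtype.ext (Eq.trans ?_ (eh ⟨h', hh'⟩ u).symm)⟩
      show ((κ u).toMul : G) * ((τ h * κ * τ h⁻¹) u).toMul = _
      rw [eκ, eh]
      exact T.q6 C R dis h.2 hh' ha hμ e u.toMul.2) (h := ⟨h, hh⟩) s1 s3
  set ε := ∑ g, τ g
  have eε : ∀ g, ε * τ g = ε := fun g => by
    rw [Finset.sum_mul]; exact Fintype.sum_equiv (Equiv.mulRight g) _ _ fun x => (map_mul τ x g).symm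
  have ez : ∀ z : Additive U, Commute t (z.toMul : G) → ε z = z := fun z k => by
    obtain ⟨n, hn⟩ := T.odd
    rw [show ε z = ∑ g, τ g z from AddMonoidHom.finsetSum_apply _ _ _, Finset.sum_congr rfl (g := fun _ => z) fun g _ => show τ g z = z from
      Subtype.ext ((eτ g z).trans (mul_inv_eq_iff_eq_mul.2 (T.zc g g.2 _ z.toMul.2 k).eq)), Finset.sum_const, Finset.card_univ, ← Nat.card_eq_fintype_card, hn,
      add_nsmul, mul_nsmul, two_nsmul, h2, nsmul_zero, zero_add, one_nsmul]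
  have fin : ∀ u ∈ U, Commute ρ u → Commute t u := fun u hu k => by
    have R' := T.ro C R hh
    obtain ⟨v, hv, c, hc, z, hz, h1, e1, e2, -⟩ := C.dec R hu (by rw [(C.ka_iff hu).2 k]; exact Commute.one_right t)
    obtain ⟨v', hv', c', hc', z', hz', h1', e1', e2', -⟩ := C.dec R' hu (by
      rw [(C.ka_iff hu).2 (T.q2 C R dis hh hu k)]; exact Commute.one_right t)
    have a1 : Additive.ofMul (⟨u, hu⟩ : U) = κ (.ofMul ⟨c, hc⟩) + .ofMul ⟨z, hz⟩ :=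
      Subtype.ext (e1.trans (congrArg (· * z) (eκ (.ofMul ⟨c, hc⟩)).symm))
    have a2 : Additive.ofMul (⟨u, hu⟩ : U) = (τ ⟨h, hh⟩ * κ * τ ⟨h, hh⟩⁻¹) (.ofMul ⟨c', hc'⟩) + .ofMul ⟨z', hz'⟩ :=
      Subtype.ext (e1'.trans (congrArg (· * z') (eh ⟨h, hh⟩ (.ofMul ⟨c', hc'⟩)).symm))
    have a3 := congrArg ε (a1.symm.trans a2)
    rw [map_add, map_add, ez (.ofMul ⟨z, hz⟩) h1, ez (.ofMul ⟨z', hz'⟩) h1', show ε (κ _) = 0 from DFunLike.congr_fun key _, show ε ((τ _ * κ * τ _) _) = 0 from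
      DFunLike.congr_fun (show ε * (τ _ * κ * τ _) = 0 by rw [← mul_assoc, ← mul_assoc, eε, key, zero_mul]) _, zero_add, zero_add] at a3
    obtain rfl : z = z' := congrArg Subtype.val a3
    rwa [e1, ← e2, dis _ R.mem _ R'.mem (fun e => s1 (mul_inv_eq_iff_eq_mul.1 e.symm)) v hv v' hv'
      (e2.trans ((mul_right_cancel (e1.symm.trans e1')).trans e2'.symm)), one_mul]
  exact fin u hu (C.ker R hu (fin _ (C.ka_mem R hu) (C.ka_ka R hu)))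

end To

end Cfsg.Lib.Layer.OTr
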