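/-
Odd transpositions: `E_d ∪ 1` is a group.
-/
import Cfsg.Agent.Lib.Layer.OTd

set_option autoImplicit false
set_option linter.unusedSectionVars false

universe u

namespace Cfsg.Lib.Layer.OTr

open Subgroup Cfsg.Lib.Invol Cfsg.Lib.RInv Cfsg.Lib.BS Relation

variable {G : Type u} [Group G] [Finite G] {D S T : Set G} {a b c d e f g m n r s t u w x y z : G}

theorem BC.b5' (h : BC D) (hG : closure D = ⊤) (hw : w * w = 1) (hu : u ∈ D) (hn : ¬ Commute u (w * u * w)) (hd : d ∈ D)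
    (hc : Commute w d) : ∃ f ∈ D, Commute f d ∧ Commute (w * f) u := by
  have cj : ∀ g, ∀ d ∈ D, g * d * g⁻¹ ∈ D := fun g d => h.ri.cjc (hG.ge (mem_top g))
  have m : w * u * w ∈ D := by simpa only [inv_eq_of_mul_eq_one_right hw] using cj w u hu
  obtain ⟨_, h', k1, all, -⟩ := h.pack hG hu m hn
  obtain ⟨k, hk, e⟩ := all (qm G w) (two_of_mul_self (by rw [← map_mul, hw, map_one]) fun e =>
    hn (k1 _ hu _ m (by simp only [map_mul, e, one_mul, mul_one]; rfl)))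
  obtain ⟨g, z, e1, e2, e3, e4⟩ := exists_t (h.sq hu) hw (h.od hu m hn).2
  refine ⟨_, cj g u hu, h.tr _ (cj g u hu) k hk d hd (k1 _ (cj g u hu) k hk ?_) (k1 k hk d hd (e ▸ hc.map _)), ?_⟩
  · rw [e, e1]; exact Commute.map (Commute.mul_left e3 (Commute.refl w)) _
  · rwa [e1, ← mul_assoc, ← e3, mul_assoc, hw, mul_one]

theorem BC.b5 (h : BC D) (m : w ∈ closure D) (hw : w * w = 1) (hu : u ∈ D) (hn : ¬ Commute u (w * u * w)) (hd : d ∈ D)
    (hc : Commute w d) : ∃ f ∈ D, Commute f d ∧ Commute (w * f) u := by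
  obtain ⟨f, hf, h1, h2⟩ := h.pre.b5' closure_closure_coe_preimage (w := ⟨w, m⟩) (u := ⟨u, subset_closure hu⟩)
    (d := ⟨d, subset_closure hd⟩) (Subtype.ext hw) hu (fun k => hn (by exact k.map (closure D).subtype)) hd (Subtype.ext hc.eq)
  exact ⟨f, hf, h1.map (closure D).subtype, h2.map (closure D).subtype⟩

/-- the kernel -/
structure Ker (D : Set G) (O : Subgroup G) : Prop where
  le : O ≤ closure D
  cj : ∀ g ∈ closure D, ∀ n ∈ O, g * n * g⁻¹ ∈ O
  co : ∀ x ∈ D, ∀ y ∈ D, x * y ∈ O → Commute x y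
  nm : ∀ x ∈ D, x ∉ O
  ci : ∀ x ∈ D, ∀ y ∈ D, Commute x y → ∀ u ∈ D, ¬ Commute u x → Commute (x * u * x) (y * u * y) → x * y ∈ O

theorem BC.ker (h : BC D) (he : e ∈ D) (ht : t ∈ D) (hn : ¬ Commute e t) : ∃ O, Ker D O := by
  obtain ⟨_, h', k1, all, -⟩ := h.pre.pack closure_closure_coe_preimage (e := ⟨e, subset_closure he⟩)
    (t := ⟨t, subset_closure ht⟩) he ht fun k => hn (by exact k.map (closure D).subtype)
  set Y := closure D
  have mO : ∀ x : Y, (x : G) ∈ (twoZCore Y).map Y.subtype ↔ qm Y x = 1 := fun x =>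
    (mem_map_iff_mem Y.subtype_injective).trans (QuotientGroup.eq_one_iff x).symm
  refine ⟨(twoZCore Y).map Y.subtype, map_subtype_le _, ?_, fun x hx y hy k => ?_, fun x hx k => ?_, fun x hx y hy k u hu k1' k2 => ?_⟩
  · rintro g hg _ ⟨n, hn, rfl⟩
    exact ⟨_, (twoZCore_normal Y).conj_mem n hn ⟨g, hg⟩, rfl⟩
  · have := (mO (⟨x, subset_closure hx⟩ * ⟨y, subset_closure hy⟩)).1 k
    rw [map_mul, mul_eq_one_iff_eq_inv] at this
    exact (k1 ⟨x, subset_closure hx⟩ hx ⟨y, subset_closure hy⟩ hy (this ▸ (Commute.refl _).inv_left)).map Y.subtype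
  · exact h'.ri.ne ⟨⟨x, subset_closure hx⟩, hx, rfl⟩ ((mO ⟨x, subset_closure hx⟩).1 k)
  · refine (mO (⟨x, subset_closure hx⟩ * ⟨y, subset_closure hy⟩)).2 ?_
    rw [map_mul, h'.b1 all ⟨⟨x, subset_closure hx⟩, hx, rfl⟩ ⟨⟨y, subset_closure hy⟩, hy, rfl⟩ (Commute.map (Subtype.ext k.eq) _)
      ⟨⟨u, subset_closure hu⟩, hu, rfl⟩ (fun k => k1' (by exact (k1 _ hu _ hx k).map Y.subtype))
      (by simp only [← map_mul]; exact Commute.map (Subtype.ext k2.eq) _), h'.sq ⟨_, hy, rfl⟩]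

theorem OT.mid' (h : OT D) (he : e ∈ D) (hx : x ∈ D) (hn : ¬ Commute e x) :
    ∃ m ∈ D, m ∈ closure {e, x} ∧ m * e * m⁻¹ = x ∧ m * x * m⁻¹ = e := by
  obtain ⟨g, hg, hm, e1⟩ := h.ri.mid he hx (h.od he hx hn)
  refine ⟨_, hm, mul_mem (mul_mem hg (subset_closure (by simp))) (inv_mem hg), by rw [h.inv hm, e1], ?_⟩
  generalize g * e * g⁻¹ = m at hm e1
  simp [← e1, h.inv hm, mul_assoc, cn (h.sq hm), h.sq hm]

theorem OT.line_le (h : OT D) (ha : a ∈ D) (hu : u ∈ D) (hn : ¬ Commute a u) : closure (E D a ∪ {u}) ≤ closure (E D u ∪ {a}) := by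
  obtain ⟨m, hm, m1, e1, -⟩ := h.mid' ha hu hn
  have m2 : m ∈ closure (E D u ∪ {a}) := closure_mono (by simp [Set.insert_subset_iff, E.self hu]) m1
  refine (closure_le _).2 ?_
  rintro f (k | rfl)
  · rw [show f = m⁻¹ * (m * f * m⁻¹) * m by group]
    exact mul_mem (mul_mem (inv_mem m2) (subset_closure (.inl (e1 ▸ h.conjE (subset_closure hm) k)))) m2
  · exact subset_closure (.inl (E.self hu))

theorem OC.line (h : OC D) (ha : a ∈ D) (hu : u ∈ D) (hn : ¬ Commute u a) : Gen D (E D a ∪ {u}) u ∧ OC (Kl (E D a ∪ {u}) u) ∧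
    BC (Kl (E D a ∪ {u}) u) ∧ ∀ x ∈ Kl (E D a ∪ {u}) u, Commute x a → x ∈ E D a := by
  obtain ⟨g, o⟩ := h.gen ha hu hn (fun _ => E.mem) (fun s hs k => hn (E.of' hs hu k.symm)) subset_rfl
  have k : ∀ x ∈ Kl (E D a ∪ {u}) u, Commute x a → x ∈ E D a := fun x hx => h.P ha hu hn (g.kD hx) (Kl.le g.mem hx)
  refine ⟨g, o, o.bc fun hc => ?_, k⟩
  obtain ⟨r, hr, h1, h2⟩ := o.near hc (g.sk (.inl (E.self ha))) Kl.self
  exact hn (E.of' (k r hr h1) hu h2.symm)

theorem sqE (h : OT D) (hw : w ∈ closure (E D a)) : w * w = 1 := sq_closure (fun _ k => h.sq k.1) (fun _ k _ => E.comm k) hw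

theorem coE (hw : w ∈ closure (E D a)) (hy : y ∈ D) (k : Commute y a) : Commute y w := cent_closure (fun _ hs => E.of hs hy k) hw

theorem OC.phi (h : OC D) (ha : a ∈ D) (hw : w ∈ closure (E D a)) (hu : u ∈ D) (hn : ¬ Commute u (w * u * w)) :
    ¬ Commute u a ∧ ∃ f ∈ E D a, Commute (w * f) u := by
  have n : ¬ Commute u a := fun k => hn (((coE hw hu k).mul_right rfl).mul_right (coE hw hu k))
  obtain ⟨g, -, B, k⟩ := h.line ha hu n
  obtain ⟨f, hf, h1, h2⟩ := B.b5 (g.cl_eq.ge (closure_mono Set.subset_union_left hw)) (sqE h.toOT hw) Kl.self hn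
    (g.sk (.inl (E.self ha))) (coE hw ha rfl).symm
  exact ⟨n, f, k f hf h1, h2⟩

/-- the global set-up -/
structure GS (D : Set G) : Prop extends OC D where
  top : closure D = ⊤
  simp : ∀ N : Subgroup G, N.Normal → N ≠ ⊤ → N = ⊥
  conn : ∀ a ∈ D, ∀ b ∈ D, ReflTransGen (NO D) a b

namespace GS

variable (h : GS D)
include h

theorem cja (g : G) (hd : d ∈ D) : g * d * g⁻¹ ∈ D := h.ri.cjc (h.top.ge (mem_top g)) hd

theorem cjE (g : G) (hf : f ∈ E D e) : g * f * g⁻¹ ∈ E D (g * e * g⁻¹) := h.conjE (h.top.ge (mem_top g)) hf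

theorem a3 (ha : a ∈ D) (hw : w ∈ closure (E D a)) (h1 : w ≠ 1) : ∃ u ∈ D, ¬ Commute u (w * u * w) := by
  by_contra! k
  let N : Subgroup G :=
    { carrier := {g | ∀ u ∈ D, g * u * g⁻¹ ∈ E D u}
      mul_mem' := fun {x y} hx hy u hu => by
        have := hx _ (hy u hu).1
        rw [E.eq (hy u hu)] at this
        simpa only [mul_assoc, mul_inv_rev] using this
      one_mem' := fun u hu => by simpa using E.self hu
      inv_mem' := fun {x} hx u hu => by
        have := hx _ (h.cja x⁻¹ hu)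
        simp only [mul_assoc, inv_inv, inv_mul_cancel, mul_inv_cancel, mul_one, mul_inv_cancel_left] at this
        simpa only [mul_assoc, inv_inv] using E.eq this ▸ E.self (by simpa only [mul_assoc, inv_inv] using h.cja x⁻¹ hu) }
  have hN : N.Normal := ⟨fun n hn g u hu => by simpa [mul_assoc] using h.cjE g (hn _ (h.cja g⁻¹ hu))⟩
  obtain ⟨x, hx, o⟩ := h.cl.ni a ha
  refine h1 (mem_bot.1 ((h.simp N hN fun e => (h.od_iff ha hx).1 o (h.of_conj ha hx ?_)).le fun u hu => ?_))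
  · simpa only [h.inv hx] using E.of (e.ge (mem_top x) a ha) ha rfl
  by_cases c : Commute u a
  · rw [← (coE hw hu c).eq, mul_inv_cancel_right]; exact E.self hu
  have m := closure_mono (Set.subset_union_left (t := {u})) hw
  exact h.P hu ha (fun k => c k.symm) (h.cja w hu) (h.line_le ha hu (fun k => c k.symm)
    (mul_mem (mul_mem m (subset_closure (.inr rfl))) (inv_mem m))) (by
      rw [inv_eq_of_mul_eq_one_right (sqE h.toOT hw)]; exact (k u hu).symm)

theorem a4 (ha : a ∈ D) (hz : z ∈ closure (E D a)) (hy : y ∈ D) (hn : ¬ Commute a y) (hc : Commute z y) : z = 1 := by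
  by_contra h1
  obtain ⟨u, hu, k⟩ := h.a3 ha hz h1
  obtain ⟨m, hm, m1, e1, -⟩ := h.mid' ha hy hn
  have hz' : z ∈ closure (E D y) := by
    have : Commute z m := cent_closure (by rintro _ (rfl | rfl); exacts [(coE hz ha rfl).symm, hc]) m1
    rw [← mul_inv_cancel_right z m, this.eq]
    exact (show closure (E D a) ≤ (closure (E D y)).comap (MulAut.conj m).toMonoidHom from
      (closure_le _).2 fun f hf => subset_closure (e1 ▸ h.cjE m hf)) hz
  obtain ⟨n1, f, hf, c1⟩ := h.phi ha hz hu k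
  obtain ⟨-, f', hf', c2⟩ := h.phi hy hz' hu k
  obtain rfl := h.mid_inj hf.1 hf'.1 hu (fun k => n1 (E.of' hf hu k)) (by
    simpa only [mul_inv_rev, h.inv hf.1, mul_assoc, inv_mul_cancel_left] using c1.inv_left.mul_left c2)
  exact hn (E.of' hf' ha (E.of hf ha rfl))

theorem a5 (ha : a ∈ D) (hw : w ∈ closure (E D a)) : w = 1 ∨ w ∈ E D a := by
  refine or_iff_not_imp_left.2 fun h1 => ?_
  obtain ⟨u, hu, k⟩ := h.a3 ha hw h1
  obtain ⟨n1, f, hf, c1⟩ := h.phi ha hw hu k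
  rwa [mul_eq_one_iff_eq_inv.1 (h.a4 ha (mul_mem hw (subset_closure hf)) hu (fun k => n1 k.symm) c1), h.inv hf.1]

theorem mulE (hx : x ∈ E D a) (hy : y ∈ E D a) (hne : x ≠ y) : x * y ∈ E D a :=
  E.eq hx ▸ (h.a5 hx.1 (mul_mem (subset_closure (E.self hx.1)) (subset_closure (E.eq hx ▸ hy)))).resolve_left fun e =>
    hne (by rw [← cn (h.sq hx.1) y, e, mul_one])

end GS

end Cfsg.Lib.Layer.OTr
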