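/-
Odd transpositions: structure of `⟨E_d, x⟩` when `E_d ∪ 1` is a group.
-/
import Cfsg.Agent.Lib.Layer.OTe

set_option autoImplicit false
set_option linter.unusedSectionVars false

universe u

namespace Cfsg.Lib.Layer.OTr

open Subgroup Cfsg.Lib.Invol Cfsg.Lib.RInv Cfsg.Lib.BS Relation

variable {G : Type u} [Group G] [Finite G] {D S T A : Set G} {a b c d e f g m n r s t u w x y z ρ : G} {M X Γ : Subgroup G}

theorem ro_sz [IsSimpleGroup G] {H Q : Subgroup G} (h : RO H Q t) (h2 : R2 (⊤ : Subgroup G)) (hV : Vg H t = ⊥)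
    (hna : ¬ IsMulCommutative Q) (hs : SE H Q t s r) : r * r = s ∧ 3 < Nat.card (Kg H t) ∧
    ∀ k ∈ Kg H t, ¬ Commute k s → ∃ k' ∈ Kg H t, (k' * r * k'⁻¹)⁻¹ * (r * (k * r * k⁻¹)) ∈ Q0g Q := by
  obtain ⟨e1, e2, m, hm, e3⟩ := h.sz_of h2 hV (by by_contra! hn; exact hna (PGrp.isMulCommutative_iff_forall.2 hn)) hs
  have e4 := h.card_K_add_one h2
  have sq : ∀ x ∈ Q, ∀ z ∈ Q0g Q, x * z * (x * z) = x * x := fun x hx z hz => by
    rw [(h.commute_Q0 h2 hz hx).mul_mul_mul_comm, h.sq_Q0 h2 hz, mul_one]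
  have mK : ∀ k ∈ Kg H t, k * r * k⁻¹ ∈ Q := fun k hk => h.conj_Q (Kg_le H t hk).1 hs.rQ
  refine ⟨e1, by have : 2 ^ 3 ≤ 2 ^ (2 * m + 1) := Nat.pow_le_pow_right two_pos (by omega); omega, fun k hk hn => ?_⟩
  let φ : Option (Kg H t) → Q := fun o => o.elim 1 fun k => ⟨_, mK k k.2⟩
  let ψ : Option (Kg H t) × Q0g Q → Q := fun p => φ p.1 * ⟨p.2, Q0g_le Q p.2.2⟩
  have s1 := ne_one_of_two hs.two
  have inj : Function.Injective ψ := by
    rintro ⟨o, z⟩ ⟨o', z'⟩ e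
    have e5 := congrArg (fun x : Q => (x : G) * x) e
    simp only [ψ, Subgroup.coe_mul, sq _ (φ _).2 _ z.2, sq _ (φ _).2 _ z'.2] at e5
    obtain rfl : o = o' := by
      rcases o with _ | j <;> rcases o' with _ | j'
      · rfl
      · simp [φ, conj_mul, e1, eq_comm (a := (1 : G)), mul_inv_eq_one, s1] at e5
      · simp [φ, conj_mul, e1, mul_inv_eq_one, s1] at e5
      · exact congrArg _ (Subtype.ext (h.K_inj hs.two hs.mem (Kg_le H t j.2).1 (h.inv_K h2 j.2) (Kg_le H t j'.2).1 (h.inv_K h2 j'.2)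
          (by simpa only [φ, Option.elim, conj_mul, e1] using e5)))
    exact Prod.ext rfl (Subtype.ext (congrArg (fun x : Q => (x : G)) (mul_left_cancel e)))
  obtain ⟨⟨o, z⟩, e⟩ := (inj.bijective_of_nat_card_le (by
    rw [Nat.card_prod, Finite.card_option, e4, e2, pow_two])).2 ⟨_, mul_mem hs.rQ (mK k hk)⟩
  replace e : (ψ (o, z) : G) = r * (k * r * k⁻¹) := congrArg Subtype.val e
  rcases o with _ | j
  · refine (hn (mul_inv_eq_iff_eq_mul.1 ?_)).elim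
    have := sq _ (inv_mem hs.rQ) z z.2
    rw [show (z : G) = r * (k * r * k⁻¹) by simpa [ψ, φ] using e, inv_mul_cancel_left, conj_mul, ← mul_inv_rev, e1] at this
    rw [this, inv_of_two hs.two]
  · exact ⟨j, j.2, by rw [← e, show (ψ (some j, z) : G) = j * r * (j : G)⁻¹ * z from rfl, inv_mul_cancel_left]; exact z.2⟩

/-- data of the Suzuki case -/
structure SzD (A : Set G) (X : Subgroup G) (t : G) (M : Subgroup G) (s ρ : G) (Γ : Subgroup G) : Prop where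
  two : IsPGroup 2 M
  le : M ≤ X
  ce : ∀ μ ∈ M, ∀ x ∈ X, Commute μ x
  sA : s ∈ A
  rX : ρ ∈ X
  se : t * s * t = ρ⁻¹ * t * ρ
  ca : ∀ b ∈ A, Commute ρ b
  sq : ∃ μ ∈ M, ρ * ρ = s * μ
  odd : Odd (Nat.card Γ)
  co : ∀ g ∈ Γ, ∀ h ∈ Γ, Commute g h
  gX : Γ ≤ X
  nA : ∀ h ∈ Γ, ∀ a ∈ A, h * a * h⁻¹ ∈ A
  inv : ∀ h ∈ Γ, h * (t * h * t) ∈ M
  fx : ∀ h ∈ Γ, Commute h s → Commute h ρ
  cm : ∀ h ∈ Γ, ∃ a, (a ∈ A ∨ a = 1) ∧ ∃ μ ∈ M, ρ * (h * ρ * h⁻¹) = h * ρ * h⁻¹ * ρ * (a * μ)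
  add : ∀ h ∈ Γ, ¬ Commute h s → ∃ h' ∈ Γ, ∃ a, (a ∈ A ∨ a = 1) ∧ ∃ μ ∈ M, ρ * (h * ρ * h⁻¹) = h' * ρ * h'⁻¹ * (a * μ)
  ex : ∃ h ∈ Γ, ¬ Commute h s ∧ ¬ Commute (h * h * h) s

theorem SzD.map {H : Type u} [Group H] [Finite H] (φ : G →* H) (hφ : Function.Injective φ) (h : SzD A X t M s ρ Γ) :
    SzD (φ '' A) (X.map φ) (φ t) (M.map φ) (φ s) (φ ρ) (Γ.map φ) := by
  have cm : ∀ x y, Commute (φ x) (φ y) → Commute x y := fun x y k => hφ (by simpa using k.eq)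
  have or : ∀ a, a ∈ A ∨ a = 1 → φ a ∈ φ '' A ∨ φ a = 1 := fun a k => k.imp (fun k => ⟨a, k, rfl⟩) fun k => by rw [k, map_one]
  refine ⟨h.two.map φ, map_mono h.le, ?_, ⟨s, h.sA, rfl⟩, ⟨ρ, h.rX, rfl⟩, by simpa using congrArg φ h.se, ?_,
    let ⟨μ, h1, h2⟩ := h.sq; ⟨_, ⟨μ, h1, rfl⟩, by simpa using congrArg φ h2⟩, card_map_of_injective hφ ▸ h.odd, ?_, map_mono h.gX,
    ?_, ?_, ?_, ?_, ?_, let ⟨k, h1, h2, h3⟩ := h.ex; ⟨_, ⟨k, h1, rfl⟩, fun e => h2 (cm _ _ e), fun e => h3 (cm _ _ (by simpa using e))⟩⟩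
  · rintro _ ⟨μ, h1, rfl⟩ _ ⟨x, h2, rfl⟩; exact (h.ce μ h1 x h2).map φ
  · rintro _ ⟨b, h1, rfl⟩; exact (h.ca b h1).map φ
  · rintro _ ⟨μ, h1, rfl⟩ _ ⟨x, h2, rfl⟩; exact (h.co μ h1 x h2).map φ
  · rintro _ ⟨k, h1, rfl⟩ _ ⟨x, h2, rfl⟩; exact ⟨_, h.nA k h1 x h2, by simp⟩
  · rintro _ ⟨k, h1, rfl⟩; exact ⟨_, h.inv k h1, by simp⟩
  · rintro _ ⟨k, h1, rfl⟩ e; exact (h.fx k h1 (cm _ _ e)).map φ
  · rintro _ ⟨k, h1, rfl⟩
    obtain ⟨a, h2, μ, h3, e⟩ := h.cm k h1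
    exact ⟨_, or a h2, _, ⟨μ, h3, rfl⟩, by simpa using congrArg φ e⟩
  · rintro _ ⟨k, h1, rfl⟩ n
    obtain ⟨k', h4, a, h2, μ, h3, e⟩ := h.add k h1 fun e => n (e.map φ)
    exact ⟨_, ⟨k', h4, rfl⟩, _, or a h2, _, ⟨μ, h3, rfl⟩, by simpa using congrArg φ e⟩

theorem not_dvd_of_comm {p : ℕ} [Fact p.Prime] (hp : commutator G = ⊤) (P : Sylow p G) (hc : IsMulCommutative (P : Subgroup G))
    (hz : z ∈ center G) (ho : orderOf z = p) : False := by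
  have h1 := Transfer.inf_commutator_inf_center_le (P : Subgroup G) (Transfer.coprime_relIndex_commutator P.card_coprime_index)
  rw [Transfer.commutator_self_eq_bot hc] at h1
  obtain rfl : z = 1 := h1 ⟨⟨Transfer.center_inf_le_sylow P hz ⟨1, by rw [pow_one, ← ho, pow_orderOf_eq_one]⟩, hp ▸ mem_top _⟩, hz⟩
  exact (Fact.out : p.Prime).one_lt.ne (by rw [← ho, orderOf_one])

theorem twoZ_two (hz : twoZCore G ≤ center G) (hp : commutator G = ⊤)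
    (hc : ∀ p : ℕ, p.Prime → p ≠ 2 → ∀ P : Subgroup (G ⧸ twoZCore G), IsPGroup p P → IsCyclic P) : IsPGroup 2 (twoZCore G) := by
  haveI := fact_two
  refine IsPGroup.iff_card.2 ⟨_, Nat.eq_prime_pow_of_unique_prime_dvd Nat.card_pos.ne' fun {p} h2 hd => by_contra fun e => ?_⟩
  have := Fact.mk h2
  refine Cfsg.Agent.S0102.result (p := p) (σ := qm G) ?_ (fun P => hc _ h2 e _ P.2) (QuotientGroup.mk'_surjective _)
    (by rwa [QuotientGroup.ker_mk']) hp (by rwa [QuotientGroup.ker_mk'])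
  rw [commutator_def, ← map_top_of_surjective _ (QuotientGroup.mk'_surjective (twoZCore G)), ← map_commutator, ← commutator_def, hp]

theorem BC.rg (h : BC D) (hc : CL D) (mul : ∀ x ∈ D, ∀ y ∈ D, Commute x y → x ≠ y → x * y ∈ D) (he : e ∈ D) (ht : t ∈ D)
    (hn : ¬ Commute e t) (hA : ∀ x, x ∈ A ↔ x ∈ D ∧ Commute x e) (hG : closure (A ∪ {t}) = ⊤) :
    (∃ (F : Type) (_ : Field F) (_ : Fintype F), Fintype.card F = Nat.card (closure A) ∧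
      Nonempty (G ≃* Matrix.ProjectiveSpecialLinearGroup (Fin 2) F)) ∨ ∃ M s ρ Γ, SzD A ⊤ t M s ρ Γ := by
  have hD : closure D = ⊤ := eq_top_iff.2 (hG.ge.trans (closure_mono (Set.union_subset (fun _ k => ((hA _).1 k).1) (by simpa))))
  have cj : ∀ g, ∀ d ∈ D, g * d * g⁻¹ ∈ D := fun g d => h.ri.cjc (hD.ge (mem_top g))
  obtain ⟨_, h', k1, all, H, Q, R, h2, m⟩ := h.pack hD he ht hn
  have e2 := h'.two _ ⟨e, he, rfl⟩
  have mM : ∀ x, x ∈ twoZCore G ↔ qm G x = 1 := fun x => (QuotientGroup.eq_one_iff x).symm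
  have a0 : ∀ s ∈ A, qm G s ∈ Q0g Q := fun s hs => R.mem_Q0_of_two (se_mem_of_commute R.se e2 m (((hA _).1 hs).2.map _))
    (h'.sq ⟨s, ((hA _).1 hs).1, rfl⟩)
  have a1 : ∀ y ∈ Q0g Q, ∃ a, (a ∈ A ∨ a = 1) ∧ qm G a = y := fun y hy => by
    by_cases k : y = 1
    · exact ⟨1, .inr rfl, by rw [k, map_one]⟩
    obtain ⟨a, ha, rfl⟩ := all y (R.two_V h2 hy k)
    exact ⟨a, .inl ((hA _).2 ⟨ha, k1 _ ha _ he (R.commute_Q0 h2 hy (R.mem_Q_of_two m (mul_self_of_two e2)))⟩), rfl⟩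
  have a2 : ∀ g, qm G g ∈ Q0g Q → ∃ a, (a ∈ A ∨ a = 1) ∧ ∃ μ ∈ twoZCore G, g = a * μ := fun g hg =>
    let ⟨a, ha, e⟩ := a1 _ hg; ⟨a, ha, a⁻¹ * g, (mM _).2 (by rw [map_mul, map_inv, e, inv_mul_cancel]), by simp⟩
  have hV := ro_V R h2 (S := qm G '' A) (by rintro _ ⟨s, hs, rfl⟩; exact a0 s hs) (by
    rw [← Set.image_singleton, ← Set.image_union, ← MonoidHom.map_closure, hG, map_top_of_surjective _ (QuotientGroup.mk'_surjective _)])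
  have hp : commutator G = ⊤ := by rw [commutator_def, ← hD, hc.perfect h.four]
  have eq : ∀ x ∈ D, ∀ y ∈ D, qm G x = qm G y → x = y := fun x hx y hy e => by_contra fun n =>
    h'.ri.ne ⟨_, mul x hx y hy (k1 x hx y hy (e ▸ Commute.refl _)) n, rfl⟩ (by rw [map_mul, e, h'.sq ⟨y, hy, rfl⟩])
  have hz : twoZCore G ≤ center G := fun g hg => mem_center_iff.2 fun y => (cent_closure (fun x hx => mul_inv_eq_iff_eq_mul.1
    (eq _ (cj g x hx) x hx (by rw [map_mul, map_mul, map_inv, (mM g).1 hg]; simp))) (hD.ge (mem_top y))).symm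
  have cz : ∀ μ ∈ twoZCore G, ∀ x, Commute μ x := fun μ k x => (mem_center_iff.1 (hz k) x).symm
  have cA : ∀ x ∈ A, ∀ y ∈ A, Commute x y := fun x hx y hy =>
    h.tr _ ((hA _).1 hx).1 _ he _ ((hA _).1 hy).1 ((hA _).1 hx).2 ((hA _).1 hy).2.symm
  have nA : ∀ g, qm G g ∈ H → ∀ a ∈ A, g * a * g⁻¹ ∈ A := fun g hg a ha => (hA _).2 ⟨cj g a ((hA _).1 ha).1,
    k1 _ (cj g a ((hA _).1 ha).1) e he (by simpa using R.commute_Q0 h2 (R.conj_V hg (a0 a ha)) (R.mem_Q_of_two m (mul_self_of_two e2)))⟩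
  haveI := fact_two
  rcases ro_zass R h2 hV with ⟨hQ, F, _, _, hF, ⟨φ⟩⟩ | ⟨hQ, hz'⟩
  · obtain ⟨n, -, e⟩ := R.exists_card_Q0 h2
    have := charP_two_of_card (hF.trans e)
    have q0 : Q0g Q = Q := by
      rcases R.tri3 h2 with ⟨-, k | ⟨k, -⟩⟩ | ⟨_, -, k, -⟩
      · exact k
      · obtain ⟨s, r, hs⟩ := R.exists_SE
        rcases (R.good' h2).tri s r hs with k' | ⟨⟨x, hx, y, hy, k'⟩, -⟩
        · exact (k s r hs (mem_Q0g_of hs.rQ (k'.2 r hs.rQ))).elim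
        · exact (k' (PGrp.isMulCommutative_iff_forall.1 hQ x hx y hy)).elim
      · exact (k hQ).elim
    have bot : twoZCore G = ⊥ := by
      by_contra hne
      obtain ⟨z, h1, h3⟩ := Coprime.exists_mem_orderOf_prime hne
      obtain ⟨P', hP⟩ := R.exists_sylow_le
      obtain ⟨P, rfl⟩ := Sylow.mapSurjective_surjective (QuotientGroup.mk'_surjective (twoZCore G)) 2 P'
      obtain ⟨j, hj⟩ := twoZ_two hz hp (cyc_psl φ) ⟨z, h1⟩
      refine not_dvd_of_comm hp P (PGrp.isMulCommutative_iff_forall.2 fun x hx y hy => ?_) (hz h1)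
        ((Nat.prime_dvd_prime_iff_eq h3 Nat.prime_two).1 (h3.dvd_of_dvd_pow (orderOf_dvd_of_pow_eq_one (congrArg Subtype.val hj))))
      obtain ⟨a, ha, μ, hμ, rfl⟩ := a2 x (q0.ge (hP (mem_map_of_mem _ hx)))
      obtain ⟨b, hb, ν, hν, rfl⟩ := a2 y (q0.ge (hP (mem_map_of_mem _ hy)))
      refine Commute.mul_left (Commute.mul_right ?_ (cz ν hν a).symm) (cz μ hμ _)
      rcases ha with ha | rfl
      · exact hb.elim (cA a ha b) fun e => e ▸ Commute.one_right a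
      · exact Commute.one_left b
    refine .inl ⟨F, inferInstance, inferInstance, ?_, ⟨(QuotientGroup.quotientBot.symm.trans (QuotientGroup.quotientMulEquivOfEq bot.symm)).trans φ⟩⟩
    rw [hF, ← card_map_of_inj (Q := closure A) (qm G) fun x _ k => mem_bot.1 (bot ▸ (mM x).2 k)]
    congr 2
    refine le_antisymm (fun y hy => ?_) (map_le_iff_le_comap.2 ((closure_le _).2 a0))
    obtain ⟨a, ha | rfl, rfl⟩ := a1 y hy
    exacts [mem_map_of_mem _ (subset_closure ha), mem_map_of_mem _ (one_mem _)]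
  obtain ⟨s', r, hs⟩ := R.exists_SE
  obtain ⟨e1, e3, e4⟩ := ro_sz R h2 hV hQ hs
  obtain ⟨s, sA | rfl, rfl⟩ := a1 s' (R.s_mem_Q0 hs)
  swap; · exact (ne_one_of_two hs.two (map_one _)).elim
  obtain ⟨ρ, rfl⟩ := QuotientGroup.mk'_surjective _ r
  obtain ⟨k', hk, -, eK⟩ := R.exists_K_eq h2
  obtain ⟨k, rfl⟩ := QuotientGroup.mk'_surjective _ k'
  obtain ⟨i, n, on, eo⟩ := Nat.exists_eq_two_pow_mul_odd (orderOf_pos k).ne'
  have eΓ : (zpowers (k ^ 2 ^ i)).map (qm G) = Kg H (qm G t) := by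
    rw [MonoidHom.map_zpowers, map_pow, eK]
    exact le_antisymm (zpowers_le.2 (npow_mem_zpowers _ _)) (zpowers_le.2 (mem_zpowers_pow_iff.2
      ((R.odd_D hk).coprime_two_left.pow_left i)))
  have mK : ∀ g ∈ zpowers (k ^ 2 ^ i), qm G g ∈ Kg H (qm G t) := fun g hg => eΓ ▸ mem_map_of_mem _ hg
  have k0 : ∀ g ∈ zpowers (k ^ 2 ^ i), Commute g s → qm G g = 1 := fun g hg c =>
    R.K_eq_one hs.two hs.mem (Kg_le _ _ (mK g hg)).1 (R.inv_K h2 (mK g hg)) (c.map _)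
  have rQ : ∀ g ∈ zpowers (k ^ 2 ^ i), qm G (g * ρ * g⁻¹) ∈ Q := fun g hg => by
    simpa using R.conj_Q (Kg_le _ _ (mK g hg)).1 hs.rQ
  have sD := ((hA _).1 sA).1
  have oK : 3 < orderOf (qm G (k ^ 2 ^ i)) := by rwa [← Nat.card_zpowers, ← MonoidHom.map_zpowers, eΓ]
  refine .inr ⟨_, s, ρ, zpowers (k ^ 2 ^ i), twoZ_two hz hp (cyc_sz hz'), le_top, fun μ k x _ => cz μ k x, sA, trivial,
    eq _ (h.cj' sD ht) _ (by simpa using cj ρ⁻¹ t ht) (by simpa using hs.eq), fun b hb => mul_inv_eq_iff_eq_mul.1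
      (eq _ (cj ρ b ((hA _).1 hb).1) b ((hA _).1 hb).1 (by
        rw [map_mul, map_mul, map_inv, ← (R.commute_Q0 h2 (a0 b hb) hs.rQ).eq, mul_inv_cancel_right])),
    ⟨s⁻¹ * (ρ * ρ), (mM _).2 (by rw [map_mul, map_mul, e1, map_inv, inv_mul_cancel]), by simp⟩, ?_,
    fun g hg h hh => PGrp.isMulCommutative_iff_forall.1 inferInstance g hg h hh, le_top,
    fun g hg => nA g (Kg_le _ _ (mK g hg)).1, fun g hg => (mM _).2 ?_, fun g hg c => cz g ((mM g).2 (k0 g hg c)) ρ, fun g hg => ?_,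
    fun g hg c => ?_, _, mem_zpowers _, fun c => ?_, fun c => ?_⟩
  · rw [Nat.card_zpowers]
    exact odd_of_pow on (by rw [← pow_mul, ← eo, pow_orderOf_eq_one])
  · rw [map_mul, map_mul, map_mul]
    nth_rw 2 [← R.t_inv]
    rw [R.inv_K h2 (mK g hg), mul_inv_cancel]
  · obtain ⟨a, ha, μ, hμ, e⟩ := a2 ((g * ρ * g⁻¹ * ρ)⁻¹ * (ρ * (g * ρ * g⁻¹))) (by
      simpa [mul_assoc] using R.comm_mem h2 (inv_mem hs.rQ) (inv_mem (rQ g hg)))
    exact ⟨a, ha, μ, hμ, by rw [← e, mul_inv_cancel_left]⟩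
  · obtain ⟨_, hj, e⟩ := e4 _ (mK g hg) fun c' => c (cz g ((mM g).2 (R.K_eq_one hs.two hs.mem (Kg_le _ _ (mK g hg)).1
      (R.inv_K h2 (mK g hg)) c')) s)
    obtain ⟨j, hj', rfl⟩ := eΓ.ge hj
    obtain ⟨a, ha, μ, hμ, e⟩ := a2 ((j * ρ * j⁻¹)⁻¹ * (ρ * (g * ρ * g⁻¹))) (by simpa only [map_mul, map_inv] using e)
    exact ⟨j, hj', a, ha, μ, hμ, by rw [← e, mul_inv_cancel_left]⟩
  · rw [k0 _ (mem_zpowers _) c, orderOf_one] at oK; omega
  · have := k0 _ (mul_mem (mul_mem (mem_zpowers _) (mem_zpowers _)) (mem_zpowers _)) c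
    exact oK.not_ge (orderOf_le_of_pow_eq_one (by norm_num) (by rw [← this, map_mul, map_mul, pow_three, mul_assoc]))

end Cfsg.Lib.Layer.OTr
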