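/-
Odd transpositions: exclusion of Suzuki groups in the connected case.
-/
import Cfsg.Agent.Lib.Layer.OTf

set_option autoImplicit false
set_option linter.unusedSectionVars false

universe u

namespace Cfsg.Lib.Layer.OTr

open Subgroup Cfsg.Lib.Invol Cfsg.Lib.RInv Cfsg.Lib.BS Relation

variable {G : Type u} [Group G] [Finite G] {D K S T A : Set G} {a b c d e f g m n r s t u v w x y z ρ μ : G}
  {M X Γ O U : Subgroup G}

theorem OC.plane (h : OC D) (ha : a ∈ D) (hr : r ∈ D) (hu : u ∈ D) (har : Commute a r) (n1 : ¬ Commute u a) (n2 : ¬ Commute u r) :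
    Gen D (E D a ∪ E D r ∪ {u}) u ∧ BC (Kl (E D a ∪ E D r ∪ {u}) u) ∧
      ∃ a2 ∈ E D a, ∃ r2 ∈ E D r, Commute (a2 * u * a2) (r2 * u * r2) := by
  have na : ∀ s ∈ E D a, ¬ Commute s u := fun s hs k => n1 (E.of' hs hu k.symm)
  have nb : ∀ s ∈ E D r, ¬ Commute s u := fun s hs k => n2 (E.of' hs hu k.symm)
  obtain ⟨g, o⟩ := h.gen ha hu n1 (Set.union_subset (fun _ => E.mem) fun _ => E.mem) (fun s hs => hs.elim (na s) (nb s))
    Set.subset_union_left
  have B : BC (Kl (E D a ∪ E D r ∪ {u}) u) := o.bc fun hc => by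
    obtain ⟨y, hy, h1, h2⟩ := o.near hc (g.sk (.inl (.inl (E.self ha)))) Kl.self
    obtain ⟨a', ha', haa⟩ := h.cl.exists_prod h.four ha
    obtain ⟨a1, m, z, e1, e2, e3, e4, e5⟩ := h.zed ha ha' haa hr har hu n1
    have c1 : Commute z y := cent_closure (by rintro _ ((k | k) | rfl); exacts [e4 _ k, e5 _ k, e2]) (Kl.le g.mem hy)
    have c2 := E.of m hr har.symm
    have c3 : r * (z * (a1 * r)) = z * a1 := by rw [← (e5 r (E.self hr)).left_comm, ← c2.eq, cn (h.sq hr)]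
    have c4 := h.cent hr e3 ((e5 r (E.self hr)).symm.mul_right (c2.mul_right rfl)) (fun k => na a1 m (by
      rw [← k, h.sq hr] at c3
      rw [← cn e1 a1, ← c3, mul_one]; exact e2)) (g.kD hy) (c3 ▸ c1.symm.mul_right (E.of m (g.kD hy) h1))
    obtain ⟨x, hx, k⟩ := o.cl.ni y hy
    exact (o.od_iff hy hx).1 k (cent_closure (by
      rintro _ ((k | k) | rfl); exacts [E.of k (g.kD hy) h1, E.of k (g.kD hy) c4, h2]) (Kl.le g.mem hx))
  refine ⟨g, B, ?_⟩
  obtain ⟨g0, -, B0, P0⟩ := h.line ha hu n1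
  obtain ⟨g1, -, B1, P1⟩ := h.line hr hu n2
  have s0 : Kl (E D a ∪ {u}) u ⊆ Kl (E D a ∪ E D r ∪ {u}) u := Kl.mono (Set.union_subset_union_left _ Set.subset_union_left)
  have s1 : Kl (E D r ∪ {u}) u ⊆ Kl (E D a ∪ E D r ∪ {u}) u := Kl.mono (Set.union_subset_union_left _ Set.subset_union_right)
  obtain ⟨a1, m0, r0, p0, k0, q1, q2, q3, q4, q5⟩ := B0.b2 (g0.sk (.inl (E.self ha))) Kl.self fun k => n1 k.symm
  obtain ⟨b1, m1, r1, p1, k1, w1, w2, w3, w4, w5⟩ := B1.b2 (g1.sk (.inl (E.self hr))) Kl.self fun k => n2 k.symm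
  exact ⟨a1, P0 _ m0 q1, b1, P1 _ m1 w1, B.b3 Kl.self (s0 m0) (s1 m1) (E.of (P1 _ m1 w1) (g0.kD m0) (E.of (P0 _ m0 q1) hr har.symm).symm)
    (na _ (P0 _ m0 q1)) (closure_mono s0 p0) (closure_mono s1 p1) q2 w2 q3 w3 q4 w4 q5 w5⟩

theorem fixp {V Z : Subgroup G} (hM : IsPGroup 2 M) (hV : IsPGroup 2 V) (hn : M ≤ normalizer (V : Set G)) (h : ¬ V ≤ Z) :
    ∃ v ∈ V, v ∉ Z ∧ ∀ μ ∈ M, v * μ * v⁻¹ * μ⁻¹ ∈ Z := by
  haveI := fact_two
  induction V using WellFoundedLT.induction with | _ V ih => ?_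
  have lt := Core.commutator_lt_of_isPGroup hV hM hn fun e => h (e ▸ bot_le)
  by_cases k : ⁅V, M⁆ ≤ Z
  · obtain ⟨v, hv, h1⟩ := SetLike.not_le_iff_exists.1 h
    exact ⟨v, hv, h1, fun μ hμ => k (commutator_mem_commutator hv hμ)⟩
  obtain ⟨v, hv, h1⟩ := ih _ lt (hV.to_le lt.le) (norm_comm hn le_normalizer) k
  exact ⟨v, lt.le hv, h1⟩

/-- the module of a plane -/
def Vh (K : Set G) (O : Subgroup G) (a : G) : Subgroup G := closure {x | x ∈ K ∧ Commute x a} ⊓ O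

theorem Vh.co (B : BC K) (ha : a ∈ K) (hv : v ∈ Vh K O a) (hx : x ∈ K) (k : Commute x a) : Commute x v :=
  cent_closure (fun y hy => B.tr _ hx _ ha _ hy.1 k hy.2.symm) hv.1

theorem Vh.sq (B : BC K) (ha : a ∈ K) (hv : v ∈ Vh K O a) : v * v = 1 :=
  sq_closure (fun _ k => B.sq k.1) (fun _ k _ k' => B.tr _ k.1 _ ha _ k'.1 k.2 k'.2.symm) hv.1

theorem Vh.cj (B : BC K) (R : Ker K O) (ha : a ∈ K) (hg : g ∈ closure K) (k : Commute (g * a * g⁻¹) a) (hv : v ∈ Vh K O a) :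
    g * v * g⁻¹ ∈ Vh K O a :=
  ⟨(show Subgroup.closure _ ≤ (closure {x | x ∈ K ∧ Commute x a}).comap (MulAut.conj g).toMonoidHom from
    (closure_le _).2 fun x hx => Subgroup.subset_closure
    ⟨B.ri.cjc hg hx.1, B.tr _ (B.ri.cjc hg hx.1) _ (B.ri.cjc hg ha) _ ha (hx.2.conj g) k⟩) hv.1, R.cj g hg v hv.2⟩

theorem Ker.cc (B : BC K) (R : Ker K O) (hn : n ∈ O) (hx : x ∈ K) : Commute (n * x * n⁻¹) x :=
  R.co _ (B.ri.cjc (R.le hn) hx) _ hx (by
    simpa only [mul_assoc, B.inv hx] using mul_mem hn (R.cj x (subset_closure hx) _ (inv_mem hn)))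

theorem GS.cf (h : GS D) (B : BC K) (R : Ker K O) (hK : K ⊆ D) (hA : E D a ⊆ K) (ha : a ∈ D) (ht : t ∈ K) (hn : ¬ Commute t a) :
    Cf (Vh K O a) (E D a) t ∧ ∀ b ∈ E D a, ∀ c ∈ E D a, b ≠ c → ∀ v ∈ Vh K O a, ∀ v' ∈ Vh K O a, Dl t b v = Dl t c v' → Dl t b v = 1 := by
  have aK := hA (E.self ha)
  have tO : ∀ v ∈ Vh K O a, t * v * t ∈ O := fun v hv => by simpa only [B.inv ht] using R.cj t (subset_closure ht) v hv.2
  have ni : ∀ v ∈ Vh K O a, (t * v * t)⁻¹ = t * v * t := fun v hv => by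
    simp only [mul_inv_rev, B.inv ht, inv_eq_of_mul_eq_one_right (Vh.sq B aK hv), mul_assoc]
  have dl : ∀ b v, v ∈ Vh K O a → Dl t b v = b * (t * v * t * b * (t * v * t)⁻¹) := fun b v hv => by
    rw [ni v hv, Dl]; simp only [mul_assoc]
  have nb : ∀ b ∈ E D a, ¬ Commute b t := fun b hb k => hn (E.of' hb (hK ht) k.symm)
  have cK : ∀ b ∈ E D a, ∀ v ∈ Vh K O a, t * v * t * b * (t * v * t)⁻¹ ∈ K := fun b hb v hv => B.ri.cjc (R.le (tO v hv)) (hA hb)
  have dO : ∀ b ∈ E D a, ∀ v ∈ Vh K O a, Dl t b v ∈ O := fun b hb v hv =>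
    mul_mem (by simpa only [B.inv (hA hb)] using R.cj b (subset_closure (hA hb)) _ (tO v hv)) (tO v hv)
  have au : ∀ b ∈ E D a, ∀ v ∈ Vh K O a, Commute b v := fun b hb v hv => Vh.co B aK hv (hA hb) (E.comm hb (E.self ha))
  have C : Cf (Vh K O a) (E D a) t := ⟨B.sq ht, fun _ => Vh.sq B aK, fun u hu v hv => dl u v hv ▸ mul_mem hu
      (Vh.cj B R aK (R.le (tO v hv)) (R.cc B (tO v hv) aK) hu), fun u hu k => (B.of_pair aK ht (fun k => hn k.symm)
      (Vh.co B aK hu aK rfl).symm (by simpa only [B.inv ht, mul_assoc, cn (B.sq ht), B.sq ht, mul_one] using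
        ((Vh.co B aK k aK rfl).conj t).symm)).symm, fun b hb => h.sq hb.1, au, fun b hb v hv => ⟨dl b v hv ▸ mul_mem
      (subset_closure ⟨hA hb, E.comm hb (E.self ha)⟩) (subset_closure ⟨cK b hb v hv, B.tr _ (cK b hb v hv) _ (hA hb) _ aK
        (R.cc B (tO v hv) (hA hb)) (E.comm hb (E.self ha))⟩), dO b hb v hv⟩, fun b hb v hv k => by
      have := mul_inv_eq_iff_eq_mul.1 (B.mid_inj (hA hb) (cK b hb v hv) ht (fun k => nb b hb k.symm) (dl b v hv ▸ k.symm)).symm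
      exact (B.of_pair (hA hb) ht (nb b hb) (au b hb v hv).symm (by
        simpa only [B.inv ht, mul_assoc, cn (B.sq ht), B.sq ht, mul_one] using Commute.conj this t)).symm⟩
  refine ⟨C, fun b hb c hc hbc v hv v' hv' e => ?_⟩
  have e1 : t * v * t * b * (t * v * t)⁻¹ * (t * v' * t * c * (t * v' * t)⁻¹) = b * c := by
    rw [eq_inv_mul_of_mul_eq (dl b v hv).symm, eq_inv_mul_of_mul_eq (dl c v' hv').symm, ← e, h.inv hb.1, h.inv hc.1,
      (au c hc _ (C.dl b hb v hv)).eq, mul_assoc, cn (C.sq _ (C.dl b hb v hv))]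
  have m1 := h.mulE hb hc hbc
  have m2 := (h.prodE (hK (cK b hb v hv)) (hK (cK c hc v' hv')) (e1 ▸ m1.1)).2
  rw [e1] at m2
  exact (h.a5 ha (dl b v hv ▸ mul_mem (subset_closure hb) (subset_closure
    (E.eq m1 ▸ E.eq m2 ▸ E.self (hK (cK b hb v hv)))))).resolve_right fun k => R.nm _ (hA k) (dO b hb v hv)

theorem Cf.mz (C : Cf U A t) (hs : s ∈ A) (h1 : Commute μ s) (h2 : Commute μ t) (h3 : ∀ u ∈ U, μ * u * μ⁻¹ ∈ U)
    (h4 : ∀ z ∈ U, Commute t z → Commute μ z) (hv : v ∈ U) (k : Commute t (v * (μ * v * μ⁻¹))) : Commute μ v := by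
  obtain ⟨w, hw, z, hz, k1, rfl⟩ := C.surj hs hv
  have e : μ * Dl t s w * μ⁻¹ = Dl t s (μ * w * μ⁻¹) := by
    simp only [Dl, ← conj_mul, h1.eq, h2.eq, mul_inv_cancel_right]
  rw [← conj_mul, e, (h4 z hz k1).eq, mul_inv_cancel_right, (C.co hz (C.dl s hs _ (h3 w hw))).mul_mul_mul_comm, C.sq z hz, mul_one] at k
  have k2 := C.inj s hs _ (mul_mem hw (h3 w hw)) (by
    rw [C.dl_mul hs hw (h3 w hw)]; exact k.mul_right (C.cz (C.dl s hs _ (h3 w hw)) hw))
  refine Commute.mul_right (mul_inv_eq_iff_eq_mul.1 ?_) (h4 z hz k1)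
  rw [e, ← cn (C.sq w hw) (μ * w * μ⁻¹), C.dl_mul hs hw (mul_mem hw (h3 w hw)), C.dl_z hs (mul_mem hw (h3 w hw)) k2, Dl.eq_def t 1,
    one_mul, mul_one, mul_one, C.nn hw, mul_one]

theorem Cf.nrm (C : Cf U A t) (hg : g ∈ closure (A ∪ {t})) (hv : v ∈ U) :
    ∃ v' ∈ U, ∃ w ∈ U, g * (t * v * t) * g⁻¹ = t * v' * t * w := by
  have ti := inv_eq_of_mul_eq_one_right C.tt
  have c1 : ∀ v ∈ U, ∀ w ∈ U, t * v * t * w * (t * v * t) ∈ U := fun v hv w hw => by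
    simpa only [Dl, mul_assoc, cn (C.sq w hw)] using mul_mem hw (C.cm w hw v hv)
  let N : Subgroup G :=
    { carrier := {x | ∃ v ∈ U, ∃ w ∈ U, x = t * v * t * w}
      mul_mem' := by
        rintro _ _ ⟨v, hv, w, hw, rfl⟩ ⟨v', hv', w', hw', rfl⟩
        exact ⟨_, mul_mem hv hv', _, mul_mem (c1 v' hv' w hw) hw', by simp only [mul_assoc, cn C.tt, cn (C.sq v' hv')]⟩
      one_mem' := ⟨1, one_mem _, 1, one_mem _, by simp [C.tt]⟩
      inv_mem' := by
        rintro _ ⟨v, hv, w, hw, rfl⟩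
        exact ⟨v, hv, _, c1 v hv w hw, by simp only [mul_inv_rev, ti, inv_eq_of_mul_eq_one_right (C.sq v hv),
          inv_eq_of_mul_eq_one_right (C.sq w hw), mul_assoc, cn C.tt, cn (C.sq v hv)]⟩ }
  refine (mem_normalizer_iff.1 ((?_ : Subgroup.closure _ ≤ normalizer (N : Set G)) hg) _).1 (⟨v, hv, 1, one_mem _, (mul_one _).symm⟩ : _ ∈ N)
  refine (closure_le _).2 fun g hg => mem_norm_of ?_
  rintro _ ⟨v, hv, w, hw, rfl⟩
  rcases hg with hg | rfl
  · exact ⟨v, hv, _, mul_mem (C.dl g hg v hv) hw, by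
      rw [← mul_assoc _ (Dl t g v), ← C.ndn hg hv, inv_eq_of_mul_eq_one_right (C.aa g hg), mul_assoc _ g, (C.au g hg w hw).eq]
      simp only [mul_assoc]⟩
  · exact ⟨w, hw, _, c1 w hw v hv, by simp only [ti, mul_assoc, cn C.tt, cn (C.sq w hw)]⟩

theorem GS.nsz (h : GS D) (ha : a ∈ D) (ht : t ∈ D) (hn : ¬ Commute t a) (hr : r ∈ D) (har : Commute a r) (h1 : r ∉ E D a)
    (h2 : ¬ Commute t r) (Z : SzD (E D a) (closure (E D a ∪ {t})) t M s ρ Γ) : False := by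
  obtain ⟨g, B, a2, m2, r2, p2, ci⟩ := h.plane ha hr ht har hn h2
  set K := Kl (E D a ∪ E D r ∪ {t}) t
  set X := closure (E D a ∪ {t})
  have hA : E D a ⊆ K := fun x k => g.sk (.inl (.inl k))
  have aK := hA (E.self ha)
  have tK : t ∈ K := Kl.self
  have tX : t ∈ X := subset_closure (.inr rfl)
  have aX : ∀ b ∈ E D a, b ∈ X := fun b k => subset_closure (.inl k)
  have XK : X ≤ closure K := closure_mono (Set.union_subset hA (by simpa))
  obtain ⟨O, R⟩ := B.ker tK aK hn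
  obtain ⟨C, dis⟩ := h.cf B R g.kD hA ha tK hn
  have zX : ∀ z ∈ Vh K O a, Commute t z → ∀ x ∈ X, Commute x z := fun z hz k x hx =>
    (cent_closure (by rintro _ (k' | rfl); exacts [(C.au _ k' z hz).symm, k.symm]) hx).symm
  have nX : ∀ x ∈ X, x * a * x⁻¹ ∈ E D a → ∀ v ∈ Vh K O a, x * v * x⁻¹ ∈ Vh K O a := fun x hx k v =>
    Vh.cj B R aK (XK hx) (E.comm k (E.self ha))
  have nM : ∀ μ ∈ M, ∀ v ∈ Vh K O a, μ * v * μ⁻¹ ∈ Vh K O a := fun μ k => nX μ (Z.le k) (by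
    rw [(Z.ce μ k a (aX a (E.self ha))).eq, mul_inv_cancel_right]; exact E.self ha)
  have mz : ∀ μ ∈ M, ∀ v ∈ Vh K O a, Commute t (v * (μ * v * μ⁻¹)) → Commute μ v := fun μ k v =>
    C.mz Z.sA (Z.ce μ k s (aX s Z.sA)) (Z.ce μ k t tX) (nM μ k) fun z hz c => zX z hz c μ (Z.le k)
  let U := Vh K O a ⊓ centralizer (M : Set G)
  have mU : ∀ {v}, v ∈ U ↔ v ∈ Vh K O a ∧ ∀ μ ∈ M, Commute μ v := Iff.rfl
  have cX : ∀ x ∈ X, x ∈ centralizer (M : Set G) := fun x hx μ k => Z.ce μ k x hx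
  have nU : ∀ x ∈ X, x * a * x⁻¹ ∈ E D a → ∀ v ∈ U, x * v * x⁻¹ ∈ U := fun x hx k v hv =>
    mem_inf.2 ⟨nX x hx k v hv.1, mul_mem (mul_mem (cX x hx) hv.2) (inv_mem (cX x hx))⟩
  have tU : ∀ v ∈ U, t * v * t ∈ centralizer (M : Set G) := fun v hv => mul_mem (mul_mem (cX t tX) hv.2) (cX t tX)
  have C' : Cf U (E D a) t := ⟨C.tt, fun u k => C.sq u k.1, fun u k v k' => ⟨C.cm u k.1 v k'.1,
      mul_mem (mul_mem (mul_mem k.2 (tU v k')) k.2) (tU v k')⟩, fun u k k' => C.zt u k.1 k'.1, C.aa, fun b hb u k => C.au b hb u k.1,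
    fun b hb v k => ⟨C.dl b hb v k.1, mul_mem (mul_mem (mul_mem (cX b (aX b hb)) (tU v k)) (cX b (aX b hb))) (tU v k)⟩,
    fun b hb v k => C.inj b hb v k.1⟩
  have iM : ∀ μ ∈ M, In U X μ := fun μ k => ⟨fun u hu => hu.2 μ k, Z.ce μ k⟩
  have R' : Ro U X (E D a) t ρ s := ⟨tX, fun u hu => by
      simpa using nU _ (inv_mem Z.rX) (by rw [(Z.ca a (E.self ha)).inv_left.eq, mul_inv_cancel_right]; exact E.self ha) u hu,
    Z.ca, Z.sA, fun v hv => by
      obtain ⟨v', hv', w, hw, e⟩ := C.nrm (inv_mem Z.rX) hv.1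
      rw [inv_inv] at e
      have k : ∀ μ ∈ M, t * (v' * (μ * v' * μ⁻¹)) * t = w * (μ * w * μ⁻¹) := fun μ k => by
        have e1 : Commute μ (t * v' * t * w) := e ▸ (mul_mem (mul_mem (inv_mem (cX ρ Z.rX)) (tU v hv)) (cX ρ Z.rX)) μ k
        have e2 : t * (μ * v' * μ⁻¹) * t * (μ * w * μ⁻¹) = t * v' * t * w := by
          rw [← mul_inv_eq_iff_eq_mul.2 e1.eq, ← conj_mul, ← conj_mul, ← conj_mul, (Z.ce μ k t tX).eq, mul_inv_cancel_right]
        rw [C.nm, eq_mul_inv_of_mul_eq e2, mul_assoc (t * v' * t), cn (C.nn hv'), inv_eq_of_mul_eq_one_right (C.sq _ (nM μ k w hw))]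
      have k' : ∀ μ ∈ M, Commute t (v' * (μ * v' * μ⁻¹)) := fun μ m =>
        C.zt _ (mul_mem hv' (nM μ m v' hv')) (k μ m ▸ mul_mem hw (nM μ m w hw))
      exact ⟨v', mU.2 ⟨hv', fun μ m => mz μ m v' hv' (k' μ m)⟩, w, mU.2 ⟨hw, fun μ m => mz μ m w hw
        (by rw [← k μ m, C.tz (k' μ m)]; exact k' μ m)⟩, e⟩,
    let ⟨μ, k, e⟩ := Z.sq; ⟨μ, iM μ k, e⟩, fun z hz k => zX z hz.1 k ρ Z.rX⟩
  have T : To U X (E D a) t ρ s Γ := ⟨tX, Z.gX, Z.odd, Z.co, fun g hg => nU g (Z.gX hg) (Z.nA g hg a (E.self ha)), Z.nA,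
    fun g hg => iM _ (Z.inv g hg), fun g hg z hz k => zX z hz.1 k g (Z.gX hg), Z.fx, fun g hg u hu => by
      obtain ⟨b, hb, μ, k, e⟩ := Z.cm g hg
      have m := (R'.nU _ (by simpa using nU _ (inv_mem (mul_mem (mul_mem (Z.gX hg) Z.rX) (inv_mem (Z.gX hg)))) (by
        have := Z.nA _ (inv_mem hg) a (E.self ha)
        rw [show (g * ρ * g⁻¹)⁻¹ * a * (g * ρ * g⁻¹)⁻¹⁻¹ = g * (ρ⁻¹ * (g⁻¹ * a * g⁻¹⁻¹) * ρ) * g⁻¹ by group,
          (Z.ca _ this).inv_left.eq, inv_mul_cancel_right]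
        simpa [mul_assoc] using E.self ha) u hu : (g * ρ * g⁻¹)⁻¹ * u * (g * ρ * g⁻¹) ∈ U))
      have c1 : Commute (b * μ) _ := Commute.mul_left (hb.elim (fun hb => C'.au b hb _ m) fun e => e ▸ Commute.one_left _) (m.2 μ k)
      calc _ = (b * μ)⁻¹ * (ρ⁻¹ * ((g * ρ * g⁻¹)⁻¹ * u * (g * ρ * g⁻¹)) * ρ * (b * μ)) := by rw [e]; group
        _ = _ := by rw [← c1.eq, inv_mul_cancel_left]; group,
    fun g hg k => let ⟨g', h1, b, h2, μ, h3, e⟩ := Z.add g hg k; ⟨g', h1, b, h2, μ, iM μ h3, e⟩, Z.ex⟩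
  have rK : r2 ∈ K := g.sk (.inl (.inr p2))
  have c2 : Commute r2 a := (E.of p2 ha har).symm
  have n2 : ¬ Commute t a2 := fun k => hn (E.of' m2 ht k)
  obtain ⟨v, hv, n3, k⟩ := fixp (V := Vh K O a) (Z := centralizer {t}) Z.two
    (fun w => ⟨1, Subtype.ext (by simpa [sq] using C.sq w w.2)⟩) (fun μ k => mem_norm_of (nM μ k)) fun k => h1 (by
      have := B.mid_inj (hA m2) rK tK n2 (mem_centralizer_singleton_iff.1 (k ⟨mul_mem (subset_closure ⟨hA m2, E.comm m2 (E.self ha)⟩)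
        (subset_closure ⟨rK, c2⟩), R.ci _ (hA m2) _ rK (E.of m2 p2.1 c2).symm t tK n2 ci⟩))
      rw [← E.eq m2, this, E.eq p2]; exact E.self hr)
  refine n3 (mem_centralizer_singleton_iff.2 (T.contra C' R' Z.se (fun b hb c hc n v k v' k' => dis b hb c hc n v k.1 v' k'.1)
    (mU.2 ⟨hv, fun μ m => mz μ m v hv ?_⟩)).symm)
  simpa only [inv_eq_of_mul_eq_one_right (C.sq v hv), mul_assoc] using
    (show Commute _ t from mem_centralizer_singleton_iff.1 (k μ m)).symm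

theorem GS.far (h : GS D) (ha : a ∈ D) (hr : r ∈ D) : ∃ u ∈ D, ¬ Commute u a ∧ ¬ Commute u r := by
  by_contra! k
  obtain ⟨t, ht, o⟩ := h.cl.ni a ha
  obtain ⟨x, hx, o'⟩ := h.cl.ni r hr
  have hN : (closure {y | y ∈ D ∧ ¬ Commute y a}).Normal := normalizer_eq_top_iff.1 (eq_top_iff.2 (h.top.ge.trans
    ((closure_le _).2 fun y hy => by
      by_cases c : Commute y a
      · exact mem_normalizer_closure fun z hz => ⟨h.cja y hz.1, fun k => hz.2 (by
          rwa [← mul_inv_cancel_right a y, ← c.eq, Known2.commute_conj_conj_iff] at k)⟩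
      · exact le_normalizer (subset_closure ⟨hy, c⟩))))
  refine h.ri.ne ht (mem_bot.1 ((h.simp _ hN fun e => (h.od_iff hr hx).1 o' (cent_closure (fun y hy => (k y hy.1 hy.2).symm)
    (e.ge (mem_top x)))).le (subset_closure ⟨ht, fun k => (h.od_iff ha ht).1 o k.symm⟩)))

theorem GS.ndeg (h : GS D) (ha : a ∈ D) (ht : t ∈ D) (hn : ¬ Commute t a) : ∃ r ∈ D, Commute a r ∧ r ∉ E D a ∧ ¬ Commute t r := by
  by_contra! DH
  obtain ⟨r, hr, har, htr⟩ := h.near h.conn ha ht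
  obtain ⟨u, hu, n1, n2⟩ := h.far ha hr
  obtain ⟨g, B, a2, m2, r2, p2, ci⟩ := h.plane ha hr hu har.symm n1 n2
  obtain ⟨a', ha', haa⟩ := h.cl.exists_prod h.four ha
  obtain ⟨b, m, z, e1, e2, hf, e4, e5⟩ := h.zed ha ha' haa hr har.symm hu n1
  set K := Kl (E D a ∪ E D r ∪ {u}) u
  have aK : ∀ x ∈ E D a, x ∈ K := fun x k => g.sk (.inl (.inl k))
  have rK : ∀ x ∈ E D r, x ∈ K := fun x k => g.sk (.inl (.inr k))
  have uK : u ∈ K := Kl.self
  have na : ∀ x ∈ E D a, ¬ Commute u x := fun x k c => n1 (E.of' k hu c)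
  have nr : ∀ x ∈ E D r, ¬ Commute u x := fun x k c => n2 (E.of' k hu c)
  have nt : ∀ x ∈ E D a, ¬ Commute t x := fun x k c => hn (E.of' k ht c)
  have cbr : Commute b r := (E.of m hr har).symm
  have zb := e4 b m
  have zr := e5 r (E.self hr)
  generalize hF : z * (b * r) = f at hf
  have fb : Commute f b := hF ▸ zb.mul_left ((Commute.refl b).mul_left cbr.symm)
  have fr : Commute f r := hF ▸ zr.mul_left (cbr.mul_left (Commute.refl r))
  have ez : f * b * r = z := by rw [← hF, mul_assoc, mul_assoc, mul_assoc, ← mul_assoc r, ← cbr.eq, mul_assoc b, h.sq hr, mul_one, h.sq m.1, mul_one]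
  have fu : ¬ Commute u f := fun c => n2 (by
    have : Commute u (b * r) := by simpa only [← hF, cn e1] using e2.symm.mul_right c
    exact h.cent hr m.1 cbr.symm (fun e => nt b m (e ▸ htr.symm)) hu (cbr.eq ▸ this))
  have fY : f ∈ closure (E D a ∪ E D r ∪ {u}) := by
    have bm : b * r ∈ closure (E D a ∪ E D r ∪ {u}) := mul_mem (subset_closure (.inl (.inl m))) (subset_closure (.inl (.inr (E.self hr))))
    have um : u ∈ closure (E D a ∪ E D r ∪ {u}) := subset_closure (.inr rfl)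
    refine (mul_mem_cancel_left um).1 (mem_of_odd_of_mul_self_mem (h.od hu hf fu).2 ?_)
    have : u * f * (u * f) = u * (b * r) * (u * (b * r)) := by
      rw [← hF, ← e2.left_comm, (e2.mul_right (zb.mul_right zr)).symm.mul_mul_mul_comm, e1, one_mul]
    exact this ▸ mul_mem (mul_mem um bm) (mul_mem um bm)
  have fK : f ∈ K := by
    obtain ⟨k, -, k1, k2, -⟩ := h.mid' hu hf fu
    exact ⟨k, (closure_le _).2 (by rintro _ (rfl | rfl); exacts [subset_closure (.inr rfl), fY]) k1, k2⟩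
  have fa : f ∉ E D a := fun k => by
    by_cases e : f = b
    · exact n2 (by rw [← ez, e, h.sq m.1, one_mul] at e2; exact e2.symm)
    have k1 := h.mulE k m e
    exact nt _ k1 (h.mid_inj k1.1 hr hu (na _ k1) (ez ▸ e2) ▸ htr.symm)
  have ez' : f * r * b = z := by rw [← ez, mul_assoc, ← cbr.eq, mul_assoc]
  have fr' : f ∉ E D r := fun k => by
    by_cases e : f = r
    · exact na b m (by rw [← ez', e, h.sq hr, one_mul] at e2; exact e2.symm)
    have k1 := h.mulE k (E.self hr) e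
    exact nt b m (h.mid_inj k1.1 m.1 hu (nr _ k1) (ez' ▸ e2) ▸ E.of k1 ht htr.symm)
  have tz : Commute t (z * b) := by
    rw [← ez', mul_assoc, h.sq m.1, mul_one]; exact (DH f hf (E.of' m hf fb).symm fa).mul_right htr.symm
  obtain ⟨O, R⟩ := B.ker uK (aK b m) (na b m)
  obtain ⟨k, hk, k1, k2, k3⟩ := B.mid' uK (aK b m) (na b m)
  have c2 : Commute a2 r2 := E.of p2 m2.1 (E.of m2 hr har).symm
  have nO := R.cj k (subset_closure hk) _ (R.ci _ (aK _ m2) _ (rK _ p2) c2 u uK (na _ m2) ci)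
  have nn : k * (a2 * r2) * k⁻¹ * (k * (a2 * r2) * k⁻¹) = 1 := by rw [conj_mul, h.sq2 m2.1 p2.1 c2]; simp
  have fx : ∀ y ∈ K, Commute y b → k * (a2 * r2) * k⁻¹ * y * (k * (a2 * r2) * k⁻¹)⁻¹ ≠ y := fun y hy c e => by
    have yK := B.cj y hy k hk
    refine na _ m2 (B.tr _ uK _ yK _ (aK _ m2) (k3 ▸ c.symm.conj k) (h.cent m2.1 p2.1 c2
      (fun e => nt _ m2 (e ▸ E.of p2 ht htr.symm)) (g.kD yK) ?_))
    simpa only [B.inv hk, mul_assoc, cn (B.sq hk), B.sq hk, mul_one] using (Commute.conj (mul_inv_eq_iff_eq_mul.1 e) k).symm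
  generalize k * (a2 * r2) * k⁻¹ = n at nO nn fx
  have nK : ∀ y ∈ K, n * y * n⁻¹ ∈ K := fun y => B.ri.cjc (R.le nO)
  have an : ∀ y ∈ K, Commute y b → Commute a (n * y * n⁻¹) := fun y hy c =>
    (E.of' m (g.kD (nK y hy)) (B.tr _ (nK y hy) _ hy _ (aK b m) (R.cc B nO hy) c)).symm
  have sw : ∀ y, n * y * n⁻¹ = b → n * b * n⁻¹ = y := fun y e => by
    rw [← e, inv_eq_of_mul_eq_one_right nn]; simp only [mul_assoc, cn nn, nn, mul_one]
  have zn : n * f * n⁻¹ * (n * b * n⁻¹) * (n * r * n⁻¹) = z := by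
    rw [conj_mul, conj_mul, ez, ← (cent_closure (by rintro _ ((k | k) | rfl); exacts [e4 _ k, e5 _ k, e2])
      (g.cl_eq.le (R.le nO))).eq, mul_inv_cancel_right]
  have t2 : Commute t (n * b * n⁻¹) := DH _ (g.kD (nK b (aK b m))) (an b (aK b m) rfl) fun k => by
    rcases h.a5 ha (mul_mem (subset_closure k) (subset_closure m)) with e | e
    · exact fx b (aK b m) rfl (by rw [mul_eq_one_iff_eq_inv.1 e, h.inv m.1])
    · exact R.nm _ (aK _ e) (by simpa only [mul_assoc, h.inv m.1] using mul_mem nO (R.cj b (subset_closure (aK b m)) _ (inv_mem nO)))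
  have rK' := rK r (E.self hr)
  have d1 := DH _ (g.kD (nK f fK)) (an f fK fb)
  have d3 := DH _ (g.kD (nK r rK')) (an r rK' cbr.symm)
  by_cases c1 : n * f * n⁻¹ ∈ E D a <;> by_cases c3 : n * r * n⁻¹ ∈ E D a
  · rw [← E.eq c3] at c1
    have := h.cjE n⁻¹ c1
    exact fr' (by simpa [mul_assoc] using this)
  · have e := h.mid_inj c1.1 m.1 ht (nt _ c1) (by
      rw [← zn, mul_assoc (n * f * n⁻¹), mul_assoc (n * f * n⁻¹), ((E.of m (g.kD (nK b (aK b m))) (an b (aK b m) rfl).symm).mul_left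
        (E.of m (g.kD (nK r rK')) (an r rK' cbr.symm).symm)).eq, ← mul_assoc] at tz
      simpa only [mul_inv_cancel_right] using (tz.mul_right (t2.mul_right (d3 c3)).inv_right).symm)
    rw [e, sw f e, ← fb.eq, ← ez] at zn
    exact fx r rK' cbr.symm (mul_left_cancel zn)
  · have e := h.mid_inj c3.1 m.1 ht (nt _ c3) (by
      rw [← zn, mul_assoc] at tz
      simpa only [inv_mul_cancel_left] using (((d1 c1).mul_right t2).inv_right.mul_right tz).symm)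
    rw [e, sw r e, ← ez'] at zn
    exact fx f fK fb (mul_right_cancel (mul_right_cancel zn))
  · have := ((d1 c1).mul_right t2).mul_right (d3 c3)
    rw [zn] at this
    exact nt b m (by simpa only [cn e1] using this.mul_right tz)

theorem GS.psl (h : GS D) (ha : a ∈ D) (ht : t ∈ D) (hn : ¬ Commute t a) : ∃ (F : Type) (_ : Field F) (_ : Fintype F),
    Fintype.card F = Nat.card (closure (E D a)) ∧
      Nonempty (closure (E D a ∪ {t}) ≃* Matrix.ProjectiveSpecialLinearGroup (Fin 2) F) := by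
  obtain ⟨g, o, B, P⟩ := h.line ha ht hn
  set X := closure (E D a ∪ {t})
  have hK : Kl (E D a ∪ {t}) t ⊆ X := Kl.le g.mem
  have aK := g.sk (.inl (E.self ha))
  have B' : BC (X.subtype ⁻¹' Kl (E D a ∪ {t}) t) := by have := B.pre; rwa [g.cl_eq] at this
  have im : X.subtype '' (X.subtype ⁻¹' E D a) = E D a :=
    Set.image_preimage_eq_of_subset fun x k => ⟨⟨x, subset_closure (.inl k)⟩, rfl⟩
  rcases B'.rg (A := X.subtype ⁻¹' E D a) (e := ⟨a, hK aK⟩) (t := ⟨t, hK Kl.self⟩) (cl_preimage o.cl hK) (fun x hx y hy c n => by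
      obtain ⟨k, hk, e⟩ := o.cl.cls _ hx _ aK
      have k1 := P _ (Kl.cj (g.cl_eq.le hk) hy) (e ▸ (c.map X.subtype).symm.conj k)
      have := Kl.cj (inv_mem (g.cl_eq.le hk)) (g.sk (.inl (h.mulE (E.self ha) k1 fun e' => n (Subtype.ext (by simpa [← e] using e')))))
      rw [show a * (k * X.subtype y * k⁻¹) = k * (x * y) * k⁻¹ by rw [← e, conj_mul]; rfl] at this
      simpa [mul_assoc] using this) aK Kl.self (fun k => hn (by exact k.symm.map X.subtype))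
      (fun x => ⟨fun k => ⟨g.sk (.inl k), Subtype.ext (E.comm k (E.self ha)).eq⟩, fun k => P _ k.1 (k.2.map X.subtype)⟩) (by
      rw [eq_top_iff, ← closure_closure_coe_preimage]
      exact closure_mono fun x k => k.imp id fun k => Subtype.ext k) with ⟨F, _, _, e, φ⟩ | ⟨M, s, ρ, Γ, Z⟩
  · exact ⟨F, _, _, by rw [e, ← card_map_of_injective X.subtype_injective, MonoidHom.map_closure, im], φ⟩
  obtain ⟨r, hr, h1, h2, h3⟩ := h.ndeg ha ht hn
  have := Z.map X.subtype X.subtype_injective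
  rw [im, ← MonoidHom.range_eq_map, range_subtype] at this
  exact (h.nsz ha ht hn hr h1 h2 h3 this).elim

end Cfsg.Lib.Layer.OTr
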