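import Cfsg.Agent.Lib.Layer.Spec
import Cfsg.Agent.Lib.PGrp.Alperin
import Cfsg.Agent.Lib.BG1.Sec4a

/-! `p`-central `p`-groups (`p` odd): the number of generators is bounded by the rank (Thompson). -/

set_option autoImplicit false

namespace Cfsg.Lib.Layer

open Subgroup Cfsg.Lib.Core Cfsg.Lib.Amalg Cfsg.Lib.BG1
open scoped commutatorElement

universe u

variable {p : ℕ} [hp : Fact p.Prime]

/-- the elements of order dividing `p` of a `p`-central group -/
def pcOm {G : Type*} [Group G] (p : ℕ) (h : ∀ x : G, x ^ p = 1 → x ∈ center G) : Subgroup G where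
  carrier := {x | x ^ p = 1}
  one_mem' := one_pow _
  inv_mem' := fun {x} hx => by change x⁻¹ ^ p = 1; rw [inv_pow, show x ^ p = 1 from hx, inv_one]
  mul_mem' := fun {x y} hx hy => by
    change (x * y) ^ p = 1
    rw [(PGrp.commute_of_mem_center (h x hx) y).mul_pow, show x ^ p = 1 from hx, show y ^ p = 1 from hy, one_mul]

instance pcOm_normal {G : Type*} [Group G] (p : ℕ) (h : ∀ x : G, x ^ p = 1 → x ∈ center G) : (pcOm p h).Normal :=
  ⟨fun x hx g => by
    rw [mem_center_iff.1 (h x hx) g, mul_inv_cancel_right]; exact hx⟩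

theorem pc_mul_pow {G : Type*} [Group G] (hp2 : p ≠ 2) (h : ∀ x : G, x ^ p = 1 → x ∈ center G) {x y : G}
    (hc : ⁅y, x⁆ ^ p = 1) : (x * y) ^ p = x ^ p * y ^ p :=
  PGrp.mul_pow_eq_of_odd (PGrp.commute_of_mem_center (h _ hc) x) (PGrp.commute_of_mem_center (h _ hc) y)
    (hp.out.odd_of_ne_two hp2) hc

theorem pc_quotient {G : Type*} [Group G] [Finite G] (hp2 : p ≠ 2) (hG : IsPGroup p G)
    (h : ∀ x : G, x ^ p = 1 → x ∈ center G) : ∀ y : G ⧸ pcOm p h, y ^ p = 1 → y ∈ center (G ⧸ pcOm p h) := by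
  obtain ⟨A, hAn, hA, -, -, hmax⟩ := PGrp.exists_normal_elem_self_centralizing_in hp2 (hG.to_quotient (pcOm p h))
    ⊤ ⊥ bot_le ⟨inferInstance, fun a ha => by rw [mem_bot.1 ha, one_pow]⟩
  have hc : A ≤ center _ := by
    intro a ha
    obtain ⟨b, rfl⟩ := QuotientGroup.mk_surjective a
    rw [mem_center_iff]
    intro g
    obtain ⟨g, rfl⟩ := QuotientGroup.mk_surjective g
    have hb : b ^ p ∈ center G := h _ ((QuotientGroup.eq_one_iff (b ^ p)).1 (hA.2 _ ha))
    have hb' : ((g * b * g⁻¹ : G) : G ⧸ pcOm p h) ∈ A := hAn.conj_mem _ ha g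
    have hcm : ⁅b⁻¹, g * b * g⁻¹⁆ ^ p = 1 := by
      refine (QuotientGroup.eq_one_iff (N := pcOm p h) _).1 ?_
      change QuotientGroup.mk' _ _ = 1
      rw [map_commutatorElement, commutatorElement_eq_one_iff_mul_comm]
      exact congrArg Subtype.val (hA.1.is_comm.comm (⟨_, A.inv_mem ha⟩ : A) ⟨_, hb'⟩)
    have := pc_mul_pow hp2 h hcm
    rw [conj_pow, mem_center_iff.1 hb g, mul_inv_cancel_right, inv_pow, mul_inv_cancel] at this
    have h2 : ((g * b * g⁻¹ * b⁻¹ : G) : G ⧸ pcOm p h) = 1 := (QuotientGroup.eq_one_iff _).2 this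
    simp only [QuotientGroup.mk_mul, QuotientGroup.mk_inv] at h2
    rw [mul_inv_eq_one, mul_inv_eq_iff_eq_mul] at h2
    exact h2
  intro y hy
  exact hc (hmax y (mem_top y) (fun a ha => (mem_center_iff.1 (hc ha) y).symm) hy)

theorem pc_quotient_card {G : Type*} [Group G] [Finite G] (hp2 : p ≠ 2) (hG : IsPGroup p G)
    (h : ∀ x : G, x ^ p = 1 → x ∈ center G) :
    Nat.card (pcOm p (pc_quotient hp2 hG h)) ≤ Nat.card (pcOm p h) := by
  refine Nat.card_le_card_of_injective (fun y => ⟨y.1.out ^ p, (QuotientGroup.eq_one_iff _).1 (by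
    rw [QuotientGroup.mk_pow, QuotientGroup.out_eq']; exact y.2)⟩) fun y y' e => Subtype.ext ?_
  have e' : y.1.out ^ p = y'.1.out ^ p := congrArg Subtype.val e
  have hcm : ⁅y'.1.out, y.1.out⁻¹⁆ ^ p = 1 := by
    refine (QuotientGroup.eq_one_iff (N := pcOm p h) _).1 ?_
    change QuotientGroup.mk' _ _ = 1
    rw [map_commutatorElement, commutatorElement_eq_one_iff_mul_comm, QuotientGroup.mk'_apply,
      QuotientGroup.out_eq']
    exact (mem_center_iff.1 (pc_quotient hp2 hG h _ y'.2) _).symm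
  have := pc_mul_pow hp2 h hcm
  rw [inv_pow, e', inv_mul_cancel] at this
  rw [← QuotientGroup.out_eq' y.1, ← QuotientGroup.out_eq' y'.1]
  exact QuotientGroup.eq.2 this

theorem pc_index_aux (hp2 : p ≠ 2) (n : ℕ) : ∀ (G : Type u) [Group G] [Finite G], Nat.card G = n → IsPGroup p G →
    ∀ h : ∀ x : G, x ^ p = 1 → x ∈ center G, (frattini G).index ≤ Nat.card (pcOm p h) := by
  induction n using Nat.strong_induction_on with
  | _ n ih =>
  intro G _ _ hn hG h
  by_cases hZ : pcOm p h ≤ frattini G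
  · rcases subsingleton_or_nontrivial G with hs | hs
    · rw [Subsingleton.elim (frattini G) ⊤, index_top]; exact Nat.card_pos
    have hd : p ∣ Nat.card G := by
      obtain ⟨k, hk⟩ := hG.exists_card_eq
      rw [hk]; refine dvd_pow_self p fun h0 => ?_
      rw [h0, pow_zero] at hk; exact absurd hk Finite.one_lt_card.ne'
    obtain ⟨x, hx⟩ := exists_prime_orderOf_dvd_card' p hd
    have hne : pcOm p h ≠ ⊥ := fun e => by
      have : x ∈ pcOm p h := by change x ^ p = 1; rw [← hx]; exact pow_orderOf_eq_one x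
      rw [e, mem_bot] at this
      rw [this, orderOf_one] at hx; exact hp.out.one_lt.ne hx
    have hlt : Nat.card (G ⧸ pcOm p h) < n := by
      rw [← hn, card_eq_card_quotient_mul_card_subgroup (pcOm p h)]
      exact lt_mul_of_one_lt_right Nat.card_pos ((one_lt_card_iff_ne_bot _).2 hne)
    have := ih _ hlt _ rfl (hG.to_quotient _) (pc_quotient hp2 hG h)
    rw [← map_frattini_quotient _ hZ, index_map, QuotientGroup.ker_mk', sup_eq_left.2 hZ,
      QuotientGroup.range_mk', index_top, mul_one] at this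
    exact this.trans (pc_quotient_card hp2 hG h)
  · rw [le_frattini_iff] at hZ
    push Not at hZ
    obtain ⟨M, hM, hZM⟩ := hZ
    have hi : M.index = p := (PGrp.isCoatom_iff_index_eq hG).1 hM
    haveI : M.Normal := PGrp.normal_of_isCoatom hG hM
    have h' : ∀ x : M, x ^ p = 1 → x ∈ center M := fun x hx =>
      mem_center_iff.2 fun g => Subtype.ext (mem_center_iff.1 (h x (congrArg Subtype.val hx)) g)
    have hlt : Nat.card M < n := by
      rw [← hn, ← M.card_mul_index, hi]; exact lt_mul_of_one_lt_right Nat.card_pos hp.out.one_lt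
    have h1 := ih _ hlt M rfl (hG.to_subgroup M) h'
    have h2 : Nat.card (pcOm p h') = Nat.card (M ⊓ pcOm p h : Subgroup G) := by
      rw [← card_map_of_injective M.subtype_injective]
      congr 2
      ext x
      exact ⟨fun ⟨y, hy, e⟩ => e ▸ ⟨y.2, congrArg Subtype.val hy⟩, fun hx => ⟨⟨x, hx.1⟩, Subtype.ext hx.2, rfl⟩⟩
    have h3 : M.relIndex (pcOm p h) = p := by
      rw [← relIndex_sup_right, hM.2 _ (right_lt_sup.2 hZM), relIndex_top_right, hi]
    have h4 := index_antitone (PGrp.map_frattini_le_frattini hG M)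
    rw [index_map_subtype, hi] at h4
    rw [← card_inf_mul_relIndex M, h3, ← h2]
    exact h4.trans (Nat.mul_le_mul_right _ h1)

/-- Thompson: a `p`-central `p`-subgroup `T` (`p` odd) whose elements of order `p` lie in `E` has no elementary
abelian quotient of order greater than `|E|`. -/
theorem pc_relIndex_le {G : Type*} [Group G] [Finite G] (hp2 : p ≠ 2) {T E K : Subgroup G} (hT : IsPGroup p T)
    (hE : ∀ x ∈ T, x ^ p = 1 → x ∈ E) (hc : E ≤ 𝐂 T) (hK : (frattini T).map T.subtype ≤ K) :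
    K.relIndex T ≤ Nat.card E := by
  have h : ∀ x : T, x ^ p = 1 → x ∈ center T := fun x hx =>
    mem_center_iff.2 fun g => Subtype.ext (hc (hE x x.2 (congrArg Subtype.val hx)) g g.2)
  refine (index_antitone (map_le_iff_le_comap.1 hK)).trans ((pc_index_aux hp2 _ T rfl hT h).trans ?_)
  exact Nat.card_le_card_of_injective (fun x => ⟨x.1.1, hE _ x.1.2 (congrArg Subtype.val x.2)⟩)
    fun x y e => Subtype.ext (Subtype.ext (congrArg (fun z : E => z.1) e))

theorem relIndex_cent_le {G : Type*} [Group G] [Finite G] {P Z : Subgroup G} {w : G}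
    (h : ∀ x ∈ P, ⁅x, w⁆ ∈ Z) : (𝐂[w]).relIndex P ≤ Nat.card Z := by
  refine Nat.card_le_card_of_injective (fun c : P ⧸ (𝐂[w]).subgroupOf P => (⟨⁅(c.out : G), w⁆, h _ c.out.2⟩ : Z))
    fun c d e => ?_
  have e' : ⁅(c.out : G), w⁆ = ⁅(d.out : G), w⁆ := congrArg Subtype.val e
  rw [← QuotientGroup.out_eq' c, ← QuotientGroup.out_eq' d]
  refine QuotientGroup.eq.2 (mem_subgroupOf.2 (mem_centralizer_singleton_iff.2 ?_))
  change (c.out : G)⁻¹ * d.out * w = w * ((c.out : G)⁻¹ * d.out)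
  rw [commutatorElement_def, commutatorElement_def, mul_left_inj] at e'
  calc _ = (c.out : G)⁻¹ * (d.out * w * (d.out : G)⁻¹) * d.out := by group
    _ = _ := by rw [← e']; group

/-- A `p`-group `P` of rank at most two (`p` odd) has an `N(P)`-invariant subgroup `T` of index at most `p ^ 2`
all of whose elementary abelian quotients have order at most `p ^ 2`. -/
theorem exists_two_step {G : Type*} [Group G] [Finite G] (hp2 : p ≠ 2) {P : Subgroup G} (hP : IsPGroup p P)
    (hr : PRankLE p 2 P) : ∃ T ≤ P, 𝐍 P ≤ 𝐍 T ∧ T.relIndex P ≤ p ^ 2 ∧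
      ∀ K, (frattini T).map T.subtype ≤ K → K.relIndex T ≤ p ^ 2 := by
  have hpp := hp.out
  have hrk : ∀ A ≤ P, IsElementaryAbelian p A → Nat.card A ≤ p ^ 2 := fun A hA he => by
    rw [← card_subgroupOf_of_le hA]
    exact hr _ (isMulCommutative_iff_le_cent.2 fun x hx y hy => Subtype.ext
      (isMulCommutative_iff_le_cent.1 he.1 (mem_subgroupOf.1 hx) _ (mem_subgroupOf.1 hy)))
      fun a ha => Subtype.ext (he.2 _ (mem_subgroupOf.1 ha))
  have hmem : ∀ E ≤ P, IsElementaryAbelian p E → p ^ 2 ≤ Nat.card E → ∀ x ∈ P, x ∈ 𝐂 E → x ^ p = 1 → x ∈ E := by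
    intro E hE he hc x hx hxc hxp
    have h1 : IsElementaryAbelian p (E ⊔ zpowers x) := PGrp.isElementaryAbelian_sup_zpowers he hxc hxp
    have := eq_of_le_of_card_ge (le_sup_left : E ≤ E ⊔ zpowers x)
      ((hrk _ (sup_le hE (zpowers_le.2 hx)) h1).trans hc)
    exact this ▸ mem_sup_right (mem_zpowers x)
  set Z := omegaOneCenter p P with hZ
  have hZe : IsElementaryAbelian p Z := isElemAb_omZ P
  have hZP : Z ≤ P := omZ_le P
  have hZc : Z ≤ 𝐂 P := omZ_le_cent P
  by_cases hc : ∀ x ∈ P, x ^ p = 1 → x ∈ Z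
  · exact ⟨P, le_rfl, le_rfl, by rw [relIndex_self]; exact Nat.one_le_pow _ _ hpp.pos,
      fun K hK => (pc_relIndex_le hp2 hP hc hZc hK).trans (hrk Z hZP hZe)⟩
  have hZp : Nat.card Z ≤ p := by
    obtain ⟨k, hk⟩ := (hP.to_le hZP).exists_card_eq
    rcases le_or_gt k 1 with h | h
    · rw [hk]; exact (Nat.pow_le_pow_right hpp.pos h).trans (pow_one p).le
    · exact absurd (fun x hx => hmem Z hZP hZe (hk ▸ Nat.pow_le_pow_right hpp.pos h) x hx
        (le_centralizer_iff.1 hZc hx)) hc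
  have hnc : ¬ IsCyclic P := fun h => hc fun x hx hxp =>
    subset_closure ⟨⟨hx, isMulCommutative_iff_le_cent.1 (PGrp.isMulCommutative_of_isCyclic h) hx⟩, hxp⟩
  obtain ⟨hW1, hW2⟩ := omega_center2 hpp hp2 hP hnc
  set W := omegaOne p (center2Of P) with hW
  have hWP : W ≤ P := (PGrp.omegaOne_le _ _).trans (center2Of_le P)
  have hWn : 𝐍 P ≤ 𝐍 W := le_norm_omegaOne _ (le_norm_center2Of le_rfl)
  have hcm : ∀ w ∈ W, ∀ x ∈ P, ⁅x, w⁆ ∈ Z := by
    intro w hw x hx
    refine mem_omZ_iff.2 ⟨PGrp.commutator_mem_of_mem_normalizer (le_normalizer hx) (hWP hw), ?_, hW2 _ ?_⟩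
    · obtain ⟨w', hw', rfl⟩ := PGrp.omegaOne_le _ _ hw
      have h1 := (Subgroup.mem_upperCentralSeries_succ_iff.1 hw') ⟨x, hx⟩
      rw [Subgroup.upperCentralSeries_one] at h1
      intro y hy
      have := congrArg Subtype.val (mem_center_iff.1 (inv_mem h1) ⟨y, hy⟩)
      simpa [commutatorElement_def, mul_assoc] using this
    · exact PGrp.commutator_mem_of_mem_normalizer (hWn (le_normalizer hx)) hw
  have hZW : Z ≤ W := PGrp.omegaOne_mono fun x hx => ⟨⟨x, hx.1⟩, Subgroup.upperCentralSeries_mono _ (by norm_num : 1 ≤ 2) (by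
    rw [Subgroup.upperCentralSeries_one]; exact mem_center_iff.2 fun g => Subtype.ext (hx.2 g g.2)), rfl⟩
  have hZ1 : Z ≠ ⊥ := omZ_ne_bot hP fun h => hnc (by rw [h]; infer_instance)
  have hZp' : Nat.card Z = p := le_antisymm hZp (Nat.le_of_dvd Nat.card_pos
    (dvd_card_of_isPGroup_ne_bot (hP.to_le hZP) hZ1))
  obtain ⟨w, hw, hwZ⟩ := SetLike.exists_of_lt (lt_of_le_of_ne hZW fun h => hW1 (by
    rw [← h]; exact isCyclic_of_prime_card hZp'))
  have hEe : IsElementaryAbelian p (Z ⊔ zpowers w) :=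
    PGrp.isElementaryAbelian_sup_zpowers hZe (le_centralizer_iff.1 hZc (hWP hw)) (hW2 w hw)
  have hE2 : Nat.card (Z ⊔ zpowers w : Subgroup G) = p ^ 2 := by
    rw [PGrp.card_sup_zpowers_of_mem_normalizer (centralizer_le_normalizer _ (le_centralizer_iff.1 hZc (hWP hw)))
      hwZ (by rw [hW2 w hw]; exact one_mem _), hZp', sq]
  have hEW : Z ⊔ zpowers w ≤ W := sup_le hZW (zpowers_le.2 hw)
  refine ⟨P ⊓ 𝐂 W, inf_le_left, le_normalizer_inf le_rfl (hWn.trans (normalizer_le_normalizer_centralizer _)),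
    ?_, fun K hK => (pc_relIndex_le hp2 (hP.to_le inf_le_left) (fun x hx hxp => hmem _ (hEW.trans hWP) hEe hE2.ge x
      hx.1 (centralizer_le hEW hx.2) hxp) (hEW.trans (le_centralizer_iff.1 inf_le_right)) hK).trans hE2.le⟩
  obtain ⟨w', hw', e⟩ : ∃ w' ∈ W, W = Z ⊔ zpowers w ⊔ zpowers w' := by
    rcases hEW.eq_or_lt with h | h
    · exact ⟨1, one_mem _, by rw [zpowers_one_eq_bot, sup_bot_eq, h]⟩
    obtain ⟨w', hw', hw'E⟩ := SetLike.exists_of_lt h
    refine ⟨w', hw', (eq_of_le_of_card_ge (sup_le hEW (zpowers_le.2 hw')) ?_).symm⟩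
    have h3 := card_le_of_rank2_exponent hpp (PGrp.pRankLE_mono hWP hr) hW2
    obtain ⟨k, hk⟩ := (hP.to_le ((sup_le hEW (zpowers_le.2 hw')).trans hWP)).exists_card_eq
    have h4 := card_lt_of_lt (left_lt_sup.2 fun h => hw'E (h (mem_zpowers w')) : Z ⊔ zpowers w < Z ⊔ zpowers w ⊔ zpowers w')
    rw [hE2, hk] at h4
    rw [hk]
    exact h3.trans (Nat.pow_le_pow_right hpp.pos ((Nat.pow_lt_pow_iff_right hpp.one_lt).1 h4))
  have h5 : (𝐂[w] ⊓ 𝐂[w']) ⊓ P ≤ P ⊓ 𝐂 W := fun x hx => ⟨hx.2, by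
    refine le_centralizer_iff.1 (?_ : W ≤ 𝐂 (zpowers x)) (mem_zpowers x)
    rw [e, zpowers_eq_closure x, centralizer_closure]
    exact sup_le (sup_le (fun z hz => mem_centralizer_singleton_iff.2 (hZc hz x hx.2).symm)
      (zpowers_le.2 (mem_centralizer_singleton_iff.2 (mem_centralizer_singleton_iff.1 hx.1.1).symm)))
      (zpowers_le.2 (mem_centralizer_singleton_iff.2 (mem_centralizer_singleton_iff.1 hx.1.2).symm))⟩
  refine (relIndex_le_of_le_left h5 index_ne_zero_of_finite).trans ?_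
  rw [inf_relIndex_right, sq]
  exact relIndex_inf_le.trans (Nat.mul_le_mul ((relIndex_cent_le (hcm w hw)).trans hZp)
    ((relIndex_cent_le (hcm w' hw')).trans hZp))

end Cfsg.Lib.Layer
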