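import Cfsg.Agent.Lib.Block.ColB
import Cfsg.Agent.Lib.CAut.Fam
import Cfsg.Agent.Lib.U3.Aut

/-! The centralizer of an involution in `PGU₃(q)`, `q` even. -/

set_option autoImplicit false
set_option linter.unusedSectionVars false
set_option linter.style.haveILetI false

namespace Cfsg.Lib.Layer.Pgu

open Subgroup Cfsg.Lib.Forms Cfsg.Lib.Forms.Form Cfsg.Lib.U3 Cfsg.Lib.CAut Cfsg.Lib.Amalg Module

theorem eq_of_sq {X : Type*} [Group X] (ho : Odd (Nat.card (center X))) {k k' : X} (h1 : k * k = 1)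
    (h2 : k' * k' = 1) (e : (k : X ⧸ center X) = k') : k = k' := by
  have hc : k⁻¹ * k' ∈ center X := QuotientGroup.eq.1 e
  have h3 : (k⁻¹ * k') ^ 2 = 1 := by
    have := mem_center_iff.1 hc k
    rw [mul_inv_cancel_left] at this
    rw [pow_two, mul_assoc]
    nth_rewrite 1 [this]
    rw [inv_eq_of_mul_eq_one_right h1, mul_assoc, mul_assoc, ← mul_assoc k k, h1, one_mul, ← mul_assoc k k, h1,
      one_mul, h2]
  have h4 : orderOf (k⁻¹ * k') ∣ 1 := by
    rw [← (Nat.coprime_two_left.2 ho : Nat.Coprime 2 _)]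
    exact Nat.dvd_gcd (orderOf_dvd_of_pow_eq_one h3) (orderOf_dvd_natCard _ hc)
  exact inv_mul_eq_one.1 (orderOf_eq_one_iff.1 (Nat.dvd_one.1 h4))

variable {F : Type*} [Field F] {σ : F →+* F} {q : ℕ} (h : IsConj σ q)

abbrev UU : Type _ := (aH h).isom
abbrev PU : Type _ := UU h ⧸ center (UU h)

theorem mem_cU {g : UU h} : g ∈ center (UU h) ↔ ∃ c : F, ∀ x, g.1 x = c • x := by
  rw [← (isHyp h).mem_center_iff (aH_nondeg h) (Herm.rich _ 3) (G := ⊤) (fun _ _ _ _ => trivial) ⟨g, trivial⟩,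
    Subgroup.mem_center_iff, Subgroup.mem_center_iff]
  exact ⟨fun H k => Subtype.ext (H k.1), fun H k => congrArg Subtype.val (H ⟨k, trivial⟩)⟩

theorem card_cU : Nat.card (center (UU h)) = q + 1 := Herm.card_center_isom (aH_nondeg h) (by simp)

theorem card_PU : Nat.card (PU h) = q ^ 3 * ((q ^ 3 + 1) * (q ^ 2 - 1)) := by
  have h1 := Herm.card_isom (aH_nondeg h)
  rw [card_eq_card_quotient_mul_card_subgroup (center (UU h)), card_cU, finrank_three, guOrder_succ, guOrder_succ,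
    guOrder_succ] at h1
  refine Nat.eq_of_mul_eq_mul_right (Nat.succ_pos q) (h1.trans ?_)
  simp [guOrder, Nat.even_iff]; ring

noncomputable def nu : Heis h →* UU h := (SU3 h).subtype.comp (nn h)

theorem nu_apply (x : Heis h) (u : Fin 3 → F) :
    (nu h x).1 u = ![u 0, x.a * u 0 + u 1, x.b * u 0 - σ x.a * u 1 + u 2] := nn_apply h x u

noncomputable def pu : Heis h →* PU h := (QuotientGroup.mk' _).comp (nu h)

theorem pu_injective : Function.Injective (pu h) :=
  (injective_iff_map_eq_one _).2 fun _ e =>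
    nn_mem_center h (U3.mem_center_iff.2 ((mem_cU h).1 ((QuotientGroup.eq_one_iff _).1 e)))

theorem nonempty_pgu : Nonempty ((↥(GU 3 F q) ⧸ center ↥(GU 3 F q)) ≃* PU h) := by
  obtain ⟨e, he⟩ := Herm.iso_std (aH_nondeg h) (finrank_three (F := F))
  exact ⟨Linear.quotientCenterCongr ((guEquiv h 3).trans (isomCongr e he).symm)⟩

theorem syl_range {G : Type*} [Group G] [Finite G] {n : ℕ} (hq : q = 2 ^ n) (f : Heis h →* G)
    (hf : Function.Injective f) (hc : Nat.card G ∣ q ^ 3 * ((q ^ 3 + 1) * (q ^ 2 - 1))) : Syl 2 f.range ⊤ := by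
  obtain ⟨S⟩ : Nonempty (Sylow 2 G) := inferInstance
  obtain ⟨e⟩ := nonempty_sylow_equiv h hq f hf hc S
  have h1 : Nat.card f.range = Nat.card (Heis h) := Nat.card_congr (MonoidHom.ofInjective hf).symm.toEquiv
  exact (syl_top S).of_card_ge (IsPGroup.of_card (n := n * 3) (by rw [h1, Heis.card, hq, pow_mul])) le_top
    ((Nat.card_congr e.toEquiv).trans h1.symm).le

/-- Lower triangular with diagonal `m, μ, m`. -/
def Tr (g : UU h) (m μ : F) : Prop :=
  ∃ a b c : F, ∀ u, g.1 u = ![m * u 0, a * u 0 + μ * u 1, b * u 0 + c * u 1 + m * u 2]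

variable {h}

theorem Tr.mul {g k : UU h} {m μ m' μ' : F} (h1 : Tr h g m μ) (h2 : Tr h k m' μ') :
    Tr h (g * k) (m * m') (μ * μ') := by
  obtain ⟨a, b, c, H⟩ := h1
  obtain ⟨a', b', c', H'⟩ := h2
  refine ⟨a * m' + μ * a', b * m' + c * a' + m * b', c * μ' + m * c', fun u => ?_⟩
  rw [isom_mul_apply, H', H]
  ext i; fin_cases i <;> simp <;> ring

theorem Tr.uniq {g : UU h} {m μ m' μ' : F} (h1 : Tr h g m μ) (h2 : Tr h g m' μ') : m = m' ∧ μ = μ' := by
  obtain ⟨a, b, c, H⟩ := h1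
  obtain ⟨a', b', c', H'⟩ := h2
  exact ⟨by simpa using congrFun ((H ![1, 0, 0]).symm.trans (H' _)) 0,
    by simpa using congrFun ((H ![0, 1, 0]).symm.trans (H' _)) 1⟩

theorem Tr.ne {g : UU h} {m μ : F} (h1 : Tr h g m μ) : m ≠ 0 ∧ μ ≠ 0 := by
  obtain ⟨a, b, c, H⟩ := h1
  have e1 := B_isom g ![0, 0, 1] ![1, 0, 0]
  have e2 := B_isom g ![0, 1, 0] ![0, 1, 0]
  rw [H, H, aH_B, aH_B] at e1
  rw [H, aH_B, aH_B] at e2
  exact ⟨fun e => by simp [e] at e1, fun e => by simp [e] at e2⟩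

theorem tr_nu (x : Heis h) : Tr h (nu h x) 1 1 := ⟨x.a, x.b, -σ x.a, fun u => by
  rw [nu_apply]; ext i; fin_cases i <;> simp; ring⟩

section two

variable (h2 : (2 : F) = 0)

/-- The central elements of the unipotent group. -/
def zb (b : F) (hb : σ b = b) : Heis h := ⟨0, b, by rw [hb]; linear_combination b * h2⟩

/-- The standard involution. -/
def z1 : Heis h := zb h2 1 (map_one σ)

theorem z1_ne : (z1 h2 : Heis h) ≠ 1 := fun e => one_ne_zero (congrArg Heis.b e)

theorem z1_sq : (z1 h2 : Heis h) * z1 h2 = 1 := (Heis.mul_self_eq_one h2).2 rfl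

theorem order_z1 {G : Type*} [Group G] {f : Heis h →* G} (hf : Function.Injective f) : orderOf (f (z1 h2)) = 2 := by
  rw [orderOf_injective f hf]
  exact orderOf_eq_prime ((pow_two _).trans (z1_sq h2)) (z1_ne h2)

include h2 in
theorem Tr.pow_four {g : UU h} (h1 : Tr h g 1 1) : g ^ 4 = 1 := by
  obtain ⟨a, b, c, H⟩ := h1
  refine isom_ext fun u => ?_
  rw [show g ^ 4 = g * (g * (g * g)) by simp [pow_succ, mul_assoc], isom_mul_apply, isom_mul_apply, isom_mul_apply,
    H, H, H, H]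
  ext i; fin_cases i
  · simp
  · simp; linear_combination 2 * a * u 0 * h2
  · simp; linear_combination (2 * b * u 0 + 3 * c * a * u 0 + 2 * c * u 1) * h2

theorem tr_of_comm {g : UU h} (e : g * nu h (z1 h2) = nu h (z1 h2) * g) : ∃ m μ, Tr h g m μ := by
  have H : ∀ u : Fin 3 → F, u 0 • g.1 ![0, 0, 1] = (g.1 u 0) • ![0, 0, 1] := fun u => by
    have := congrArg (fun k : UU h => k.1 u) e
    simp only [isom_mul_apply, nu_apply] at this
    have e1 : (![u 0, (z1 h2 : Heis h).a * u 0 + u 1, (z1 h2 : Heis h).b * u 0 - σ (z1 h2 : Heis h).a * u 1 + u 2] :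
        Fin 3 → F) = u + u 0 • ![0, 0, 1] := by
      ext i; fin_cases i <;> simp [z1, zb]; ring
    rw [e1, map_add, map_smul] at this
    refine add_left_cancel (this.trans ?_)
    ext i; fin_cases i <;> simp [z1, zb]; ring
  have H0 := H ![1, 0, 0]
  have H1 := congrFun (H ![0, 1, 0]) 2
  simp at H0 H1
  refine ⟨g.1 ![1, 0, 0] 0, g.1 ![0, 1, 0] 1, g.1 ![1, 0, 0] 1, g.1 ![1, 0, 0] 2, g.1 ![0, 1, 0] 2, fun u => ?_⟩
  have e1 : u = u 0 • ![1, 0, 0] + u 1 • ![0, 1, 0] + u 2 • ![0, 0, 1] := by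
    ext i; fin_cases i <;> simp
  conv_lhs => rw [e1]
  rw [map_add, map_add, map_smul, map_smul, map_smul, H0]
  ext i; fin_cases i <;> simp [← H1] <;> ring

theorem Tr.comm {g : UU h} {m μ : F} (h1 : Tr h g m μ) {z : Heis h} (hz : z.a = 0) : g * nu h z = nu h z * g := by
  obtain ⟨a, b, c, H⟩ := h1
  refine isom_ext fun u => ?_
  rw [isom_mul_apply, isom_mul_apply, H, H, nu_apply, nu_apply]
  ext i; fin_cases i <;> simp [hz]; ring

include h2 in
theorem Tr.sq_mem {g : UU h} {m μ : F} (h1 : Tr h g m μ) (e : ∀ x, g * nu h x = nu h x * g) :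
    g * g ∈ center (UU h) := by
  obtain ⟨a, b, c, H⟩ := h1
  have K : ∀ α : F, μ * α = α * m ∧ c * α = -(σ α * a) := fun α => by
    obtain ⟨x, rfl⟩ := Heis.exists_a (h := h) α
    have := congrArg (fun k : UU h => k.1 ![1, 0, 0]) (e x)
    simp only [isom_mul_apply, nu_apply, H] at this
    have e1 := congrFun this 1
    have e2 := congrFun this 2
    simp at e1 e2
    exact ⟨by linear_combination e1, by linear_combination e2⟩
  obtain ⟨k1, k2⟩ := K 1
  obtain ⟨α, hα⟩ := h.exists_not_fixed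
  have k3 := (K α).2
  rw [map_one] at k2
  have ha : a = 0 := by
    by_contra ha
    exact hα (mul_right_cancel₀ ha (by linear_combination k3 - α * k2))
  have hc : c = 0 := by linear_combination k2 - ha
  refine (mem_cU h).2 ⟨m * m, fun u => ?_⟩
  rw [isom_mul_apply, H, H]
  ext i; fin_cases i
  · simp; ring
  · simp [ha]; linear_combination (μ + m) * u 1 * k1
  · simp [hc]; linear_combination b * m * u 0 * h2

variable (ho : Odd (q + 1))
include ho

theorem lift_comm {g : UU h} (hg : (g : PU h) ∈ centralizer {pu h (z1 h2)}) : g * nu h (z1 h2) = nu h (z1 h2) * g := by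
  have h1 : nu h (z1 h2) * nu h (z1 h2) = 1 := by rw [← map_mul, z1_sq, map_one]
  refine mul_inv_eq_iff_eq_mul.1 (eq_of_sq (card_cU h ▸ ho) ?_ h1 ?_)
  · rw [show ∀ t : UU h, g * t * g⁻¹ * (g * t * g⁻¹) = g * (t * t) * g⁻¹ from fun t => by group, h1]; group
  · exact mul_inv_eq_iff_eq_mul.2 (mem_centralizer_singleton_iff.1 hg)

theorem cent_comm {d : PU h} (hd : d ∈ centralizer {pu h (z1 h2)}) {z : Heis h} (hz : z.a = 0) :
    d * pu h z = pu h z * d := by
  obtain ⟨g, rfl⟩ := QuotientGroup.mk_surjective d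
  obtain ⟨m, μ, H⟩ := tr_of_comm h2 (lift_comm h2 ho hd)
  exact congrArg QuotientGroup.mk (H.comm hz)

omit ho in
theorem pu_mem (x : Heis h) : pu h x ∈ centralizer {pu h (z1 h2)} := mem_centralizer_singleton_iff.2 (by
  rw [← map_mul, ← map_mul, mem_center_iff.1 (Heis.mem_center.2 (rfl : (z1 h2 : Heis h).a = 0)) x])

theorem odd_eq_bot (D : Subgroup (centralizer {pu h (z1 h2)})) [hD : D.Normal] (hodd : Odd (Nat.card D)) : D = ⊥ := by
  have key : ∀ d ∈ D, d ^ 4 = 1 → d = 1 := fun d hd e => by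
    have h4 : orderOf d ∣ 1 := by
      rw [← ((Nat.coprime_two_left.2 hodd).pow_left 2 : Nat.Coprime (2 ^ 2) _)]
      exact Nat.dvd_gcd (orderOf_dvd_of_pow_eq_one e) (orderOf_dvd_natCard _ hd)
    exact orderOf_eq_one_iff.1 (Nat.dvd_one.1 h4)
  refine eq_bot_iff.2 fun d hd => key d hd ?_
  obtain ⟨d, hd'⟩ := d
  obtain ⟨g, rfl⟩ := QuotientGroup.mk_surjective d
  obtain ⟨m, μ, H⟩ := tr_of_comm h2 (lift_comm h2 ho hd')
  have := H.sq_mem h2 fun x => by
    let n : centralizer {pu h (z1 h2)} := ⟨_, pu_mem h2 x⟩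
    have h1 := mul_mem hd (hD.conj_mem _ (inv_mem hd) n)
    obtain ⟨m', μ', H'⟩ := tr_of_comm h2 (lift_comm h2 ho (g := g * (nu h x * g⁻¹ * (nu h x)⁻¹))
      (mul_mem hd' (mul_mem (mul_mem n.2 (inv_mem hd')) (inv_mem n.2))))
    have h3 := (H'.mul (tr_nu x)).mul H
    rw [show g * (nu h x * g⁻¹ * (nu h x)⁻¹) * nu h x * g = g * nu h x by group] at h3
    obtain ⟨e1, e2⟩ := h3.uniq (H.mul (tr_nu x))
    obtain rfl : m' = 1 := mul_right_cancel₀ H.ne.1 (by linear_combination e1)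
    obtain rfl : μ' = 1 := mul_right_cancel₀ H.ne.2 (by linear_combination e2)
    have h4 := H'.pow_four h2
    have h5 := key _ h1 (Subtype.ext (congrArg QuotientGroup.mk h4))
    have h6 : g * (nu h x * g⁻¹ * (nu h x)⁻¹) ∈ center (UU h) :=
      (QuotientGroup.eq_one_iff _).1 (congrArg Subtype.val h5)
    have h7 : orderOf (g * (nu h x * g⁻¹ * (nu h x)⁻¹)) ∣ 1 := by
      rw [← ((Nat.coprime_two_left.2 (card_cU h ▸ ho)).pow_left 2 : Nat.Coprime (2 ^ 2) (Nat.card (center (UU h))))]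
      exact Nat.dvd_gcd (orderOf_dvd_of_pow_eq_one h4) (orderOf_dvd_natCard _ h6)
    have h8 := orderOf_eq_one_iff.1 (Nat.dvd_one.1 h7)
    calc g * nu h x = g * (nu h x * g⁻¹ * (nu h x)⁻¹) * (nu h x * g) := by group
      _ = _ := by rw [h8, one_mul]
  have h9 : (g : PU h) * g = 1 := (QuotientGroup.eq_one_iff _).2 this
  exact Subtype.ext (by
    change (g : PU h) ^ 4 = 1
    rw [show 4 = 2 * 2 from rfl, pow_mul, pow_two (g : PU h), h9, one_pow])

omit ho in
theorem conj_inv {n : ℕ} (hq : q = 2 ^ n) {w : PSU3 h} (hw : orderOf w = 2) :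
    ∃ l : PSU3 h, l * pn h (z1 h2) * l⁻¹ = w := by
  haveI : Finite (PSU3 h) := inferInstance
  obtain ⟨g, -, hg⟩ := (syl_range h hq (pn h) (pn_injective h) (Dvd.intro_left _ (card_PSU3 h))).exists_conj_le
    (isPGroup_zpowers_of_orderOf (k := 1) hw) le_top
  obtain ⟨z, hz⟩ : g * w * g⁻¹ ∈ (pn h).range := hg ⟨w, mem_zpowers w, rfl⟩
  have h1 : orderOf z = 2 := by
    rw [← orderOf_injective _ (pn_injective h), hz, ← hw]
    exact orderOf_injective (MulAut.conj g).toMonoidHom (MulAut.conj g).injective w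
  have ha : z.a = 0 := (Heis.mul_self_eq_one h2).1 (by rw [← pow_two, ← h1, pow_orderOf_eq_one])
  have hb : z.b ≠ 0 := fun e => by rw [Heis.eq_one_of_b e, orderOf_one] at h1; omega
  obtain ⟨c, hc⟩ := h.exists_norm_eq (Heis.fixed_b h2 ha)
  have hc0 : c ≠ 0 := fun e => hb (by rw [← hc, e, zero_mul])
  have h3 : dd h (Units.mk0 c hc0) * nn h (z1 h2) = nn h z * dd h (Units.mk0 c hc0) := su_ext fun u => by
    have := (map_ne_zero σ).2 hc0
    rw [su_mul_apply, su_mul_apply, nn_apply, nn_apply, dd_apply, dd_apply]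
    ext i; fin_cases i <;> simp [z1, zb, ha, ← hc]
    field_simp
  refine ⟨g⁻¹ * (dd h (Units.mk0 c hc0) : PSU3 h), ?_⟩
  have h4 : (dd h (Units.mk0 c hc0) : PSU3 h) * pn h (z1 h2) = pn h z * (dd h (Units.mk0 c hc0) : PSU3 h) :=
    congrArg QuotientGroup.mk h3
  rw [mul_assoc g⁻¹, h4, hz]; group

end two

end Cfsg.Lib.Layer.Pgu
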