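import Cfsg.Agent.Lib.Layer.PguA

/-! Recognition of `PGU₃(q)`, `q` even, by the centralizer of an involution. -/

set_option autoImplicit false
set_option linter.unusedSectionVars false
set_option linter.style.haveILetI false

namespace Cfsg.Lib.Layer.Pgu

open Subgroup Cfsg.Lib.Forms Cfsg.Lib.Forms.Form Cfsg.Lib.U3 Cfsg.Lib.CAut Cfsg.Lib.Amalg Module

variable {F : Type*} [Field F] {σ : F →+* F} {q : ℕ} (h : IsConj σ q)

noncomputable def jj : SU3 h ≃* (aH h).E :=
  MulEquiv.subgroupCongr (Herm.E_eq (aH_nondeg h) (finrank_three (F := F)).ge).symm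

theorem std (hq : q ≠ 2) : Std (aH h) := std_herm (aH_nondeg h) (finrank_three (F := F)).ge fun e => hq e.2

noncomputable abbrev ac (hq : q ≠ 2) : Gam (aH h) →* MulAut (PSU3 h) := gact (jj h) (std h hq)

variable {h}

theorem odd_cS : Odd (Nat.card (center (SU3 h))) := by
  rw [card_center_SU3]
  exact Odd.of_dvd_nat (by decide) (Nat.gcd_dvd_left 3 _)

theorem s_sq (h2 : (2 : F) = 0) (hq : q ≠ 2) (a : Gam (aH h))
    (H : ∀ z : Heis h, z.a = 0 → ac h hq a (pn h z) = pn h z) : a.1.s * a.1.s = 1 := by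
  have K : ∀ (b : F) (hb : σ b = b), a.1.s b • a.1.g ![0, 0, 1] = (b * a.1.g ![1, 0, 0] 0) • ![0, 0, 1] := fun b hb => by
    let z : Heis h := zb h2 b hb
    have z2 : nn h z * nn h z = 1 := by rw [← map_mul, (Heis.mul_self_eq_one h2).2 rfl, map_one]
    let s' : SU3 h := (jj h).symm ⟨cjI a (nu h z), cjI_mem_E (std h hq).nat (aH_nondeg h) a (jj h (nn h z)).2⟩
    have e1 : ac h hq a (nn h z : PSU3 h) = s' := gact_mk _ _ a _ _ rfl
    have e2 : s' = nn h z := eq_of_sq odd_cS (Subtype.ext (by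
      change cjI a (nu h z) * cjI a (nu h z) = 1
      rw [← map_mul, ← map_mul, (Heis.mul_self_eq_one h2).2 rfl, map_one, map_one])) z2 (e1.symm.trans (H z rfl))
    have e3 : cjI a (nu h z) = nu h z := congrArg Subtype.val e2
    have e4 := cjI_apply_g a (nu h z) ![1, 0, 0]
    rw [e3, nu_apply, nu_apply] at e4
    have e5 : (![(![1, 0, 0] : Fin 3 → F) 0, z.a * (![1, 0, 0] : Fin 3 → F) 0 + (![1, 0, 0] : Fin 3 → F) 1,
        z.b * (![1, 0, 0] : Fin 3 → F) 0 - σ z.a * (![1, 0, 0] : Fin 3 → F) 1 + (![1, 0, 0] : Fin 3 → F) 2] :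
        Fin 3 → F) = ![1, 0, 0] + b • ![0, 0, 1] := by
      ext i; fin_cases i <;> simp [z, zb]
    rw [e5, map_add, a.1.smul] at e4
    refine add_left_cancel (e4.symm.trans ?_)
    ext i; fin_cases i <;> simp [z, zb]; ring
  have K1 := K 1 (map_one σ)
  rw [map_one, one_smul, one_mul] at K1
  have hm : a.1.g ![1, 0, 0] 0 ≠ 0 := fun e => by
    rw [e, zero_smul, map_eq_zero_iff _ a.1.g.injective] at K1
    simpa using congrFun K1 2
  have fx : ∀ b : F, σ b = b → a.1.s b = b := fun b hb => by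
    have := congrFun (K b hb) 2
    rw [K1] at this
    simpa [hm] using this
  refine RingEquiv.ext fun x => ?_
  have t1 := fx (x + σ x) (by rw [map_add, h.σσ, add_comm])
  have t2 := fx (x * σ x) (by rw [map_mul, h.σσ, mul_comm])
  rw [map_add, Aut.aut_σ h] at t1
  rw [map_mul, Aut.aut_σ h] at t2
  have : (a.1.s x - x) * (a.1.s x - σ x) = 0 := by linear_combination a.1.s x * t1 - t2
  change a.1.s (a.1.s x) = x
  rcases mul_eq_zero.1 this with e | e
  · rw [sub_eq_zero.1 e, sub_eq_zero.1 e]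
  · rw [sub_eq_zero.1 e, Aut.aut_σ h, sub_eq_zero.1 e, h.σσ]

theorem ker_rho (hq : q ≠ 2) : ((ac h hq).comp (glin (aH h))).ker = center (UU h) := by
  haveI := h.finite
  ext g
  rw [mem_cU, MonoidHom.mem_ker, MonoidHom.comp_apply, gact_eq_one_iff]
  rfl

/-- The inner-diagonal automorphisms. -/
noncomputable def rho (hq : q ≠ 2) : PU h →* MulAut (PSU3 h) :=
  QuotientGroup.lift _ ((ac h hq).comp (glin (aH h))) (ker_rho hq).ge

theorem rho_injective (hq : q ≠ 2) : Function.Injective (rho (h := h) hq) :=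
  (injective_iff_map_eq_one _).2 fun d e => by
    obtain ⟨g, rfl⟩ := QuotientGroup.mk_surjective d
    exact (QuotientGroup.eq_one_iff _).2 ((ker_rho hq).le e)

theorem rho_mk (hq : q ≠ 2) (s : SU3 h) : rho hq (s.1 : PU h) = MulAut.conj (s : PSU3 h) := gact_lin (jj h) (std h hq) s

theorem conj_eq_one (hq : q ≠ 2) {t : PSU3 h} (e : MulAut.conj t = 1) : t = 1 := by
  obtain ⟨s, rfl⟩ := QuotientGroup.mk_surjective t
  rw [← rho_mk hq, map_eq_one_iff _ (rho_injective hq), QuotientGroup.eq_one_iff, mem_cU] at e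
  exact (QuotientGroup.eq_one_iff _).2 (U3.mem_center_iff.2 e)

theorem exists_chi (hq : q ≠ 2) : ∃ χ : MulAut (PSU3 h) →* (F ≃+* F), (∀ a, χ (ac h hq a) = a.1.s) ∧
    (∀ t, χ (MulAut.conj t) = 1) ∧ ∀ β, χ β = 1 → β ∈ (rho hq).range := by
  haveI := h.finite
  have hs : Function.Surjective (ac h hq) := gact_surjective _ _ fun U _ => not_exc_herm U
  obtain ⟨χ, hχ⟩ := exists_lift (ac h hq) (gfld (aH h)) hs fun a ha => by
    rw [ker_gact] at ha
    obtain ⟨c, hc⟩ := ha
    exact (congrArg Sem.s hc).symm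
  refine ⟨χ, hχ, fun t => ?_, fun β e => ?_⟩
  · obtain ⟨s, rfl⟩ := QuotientGroup.mk_surjective t
    rw [← rho_mk hq]
    exact hχ (glin _ s.1)
  · obtain ⟨a, rfl⟩ := hs β
    obtain ⟨u, g, rfl⟩ := exists_scal_mul_herm h (std h hq) ((hχ a).symm.trans e)
    refine ⟨g, ?_⟩
    rw [map_mul, show ac h hq (gscal _ u) = 1 from gact_scal _ _ u, one_mul]
    rfl

theorem exists_central_inv {G : Type*} [Group G] [Finite G] (he : Even (Nat.card G)) :
    ∃ x : G, orderOf x = 2 ∧ ¬ 2 ∣ (centralizer {x}).index := by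
  obtain ⟨S, hS⟩ := exists_syl 2 (⊤ : Subgroup G)
  haveI : Nontrivial S := (nontrivial_iff_ne_bot S).2 (hS.ne_bot (by rw [card_top]; exact he.two_dvd))
  haveI := hS.isPGroup.center_nontrivial
  obtain ⟨x, hx⟩ := exists_prime_orderOf_dvd_card' (G := center S) 2
    (dvd_card_of_isPGroup_ne_bot (hS.isPGroup.to_subgroup _) ((nontrivial_iff_ne_bot _).1 inferInstance))
  refine ⟨x.1.1, by rw [orderOf_coe, orderOf_coe, hx], fun e => hS.not_dvd_index (e.trans (index_dvd_of_le
    fun s hs => mem_centralizer_singleton_iff.2 (congrArg Subtype.val (Subgroup.mem_center_iff.1 x.2 ⟨s, hs⟩))))⟩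

variable {G : Type*} [Group G] [Finite G] {n : ℕ} (hq : q = 2 ^ n) (hn : 2 ≤ n) (h2 : (2 : F) = 0)
  (hC : ∀ x : G, orderOf x = 2 → Nonempty (centralizer {x} ≃* centralizer {pu h (z1 h2)}))
include hq hn hC

theorem odd_succ : Odd (q + 1) := by
  rw [hq]; exact Even.add_one ((Nat.even_pow' (by omega)).2 even_two)

theorem exists_iota {x : G} (hx : orderOf x = 2) : ∃ ι : Heis h →* G, Function.Injective ι ∧
    Syl 2 ι.range (centralizer {x}) ∧ ∀ z : Heis h, z.a = 0 → ∀ c ∈ centralizer {x}, c * ι z = ι z * c := by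
  obtain ⟨e⟩ := hC x hx
  let f := e.symm.toMonoidHom.comp ((pu h).codRestrict _ (pu_mem h2))
  have hf : Function.Injective f := e.symm.injective.comp fun a b H => pu_injective h (congrArg Subtype.val H)
  refine ⟨(Subgroup.subtype _).comp f, (subtype_injective _).comp hf, ?_, fun z hz c hc => ?_⟩
  · rw [MonoidHom.range_comp]
    exact syl_map_subtype_of_top (syl_range h hq f hf (by
      rw [Nat.card_congr e.toEquiv, ← card_PU h]; exact card_subgroup_dvd_card _))
  · have : (⟨c, hc⟩ : centralizer {x}) * f z = f z * ⟨c, hc⟩ := e.injective (by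
      simp only [map_mul, f, MonoidHom.comp_apply, MulEquiv.coe_toMonoidHom, MulEquiv.apply_symm_apply]
      exact Subtype.ext (cent_comm h2 (odd_succ hq hn h2 hC) (e ⟨c, hc⟩).2 hz))
    exact congrArg Subtype.val this

theorem core_bot (he : Even (Nat.card G)) : pPrimeCore 2 G = ⊥ := by
  have ho : Odd (Nat.card (pPrimeCore 2 G)) := Nat.coprime_two_right.1 (Core.coprime_card_pPrimeCore 2 G)
  have fp : ∀ z : G, orderOf z = 2 → ∀ a : pPrimeCore 2 G, MulAut.conjNormal z a = a → a = 1 := fun z hz a e0 => by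
    obtain ⟨e⟩ := hC z hz
    have hz' : a.1 ∈ centralizer {z} :=
      mem_centralizer_singleton_iff.2 (mul_inv_eq_iff_eq_mul.1 (congrArg Subtype.val e0)).symm
    haveI : (((pPrimeCore 2 G).subgroupOf (centralizer {z})).map e.toMonoidHom).Normal :=
      Normal.map inferInstance _ e.surjective
    have := odd_eq_bot h2 (odd_succ hq hn h2 hC) (((pPrimeCore 2 G).subgroupOf (centralizer {z})).map e.toMonoidHom)
      (ho.of_dvd_nat ((card_map_dvd _ _).trans (card_comap_dvd_of_injective _ _ (subtype_injective _))))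
    rw [map_eq_bot_iff_of_injective _ e.injective] at this
    have h5 : (⟨a.1, hz'⟩ : centralizer {z}) = 1 := mem_bot.1 (this.le a.2)
    exact Subtype.ext (congrArg Subtype.val h5 :)
  have iv : ∀ z : G, orderOf z = 2 → ∀ a : pPrimeCore 2 G, MulAut.conjNormal z a = a⁻¹ := fun z hz =>
    congrFun (MonoidHom.FixedPointFree.coe_eq_inv_of_involutive (φ := (MulAut.conjNormal z : MulAut (pPrimeCore 2 G)))
      (fp z hz) fun a => by
        rw [← MulAut.mul_apply, ← map_mul, ← pow_two, show z ^ 2 = 1 from by rw [← hz, pow_orderOf_eq_one], map_one,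
          MulAut.one_apply])
  obtain ⟨x, hx, -⟩ := exists_central_inv he
  obtain ⟨ι, hι, -⟩ := exists_iota hq hn h2 hC hx
  obtain ⟨w, w1, w2, w3⟩ : ∃ w : Heis h, w.a = 0 ∧ w ≠ 1 ∧ z1 h2 * w ≠ 1 := by
    by_contra! H
    have : Nat.card (center (Heis h)) ≤ Nat.card (zpowers (z1 h2 : Heis h)) := card_le_of_le fun w hw => by
      by_cases e : w = 1
      · exact e ▸ one_mem _
      · exact eq_inv_of_mul_eq_one_right (H w (Heis.mem_center.1 hw) e) ▸ inv_mem (mem_zpowers _)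
    rw [Heis.card_center, Nat.card_zpowers, show orderOf (z1 h2 : Heis h) = 2 from
      order_z1 h2 (f := MonoidHom.id _) Function.injective_id, hq] at this
    have := Nat.pow_le_pow_right two_pos hn
    omega
  have od : ∀ v : Heis h, v.a = 0 → v ≠ 1 → orderOf (ι v) = 2 := fun v v1 v2 => by
    rw [orderOf_injective ι hι]
    exact orderOf_eq_prime ((pow_two _).trans ((Heis.mul_self_eq_one h2).2 v1)) v2
  refine eq_bot_iff.2 fun a ha => congrArg Subtype.val (fp _ (od _ ?_ w3) ⟨a, ha⟩ ?_)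
  · simp [w1, z1, zb]
  · rw [map_mul, map_mul, MulAut.mul_apply, iv _ (od w w1 w2), iv _ (order_z1 h2 hι), inv_inv]

set_option maxHeartbeats 2000000 in
theorem main [Fintype F] (he : Even (Nat.card G)) (hconj : ∀ s t : G, orderOf s = 2 → orderOf t = 2 → _root_.IsConj s t)
    (hS : ∀ P : Sylow 2 G, ¬ (P : Subgroup G).Normal) : Nonempty (G ≃* PU h) := by
  have hO := core_bot hq hn h2 hC he
  have q4 : 2 < q := hq ▸ lt_of_lt_of_le (by norm_num) (Nat.pow_le_pow_right two_pos hn)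
  have q2 : q ≠ 2 := by omega
  obtain ⟨L, hL, l2, ⟨e⟩⟩ : ∃ L : Subgroup G, L.Normal ∧ Odd L.index ∧ Nonempty (L ≃* PSU3 h) := by
    obtain ⟨x, hx, hi⟩ := exists_central_inv he
    obtain ⟨ι, hι, h3, -⟩ := exists_iota hq hn h2 hC hx
    have h4 : Syl 2 ι.range ⊤ := h3.of_le_of_not_dvd le_top (by rwa [relIndex_top_right])
    subst hq
    rcases (Block.Col.us_of_heis h ι hι).cases h4 hO q4 with h5 | ⟨L, l1, l2, l3⟩
    · exact absurd h5 (hS h4.toSylowTop)
    obtain ⟨e⟩ := l3 n F rfl (by rw [← Nat.card_eq_fintype_card, h.card, ← pow_mul, mul_comm, pow_mul]; rfl)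
    obtain ⟨e'⟩ := nonempty_psu h
    exact ⟨L, l1, l2, ⟨e.trans e'⟩⟩
  let ψ : G →* MulAut (PSU3 h) := (MulAut.congr e).toMonoidHom.comp MulAut.conjNormal
  have ψ1 : ∀ (g : G) (l : L), ψ g (e l) = e (MulAut.conjNormal g l) := fun g l => by simp [ψ]
  have ψ2 : ∀ l : L, ψ l = MulAut.conj (e l) := fun l => MulEquiv.ext fun t => by
    obtain ⟨t, rfl⟩ := e.surjective t
    rw [ψ1, MulAut.conj_apply, ← map_mul, ← map_inv, ← map_mul]; rfl
  have ψ3 : Function.Injective ψ := by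
    have h1 : L ⊓ ψ.ker = ⊥ := eq_bot_iff.2 fun l hl => congrArg Subtype.val
      ((map_eq_one_iff e e.injective).1 (conj_eq_one q2 ((ψ2 ⟨l, hl.1⟩).symm.trans hl.2)))
    have h3 := relIndex_dvd_index_of_normal L ψ.ker
    rw [← inf_relIndex_right, h1, relIndex_bot_left] at h3
    exact (MonoidHom.ker_eq_bot_iff ψ).1 (le_bot_iff.1 (hO ▸ Core.le_pPrimeCore
      (Nat.coprime_two_right.2 (l2.of_dvd_nat h3))))
  let κ : Heis h →* G := (L.subtype.comp e.symm.toMonoidHom).comp (pn h)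
  have hκ : Function.Injective κ := ((subtype_injective _).comp e.symm.injective).comp (pn_injective h)
  have hx := order_z1 h2 hκ
  have cz : ∀ z : Heis h, z.a = 0 → ∀ c ∈ centralizer {κ (z1 h2)}, c * κ z = κ z * c := fun z hz c hc => by
    obtain ⟨ι, hι, h3, h4⟩ := exists_iota hq hn h2 hC hx
    have k1 : κ.range ≤ centralizer {κ (z1 h2)} := by
      rintro _ ⟨w, rfl⟩
      exact mem_centralizer_singleton_iff.2 (by
        rw [← map_mul, ← map_mul, Subgroup.mem_center_iff.1 (Heis.mem_center.2 (rfl : (z1 h2 : Heis h).a = 0)) w])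
    have c1 : Nat.card κ.range = Nat.card ι.range := (Nat.card_congr (MonoidHom.ofInjective hκ).symm.toEquiv).trans
      (Nat.card_congr (MonoidHom.ofInjective hι).toEquiv)
    have k2 : Syl 2 κ.range (centralizer {κ (z1 h2)}) :=
      h3.of_card_ge (h3.isPGroup.of_equiv ((MonoidHom.ofInjective hι).symm.trans (MonoidHom.ofInjective hκ))) k1 c1.ge
    have k3 : (center (Heis h)).map ι ≤ (center (Heis h)).map κ := by
      rintro _ ⟨w, hw, rfl⟩
      have hw' := Heis.mem_center.1 hw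
      obtain ⟨v, hv⟩ := k2.mem_of_mem_normalizer (x := ι w) (k := 1) (by
        rw [pow_one, pow_two, ← map_mul, (Heis.mul_self_eq_one h2).2 hw', map_one]) (h3.le ⟨w, rfl⟩)
        (centralizer_le_normalizer _ fun y hy => h4 w hw' y (k1 hy))
      exact ⟨v, Subgroup.mem_center_iff.2 fun y => hκ (by
        rw [map_mul, map_mul, hv]; exact h4 w hw' _ (k1 ⟨y, rfl⟩)), hv⟩
    obtain ⟨w, hw, e1⟩ := (eq_of_le_of_card_ge k3 (by
      rw [card_map_of_injective hκ, card_map_of_injective hι])).ge ⟨z, Heis.mem_center.2 hz, rfl⟩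
    exact e1 ▸ h4 w (Heis.mem_center.1 hw) c hc
  have fx : ∀ (g : G) (s t : PSU3 h), ψ g s = t ↔ g * e.symm s * g⁻¹ = e.symm t := fun g s t => by
    obtain ⟨s, rfl⟩ := e.surjective s
    obtain ⟨t, rfl⟩ := e.surjective t
    rw [ψ1, e.apply_eq_iff_eq, e.symm_apply_apply, e.symm_apply_apply, Subtype.ext_iff]; rfl
  obtain ⟨χ, χ1, χ2, χ3⟩ := exists_chi (h := h) q2
  have θ1 : ∀ g, χ (ψ g) ^ L.index = 1 := fun g => by
    rw [← map_pow, ← map_pow]
    exact (congrArg χ (ψ2 ⟨_, L.pow_index_mem g⟩)).trans (χ2 _)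
  have θ2 : ∀ g, χ (ψ g) = 1 := fun g => by
    obtain ⟨l, hl⟩ := conj_inv h2 hq (w := ψ g (pn h (z1 h2)))
      ((orderOf_injective (ψ g).toMonoidHom (ψ g).injective _).trans (order_z1 h2 (pn_injective h)))
    have h1 : ψ ((e.symm l : G)⁻¹ * g) (pn h (z1 h2)) = pn h (z1 h2) := by
      rw [map_mul, MulAut.mul_apply, ← hl, map_inv, ψ2, e.apply_symm_apply, ← map_inv, MulAut.conj_apply]; group
    haveI := h.finite
    obtain ⟨a, ha⟩ := gact_surjective (jj h) (std h q2) (fun U _ => not_exc_herm U) (ψ ((e.symm l : G)⁻¹ * g))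
    have h3 := s_sq h2 q2 a fun z hz => by
      rw [ha, fx]
      exact mul_inv_eq_iff_eq_mul.2 (cz z hz _ (mem_centralizer_singleton_iff.2
        (mul_inv_eq_iff_eq_mul.1 ((fx _ _ _).1 h1))))
    rw [← χ1, ha, map_mul, map_mul, map_inv, ψ2, map_inv, χ2, inv_one, one_mul, ← pow_two] at h3
    have h4 : orderOf (χ (ψ g)) ∣ 1 := by
      rw [← (Nat.coprime_two_left.2 l2 : Nat.Coprime 2 _)]
      exact Nat.dvd_gcd (orderOf_dvd_of_pow_eq_one h3) (orderOf_dvd_of_pow_eq_one (θ1 g))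
    exact orderOf_eq_one_iff.1 (Nat.dvd_one.1 h4)
  let τ : G →* PU h := (MonoidHom.ofInjective (rho_injective q2)).symm.toMonoidHom.comp
    (ψ.codRestrict _ fun g => χ3 _ (θ2 g))
  have τ1 : ∀ g, rho q2 (τ g) = ψ g := fun g => MonoidHom.apply_ofInjective_symm (rho_injective q2) _
  have τ2 : Function.Injective τ := fun a b H => ψ3 (by rw [← τ1, H, τ1])
  have τ3 : τ (κ (z1 h2)) = pu h (z1 h2) := rho_injective q2 (by
    rw [τ1]
    exact ((ψ2 _).trans (congrArg MulAut.conj (e.apply_symm_apply _))).trans (rho_mk q2 (nn h (z1 h2))).symm)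
  have τ4 : (centralizer {κ (z1 h2)}).map τ = centralizer {pu h (z1 h2)} := by
    obtain ⟨f⟩ := hC _ hx
    refine eq_of_le_of_card_ge ?_ (by rw [card_map_of_injective τ2, Nat.card_congr f.toEquiv])
    rintro _ ⟨c, hc, rfl⟩
    exact mem_centralizer_singleton_iff.2 (by rw [← τ3, ← map_mul, ← map_mul, mem_centralizer_singleton_iff.1 hc])
  refine ⟨MulEquiv.ofBijective τ ⟨τ2, fun v => ?_⟩⟩
  have h1 : v * pu h (z1 h2) * v⁻¹ = τ (e.symm (rho q2 v (pn h (z1 h2)))) := rho_injective q2 (by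
    rw [τ1, ψ2, e.apply_symm_apply, map_mul, map_mul, map_inv,
      show rho q2 (pu h (z1 h2)) = _ from rho_mk q2 (nn h (z1 h2))]
    exact MulEquiv.ext fun t => by simp [pn])
  obtain ⟨g, hg⟩ := isConj_iff.1 (hconj _ (e.symm (rho q2 v (pn h (z1 h2))) : G) hx (by
    rw [← orderOf_injective τ τ2, ← h1]
    exact (orderOf_injective (MulAut.conj v).toMonoidHom (MulAut.conj v).injective _).trans
      (order_z1 h2 (pu_injective h))))
  rw [← hg, map_mul, map_mul, map_inv, τ3] at h1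
  obtain ⟨c, -, hc⟩ := τ4.ge (mem_centralizer_singleton_iff.2 (show (τ g)⁻¹ * v * pu h (z1 h2) =
    pu h (z1 h2) * ((τ g)⁻¹ * v) by
      rw [mul_assoc, mul_inv_eq_iff_eq_mul.1 h1]; group))
  exact ⟨g * c, by rw [map_mul, hc, mul_inv_cancel_left]⟩

end Cfsg.Lib.Layer.Pgu
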