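import Cfsg.Agent.Lib.Layer.Bender
import Cfsg.Agent.Lib.Linear.Tv

/-! The block `SL(n-1)` in the centralizer of a reflection-type involution. -/

set_option autoImplicit false
set_option linter.unusedSectionVars false

namespace Cfsg.Lib.Layer
open Subgroup Cfsg.Lib.Core Cfsg.Lib.Amalg Cfsg.Lib.BG1 Matrix Cfsg.Lib.Linear

variable {ι κ : Type} [Fintype ι] [DecidableEq ι] [Fintype κ] [DecidableEq κ] {F : Type*} [Field F] (e : κ ⊕ Unit ≃ ι)

/-- The block matrix `diag(A, c)`. -/
def blk (A : Matrix κ κ F) (c : F) : Matrix ι ι F := (fromBlocks A 0 0 (c • 1)).submatrix e.symm e.symm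

theorem blk_mul (A B : Matrix κ κ F) (c d : F) : blk e A c * blk e B d = blk e (A * B) (c * d) := by
  simp [blk, submatrix_mul_equiv, fromBlocks_multiply, smul_smul, mul_comm]

theorem blk_one : blk e (1 : Matrix κ κ F) 1 = 1 := by simp [blk]

theorem det_blk (A : Matrix κ κ F) (c : F) : (blk e A c).det = A.det * c := by simp [blk]

theorem blk_inj {A B : Matrix κ κ F} {c d : F} (h : blk e A c = blk e B d) : A = B ∧ c = d := by
  have := congrArg (fun M => M.submatrix e e) h
  simp only [blk, submatrix_submatrix, Equiv.symm_comp_self, submatrix_id_id, fromBlocks_inj] at this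
  exact ⟨this.1, by simpa using congrFun (congrFun this.2.2.2 ()) ()⟩

theorem exists_blk (h2 : (2 : F) ≠ 0) {M : Matrix ι ι F} (h : M * blk e (-1) 1 = blk e (-1) 1 * M) :
    ∃ A c, M = blk e A c := by
  obtain ⟨N, rfl⟩ : ∃ N : Matrix (κ ⊕ Unit) (κ ⊕ Unit) F, M = N.submatrix e.symm e.symm := ⟨M.submatrix e e, by simp⟩
  have := congrArg (fun M => M.submatrix e e) h
  rw [← fromBlocks_toBlocks N] at this ⊢
  simp only [blk, submatrix_mul_equiv, submatrix_submatrix, Equiv.symm_comp_self, submatrix_id_id, fromBlocks_multiply,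
    fromBlocks_inj] at this
  have k : ∀ {a b : Type} (X : Matrix a b F), X = -X → X = 0 := fun X hX => by
    ext i j
    exact (mul_eq_zero.1 (show 2 * X i j = 0 by rw [two_mul, add_eq_zero_iff_eq_neg]; exact congrFun (congrFun hX i) j)).resolve_left h2
  refine ⟨N.toBlocks₁₁, N.toBlocks₂₂ () (), ?_⟩
  rw [k N.toBlocks₁₂ (by simpa using this.2.1), k N.toBlocks₂₁ (by simpa using this.2.2.1.symm), blk]
  congr 2
  ext; simp

/-- The splitting of `Fin (n + 1)` at its last index. -/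
def lastEquiv (n : ℕ) : Fin n ⊕ Unit ≃ Fin (n + 1) := (finSuccEquivLast.trans (Equiv.optionEquivSumPUnit _)).symm

theorem blk_last (n : ℕ) : blk (lastEquiv n) (-1) (1 : F) =
    diagonal fun i : Fin (n + 1) => if (i : ℕ) + 1 = n + 1 then (1 : F) else -1 := by
  ext i j
  induction i using Fin.lastCases <;> induction j using Fin.lastCases <;>
    simp [blk, lastEquiv, one_apply, diagonal_apply, Fin.castSucc_ne_last, (Fin.castSucc_ne_last _).symm, Fin.is_lt, Nat.ne_of_lt]
  split_ifs <;> simp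

/-- The embedding of `SL κ` as a block. -/
def slBlk : SpecialLinearGroup κ F →* SpecialLinearGroup ι F where
  toFun A := ⟨blk e A 1, by simp [det_blk]⟩
  map_one' := Subtype.ext (blk_one e)
  map_mul' A B := Subtype.ext ((by simp : _ = blk e (A.1 * B.1) (1 * 1)).trans (blk_mul ..).symm)

variable {e} {Γ : Type*} [Group Γ] [Finite Γ] {m : Γ →* Matrix ι ι F} (hm : Function.Injective m)
  {φ : SpecialLinearGroup κ F →* Γ}
  (hφ : ∀ A, m (φ A) = blk e A 1) {t : Γ} (ht : m t = blk e (-1) 1) (h2 : (2 : F) ≠ 0)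

include hφ in
theorem blk_hom_injective : Function.Injective φ := fun A B h =>
  Subtype.ext (blk_inj e ((hφ A).symm.trans ((congrArg m h).trans (hφ B)))).1

include hm hφ in
theorem mem_range_blk {g : Γ} {A : Matrix κ κ F} (h : m g = blk e A 1) (hd : A.det = 1) : g ∈ φ.range :=
  ⟨⟨A, hd⟩, hm ((hφ _).trans h.symm)⟩

include hm ht in
theorem mem_cent_blk {g : Γ} {A : Matrix κ κ F} {c : F} (h : m g = blk e A c) : g ∈ 𝐂[t] :=
  mem_centralizer_singleton_iff.2 (hm (by simp [h, ht, blk_mul]))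

include ht h2 in
theorem cent_blk {g : Γ} (hg : g ∈ 𝐂[t]) :
    ∃ A c B d, m g = blk e A c ∧ m g⁻¹ = blk e B d ∧ A * B = 1 ∧ c * d = 1 := by
  have k : ∀ g ∈ 𝐂[t], ∃ A c, m g = blk e A c := fun g hg => exists_blk e h2 (by
    rw [← ht, ← map_mul, mem_centralizer_singleton_iff.1 hg, map_mul])
  obtain ⟨A, c, h1⟩ := k g hg
  obtain ⟨B, d, h3⟩ := k _ (inv_mem hg)
  exact ⟨A, c, B, d, h1, h3, blk_inj e (by rw [← blk_mul, ← h1, ← h3, ← map_mul, mul_inv_cancel, map_one, blk_one])⟩

include hm ht h2 in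
theorem orderOf_blk [Nonempty κ] : orderOf t = 2 :=
  orderOf_eq_prime (hm (by rw [map_pow, pow_two, map_one, ht]; simp [blk_mul, blk_one])) fun c => h2 (by
    obtain ⟨i⟩ := ‹Nonempty κ›
    rw [c, map_one, ← blk_one e] at ht
    have := congrFun (congrFun (blk_inj _ ht).1 i) i
    rw [Matrix.neg_apply, one_apply_eq] at this
    linear_combination this)

include hm hφ ht h2

theorem range_le_cent_blk : φ.range ≤ 𝐂[t] := by
  rintro _ ⟨A, rfl⟩; exact mem_cent_blk hm ht (hφ A)

theorem comm_cent_blk : ⁅𝐂[t], 𝐂[t]⁆ ≤ φ.range := commutator_le.2 fun g hg h hh => by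
  obtain ⟨A, c, B, d, a1, a2, a3, a4⟩ := cent_blk ht h2 hg
  obtain ⟨A', c', B', d', b1, b2, b3, b4⟩ := cent_blk ht h2 hh
  refine mem_range_blk hm hφ (A := A * A' * B * B') ?_ ?_
  · rw [commutatorElement_def, map_mul, map_mul, map_mul, a1, a2, b1, b2, blk_mul, blk_mul, blk_mul,
      mul_right_comm c, a4, one_mul, b4]
  · rw [det_mul, det_mul, det_mul, mul_right_comm A.det, ← det_mul, a3, det_one, one_mul, ← det_mul, b3, det_one]

theorem cent_le_norm_blk : 𝐂[t] ≤ 𝐍(φ.range) :=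
  le_norm_of_der_le (comm_cent_blk hm hφ ht h2) (range_le_cent_blk hm hφ ht h2)

variable [Nontrivial κ] (hq : 3 ≤ Fintype.card κ ∨ ∃ a : F, a ≠ 0 ∧ a ^ 2 ≠ 1)
include hq

omit hm ht h2 in
theorem quasisimple_blk : IsQuasisimple φ.range :=
  IsQuasisimple.of_mulEquiv ⟨sl_isPerfect hq, psl_isSimpleGroup hq⟩ (MonoidHom.ofInjective (blk_hom_injective hφ))

theorem component_blk : IsComponent (φ.range.subgroupOf 𝐂[t]) :=
  (isComponent_subgroupOf_iff (range_le_cent_blk hm hφ ht h2)).2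
    ⟨isSubnormal_subgroupOf_of_le_normalizer (cent_le_norm_blk hm hφ ht h2), quasisimple_blk hφ hq⟩

theorem layer_cent_blk : 𝐄(𝐂[t]) = φ.range :=
  le_antisymm ((layerOf_commutator_self _).ge.trans ((commutator_mono (layerOf_le _) (layerOf_le _)).trans
    (comm_cent_blk hm hφ ht h2))) (le_layerOf (range_le_cent_blk hm hφ ht h2) (component_blk hm hφ ht h2 hq))

omit hq in
theorem eq_of_cent_blk (htL : t ∈ φ.range) (hd : ∀ g, (m g).det = 1) (hκ : Even (Fintype.card κ)) {u : Γ}
    (hu : u ∈ 𝐂(φ.range)) (h : orderOf u = 2) : u = t := by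
  obtain ⟨A, c, B, d, a1, -, -, -⟩ := cent_blk ht h2 (g := u) (mem_centralizer_singleton_iff.2 (hu t htL).symm)
  obtain ⟨a, rfl⟩ : A ∈ Set.range (scalar κ) := mem_range_scalar_of_commute_transvectionStruct fun s => by
    obtain ⟨x, hx⟩ : ∃ x : SpecialLinearGroup κ F, x.1 = s.toMatrix := ⟨⟨_, s.det⟩, rfl⟩
    have := congrArg m (hu _ ⟨x, rfl⟩)
    rw [map_mul, map_mul, hφ, a1, blk_mul, blk_mul] at this
    exact hx ▸ (blk_inj e this).1
  have h3 : blk e (scalar κ a * scalar κ a) (c * c) = blk e 1 1 := by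
    rw [← blk_mul, ← a1, ← map_mul, ← pow_two, ← h, pow_orderOf_eq_one, map_one, blk_one]
  have h4 : a * a = 1 := (scalar_inj (n := κ)).1 (by rw [map_mul, (blk_inj e h3).1, map_one])
  have h5 := hd u
  rw [a1, det_blk, scalar_apply, det_diagonal, Finset.prod_const, Finset.card_univ] at h5
  rcases mul_self_eq_one_iff.1 h4 with rfl | rfl
  · rw [one_pow, one_mul] at h5
    rw [h5, map_one, blk_one, ← map_one m] at a1
    simp [hm a1] at h
  · rw [hκ.neg_one_pow, one_mul] at h5
    exact hm (by rw [a1, ht, h5, map_neg, map_one])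

end Cfsg.Lib.Layer
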