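import Cfsg.Agent.Lib.Layer.Spec
import Cfsg.Agent.Lib.Coprime.PGroup
import Cfsg.Agent.Lib.Transfer.Frobenius

/-! Elements of small order and coprime action along a series. -/

set_option autoImplicit false

namespace Cfsg.Lib.Layer

open Subgroup Cfsg.Lib.Core Cfsg.Lib.Amalg

variable {G : Type*} [Group G] [Finite G] {p : ℕ} [hp : Fact p.Prime]

/-- A `p'`-element normalizing a `p`-group `Q` and moving each small element of `Q` only modulo the next
lower term of a series centralizes `Q`. -/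
theorem cent_of_series {Q : Subgroup G} (hQ : IsPGroup p Q) {x : G} (hx : x ∈ 𝐍 Q)
    (hcop : (orderOf x).Coprime p) (Z : ℕ → Subgroup G) (h0 : Z 0 = ⊥) (n : ℕ)
    (hn : ∀ a ∈ Q, (a ^ p = 1 ∨ (p = 2 ∧ a ^ 4 = 1)) → a ∈ Z n)
    (hs : ∀ i, ∀ a ∈ Q, (a ^ p = 1 ∨ (p = 2 ∧ a ^ 4 = 1)) → a ∈ Z (i + 1) → x * a * x⁻¹ * a⁻¹ ∈ Z i) :
    x ∈ 𝐂 Q := by
  let N : ℕ → Subgroup G := fun i => Q ⊓ ⨅ k : ℕ, cj (x ^ k)⁻¹ (Z i)
  have hN : ∀ i a, a ∈ N i ↔ a ∈ Q ∧ ∀ k : ℕ, x ^ k * a * (x ^ k)⁻¹ ∈ Z i := by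
    intro i a
    simp only [N, mem_inf, mem_iInf, mem_cj, inv_inv]
  have hQx : ∀ k : ℕ, ∀ a ∈ Q, x ^ k * a * (x ^ k)⁻¹ ∈ Q := fun k a ha =>
    (mem_normalizer_iff.1 (pow_mem hx k) a).1 ha
  have hsm : ∀ (g a : G), (a ^ p = 1 ∨ (p = 2 ∧ a ^ 4 = 1)) →
      ((g * a * g⁻¹) ^ p = 1 ∨ (p = 2 ∧ (g * a * g⁻¹) ^ 4 = 1)) := by
    intro g a h
    rcases h with h | ⟨h, h'⟩
    · left; rw [conj_pow, h]; group
    · right; exact ⟨h, by rw [conj_pow, h']; group⟩
  have hsm' : ∀ a : G, (p ≠ 2 → a ^ p = 1) ∧ (p = 2 → a ^ 4 = 1) → (a ^ p = 1 ∨ (p = 2 ∧ a ^ 4 = 1)) := by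
    intro a h
    by_cases h2 : p = 2
    · exact Or.inr ⟨h2, h.2 h2⟩
    · exact Or.inl (h.1 h2)
  have hxN : ∀ i, zpowers x ≤ 𝐍 (N i) := by
    intro i
    rw [zpowers_le]
    refine mem_normalizer_of_cj_le (cj_le_iff'.2 fun a ha => ?_)
    obtain ⟨h1, h2⟩ := (hN i a).1 ha
    refine (hN i _).2 ⟨by simpa using hQx 1 a h1, fun k => ?_⟩
    have := h2 (k + 1)
    rwa [pow_succ, mul_inv_rev, show x ^ k * x * a * (x⁻¹ * (x ^ k)⁻¹) = x ^ k * (x * a * x⁻¹) * (x ^ k)⁻¹ by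
      group] at this
  have hcz : (Nat.card (zpowers x)).Coprime p := by rwa [Nat.card_zpowers]
  have main : ∀ i, zpowers x ≤ 𝐂 (N i) := by
    intro i
    induction i with
    | zero =>
      intro y _ a ha
      have := ((hN 0 a).1 ha).2 0
      rw [h0, mem_bot] at this
      have ha1 : a = 1 := by simpa using this
      rw [ha1, one_mul, mul_one]
    | succ i ih =>
      refine Coprime.le_centralizer_of_pow_eq_one (hQ.to_le inf_le_left) (hxN _) hcz fun a ha hsa => ?_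
      obtain ⟨h1, h2⟩ := (hN _ a).1 ha
      have hsa := hsm' a hsa
      set c := x * a * x⁻¹ * a⁻¹ with hc
      have hcQ : c ∈ Q := Q.mul_mem (by simpa using hQx 1 a h1) (Q.inv_mem h1)
      have hcN : c ∈ N i := by
        refine (hN i c).2 ⟨hcQ, fun k => ?_⟩
        have := hs i _ (hQx k a h1) (hsm _ a hsa) (h2 k)
        have e : x ^ k * c * (x ^ k)⁻¹ = x * (x ^ k * a * (x ^ k)⁻¹) * x⁻¹ * (x ^ k * a * (x ^ k)⁻¹)⁻¹ := by
          rw [hc]; group
        rwa [e]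
      have hxc : c * x = x * c := ih (mem_zpowers x) c hcN
      have hm : ∀ m : ℕ, x ^ m * a * (x ^ m)⁻¹ = c ^ m * a := by
        intro m
        induction m with
        | zero => simp
        | succ m ihm =>
          have hcm : x * c ^ m = c ^ m * x := ((Commute.pow_right (a := x) (b := c) hxc.symm m)).eq
          calc x ^ (m + 1) * a * (x ^ (m + 1))⁻¹ = x * (x ^ m * a * (x ^ m)⁻¹) * x⁻¹ := by group
            _ = (x * c ^ m) * a * x⁻¹ := by rw [ihm]; group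
            _ = c ^ m * (x * a * x⁻¹ * a⁻¹) * a := by rw [hcm]; group
            _ = _ := by rw [← hc, pow_succ]
      have h3 := hm (orderOf x)
      rw [pow_orderOf_eq_one, one_mul, inv_one, mul_one] at h3
      have h4 : c ^ orderOf x = 1 := by simpa using h3.symm
      obtain ⟨k, hk⟩ := isPGroup_iff_forall_mem.1 hQ c hcQ
      have h5 : c = 1 := by
        have := pow_gcd_eq_one.2 ⟨h4, hk⟩
        rwa [(hcop.pow_right k).gcd_eq_one, pow_one] at this
      rw [zpowers_eq_closure x, centralizer_closure, mem_centralizer_singleton_iff]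
      have : x * a * x⁻¹ * a⁻¹ = 1 := hc ▸ h5
      calc a * x = (x * a * x⁻¹ * a⁻¹) * (a * x) := by rw [this, one_mul]
        _ = x * a := by group
  refine (Coprime.le_centralizer_of_pow_eq_one hQ (zpowers_le.2 hx) hcz fun a ha hsa => ?_) (mem_zpowers x)
  have haN : a ∈ N n := (hN n a).2 ⟨ha, fun k => hn _ (hQx k a ha) (hsm _ a (hsm' a hsa))⟩
  exact le_centralizer_iff.1 (main n) haN

end Cfsg.Lib.Layer
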