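/-
Recognition of `PSL₂(q)` by order and spectrum.
-/
import Cfsg.Agent.Lib.Exc.SameN
import Cfsg.Agent.Lib.Exc.CIT7
import Cfsg.Agent.Lib.Exc.Chz
import Cfsg.Agent.Lib.Amalg.Conj
import Cfsg.Agent.Lib.ABG.Idx2
import Cfsg.Agent.Lib.BG1.Sec3a

set_option autoImplicit false

namespace Cfsg.Lib.Layer.SpecL2

open Subgroup Cfsg.Lib.Core Cfsg.Lib.Transfer
open Matrix (ProjectiveSpecialLinearGroup)

universe u
variable {G : Type u} [Group G] [Finite G]

/-- every element order divides `A` or is prime to `A` -/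
def Iso (G : Type*) [Group G] (A : ℕ) : Prop := ∀ g : G, orderOf g ∣ A ∨ (orderOf g).Coprime A

omit [Finite G] in
theorem Iso.of_commute {A : ℕ} (h : Iso G A) {x y : G} (hx : orderOf x ∣ A) (h1 : x ≠ 1) (hc : Commute x y) :
    orderOf y ∣ A := by
  rcases h y with hy | hy
  · exact hy
  have e := hc.orderOf_mul_eq_mul_orderOf_of_coprime (hy.coprime_dvd_right hx).symm
  rcases h (x * y) with k | k <;> rw [e] at k
  · exact dvd_of_mul_left_dvd k
  · exact absurd (orderOf_eq_one_iff.mp ((k.coprime_mul_right).eq_one_of_dvd hx)) h1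

theorem coprime_card_of_forall {H : Subgroup G} {A d : ℕ} (h : ∀ y ∈ H, orderOf y ∣ A) (hd : d.Coprime A) :
    (Nat.card H).Coprime d := by
  refine Nat.coprime_of_dvd fun r hr h1 h2 => ?_
  haveI := Fact.mk hr
  obtain ⟨y, hy⟩ := exists_prime_orderOf_dvd_card' r h1
  have := h y y.2
  rw [orderOf_coe, hy] at this
  exact hr.one_lt.ne' (Nat.eq_one_of_dvd_coprimes hd h2 this)

theorem card_dvd_of_forall {H : Subgroup G} {A a d : ℕ} (h : ∀ y ∈ H, orderOf y ∣ A) (hd : d.Coprime A)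
    (hn : Nat.card G = a * d) : Nat.card H ∣ a :=
  (coprime_card_of_forall h hd).dvd_of_dvd_mul_right (hn ▸ card_subgroup_dvd_card H)

theorem Iso.normal_bound {A a d : ℕ} (h : Iso G A) (hd : d.Coprime A) (hn : Nat.card G = a * d) {V : Subgroup G} [V.Normal]
    (hV : ∀ v ∈ V, orderOf v ∣ A) (h1 : V ≠ ⊥) : d < a := by
  have k1 := card_dvd_of_forall hV hd hn
  have k2 : d ∣ Nat.card V - 1 := by
    refine (Nat.dvd_iff_prime_pow_dvd_dvd _ _).mpr fun r k hr hk => ?_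
    haveI := Fact.mk hr
    obtain ⟨R, hR⟩ := Sylow.exists_subgroup_card_pow_prime (G := G) r (hn ▸ hk.mul_left a)
    rw [← hR]
    refine BG1.Regular.card_dvd (by rw [normalizer_eq_top]; exact le_top) fun x hx hx1 => eq_bot_iff.mpr fun v hv => ?_
    by_contra hv1
    have := h.of_commute (hV v hv.1) hv1 (mem_centralizer_singleton_iff.mp hv.2)
    exact hx1 (orderOf_eq_one_iff.mp (Nat.eq_one_of_dvd_coprimes hd ((hR ▸ R.orderOf_dvd_natCard hx).trans hk) this))
  have k3 := (one_lt_card_iff_ne_bot V).mpr h1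
  have k4 : 0 < a := Nat.pos_of_mul_pos_right (hn ▸ Nat.card_pos)
  have := Nat.le_of_dvd (by omega) k2
  have := Nat.le_of_dvd k4 k1
  omega

theorem iso_of_three {A B C : ℕ} (h : ∀ g : G, orderOf g ∣ A ∨ orderOf g ∣ B ∨ orderOf g ∣ C) (hB : B.Coprime A)
    (hC : C.Coprime A) : Iso G A := fun g =>
  (h g).imp_right fun k => k.elim (fun k => hB.coprime_dvd_left k) fun k => hC.coprime_dvd_left k

theorem no_solvable {A B C a b c : ℕ} (h : ∀ g : G, orderOf g ∣ A ∨ orderOf g ∣ B ∨ orderOf g ∣ C) (hAB : A.Coprime B)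
    (hAC : A.Coprime C) (hBC : B.Coprime C) (hn : Nat.card G = a * b * c) (h1 : (b * c).Coprime A) (h2 : (a * c).Coprime B)
    (h3 : (a * b).Coprime C) (k1 : a ≤ b * c) (k2 : b ≤ a * c) (k3 : c ≤ a * b) (N : Subgroup G) (hN : N.Normal)
    (hs : Group.IsSolvable N) : N = ⊥ := by
  by_contra hne
  haveI := (nontrivial_iff_ne_bot N).mpr hne
  obtain ⟨r, hr, hO⟩ := exists_pCore_ne_bot_of_solvable (G := N)
  haveI := Fact.mk hr
  haveI := pCore_characteristic (p := r) (G := N)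
  set V := (pCore r N).map N.subtype
  haveI : V.Normal := ConjAct.normal_of_characteristic_of_normal
  have hV : IsPGroup r V := (isPGroup_pCore r N).map _
  have hV1 : V ≠ ⊥ := fun k => hO ((map_eq_bot_iff_of_injective _ N.subtype_injective).mp k)
  obtain ⟨v, hv, hv1⟩ := (bot_or_exists_ne_one V).resolve_left hV1
  have key : ∀ D, Iso G D → orderOf v ∣ D → ∀ w ∈ V, orderOf w ∣ D := fun D hD hvD w hw => by
    rcases hD w with k | k
    · exact k
    obtain ⟨i, hi⟩ := IsPGroup.iff_orderOf.mp hV ⟨v, hv⟩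
    obtain ⟨j, hj⟩ := IsPGroup.iff_orderOf.mp hV ⟨w, hw⟩
    rw [← orderOf_coe] at hi hj
    rcases Nat.eq_zero_or_pos j with rfl | hj0
    · rw [hj]; exact one_dvd _
    have hi0 : i ≠ 0 := by
      rintro rfl
      exact hv1 (orderOf_eq_one_iff.mp hi)
    exact absurd (Nat.eq_one_of_dvd_coprimes k (hj ▸ dvd_pow_self r hj0.ne') ((hi ▸ dvd_pow_self r hi0).trans hvD))
      hr.one_lt.ne'
  have iA := iso_of_three h hAB.symm hAC.symm
  have iB : Iso G B := iso_of_three (fun g => (or_left_comm.mp (h g))) hAB hBC.symm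
  have iC : Iso G C := iso_of_three (fun g => (or_rotate.mpr (h g))) hAC hBC
  rcases h v with k | k | k
  · exact absurd (iA.normal_bound (a := a) h1 (by rw [hn]; ring) (key _ iA k) hV1) (by omega)
  · exact absurd (iB.normal_bound (a := b) h2 (by rw [hn]; ring) (key _ iB k) hV1) (by omega)
  · exact absurd (iC.normal_bound (a := c) h3 (by rw [hn]; ring) (key _ iC k) hV1) (by omega)

/-- `⟨v⟩` has index two in the Sylow `2`-subgroup `S` -/
structure Cy (S : Subgroup G) (v : G) : Prop where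
  syl : SylowIn 2 S ⊤
  mem : v ∈ S
  idx : (zpowers v).relIndex S = 2

theorem Cy.cj {S : Subgroup G} {v : G} (h : Cy S v) (g : G) : Cy (cj g S) (g * v * g⁻¹) :=
  ⟨h.syl.cj_of_mem (mem_top g), conj_mem_cj.mpr h.mem, by
    have := relIndex_cj g (zpowers v) S
    rw [h.idx, cj_def, MonoidHom.map_zpowers] at this
    exact this⟩

theorem Cy.exists_le {S R : Subgroup G} {v : G} (h : Cy S v) (hR : IsPGroup 2 R) : ∃ g, Cy (Transfer.cj g S) (g * v * g⁻¹) ∧
    R ≤ Transfer.cj g S := by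
  haveI := Fact.mk Nat.prime_two
  obtain ⟨g, -, hg⟩ := h.syl.exists_cj_le hR le_top
  exact ⟨g⁻¹, h.cj g⁻¹, cj_le_iff_le_cj_inv.mp hg⟩

theorem Cy.card_le {S R : Subgroup G} {v : G} (h : Cy S v) (hR : IsPGroup 2 R) : ∃ x ∈ R, Nat.card R ≤ 2 * orderOf x := by
  obtain ⟨g, h', hle⟩ := h.exists_le hR
  generalize Transfer.cj g S = S' at h' hle
  generalize g * v * g⁻¹ = v' at h'
  obtain ⟨x, hx⟩ := PGrp.exists_zpowers_eq_of_isCyclic (PGrp.isCyclic_of_le' (H := zpowers v' ⊓ R) inferInstance inf_le_left)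
  refine ⟨x, (hx.le (mem_zpowers x)).2, ?_⟩
  rw [← Nat.card_zpowers, hx, ← Core.card_mul_relIndex (inf_le_right : zpowers v' ⊓ R ≤ R), inf_relIndex_right, mul_comm]
  exact Nat.mul_le_mul_right _ (h'.idx ▸ relIndex_le_of_le_right hle (by rw [h'.idx]; norm_num))

theorem eq_of_two {v x y : G} (hx : x ∈ zpowers v) (hy : y ∈ zpowers v) (h1 : orderOf x = 2) (h2 : orderOf y = 2) : x = y := by
  obtain ⟨k, rfl⟩ := PGrp.mem_zpowers_of_pow_eq_one (C := zpowers v) inferInstance hx hy (by rw [h2, ← h1, pow_orderOf_eq_one])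
  have e : y ^ (2 : ℤ) = 1 := by rw [zpow_ofNat, ← h2, pow_orderOf_eq_one]
  obtain ⟨j, rfl | rfl⟩ := Int.even_or_odd' k
  · simp [zpow_mul, e] at h1
  · simp [zpow_add, zpow_mul, e]

theorem Cy.pnil {S : Subgroup G} {v : G} (h : Cy S v)
    (h0 : ∀ t ∈ zpowers v, orderOf t = 2 → PNil 2 (centralizer ({t} : Set G))) {s : G} (hs : orderOf s = 2) :
    PNil 2 (centralizer ({s} : Set G)) := by
  haveI := Fact.mk Nat.prime_two
  obtain ⟨R, hsR, hR⟩ := exists_sylowIn_ge (Invol.isPGroup_zpowers_two hs) (zpowers_le.mpr (mem_centralizer_singleton_iff.mpr rfl))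
  have hsR' := zpowers_le.mp hsR
  obtain ⟨g, h', hle⟩ := h.exists_le hR.isPGroup
  by_cases hv : s ∈ zpowers (g * v * g⁻¹)
  · obtain ⟨k, hk⟩ := hv
    have e : s = g * v ^ k * g⁻¹ := by rw [← hk]; simp
    have := (h0 (v ^ k) (zpow_mem (mem_zpowers v) k) (by rw [← hs, e, orderOf_conj'])).cj g
    rwa [cj_def, Amalg.cj_centralizer_singleton, ← e] at this
  generalize Transfer.cj g S = S' at h' hle
  generalize g * v * g⁻¹ = v' at h' hv
  have hdec : ∀ x ∈ R, x ∈ zpowers v' ∨ x * s ∈ zpowers v' := fun x hx => by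
    by_cases k : x ∈ zpowers v'
    · exact Or.inl k
    · exact Or.inr ((ABG.mul_mem_iff_of_relIndex_two h'.idx (hle hx) (hle hsR')).mpr (iff_of_false k hv))
  have hc : ∀ x ∈ R, Commute x s := fun x hx => mem_centralizer_singleton_iff.mp (hR.le hx)
  have hss : s * s = 1 := by rw [← sq, ← hs, pow_orderOf_eq_one]
  have hcz : ∀ a ∈ zpowers v', ∀ b ∈ zpowers v', Commute a b := by
    rintro _ ⟨i, rfl⟩ _ ⟨j, rfl⟩
    exact Commute.zpow_zpow_self v' i j
  have hcancel : ∀ x y, Commute y s → Commute (x * s) y → Commute x y := fun x y k1 k2 => by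
    have := k2.mul_left k1.symm
    rwa [mul_assoc, hss, mul_one] at this
  haveI hRa : IsMulCommutative R := by
    refine le_centralizer_iff_isMulCommutative.mp fun x hx => mem_centralizer_iff.mpr fun y hy => ?_
    rcases hdec x hx with k1 | k1 <;> rcases hdec y hy with k2 | k2
    · exact hcz _ k2 _ k1
    · exact hcancel _ _ (hc x hx) (hcz _ k2 _ k1)
    · exact (hcancel _ _ (hc y hy) (hcz _ k1 _ k2)).symm
    · exact hcancel _ _ (hc x hx) (hcancel _ _ ((hc y hy).mul_left (Commute.refl s)) (hcz _ k1 _ k2)).symm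
  refine hR.pnil_of_normalizer_le_centralizer fun n hn => ?_
  have hT' : SylowIn 2 R (centralizer {s} ⊓ normalizer (R : Set G)) := hR.mono (le_inf hR.le le_normalizer) inf_le_left
  refine (hT'.resOf_sup.ge.trans (sup_le (resOf_le_iff.2 fun g hg ho => ?_) (le_centralizer R))) hn
  have hord : ∀ x ∈ R, orderOf x = 2 → x ≠ s → orderOf (x * s) = 2 := fun x hx k1 k2 => by
    refine orderOf_eq_prime ?_ fun k => k2 ?_
    · rw [(hc x hx).mul_pow, ← k1, pow_orderOf_eq_one, k1, sq, hss, one_mul]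
    · rw [← mul_one x, ← hss, ← mul_assoc, k, one_mul]
  refine ABG.mem_centralizer_of_odd_of_comm hR.isPGroup hRa (Nat.coprime_two_right.mp ho) hg.2
    (by rw [mem_centralizer_singleton_iff.mp hg.1, mul_inv_cancel_right]) hss fun x hx y hy k1 k2 k3 k4 => ?_
  rcases hdec x hx with l1 | l1 <;> rcases hdec y hy with l2 | l2
  · exact Or.inl (eq_of_two l2 l1 k2 k1)
  · exact Or.inr (by rw [← eq_of_two l2 l1 (hord y hy k2 k4) k1, mul_assoc, hss, mul_one])
  · exact Or.inr (eq_of_two l2 l1 k2 (hord x hx k1 k3))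
  · exact Or.inl (mul_right_cancel (eq_of_two l2 l1 (hord y hy k2 k4) (hord x hx k1 k3)))

theorem Cy.index_dvd {S : Subgroup G} {v : G} (h : Cy S v) {E : Subgroup G} [E.Normal] [IsSimpleGroup E]
    (hE : ¬ IsMulCommutative E) : ∃ t : G, orderOf t = 2 ∧ E.index ∣ Nat.card (centralizer ({t} : Set G)) := by
  haveI := Fact.mk Nat.prime_two
  have hS : SylowIn 2 ((S ⊓ E).subgroupOf E) ⊤ := by
    have := h.syl.inf_of_le (N := E) (by rw [normalizer_eq_top]) le_top
    have h2 := sylowIn_top this.toSylow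
    rwa [this.coe_toSylow] at h2
  have hnc := Exc.not_cyclic_sylow hE hS
  obtain ⟨w, hw, hwv⟩ : ∃ w ∈ S ⊓ E, w ∉ zpowers v := by
    by_contra hn
    push Not at hn
    exact hnc (PGrp.isCyclic_subgroupOf (PGrp.isCyclic_of_le' inferInstance hn) E)
  have hidx : ((zpowers v).subgroupOf E).relIndex ((S ⊓ E).subgroupOf E) = 2 := by
    rw [relIndex_subgroupOf inf_le_right]
    exact ABG.relIndex_eq_two_of hw hwv fun n hn => by
      by_cases k : n ∈ zpowers v
      · exact Or.inl k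
      · exact Or.inr ((ABG.mul_mem_iff_of_relIndex_two h.idx hn.1 hw.1).mpr (iff_of_false k hwv))
  have hodd : Odd ((S ⊓ E).subgroupOf E).index := by
    rw [← Nat.not_even_iff_odd, even_iff_two_dvd, ← relIndex_top_right]
    exact (sylowIn_iff.mp hS).2.2
  have hG : ∀ K : Subgroup E, K.index ≠ 2 := fun K hK => by
    haveI := normal_of_index_eq_two hK
    rcases IsSimpleGroup.eq_bot_or_eq_top_of_normal K inferInstance with k | k
    · rw [k, index_bot] at hK
      haveI := isCyclic_of_prime_card hK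
      exact hE inferInstance
    · rw [k, index_top] at hK; omega
  have key : ∀ s ∈ E, orderOf s = 2 → ∃ e ∈ E, e * s * e⁻¹ ∈ zpowers v := fun s hs k => by
    obtain ⟨e, he⟩ := Invol.thompson_transfer' hG hodd hidx (t := ⟨s, hs⟩) (by rw [← orderOf_coe, k])
    exact ⟨e, e.2, he⟩
  have h2 : 2 ∣ Nat.card E := by
    by_contra hn
    rw [← card_top, ← hS.eq_bot_iff] at hn
    exact hnc (hn ▸ inferInstance)
  obtain ⟨s, hs⟩ := exists_prime_orderOf_dvd_card' 2 h2
  rw [← orderOf_coe] at hs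
  obtain ⟨e, he, hev⟩ := key s s.2 hs
  have ht : orderOf (e * s * e⁻¹ : G) = 2 := by rw [orderOf_conj', hs]
  have htE : (e * s * e⁻¹ : G) ∈ E := mul_mem (mul_mem he s.2) (inv_mem he)
  generalize (e * s * e⁻¹ : G) = t at hev ht htE
  refine ⟨t, ht, ?_⟩
  have : centralizer {t} ⊔ E = ⊤ := eq_top_iff.mpr fun g _ => by
    obtain ⟨e, he, k⟩ := key _ (Normal.conj_mem inferInstance t htE g) (by rw [orderOf_conj', ht])
    have k2 := eq_of_two k hev (by rw [orderOf_conj', orderOf_conj', ht]) ht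
    have k3 : e * g ∈ centralizer ({t} : Set G) := mem_centralizer_singleton_iff.mpr (by
      rw [← mul_inv_eq_iff_eq_mul, ← k2]; nth_rewrite 1 [k2]; group)
    simpa using mul_mem (mem_sup_right (inv_mem he) : e⁻¹ ∈ centralizer {t} ⊔ E) (mem_sup_left k3)
  rw [← relIndex_top_right, ← this, relIndex_sup_right]
  exact relIndex_dvd_card _ _

theorem exists_cy {m d : ℕ} (hd : Odd d) (hn : Nat.card G = d * (2 * m)) {u : G} (hu : orderOf u = m) :
    ∃ S k, Cy S (u ^ k) ∧ ∀ t ∈ zpowers u, t ≠ 1 → Nat.card (centralizer ({t} : Set G)) ∣ 2 * m →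
      PNil 2 (centralizer ({t} : Set G)) := by
  haveI := Fact.mk Nat.prime_two
  have hm : m ≠ 0 := hu ▸ (orderOf_pos u).ne'
  obtain ⟨k, m', hm', e⟩ := Nat.exists_eq_two_pow_mul_odd hm
  have h0 : m' ≠ 0 := by rintro rfl; simp at hm'
  have hv : orderOf (u ^ m') = 2 ^ k := by
    rw [orderOf_pow' u h0, hu, e, Nat.gcd_mul_left_left, Nat.mul_div_cancel _ (Nat.pos_of_ne_zero h0)]
  obtain ⟨S, hle, hS⟩ := exists_sylowIn_ge (Amalg.isPGroup_zpowers_of_orderOf hv) le_top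
  have hc : Nat.card S = 2 ^ (k + 1) := by
    rw [hS.card_eq_pow, card_top, hn, e, show d * (2 * (2 ^ k * m')) = 2 ^ (k + 1) * (d * m') by ring,
      Nat.factorization_mul (by positivity) (mul_ne_zero (by rintro rfl; simp at hd) h0), Nat.prime_two.factorization_pow]
    simp [Nat.factorization_eq_zero_of_not_dvd (hd.mul hm').not_two_dvd_nat]
  refine ⟨S, m', ⟨hS, zpowers_le.mp hle, ?_⟩, fun t ht h1 hdv => ?_⟩
  · have := Core.card_mul_relIndex hle
    rw [Nat.card_zpowers, hv, hc, pow_succ] at this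
    exact Nat.eq_of_mul_eq_mul_left (by positivity) this
  have hU : zpowers u ≤ centralizer {t} := by
    obtain ⟨i, rfl⟩ := ht
    exact zpowers_le.mpr (mem_centralizer_singleton_iff.mpr (Commute.zpow_right (Commute.refl u) i))
  have hi : (zpowers u).relIndex (centralizer {t}) ∣ 2 := by
    rw [← Core.card_mul_relIndex hU, Nat.card_zpowers, hu, mul_comm 2] at hdv
    exact Nat.dvd_of_mul_dvd_mul_left (Nat.pos_of_ne_zero hm) hdv
  refine pnil_of_pow_mem (K := zpowers (u ^ 2 ^ k)) ?_ fun x hx => ⟨k + 1, ?_⟩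
  · rw [Nat.card_zpowers, orderOf_pow' u (by positivity), hu, e, Nat.gcd_mul_right_left, Nat.mul_div_cancel_left _ (by positivity)]
    exact hm'.not_two_dvd_nat
  have : x * x ∈ zpowers u := by
    rcases (Nat.dvd_prime Nat.prime_two).mp hi with h | h
    · exact relIndex_eq_one.mp h (mul_mem hx hx)
    · exact ABG.mul_self_mem_of_relIndex_two h hx
  obtain ⟨i, hi⟩ := this
  refine ⟨i, ?_⟩
  simp only at hi ⊢
  rw [pow_succ', pow_mul, sq, ← hi, ← zpow_natCast, ← zpow_natCast, ← zpow_mul, ← zpow_mul, mul_comm]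

theorem arith {p q m τ s r k u1 u2 e i f : ℕ} (hp : p.Prime) (hs : s.Prime) (hq : q = p ^ i) (hr : r = s ^ f) (hq3 : 3 < q)
    (hr3 : 3 < r) (hp2 : p ≠ 2) (hsum : m + τ = q) (hτ : Odd τ) (hmτ : m + 1 = τ ∨ τ + 1 = m)
    (hk : k = 1 ∧ s = 2 ∨ k = 2) (h1 : k * u1 + 1 = r) (h2 : k * u2 = r + 1) (he : e = r * k * u1 * u2)
    (hd1 : q * τ ∣ e) (hd2 : e ∣ q * τ * (2 * m)) (hu1 : u1 ∣ p ∨ u1 ∣ m ∨ u1 ∣ τ) (hu2 : u2 ∣ p ∨ u2 ∣ m ∨ u2 ∣ τ)
    (hpe : p ∣ s ∨ p ∣ u1 ∨ p ∣ u2) (hτe : τ ∣ s ∨ τ ∣ u1 ∨ τ ∣ u2) : r = q ∨ r = 4 ∧ q = 5 := by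
  have hi : i ≠ 0 := by rintro rfl; rw [pow_zero] at hq; omega
  have hf : f ≠ 0 := by rintro rfl; rw [pow_zero] at hr; omega
  have cmτ : m.Coprime τ := by
    rcases hmτ with h | h
    · rw [← h]; simp
    · rw [← h]; simp
  have cqm : q.Coprime m := by rw [← hsum]; simpa using cmτ.symm
  have cqτ : q.Coprime τ := by rw [← hsum]; simpa using cmτ
  have hpq : p ∣ q := hq ▸ dvd_pow_self p hi
  have cq2 : q.Coprime 2 := hq ▸ ((Nat.coprime_primes hp Nat.prime_two).mpr hp2).pow_left i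
  have cqk : q.Coprime k := by
    rcases hk with ⟨rfl, -⟩ | rfl
    exacts [Nat.coprime_one_right q, cq2]
  have cru1 : r.Coprime u1 := by rw [← h1]; simp
  have cru2 : r.Coprime u2 := (Nat.Coprime.coprime_mul_left_right (k := k) (by rw [h2]; simp))
  have hτ1 : 1 < τ := by obtain ⟨j, hj⟩ := hτ; omega
  have c12 : u1.Coprime u2 := by
    rcases hk with ⟨rfl, rfl⟩ | rfl
    · have : Odd u1 := by
        obtain ⟨f, rfl⟩ := Nat.exists_eq_succ_of_ne_zero hf
        rw [pow_succ] at hr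
        exact ⟨2 ^ f - 1, by have := Nat.one_le_two_pow (n := f); omega⟩
      rw [show u2 = 2 + u1 by omega]
      simpa using this
    · rw [show u2 = 1 + u1 by omega]; simp
  have hre : r ∣ q * τ * (2 * m) := (he ▸ (by rw [mul_assoc, mul_assoc]; exact dvd_mul_right _ _) : r ∣ e).trans hd2
  have hqe : q ∣ r * k * u1 * u2 := he ▸ (dvd_mul_right q τ).trans hd1
  by_cases hsp : s = p
  · subst hsp
    left
    have c : ∀ x, q.Coprime x → r.Coprime x := fun x h => hr ▸ (h.coprime_dvd_left hpq).pow_left f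
    have c' : ∀ x, r.Coprime x → q.Coprime x := fun x h =>
      hq ▸ (h.coprime_dvd_left (hr ▸ dvd_pow_self s hf)).pow_left i
    refine Nat.dvd_antisymm ?_ ?_
    · exact (c _ cqτ).dvd_of_dvd_mul_right ((c _ (cq2.mul_right cqm)).dvd_of_dvd_mul_right hre)
    · exact cqk.dvd_of_dvd_mul_right ((c' _ cru1).dvd_of_dvd_mul_right ((c' _ cru2).dvd_of_dvd_mul_right hqe))
  have cqr : q.Coprime r := hq ▸ hr ▸ Nat.Coprime.pow i f ((Nat.coprime_primes hp hs).mpr (Ne.symm hsp))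
  have key : ∀ a b, a.Coprime b → (a ∣ p ∨ a ∣ m ∨ a ∣ τ) → (b ∣ p ∨ b ∣ m ∨ b ∣ τ) → p ∣ a → q ∣ r * k * b * a →
      (τ ∣ s ∨ τ ∣ a ∨ τ ∣ b) → a = q ∧ (b = τ ∨ r = τ) := by
    intro a b cab ha hb hpa hqe hτe
    have e1 : a = p := by
      rcases ha with h | h | h
      · exact Nat.dvd_antisymm h hpa
      · exact absurd (Nat.eq_one_of_dvd_coprimes cqm hpq (hpa.trans h)) hp.one_lt.ne'
      · exact absurd (Nat.eq_one_of_dvd_coprimes cqτ hpq (hpa.trans h)) hp.one_lt.ne'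
    subst e1
    have cqb : q.Coprime b := hq ▸ cab.pow_left i
    have e2 : a = q := Nat.dvd_antisymm hpq (((cqr.mul_right cqk).mul_right cqb).dvd_of_dvd_mul_left hqe)
    refine ⟨e2, ?_⟩
    rcases hτe with h | h | h
    · right
      have e3 : τ = s := ((Nat.dvd_prime hs).mp h).resolve_left hτ1.ne'
      have c : ∀ x, τ.Coprime x → r.Coprime x := fun x h => hr ▸ (e3 ▸ h).pow_left f
      have h3 : r ∣ τ := cqr.symm.dvd_of_dvd_mul_left
        ((c _ ((Nat.coprime_two_right.mpr hτ).mul_right cmτ.symm)).dvd_of_dvd_mul_right hre)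
      exact Nat.dvd_antisymm h3 (e3 ▸ hr ▸ dvd_pow_self s hf)
    · exact absurd (Nat.eq_one_of_dvd_coprimes cqτ (h.trans hpq) dvd_rfl) hτ1.ne'
    · left
      rcases hb with h' | h' | h'
      · exact absurd (Nat.eq_one_of_dvd_coprimes cqτ ((h.trans h').trans hpq) dvd_rfl) hτ1.ne'
      · exact absurd (Nat.eq_one_of_dvd_coprimes cmτ (h.trans h') dvd_rfl) hτ1.ne'
      · exact Nat.dvd_antisymm h' h
  have hk' : k = 1 ∧ Even r ∨ k = 2 := hk.imp_left fun h => ⟨h.1, by rw [hr, h.2]; exact Nat.even_pow.mpr ⟨even_two, hf⟩⟩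
  obtain ⟨j, hj⟩ := hτ
  right
  rcases hpe with h | h | h
  · exact absurd ((Nat.prime_dvd_prime_iff_eq hp hs).mp h).symm hsp
  · have := key u1 u2 c12 hu1 hu2 h (by rwa [mul_right_comm]) hτe
    rcases hk' with ⟨rfl, l, hl⟩ | rfl <;> omega
  · have := key u2 u1 c12.symm hu2 hu1 h hqe (hτe.imp_right Or.symm)
    rcases hk' with ⟨rfl, l, hl⟩ | rfl <;> omega

theorem psl_case {E : Subgroup G} {K : Type} [Field K] [Fintype K] (hK : 3 < Fintype.card K)
    (e : E ≃* ProjectiveSpecialLinearGroup (Fin 2) K) {p q m τ i : ℕ} (hp : p.Prime) (hq : q = p ^ i) (hq3 : 3 < q)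
    (hp2 : p ≠ 2) (hsum : m + τ = q) (hτ : Odd τ) (hmτ : m + 1 = τ ∨ τ + 1 = m) (hn : Nat.card G = q * τ * (2 * m))
    (hs : ∀ g : G, orderOf g ∣ p ∨ orderOf g ∣ m ∨ orderOf g ∣ τ) (hd : q * τ ∣ Nat.card E) (hτE : ∃ x : E, orderOf x = τ) :
    Fintype.card K = q ∨ Fintype.card K = 4 ∧ q = 5 := by
  obtain ⟨s, hs'⟩ := CharP.exists K
  obtain ⟨f, hsp, hf⟩ := FiniteField.card K s
  haveI := Fact.mk hsp
  haveI := Fact.mk hp
  have hsp' := Known.PSL2_spectrum (F := K) s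
  have hc := Linear.card_PSL_two (F := K)
  rw [← Nat.card_congr e.toEquiv] at hc
  rw [Nat.card_eq_fintype_card (α := K)] at hsp' hc
  set r := Fintype.card K
  set k := Nat.gcd 2 (r - 1) with hk
  have hk1 : k ∣ r - 1 := Nat.gcd_dvd_right _ _
  have hk0 : k ∣ 2 := Nat.gcd_dvd_left _ _
  have hk2 : k ∣ r + 1 := by
    rw [show r + 1 = (r - 1) + 2 by omega]; exact dvd_add hk1 hk0
  obtain ⟨u1, h1⟩ := hk1
  obtain ⟨u2, h2⟩ := hk2
  have hkp : 0 < k := Nat.pos_of_dvd_of_pos hk0 two_pos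
  rw [h1, h2, Nat.mul_div_cancel_left _ hkp, Nat.mul_div_cancel_left _ hkp] at hsp'
  have hω : ∀ d, (d ∣ s ∨ d ∣ u1 ∨ d ∣ u2) → d ∣ p ∨ d ∣ m ∨ d ∣ τ := fun d hd => by
    obtain ⟨x, rfl⟩ := (hsp' d).mpr hd
    rw [← e.symm.orderOf_eq, ← orderOf_coe]
    exact hs _
  have hω' : ∀ x : E, orderOf x ∣ s ∨ orderOf x ∣ u1 ∨ orderOf x ∣ u2 := fun x =>
    (hsp' _).mp ⟨e x, e.orderOf_eq x⟩
  have hi : i ≠ 0 := by rintro rfl; rw [pow_zero] at hq; omega
  obtain ⟨x, hx⟩ := exists_prime_orderOf_dvd_card' (G := E) p (((hq ▸ dvd_pow_self p hi : p ∣ q).mul_right τ).trans hd)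
  obtain ⟨y, hy⟩ := hτE
  refine arith (k := k) (u1 := u1) (u2 := u2) (e := Nat.card E) hp hsp hq hf hq3 hK hp2 hsum hτ hmτ ?_ (by omega) h2.symm ?_ hd
    (hn ▸ card_subgroup_dvd_card E) (hω _ (Or.inr (Or.inl dvd_rfl))) (hω _ (Or.inr (Or.inr dvd_rfl))) (hx ▸ hω' x) (hy ▸ hω' y)
  · rcases (Nat.dvd_prime Nat.prime_two).mp hk0 with h | h
    · refine Or.inl ⟨h, ?_⟩
      by_contra h3
      have : Odd r := hf ▸ (hsp.odd_of_ne_two h3).pow
      rw [hk, Nat.gcd_eq_left (Nat.Odd.sub_odd this odd_one).two_dvd] at h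
      omega
    · exact Or.inr h
  · rw [h1, h2] at hc
    exact Nat.eq_of_mul_eq_mul_left hkp (by rw [hc]; ring)

theorem prime_pow_le {p i q : ℕ} (hp : p.Prime) (hp2 : p ≠ 2) (hq : q = p ^ i) (h : q ∣ 20160) : q ≤ 9 := by
  have c : q.Coprime 64 := hq ▸ Nat.Coprime.pow i 6 ((Nat.coprime_primes hp Nat.prime_two).mpr hp2)
  have h1 : q ∣ 315 := c.dvd_of_dvd_mul_left (show q ∣ 64 * 315 from h)
  have h2 : IsPrimePow q ∨ q = 1 := by
    rcases Nat.eq_zero_or_pos i with rfl | hi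
    · exact Or.inr hq
    · exact Or.inl (hq ▸ hp.isPrimePow.pow hi.ne')
  have h3 : q ∈ Nat.divisors 315 := Nat.mem_divisors.mpr ⟨h1, by norm_num⟩
  by_contra hn
  have h4 : q = 15 ∨ q = 21 ∨ q = 35 ∨ q = 45 ∨ q = 63 ∨ q = 105 ∨ q = 315 := by
    have : Nat.divisors 315 = {1, 3, 5, 7, 9, 15, 21, 35, 45, 63, 105, 315} := by decide
    rw [this] at h3
    simp only [Finset.mem_insert, Finset.mem_singleton] at h3
    omega
  rcases h2 with h2 | h2
  · rcases h4 with rfl | rfl | rfl | rfl | rfl | rfl | rfl <;> revert h2 <;> decide +kernel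
  · omega

theorem odd_case {F : Type*} [Field F] [Fintype F] {p q m τ i : ℕ} (hF : Fintype.card F = q) (hp : p.Prime) (hq : q = p ^ i)
    (hq3 : 3 < q) (hp2 : p ≠ 2) (hsum : m + τ = q) (hτ : Odd τ) (hmτ : m + 1 = τ ∨ τ + 1 = m)
    (hn : Nat.card G = q * τ * (2 * m)) (hnF : Nat.card (ProjectiveSpecialLinearGroup (Fin 2) F) = q * τ * (2 * m))
    (hs : ∀ d, (∃ g : G, orderOf g = d) ↔ d ∣ p ∨ d ∣ m ∨ d ∣ τ) :
    Nonempty (G ≃* ProjectiveSpecialLinearGroup (Fin 2) F) := by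
  haveI := Fact.mk Nat.prime_two
  have hs1 : ∀ g : G, orderOf g ∣ p ∨ orderOf g ∣ m ∨ orderOf g ∣ τ := fun g => (hs _).mp ⟨g, rfl⟩
  have hi : i ≠ 0 := by rintro rfl; rw [pow_zero] at hq; omega
  have cmτ : m.Coprime τ := by rcases hmτ with h | h <;> rw [← h] <;> simp
  have cqm : q.Coprime m := by rw [← hsum]; simpa using cmτ.symm
  have cqτ : q.Coprime τ := by rw [← hsum]; simpa using cmτ
  have hpq : p ∣ q := hq ▸ dvd_pow_self p hi
  have hqo : Odd q := hq ▸ (hp.odd_of_ne_two hp2).pow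
  have cq2 : q.Coprime 2 := Nat.coprime_two_right.mpr hqo
  have cτ2 : τ.Coprime 2 := Nat.coprime_two_right.mpr hτ
  have hm2 : 2 ∣ m := by obtain ⟨j, hj⟩ := hτ; omega
  have hτ3 : 3 ≤ τ := by obtain ⟨j, hj⟩ := hτ; omega
  have hm0 : 2 ≤ m := by omega
  have hss := no_solvable (a := q) (b := 2 * m) (c := τ) hs1 (cqm.coprime_dvd_left hpq) (cqτ.coprime_dvd_left hpq) cmτ
    (by rw [hn]; ring) (((cq2.mul_right cqm).mul_right cqτ).coprime_dvd_left hpq).symm (cqm.mul_left cmτ.symm)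
    (cqτ.mul_left (cτ2.symm.mul_left cmτ)) (by nlinarith) (by nlinarith) (by nlinarith)
  have iM : Iso G m := iso_of_three (fun g => (or_left_comm.mp (hs1 g))) (cqm.coprime_dvd_left hpq) cmτ.symm
  have hcent : ∀ t : G, orderOf t = 2 → Nat.card (centralizer ({t} : Set G)) ∣ 2 * m := fun t ht =>
    card_dvd_of_forall (d := q * τ) (fun y hy => iM.of_commute (ht ▸ hm2) (fun k => by simp [k] at ht)
      (mem_centralizer_singleton_iff.mp hy).symm) (cqm.mul_left cmτ.symm) (by rw [hn]; ring)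
  obtain ⟨u, hu⟩ := (hs m).mpr (Or.inr (Or.inl dvd_rfl))
  obtain ⟨S, k, hC, hP⟩ := exists_cy (hqo.mul hτ) hn hu
  have hI : ∀ t : G, orderOf t = 2 → PNil 2 (centralizer ({t} : Set G)) := fun t ht =>
    hC.pnil (fun t h ht => hP t (zpowers_le.mpr (pow_mem (mem_zpowers u) k) h) (fun k => by simp [k] at ht) (hcent t ht)) ht
  haveI : Nontrivial G := Finite.one_lt_card_iff_nontrivial.mp (by rw [hn]; nlinarith [Nat.mul_pos (show 0 < q by omega) (show 0 < τ by omega)])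
  obtain ⟨E, hEn, hEs, hEa, -⟩ := Exc.exists_socle hss fun t ht => Exc.solvable_of_pnil (hI t ht)
  obtain ⟨t, ht, hidx⟩ := hC.index_dvd hEa
  have cidx : (q * τ).Coprime E.index :=
    ((cq2.mul_right cqm).mul_left (cτ2.mul_right cmτ.symm)).coprime_dvd_right (hidx.trans (hcent t ht))
  have hd : q * τ ∣ Nat.card E := cidx.dvd_of_dvd_mul_left (by rw [E.index_mul_card, hn]; exact dvd_mul_right _ _)
  have hτE : ∃ x : E, orderOf x = τ := by
    obtain ⟨y, hy⟩ := (hs τ).mpr (Or.inr (Or.inr dvd_rfl))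
    exact ⟨⟨y, mem_of_pow_mem_of_coprime (hy ▸ cidx.coprime_mul_left) (E.pow_index_mem y)⟩, by rw [← orderOf_coe, hy]⟩
  have hIE : ∀ t : E, orderOf t = 2 → PNil 2 (centralizer ({t} : Set E)) := fun t ht => by
    rw [← pnil_map_iff_of_injective E.subtype_injective]
    refine (hI t (by rw [orderOf_coe, ht])).mono ?_
    rintro _ ⟨x, hx, rfl⟩
    exact mem_centralizer_singleton_iff.mpr (congrArg Subtype.val (mem_centralizer_singleton_iff.mp hx))
  have hle := Nat.le_of_dvd Nat.card_pos (card_subgroup_dvd_card E)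
  have fin : ∀ (K : Type) [Field K] [Fintype K], 3 < Fintype.card K → (E ≃* ProjectiveSpecialLinearGroup (Fin 2) K) →
      Nonempty (G ≃* ProjectiveSpecialLinearGroup (Fin 2) F) := fun K _ _ hK e => by
    obtain ⟨f⟩ : Nonempty (ProjectiveSpecialLinearGroup (Fin 2) K ≃* ProjectiveSpecialLinearGroup (Fin 2) F) := by
      rcases psl_case hK e hp hq hq3 hp2 hsum hτ hmτ hn hs1 hd hτE with h | ⟨h1, h2⟩
      · exact Linear.nonempty_psl_equiv_of_card_eq (by simp [h, hF])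
      · obtain ⟨f1⟩ := Linear.psl2_four_equiv (F := K) (by simp [h1])
        obtain ⟨f2⟩ := Linear.psl2_five_equiv (F := F) (by simp [hF, h2])
        exact ⟨f1.trans f2.symm⟩
    have : E = ⊤ := eq_top_of_card_eq E (by rw [Nat.card_congr (e.trans f).toEquiv, hnF, hn])
    exact ⟨((MulEquiv.subgroupCongr this).trans topEquiv).symm.trans (e.trans f)⟩
  have small : Nat.card E ∣ 20160 → Nat.card E ≤ 360 := fun h => by
    have := prime_pow_le hp hp2 hq (((dvd_mul_right q τ).trans hd).trans h)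
    refine hle.trans ?_
    rw [hn]
    have h20 : τ * m ≤ 20 := by
      rcases hmτ with h | h
      · exact Nat.mul_le_mul (show τ ≤ 5 by omega) (show m ≤ 4 by omega)
      · exact Nat.mul_le_mul (show τ ≤ 4 by omega) (show m ≤ 5 by omega)
    calc q * τ * (2 * m) = 2 * (q * (τ * m)) := by ring
      _ ≤ 2 * (9 * 20) := Nat.mul_le_mul_left 2 (Nat.mul_le_mul this h20)
  rcases Exc.twoNil_list hEa hIE with (⟨K, _, _, n, h1, h2, ⟨e⟩⟩ | ⟨K, _, _, n, hK, ⟨e⟩⟩ | ⟨K, _, _, n, h1, h2, ⟨e⟩⟩ |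
    ⟨K, _, _, h1, ⟨e⟩⟩) | ⟨K, _, _, -, h1, ⟨e⟩⟩ | ⟨⟨e⟩⟩
  · exact fin K (by have := Nat.pow_le_pow_right two_pos h1; omega) e
  · exfalso
    haveI := hK.finite
    have hinj : Function.Injective (E.subtype.comp e.symm.toMonoidHom) := E.subtype_injective.comp e.symm.injective
    obtain ⟨_, ⟨x, hx, rfl⟩, h⟩ := hC.card_le ((BN.Sz.isPGroup_Q (F := K) n).map (E.subtype.comp e.symm.toMonoidHom))
    rw [card_map_of_injective hinj, BN.Sz.card_Q, orderOf_injective _ hinj] at h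
    have h1 := Nat.le_of_dvd (by norm_num) (orderOf_dvd_of_pow_eq_one (BN.Sz.pow_four_of_mem_Q n hx))
    have h2 := Nat.pow_le_pow_right two_pos (show 3 ≤ 2 * n + 1 by have := hK.one_le; omega)
    nlinarith
  · exact fin K (by have := Nat.pow_le_pow_right two_pos h1; omega) e
  · have := Exc.card_psl3_four (F := K) (by simp [h1])
    rw [← Nat.card_congr e.toEquiv] at this
    have := small (this ▸ dvd_rfl)
    omega
  · exact fin K h1 e
  · have : Nat.card E = 2520 := by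
      rw [Nat.card_congr e.toEquiv, nat_card_alternatingGroup]; simp [Nat.factorial]
    have := small (by rw [this]; norm_num)
    omega

theorem even_case {F : Type*} [Field F] [Fintype F] {i : ℕ} (hF : Fintype.card F = 2 ^ i) (hi : 2 ≤ i)
    (hn : Nat.card G = 2 ^ i * (2 ^ i - 1) * (2 ^ i + 1))
    (hs : ∀ g : G, orderOf g ∣ 2 ∨ orderOf g ∣ 2 ^ i - 1 ∨ orderOf g ∣ 2 ^ i + 1) :
    Nonempty (G ≃* ProjectiveSpecialLinearGroup (Fin 2) F) := by
  haveI := Fact.mk Nat.prime_two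
  have h4 := Nat.pow_le_pow_right two_pos hi
  obtain ⟨j, hj⟩ : 2 ∣ 2 ^ i := dvd_pow_self 2 (by omega)
  have o1 : Odd (2 ^ i - 1) := ⟨j - 1, by omega⟩
  have o2 : Odd (2 ^ i + 1) := ⟨j, by omega⟩
  have c12 : (2 ^ i - 1).Coprime (2 ^ i + 1) := by
    rw [show 2 ^ i + 1 = 2 + (2 ^ i - 1) by omega]; simpa using o1
  have c1 := Nat.coprime_two_left.mpr o1
  have c2 := Nat.coprime_two_left.mpr o2
  obtain ⟨l, hl⟩ : ∃ l, 2 ^ i = l + 1 := ⟨2 ^ i - 1, by omega⟩
  have hss := no_solvable hs c1 c2 c12 hn (c1.mul_right c2).symm ((c1.pow_left i).mul_left c12.symm)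
    ((c2.pow_left i).mul_left c12) (by rw [hl, Nat.add_sub_cancel]; nlinarith) (by rw [hl, Nat.add_sub_cancel]; nlinarith)
    (by rw [hl, Nat.add_sub_cancel]; nlinarith)
  have heven : ∀ g : G, 2 ∣ orderOf g → orderOf g = 2 := fun g h => by
    rcases hs g with k | k | k
    · exact Nat.dvd_antisymm k h
    · exact absurd (h.trans k) o1.not_two_dvd_nat
    · exact absurd (h.trans k) o2.not_two_dvd_nat
  have hc : Exc.CIT G := Exc.cit_of_no_two_mul fun x s hs' h2 h => by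
    have := heven x (h ▸ dvd_mul_right 2 s)
    have := hs'.two_le
    omega
  haveI : Nontrivial G := Finite.one_lt_card_iff_nontrivial.mp (by
    rw [hn]; exact Nat.one_lt_mul_iff.mpr ⟨Nat.mul_pos (by omega) (by omega), by omega, Or.inr (by omega)⟩)
  have hns : ¬ Group.IsSolvable G := fun h => top_ne_bot (hss ⊤ inferInstance inferInstance)
  have hO : pCore 2 G = ⊥ := hss _ inferInstance (isSolvable_of_isPGroup Nat.prime_two (isPGroup_pCore 2 G))
  have fac : ∀ a b n, Odd b → Nat.card G = n → n = 2 ^ a * b → a = i := fun a b n hb h1 h2 => by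
    have e1 := congrArg (fun x => x.factorization 2) (hn.symm.trans (h1.trans h2))
    simp only [mul_assoc] at e1
    rw [Nat.factorization_mul (by positivity) (o1.mul o2).pos.ne', Nat.factorization_mul (by positivity) hb.pos.ne',
      Nat.prime_two.factorization_pow, Nat.prime_two.factorization_pow] at e1
    simpa [Nat.factorization_eq_zero_of_not_dvd hb.not_two_dvd_nat,
      Nat.factorization_eq_zero_of_not_dvd (o1.mul o2).not_two_dvd_nat] using e1.symm
  rcases hc.list_quot hns with (⟨K, _, _, n, h1, h2, ⟨e⟩⟩ | ⟨K, _, _, n, hK, ⟨e⟩⟩ | ⟨K, _, _, n, h1, h2, ⟨e⟩⟩ |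
    ⟨K, _, _, h1, ⟨e⟩⟩) | h1
  · obtain ⟨e⟩ := Exc.equiv_of_eq_bot hO e
    have h3 := Linear.card_PSL_two_of_even (F := K) (by simp [h2, Nat.even_pow]; omega)
    rw [Nat.card_eq_fintype_card (α := K), h2, mul_assoc] at h3
    obtain ⟨j', hj'⟩ : 2 ∣ 2 ^ n := dvd_pow_self 2 (by omega)
    have h5 := Nat.pow_le_pow_right two_pos h1
    have := fac n _ _ (Odd.mul (⟨j' - 1, by omega⟩ : Odd (2 ^ n - 1)) (⟨j', by omega⟩ : Odd (2 ^ n + 1)))
      (Nat.card_congr e.toEquiv) h3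
    exact (Linear.nonempty_psl_equiv_of_card_eq (by simp [h2, hF, this])).map e.trans
  · obtain ⟨e⟩ := Exc.equiv_of_eq_bot hO e
    haveI := hK.finite
    have := heven (e.symm (BN.Sz.U n (1 : K) 0)) (by rw [e.symm.orderOf_eq, BN.Sz.orderOf_U n one_ne_zero]; norm_num)
    rw [e.symm.orderOf_eq, BN.Sz.orderOf_U n one_ne_zero] at this
    omega
  · obtain ⟨e⟩ := Exc.equiv_of_eq_bot hO e
    obtain ⟨s, hs'⟩ := CharP.exists K
    haveI := Fact.mk (CharP.char_is_prime K s)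
    obtain ⟨n, rfl⟩ := Nat.exists_eq_add_of_le' h1
    have h3 := Exc.gcd_odd h2 (by omega)
    obtain ⟨x, hx⟩ := (Known.PSL2_spectrum (F := K) s 4).mpr (Or.inr (by
      rw [Nat.card_eq_fintype_card, h3]
      rcases h2 with h2 | h2
      · left; rw [h2, Nat.add_sub_cancel]; exact ⟨2 ^ n, by rw [pow_add]; omega⟩
      · right; rw [h2]; exact ⟨2 ^ n, by rw [pow_add]; omega⟩))
    have := heven (e.symm x) (by rw [e.symm.orderOf_eq, hx]; norm_num)
    rw [e.symm.orderOf_eq, hx] at this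
    omega
  · obtain ⟨e⟩ := Exc.equiv_of_eq_bot hO e
    have h3 := (Nat.card_congr e.toEquiv).trans (Exc.card_psl3_four (F := K) (by simp [h1]))
    have := fac 6 315 _ (by decide) h3 (by norm_num)
    subst this
    omega
  · have h3 := h1.card
    rw [← index_eq_card, hO, index_bot] at h3
    have := fac 4 45 _ (by decide) h3 (by norm_num)
    subst this
    omega

end Cfsg.Lib.Layer.SpecL2
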