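/-
Alternating groups in which a 3-subgroup lies in a unique maximal subgroup.
-/
import Cfsg.Agent.Lib.Layer.SymO
import Cfsg.Agent.Lib.Amalg.PMin
import Mathlib.GroupTheory.Perm.Centralizer

set_option autoImplicit false

namespace Cfsg.Lib.Layer.SymO

open Subgroup Equiv Equiv.Perm MulAction Cfsg.Lib.Core Cfsg.Lib.Amalg
open scoped Pointwise commutatorElement

variable {Ω : Type*} [Fintype Ω] [DecidableEq Ω]

/-- permutations preserving a relation -/
def St (r : Ω → Ω → Prop) : Subgroup (Perm Ω) where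
  carrier := {g | ∀ x y, r (g x) (g y) ↔ r x y}
  one_mem' := fun _ _ => Iff.rfl
  mul_mem' := fun {a b} ha hb x y => (ha (b x) (b y)).trans (hb x y)
  inv_mem' := fun {a} ha x y => by simpa using (ha (a⁻¹ x) (a⁻¹ y)).symm

omit [Fintype Ω] in
theorem swap_mem_St {r : Ω → Ω → Prop} (hr : Equivalence r) {a b : Ω} (h : r a b) : swap a b ∈ St r := by
  have key : ∀ x, r (swap a b x) x := fun x => by
    rw [swap_apply_def]
    split_ifs with h1 h2
    · rw [h1]; exact hr.symm h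
    · rw [h2]; exact h
    · exact hr.refl x
  exact fun x y => ⟨fun k => hr.trans (hr.symm (key x)) (hr.trans k (key y)),
    fun k => hr.trans (key x) (hr.trans k (hr.symm (key y)))⟩

theorem alt_two (h4 : 4 ≤ Fintype.card Ω) {a b c d : Ω} (hab : a ≠ b) (hcd : c ≠ d) :
    ∃ g ∈ alternatingGroup Ω, g a = c ∧ g b = d := by
  haveI := alternatingGroup.isMultiplyPretransitive Ω
  have h2 : IsMultiplyPretransitive (alternatingGroup Ω) Ω 2 :=
    isMultiplyPretransitive_of_le (n := Nat.card Ω - 2) (by rw [Nat.card_eq_fintype_card]; omega) (Nat.sub_le _ _)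
  obtain ⟨g, hg⟩ := is_two_pretransitive_iff.mp h2 hab hcd
  exact ⟨g, g.2, hg⟩

theorem St_le {S M : Subgroup (Perm Ω)} (h : UMax S (alternatingGroup Ω) M) (h4 : 4 ≤ Fintype.card Ω)
    {r : Ω → Ω → Prop} (hr : Equivalence r) (hS : S ≤ St r) {x y w : Ω} (hxy : x ≠ y) (h1 : r x y) (h2 : ¬ r x w) :
    alternatingGroup Ω ⊓ St r ≤ M := by
  refine h.le_of_not_le hS fun hle => ?_
  obtain ⟨g, hg, k1, k2⟩ := alt_two h4 hxy (show x ≠ w from fun k => h2 (k ▸ hr.refl x))
  have := hle hg x y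
  rw [k1, k2] at this
  exact h2 (this.mpr h1)

theorem exists_not_mem {s : Finset Ω} (h : s.card < Fintype.card Ω) : ∃ x, x ∉ s := by
  by_contra hn
  push Not at hn
  rw [Finset.eq_univ_iff_forall.mpr hn] at h
  exact lt_irrefl _ h

theorem case_fixed {S M : Subgroup (Perm Ω)} (h : UMax S (alternatingGroup Ω) M) (h5 : 5 ≤ Fintype.card Ω)
    {x : Ω} (hx : ∀ s ∈ S, s x = x) {y y' : Ω} (hy : y ≠ x) (hy' : y' ≠ x) : ∃ s ∈ S, s y = y' := by
  classical
  by_contra hn
  let U : Ω → Prop := fun a => ∃ s ∈ S, s y = a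
  let r : Ω → Ω → Prop := fun a b => U a ↔ U b
  have hr : Equivalence r := ⟨fun _ => Iff.rfl, Iff.symm, Iff.trans⟩
  have hU : ∀ s ∈ S, ∀ a, U (s a) ↔ U a := fun s hs a => by
    constructor
    · rintro ⟨t, ht, h⟩
      exact ⟨s⁻¹ * t, S.mul_mem (S.inv_mem hs) ht, by simp [h]⟩
    · rintro ⟨t, ht, rfl⟩
      exact ⟨s * t, S.mul_mem hs ht, rfl⟩
  have hUx : ¬ U x := by
    rintro ⟨s, hs, h⟩
    exact hy (s.injective (h.trans (hx s hs).symm))
  have hUy : U y := ⟨1, S.one_mem, rfl⟩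
  have hK := St_le h (by omega) hr (fun s hs a b => by simp only [r, hU s hs]) hy'.symm (iff_of_false hUx hn)
    (fun k => hUx (k.mpr hUy))
  have hK0 : alternatingGroup Ω ⊓ stabilizer (Perm Ω) x ≤ M := h.le_of_not_le hx fun hle => by
    obtain ⟨g, hg, k1, -⟩ := alt_two (by omega) hy.symm hy
    exact hy (k1.symm.trans (hle hg))
  obtain ⟨u, v, huv, hu, hv, hr'⟩ : ∃ u v, u ≠ v ∧ u ≠ x ∧ v ≠ x ∧ r u v := by
    obtain ⟨w, hw⟩ := exists_not_mem (s := {x, y, y'}) (Finset.card_le_three.trans_lt (by omega))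
    simp only [Finset.mem_insert, Finset.mem_singleton, not_or] at hw
    by_cases hUw : U w
    · exact ⟨w, y, hw.2.1, hw.1, hy, iff_of_true hUw hUy⟩
    · exact ⟨w, y', hw.2.2, hw.1, hy', iff_of_false hUw hn⟩
  have hg : swap x y' * swap u v ∈ M := hK ⟨by simp [mem_alternatingGroup, hy'.symm, huv],
    mul_mem (swap_mem_St hr (iff_of_false hUx hn)) (swap_mem_St hr hr')⟩
  have hgx : (swap x y' * swap u v) x = y' := by
    rw [Perm.mul_apply, swap_apply_of_ne_of_ne hu.symm hv.symm, swap_apply_left]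
  refine h.not_le fun a ha => ?_
  by_cases hax : a x = x
  · exact hK0 ⟨ha, hax⟩
  obtain ⟨k, hk, k1, k2⟩ := alt_two (by omega) hy'.symm (Ne.symm hax)
  have hm : k * (swap x y' * swap u v) ∈ M := mul_mem (hK0 ⟨hk, k1⟩) hg
  have := hK0 (x := (k * (swap x y' * swap u v))⁻¹ * a) ⟨(alternatingGroup Ω).mul_mem ((alternatingGroup Ω).inv_mem (h.lt.le hm)) ha, by
    change (k * (swap x y' * swap u v))⁻¹ (a x) = x
    rw [Perm.inv_eq_iff_eq, Perm.mul_apply, hgx, k2]⟩
  rw [← mul_inv_cancel_left (k * (swap x y' * swap u v)) a]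
  exact mul_mem hm this

/-- the orbits of a fixed-point-free element of order three -/
def R0 (z : Perm Ω) (x y : Ω) : Prop := y = x ∨ y = z x ∨ y = z (z x)

section
omit [Fintype Ω] [DecidableEq Ω]
variable {z : Perm Ω}

theorem R0.equiv (h3 : ∀ x, z (z (z x)) = x) : Equivalence (R0 z) :=
  ⟨fun _ => Or.inl rfl, by
    rintro x _ (rfl | rfl | rfl)
    exacts [Or.inl rfl, Or.inr (Or.inr (h3 x).symm), Or.inr (Or.inl (h3 x).symm)], by
    rintro x _ _ (rfl | rfl | rfl) (rfl | rfl | rfl) <;> simp [R0, h3]⟩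

theorem mem_St_of_comm {g : Perm Ω} (h : z * g = g * z) : g ∈ St (R0 z) := fun x y => by
  have : ∀ x, z (g x) = g (z x) := fun x => congrArg (fun f : Perm Ω => f x) h
  simp [R0, this]

end

theorem exists_move {z : Perm Ω} (h3 : ∀ x, z (z (z x)) = x) (h1 : ∀ x, z x ≠ x) {a b d : Ω} (hbd : ¬ R0 z b d)
    (hab : a = b ∨ ¬ R0 z a b ∧ ¬ R0 z a d) : ∃ g ∈ alternatingGroup Ω ⊓ St (R0 z), g b = d ∧ (a ≠ b → g a = a) := by
  have hr := R0.equiv h3
  have hi : ∀ x y, z x = z y → x = y := fun x y h => z.injective h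
  have hbd' := hbd
  simp only [R0, not_or] at hbd'
  have e1 : b ≠ d := fun h => hbd'.1 h.symm
  set σ := swap b d * swap (z b) (z d) * swap (z (z b)) (z (z d)) with hσ
  have hb3 := h3 b; have hd3 := h3 d; have := h1 b; have := h1 d; have := h1 (z b); have := h1 (z d)
  have := h1 (z (z b)); have := h1 (z (z d))
  have hσc : z * σ = σ * z := by
    rw [← mul_inv_eq_iff_eq_mul]
    have : z * σ * z⁻¹ = swap (z b) (z d) * swap (z (z b)) (z (z d)) * swap (z (z (z b))) (z (z (z d))) := by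
      rw [swap_apply_apply z b, swap_apply_apply z (z b), swap_apply_apply z (z (z b)), hσ]; group
    rw [this, hb3, hd3, hσ, mul_assoc, swap_comm4 (c := b) (d := d), ← mul_assoc, swap_comm4 (c := b) (d := d)] <;> grind
  have ha3 := h3 a; have := h1 a; have := h1 (z a); have := h1 (z (z a))
  refine ⟨σ * swap (z a) (z (z a)), ⟨?_, mul_mem (mem_St_of_comm hσc) (swap_mem_St hr (Or.inr (Or.inl rfl)))⟩, ?_, fun hne => ?_⟩
  · have e2 : z b ≠ z d := z.injective.ne e1
    have e3 : z (z b) ≠ z (z d) := z.injective.ne e2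
    have e4 : z a ≠ z (z a) := (h1 _).symm
    simp [hσ, mem_alternatingGroup, e1, e2, e3, e4]
  · simp only [R0, not_or] at hab
    simp only [hσ, Perm.mul_apply]
    rw [swap_apply_of_ne_of_ne (x := b) (by grind) (by grind), swap_apply_of_ne_of_ne (x := b) (by grind) (by grind),
      swap_apply_of_ne_of_ne (x := b) (by grind) (by grind), swap_apply_left]
  · have hab' := hab.resolve_left hne
    have k1 := fun h => hab'.1 (hr.symm h)
    have k2 := fun h => hab'.2 (hr.symm h)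
    simp only [R0, not_or, imp_false] at k1 k2
    simp only [hσ, Perm.mul_apply]
    rw [swap_apply_of_ne_of_ne (x := a) (by grind) (by grind), swap_apply_of_ne_of_ne (x := a) (by grind) (by grind),
      swap_apply_of_ne_of_ne (x := a) (by grind) (by grind), swap_apply_of_ne_of_ne (x := a) (by grind) (by grind)]

theorem exists_not_R0 (h4 : 4 ≤ Fintype.card Ω) (z : Perm Ω) (x : Ω) : ∃ u, ¬ R0 z x u := by
  obtain ⟨u, hu⟩ := exists_not_mem (s := {x, z x, z (z x)}) (Finset.card_le_three.trans_lt (by omega))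
  exact ⟨u, by simpa [R0] using hu⟩

theorem alt_le_of_three {z : Perm Ω} (h3 : ∀ x, z (z (z x)) = x) (h1 : ∀ x, z x ≠ x) {M : Subgroup (Perm Ω)}
    (hM : alternatingGroup Ω ⊓ St (R0 z) ≤ M) {x y w : Ω} (hxy : ¬ R0 z x y) (hxw : x ≠ w) (hyw : y ≠ w)
    (hc : swap x w * swap x y ∈ M) : alternatingGroup Ω ≤ M := by
  have hr := R0.equiv h3
  have hxy' : x ≠ y := fun h => hxy (h ▸ hr.refl x)
  have hc3 := isThreeCycle_swap_mul_swap_same hxw hxy' hyw.symm
  have htr : ∀ a b, ∃ g ∈ M, g a = b := by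
    have key : ∀ a b, ¬ R0 z a b → ∃ g ∈ M, g a = b := fun a b hab => by
      obtain ⟨g, hg, h, -⟩ := exists_move h3 h1 hab (Or.inl rfl)
      exact ⟨g, hM hg, h⟩
    intro a b
    by_cases hab : R0 z a b
    · obtain ⟨u, hu⟩ : ∃ u, ¬ R0 z a u := by
        by_contra hn
        push Not at hn
        exact hxy (hr.trans (hr.symm (hn x)) (hn y))
      obtain ⟨g, hg, k1⟩ := key a u hu
      obtain ⟨g', hg', k2⟩ := key u b fun k => hu (hr.trans hab (hr.symm k))
      exact ⟨g' * g, mul_mem hg' hg, by rw [Perm.mul_apply, k1, k2]⟩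
    · exact key a b hab
  haveI : IsPretransitive M Ω := ⟨fun a b => by
    obtain ⟨l, hl, h⟩ := htr a b
    exact ⟨⟨l, hl⟩, h⟩⟩
  refine alternatingGroup_le_of_isPreprimitive_of_isThreeCycle_mem ⟨fun {B} hB => ?_⟩ hc3 hc
  rcases B.subsingleton_or_nontrivial with k | k
  · exact Or.inl k
  right
  obtain ⟨a, ha⟩ := k.nonempty
  obtain ⟨g, hg, rfl⟩ := htr a x
  have hfix : ∀ c ∈ M, c.IsThreeCycle → ∀ u ∈ g • B, c u ∈ g • B := fun c hc h u hu => by
    rw [← block_three hB k hc h.card_support.le g hg]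
    exact Set.smul_mem_smul_set (a := c) hu
  have hx : g a ∈ g • B := Set.smul_mem_smul_set (a := g) ha
  have hy : y ∈ g • B := by
    have := hfix _ hc hc3 _ hx
    rwa [Perm.mul_apply, swap_apply_left, swap_apply_of_ne_of_ne hxy'.symm hyw] at this
  have hz : ∀ u ∈ g • B, z u ∈ g • B := fun u hu => by
    have e1 := h1 u; have e2 := h1 (z u); have e3 := h1 (z (z u))
    rw [h3] at e3
    have := hfix (swap u (z (z u)) * swap u (z u)) (hM ⟨by simp [mem_alternatingGroup, e3, e1.symm],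
      mul_mem (swap_mem_St hr (Or.inr (Or.inr rfl))) (swap_mem_St hr (Or.inr (Or.inl rfl)))⟩)
      (isThreeCycle_swap_mul_swap_same e3 e1.symm e2) u hu
    rwa [Perm.mul_apply, swap_apply_left, swap_apply_of_ne_of_ne e1 e2.symm] at this
  have hcl : ∀ u ∈ g • B, ∀ v, R0 z u v → v ∈ g • B := by
    rintro u hu _ (rfl | rfl | rfl)
    exacts [hu, hz _ hu, hz _ (hz _ hu)]
  have : g • B = Set.univ := by
    refine Set.eq_univ_of_forall fun d => ?_
    by_contra hd
    obtain ⟨m, hm, k1, k2⟩ := exists_move h3 h1 (a := g a) (fun k => hd (hcl y hy d k))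
      (Or.inr ⟨hxy, fun k => hd (hcl _ hx d k)⟩)
    have : m • g • B = g • B := by
      by_contra hne
      exact moved_of_block hB (hM hm) hg hne _ hx (by rw [k2 hxy']; exact hx)
    exact hd (by rw [← this, ← k1]; exact Set.smul_mem_smul_set (a := m) hy)
  rw [← inv_smul_smul g B, this, Set.smul_set_univ]

theorem exists_fpf {S : Subgroup (Perm Ω)} (hS : IsPGroup 3 S) (h : 3 ∣ Fintype.card Ω) :
    ∃ z : Perm Ω, (∀ x, z (z (z x)) = x) ∧ (∀ x, z x ≠ x) ∧ ∀ s ∈ S, z * s = s * z := by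
  haveI : Fact (Nat.Prime 3) := ⟨Nat.prime_three⟩
  obtain ⟨k, hk⟩ := h
  obtain ⟨z, hz⟩ := (exists_with_cycleType_iff Ω (m := Multiset.replicate k 3)).mpr
    ⟨by simp; omega, by simp +contextual [Multiset.mem_replicate]⟩
  have hsum : z.cycleType.sum = Fintype.card Ω := by rw [hz]; simp; omega
  have hc : Nat.card (centralizer {z}) = 3 ^ k * k.factorial := by
    rw [nat_card_centralizer, hsum, hz]
    rcases Nat.eq_zero_or_pos k with rfl | hk0
    · simp
    · simp [Multiset.toFinset_replicate, hk0.ne']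
  obtain ⟨Q, hQ⟩ := exists_syl 3 (centralizer ({z} : Set (Perm Ω)))
  obtain ⟨T, hT⟩ := exists_syl 3 (⊤ : Subgroup (Perm Ω))
  have hQ' : Syl 3 Q ⊤ := hT.of_card_ge hQ.isPGroup le_top (by
    rw [hT.card_eq_pow, hQ.card_eq_pow, hc, card_top, Nat.card_perm, Nat.card_eq_fintype_card, hk,
      Nat.factorization_def _ Nat.prime_three, padicValNat_factorial_mul,
      Nat.factorization_mul (by positivity) k.factorial_ne_zero, Nat.prime_three.factorization_pow]
    simp [Nat.factorization_def _ Nat.prime_three, add_comm])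
  obtain ⟨g, -, hle⟩ := hQ'.exists_conj_le hS le_top
  have hz3 : z ^ 3 = 1 := by
    rw [← orderOf_dvd_iff_pow_eq_one, ← lcm_cycleType, hz, Multiset.lcm_dvd]
    intro b hb
    rw [Multiset.eq_of_mem_replicate hb]
  have hz3' : ∀ x, z (z (z x)) = x := fun x => congrArg (fun f : Perm Ω => f x) hz3
  have hz1 : ∀ x, z x ≠ x := fun x => by
    rw [sum_cycleType] at hsum
    exact mem_support.mp (by rw [Finset.eq_univ_of_card _ hsum]; exact Finset.mem_univ x)
  refine ⟨g⁻¹ * z * g, fun x => by simp [hz3'], fun x => by simpa [Equiv.symm_apply_eq] using hz1 (g x), fun s hs => ?_⟩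
  have := mem_centralizer_singleton_iff.mp (hQ.le (hle ⟨s, hs, rfl⟩))
  simp only [MulEquiv.toMonoidHom_eq_coe, MonoidHom.coe_coe, MulAut.conj_apply] at this
  calc g⁻¹ * z * g * s = g⁻¹ * (z * (g * s * g⁻¹)) * g := by group
    _ = _ := by rw [← this]; group

theorem three_min {S M : Subgroup (Perm Ω)} (h : UMax S (alternatingGroup Ω) M) (hS : IsPGroup 3 S)
    (h5 : 5 ≤ Fintype.card Ω) :
    Fintype.card Ω = 6 ∨ Fintype.card Ω = 9 ∨ ∃ a : ℕ, 2 ≤ a ∧ Fintype.card Ω = 3 ^ a + 1 := by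
  classical
  haveI : Fact (Nat.Prime 3) := ⟨Nat.prime_three⟩
  by_cases hd : 3 ∣ Fintype.card Ω
  swap
  · obtain ⟨x, hx⟩ := hS.nonempty_fixed_point_of_prime_not_dvd_card Ω (by rwa [Nat.card_eq_fintype_card])
    have hx' : ∀ s ∈ S, s x = x := fun s hs => hx ⟨s, hs⟩
    obtain ⟨y, hy⟩ := exists_not_mem (s := {x}) (by simp; omega)
    rw [Finset.mem_singleton] at hy
    obtain ⟨a, ha⟩ := hS.card_orbit y
    have : orbit S y = ↑(Finset.univ.erase x) := by
      ext u
      simp only [Finset.coe_erase, Finset.coe_univ, Set.mem_sdiff, Set.mem_univ, Set.mem_singleton_iff, true_and]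
      constructor
      · rintro ⟨s, rfl⟩ k
        exact hy ((s : Perm Ω).injective (k.trans (hx' s s.2).symm))
      · intro hu
        obtain ⟨s, hs, k⟩ := case_fixed h h5 hx' hy hu
        exact ⟨⟨s, hs⟩, k⟩
    rw [this, Nat.card_coe_set_eq, Set.ncard_coe_finset, Finset.card_erase_of_mem (Finset.mem_univ _),
      Finset.card_univ] at ha
    refine Or.inr (Or.inr ⟨a, ?_, by omega⟩)
    by_contra hn
    interval_cases a <;> omega
  obtain ⟨z, h3, h1, hz⟩ := exists_fpf hS hd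
  have hr := R0.equiv h3
  obtain ⟨x₀⟩ : Nonempty Ω := Fintype.card_pos_iff.mp (by omega)
  obtain ⟨u₀, hu₀⟩ := exists_not_R0 (by omega) z x₀
  have hW := St_le h (by omega) hr (fun s hs => mem_St_of_comm (hz s hs)) (h1 x₀).symm (Or.inr (Or.inl rfl)) hu₀
  have key : ∀ r : Ω → Ω → Prop, Equivalence r → S ≤ St r → ∀ x y w v, ¬ R0 z x y → x ≠ w → y ≠ w → r x y → r x w →
      ¬ r x v → False := fun r hr' hSr x y w v k1 k2 k3 k4 k5 k6 =>
    h.not_le (alt_le_of_three h3 h1 hW k1 k2 k3 (St_le h (by omega) hr' hSr k2 k5 k6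
      ⟨by simp [mem_alternatingGroup, k2, show x ≠ y from fun k => k1 (k ▸ hr.refl x)],
        mul_mem (swap_mem_St hr' k5) (swap_mem_St hr' k4)⟩))
  by_contra hn
  simp only [not_or] at hn
  have h9 : 9 < Fintype.card Ω := by omega
  have htr : ∀ y, ∃ s ∈ S, s x₀ = y := by
    by_contra hn'
    push Not at hn'
    obtain ⟨y₀, hy₀⟩ := hn'
    let U : Ω → Prop := fun a => ∃ s ∈ S, s x₀ = a
    have hU : ∀ s ∈ S, ∀ a, U (s a) ↔ U a := fun s hs a => by
      constructor
      · rintro ⟨t, ht, h⟩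
        exact ⟨s⁻¹ * t, S.mul_mem (S.inv_mem hs) ht, by simp [h]⟩
      · rintro ⟨t, ht, rfl⟩
        exact ⟨s * t, S.mul_mem hs ht, rfl⟩
    have key2 : ∀ V : Finset Ω, 3 < V.card → (∀ a ∈ V, ∀ b ∈ V, U a ↔ U b) → False := fun V hV hVU => by
      obtain ⟨x, hx⟩ := Finset.card_pos.mp (show 0 < V.card by omega)
      obtain ⟨y, hy, hy'⟩ := Finset.exists_mem_notMem_of_card_lt_card
        (s := {x, z x, z (z x)}) (Finset.card_le_three.trans_lt hV)
      obtain ⟨w, hw, hw'⟩ := Finset.exists_mem_notMem_of_card_lt_card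
        (s := {x, y}) (Finset.card_le_two.trans_lt (show 2 < V.card by omega))
      simp only [Finset.mem_insert, Finset.mem_singleton, not_or] at hw'
      obtain ⟨v, hv⟩ : ∃ v, ¬ (U x ↔ U v) := by
        by_cases hUx : U x
        · exact ⟨y₀, fun k => by obtain ⟨s, hs, k'⟩ := k.mp hUx; exact hy₀ s hs k'⟩
        · exact ⟨x₀, fun k => hUx (k.mpr ⟨1, S.one_mem, rfl⟩)⟩
      exact key (fun a b => U a ↔ U b) ⟨fun _ => Iff.rfl, Iff.symm, Iff.trans⟩ (fun s hs a b => by simp only [hU s hs])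
        x y w v (by simpa [R0] using hy') (Ne.symm hw'.1) (Ne.symm hw'.2) (hVU x hx y hy) (hVU x hx w hw) hv
    have := Finset.card_filter_add_card_filter_not (s := Finset.univ) U
    rw [Finset.card_univ] at this
    by_cases hc : 3 < (Finset.univ.filter U).card
    · exact key2 _ hc fun a ha b hb => iff_of_true (Finset.mem_filter.mp ha).2 (Finset.mem_filter.mp hb).2
    · exact key2 (Finset.univ.filter fun a => ¬ U a) (by omega) fun a ha b hb =>
        iff_of_false (Finset.mem_filter.mp ha).2 (Finset.mem_filter.mp hb).2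
  let R : Subgroup S :=
    { carrier := {s | R0 z x₀ ((s : Perm Ω) x₀)}
      one_mem' := hr.refl x₀
      mul_mem' := fun {a b} ha hb => hr.trans ha ((mem_St_of_comm (hz a a.2) _ _).mpr hb)
      inv_mem' := fun {a} ha => hr.symm ((mem_St_of_comm (hz a a.2) _ _).mp (by simpa using ha)) }
  have hRne : R ≠ ⊤ := fun k => by
    obtain ⟨s, hs, k'⟩ := htr u₀
    exact hu₀ (k' ▸ (k ▸ mem_top (⟨s, hs⟩ : S) : (⟨s, hs⟩ : S) ∈ R))
  obtain ⟨T, hT, hRT⟩ := exists_coatom_ge hRne
  have hT3 := (PGrp.isCoatom_iff_index_eq hS).mp hT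
  haveI := PGrp.normal_of_index_eq hS hT3
  have hst : stabilizer S x₀ ≤ R := fun s hs => Or.inl hs
  obtain ⟨t, ht, htR⟩ : ∃ t ∈ T, t ∉ R := by
    by_contra hn'
    push Not at hn'
    have e1 : (stabilizer S x₀).index = Fintype.card Ω := by
      rw [index_stabilizer, Set.eq_univ_of_forall (s := orbit S x₀) fun y => by
        obtain ⟨s, hs, k⟩ := htr y; exact ⟨⟨s, hs⟩, k⟩, Set.ncard_univ, Nat.card_eq_fintype_card]
    have e2 : (stabilizer S x₀).relIndex R ≤ 3 := by
      change (stabilizer R x₀).index ≤ 3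
      rw [index_stabilizer]
      refine le_trans (Set.ncard_le_ncard (t := (({x₀, z x₀, z (z x₀)} : Finset Ω) : Set Ω)) ?_ (Finset.finite_toSet _))
        (by rw [Set.ncard_coe_finset]; exact Finset.card_le_three)
      rintro _ ⟨l, rfl⟩
      have : R0 z x₀ (l • x₀) := l.2
      simpa [R0] using this
    have e3 := relIndex_mul_index hst
    rw [e1, le_antisymm hRT hn', hT3] at e3
    rw [le_antisymm hRT hn'] at e2
    omega
  obtain ⟨s, hs⟩ : ∃ s, s ∉ T := by
    by_contra hn'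
    push Not at hn'
    exact hT.1 (eq_top_iff.mpr fun s _ => hn' s)
  obtain ⟨s₁, hs₁, k₁⟩ := htr (z x₀)
  refine key (fun a b => ∃ t ∈ T, (t : Perm Ω) a = b) ⟨fun a => ⟨1, T.one_mem, rfl⟩, ?_, ?_⟩ (fun g hg a b => ?_)
    x₀ ((t : Perm Ω) x₀) (z x₀) ((s : Perm Ω) x₀) htR (h1 _).symm (fun k => htR (Or.inr (Or.inl k))) ⟨t, ht, rfl⟩
    ⟨⟨s₁, hs₁⟩, hRT (Or.inr (Or.inl k₁)), k₁⟩ ?_
  · rintro a _ ⟨t, ht, rfl⟩
    exact ⟨t⁻¹, T.inv_mem ht, by simp⟩
  · rintro a _ _ ⟨t, ht, rfl⟩ ⟨t', ht', rfl⟩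
    exact ⟨t' * t, T.mul_mem ht' ht, rfl⟩
  · constructor
    · rintro ⟨t, ht, k⟩
      exact ⟨_, Normal.conj_mem' inferInstance t ht ⟨g, hg⟩, by simp [k]⟩
    · rintro ⟨t, ht, rfl⟩
      exact ⟨_, Normal.conj_mem inferInstance t ht ⟨g, hg⟩, by simp⟩
  · rintro ⟨t', ht', k⟩
    have : t'⁻¹ * s ∈ T := hRT (hst (by
      change (t' : Perm Ω)⁻¹ ((s : Perm Ω) x₀) = x₀
      rw [Perm.inv_eq_iff_eq, k]))
    exact hs (by simpa using T.mul_mem ht' this)

end Cfsg.Lib.Layer.SymO
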