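import Cfsg.Agent.Lib.Layer.Misc
import Cfsg.Agent.Lib.BG1.Sec1
import Cfsg.Agent.Lib.Invol.Basic

/-! The Thompson dihedral lemma: elementary abelian 2-groups acting on odd order groups. -/

set_option autoImplicit false
set_option linter.unusedSectionVars false

namespace Cfsg.Lib.Layer.TDih
open Subgroup Cfsg.Lib.Core Cfsg.Lib.Amalg Cfsg.Lib.BG1

universe u
variable {G : Type u} [Group G] [Finite G] {I J M B F : Subgroup G}

/-- elements of the abelian group `M` inverted by `s` -/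
def negSub (M : Subgroup G) (hM : ∀ x ∈ M, ∀ y ∈ M, x * y = y * x) (s : G) : Subgroup G where
  carrier := {x | x ∈ M ∧ s * x * s⁻¹ = x⁻¹}
  one_mem' := ⟨M.one_mem, by simp⟩
  mul_mem' := by
    rintro a b ⟨ha, ha'⟩ ⟨hb, hb'⟩
    refine ⟨M.mul_mem ha hb, ?_⟩
    rw [hM a ha b hb, mul_inv_rev, ← ha', ← hb', ← hM a ha b hb]; group
  inv_mem' := by
    rintro a ⟨ha, ha'⟩
    exact ⟨M.inv_mem ha, by rw [← congrArg Inv.inv ha']; group⟩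

theorem norm_negSub (hIc : ∀ s ∈ I, ∀ t ∈ I, s * t = t * s) (hM : ∀ x ∈ M, ∀ y ∈ M, x * y = y * x)
    (hn : I ≤ 𝐍(M)) {s : G} (hs : s ∈ I) : I ≤ 𝐍(negSub M hM s) := by
  refine le_normalizer_of_cj_le fun k hk => cj_le_iff'.2 ?_
  rintro x ⟨hx, hx'⟩
  refine ⟨(mem_normalizer_iff.1 (hn hk) x).1 hx, ?_⟩
  calc s * (k * x * k⁻¹) * s⁻¹ = (s * k) * x * (s * k)⁻¹ := by group
    _ = k * (s * x * s⁻¹) * k⁻¹ := by rw [hIc s hs k hk]; group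
    _ = _ := by rw [hx']; group

theorem negSub_ne_bot (hM : ∀ x ∈ M, ∀ y ∈ M, x * y = y * x) {s x : G} (hs : s * s = 1) (hn : s ∈ 𝐍(M))
    (hx : x ∈ M) (h : s * x * s⁻¹ ≠ x) : negSub M hM s ≠ ⊥ := by
  intro e
  have h1 : s * x * s⁻¹ ∈ M := (mem_normalizer_iff.1 hn x).1 hx
  have h2 : x * (s * x * s⁻¹)⁻¹ ∈ negSub M hM s := by
    refine ⟨M.mul_mem hx (M.inv_mem h1), ?_⟩
    calc s * (x * (s * x * s⁻¹)⁻¹) * s⁻¹ = (s * x * s⁻¹) * ((s * s) * x⁻¹ * (s * s)⁻¹) := by group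
      _ = _ := by rw [hs]; group
  rw [e, mem_bot, mul_inv_eq_one] at h2
  exact h h2.symm

theorem exists_eig (hI2 : ∀ s ∈ I, s * s = 1) (hIc : ∀ s ∈ I, ∀ t ∈ I, s * t = t * s) :
    ∀ (n : ℕ) (M : Subgroup G), Nat.card M = n → (∀ x ∈ M, ∀ y ∈ M, x * y = y * x) → I ≤ 𝐍(M) → M ≠ ⊥ →
      ∃ x ∈ M, (orderOf x).Prime ∧ ∀ s ∈ I, s * x * s⁻¹ = x ∨ s * x * s⁻¹ = x⁻¹ := by
  intro n
  induction n using Nat.strong_induction_on with
  | _ n ih =>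
  rintro M rfl hM hn h0
  by_cases h : ∀ s ∈ I, (∀ x ∈ M, s * x * s⁻¹ = x) ∨ ∀ x ∈ M, s * x * s⁻¹ = x⁻¹
  · obtain ⟨p, hp, hd⟩ := Nat.exists_prime_and_dvd (card_eq_one.not.2 h0)
    obtain ⟨x, hx, e⟩ := exists_mem_orderOf_eq_prime hp hd
    exact ⟨x, hx, e ▸ hp, fun s hs => (h s hs).imp (fun h => h x hx) fun h => h x hx⟩
  · push Not at h
    obtain ⟨s, hs, ⟨x, hx, h1⟩, y, hy, h2⟩ := h
    have hlt : negSub M hM s < M := lt_of_le_of_ne (fun _ h => h.1) fun e => h2 (e.ge hy).2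
    obtain ⟨z, hz, h3⟩ := ih _ (card_lt_of_lt hlt) _ rfl (fun a ha b hb => hM a ha.1 b hb.1)
      (norm_negSub hIc hM hn hs) (negSub_ne_bot hM (hI2 s hs) (hn hs) hx h1)
    exact ⟨z, hz.1, h3⟩

theorem exists_ab (hI2 : ∀ s ∈ I, s * s = 1) (hIc : ∀ s ∈ I, ∀ t ∈ I, s * t = t * s) (hF : Group.IsNilpotent F)
    (hn : I ≤ 𝐍(F)) : ∃ B, B ≤ F ∧ B ≤ 𝐂(B) ∧ F ≤ 𝐍(B) ∧ I ≤ 𝐍(B) ∧ F ⊓ 𝐂(B) ≤ B := by
  obtain ⟨B, ⟨h1, h2, h3, h4⟩, hm⟩ := Set.Finite.exists_maximal (s := {B : Subgroup G | B ≤ F ∧ B ≤ 𝐂(B) ∧ F ≤ 𝐍(B) ∧ I ≤ 𝐍(B)})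
    (Set.toFinite _) ⟨⊥, bot_le, bot_le, le_norm_bot _, le_norm_bot _⟩
  refine ⟨B, h1, h2, h3, h4, ?_⟩
  by_contra h5
  have hH : F ⊔ I ≤ 𝐍(B) := sup_le h3 h4
  have hHF : F ⊔ I ≤ 𝐍(F) := sup_le le_normalizer hn
  have hlt : B < F ⊓ 𝐂(B) := lt_of_le_of_ne (le_inf h1 h2) fun e => h5 e.ge
  obtain ⟨W, hW, hc⟩ := exists_chief_above hH
    ((le_inf hHF (hH.trans (normalizer_le_normalizer_centralizer _))).trans (inf_normalizer_le_normalizer_inf))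
    (inf_le_left.trans le_sup_left) hlt
  have h6 : ⁅W, F⁆ ≤ B := hc.commutator_le_of_nilpotent le_sup_left hHF hF
  have hWF : W ≤ F := hW.trans inf_le_left
  have h7 : IsMulCommutative (quo B W) := (isMulCommutative_quo_iff hc.le_norm).2 ((commutator_mono le_rfl hWF).trans h6)
  obtain ⟨_, ⟨⟨x, hxN⟩, hxW, rfl⟩, hp, h8⟩ := exists_eig (I := quo B I) (by
      rintro _ ⟨s, hs, rfl⟩
      rw [← map_mul, show s * s = 1 from Subtype.ext (hI2 s hs), map_one]) (by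
      rintro _ ⟨s, hs, rfl⟩ _ ⟨t, ht, rfl⟩
      rw [← map_mul, ← map_mul, show s * t = t * s from Subtype.ext (hIc s hs t ht)]) _ (quo B W) rfl
    (fun x hx y hy => PGrp.comm_of_mem h7 hx hy) (mim_norm _ (le_sup_right.trans hc.norm_top)) hc.quo_ne_bot
  replace hxW : x ∈ W := hxW
  have hz : zpowers x ≤ 𝐍(B) := zpowers_le.2 hxN
  have h9 : B ⊔ zpowers x ≤ B := by
    refine hm ⟨sup_le h1 (zpowers_le.2 (hWF hxW)), ?_, ?_, ?_⟩ le_sup_left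
    · have a : zpowers x ≤ 𝐂(B) := zpowers_le.2 (hW hxW).2
      refine sup_le (BG1.le_cent_symm (sup_le h2 a)) (BG1.le_cent_symm (sup_le (BG1.le_cent_symm a) ?_))
      exact Subgroup.le_centralizer _
    · refine le_norm_of_commutator_le ?_
      exact ((commutator_mono (sup_le hc.lt.le (zpowers_le.2 hxW)) le_rfl).trans h6).trans le_sup_left
    · refine le_norm_of_quo h4 hz ?_
      rw [mim_zpowers hxN]
      refine le_normalizer_of_cj_le fun k hk => ?_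
      rw [cj_zpowers, zpowers_le]
      rcases h8 k hk with h | h <;> rw [h]
      · exact mem_zpowers _
      · exact inv_mem (mem_zpowers _)
  have : qmk B ⟨x, hxN⟩ = 1 := (qmk_eq_one_iff hxN).2 (h9 (mem_sup_right (mem_zpowers x)))
  rw [this, orderOf_one] at hp
  exact Nat.not_prime_one hp

theorem cent_of_selfcent {A : Subgroup G} (hF : F ≤ 𝐍(B)) (hB : B ≤ F) (hc : F ⊓ 𝐂(B) ≤ B) (hA : A ≤ 𝐍(F))
    (hAB : A ≤ 𝐂(B)) (hco : (Nat.card A).Coprime (Nat.card F)) (hs : Group.IsSolvable A ∨ Group.IsSolvable F) :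
    A ≤ 𝐂(F) := by
  refine stable_factor_cent hA hco hs hB (le_trans (le_inf (commutator_le_left_of_norm hA) ?_) hc) hAB
  exact (commutator_mono le_rfl hAB).trans
    (commutator_le_right_of_norm (hF.trans (normalizer_le_normalizer_centralizer _)))

theorem relIndex_two {x t : G} (h : ∀ s ∈ J, s * x * s⁻¹ = x ∨ s * x * s⁻¹ = x⁻¹) (ht : t ∈ J)
    (h1 : t * x * t⁻¹ ≠ x) : (𝐂[x]).relIndex J = 2 := by
  have hm : ∀ s, s ∈ 𝐂[x] ↔ s * x * s⁻¹ = x := fun s => by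
    rw [mem_centralizer_singleton_iff, mul_inv_eq_iff_eq_mul]
  refine relIndex_eq_two_iff_exists_notMem_and.2 ⟨t, ht, (hm t).not.2 h1, fun b hb => ?_⟩
  rcases h b hb with h2 | h2
  · exact .inr ((hm b).2 h2)
  · left
    rw [hm]
    calc b * t * x * (b * t)⁻¹ = b * (t * x * t⁻¹) * b⁻¹ := by group
      _ = (b * x * b⁻¹)⁻¹ := by rw [(h t ht).resolve_left h1]; group
      _ = x := by rw [h2, inv_inv]

theorem relIndex_le_two {x : G} (h : ∀ s ∈ J, s * x * s⁻¹ = x ∨ s * x * s⁻¹ = x⁻¹) : (𝐂[x]).relIndex J ≤ 2 := by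
  by_cases h1 : ∀ t ∈ J, t * x * t⁻¹ = x
  · rw [relIndex_eq_one.2 fun t ht => mem_centralizer_singleton_iff.2 (mul_inv_eq_iff_eq_mul.1 (h1 t ht))]
    norm_num
  · push Not at h1
    obtain ⟨t, ht, h1⟩ := h1
    exact (relIndex_two h ht h1).le

theorem ne_inv_of_odd {x : G} (hp : (orderOf x).Prime) (ho : Odd (orderOf x)) : x⁻¹ ≠ x := by
  intro e
  have : orderOf x ∣ 2 := orderOf_dvd_of_pow_eq_one (by rw [sq]; nth_rw 1 [← e]; exact inv_mul_cancel x)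
  rw [(Nat.prime_dvd_prime_iff_eq hp Nat.prime_two).1 this] at ho
  exact absurd ho (by decide)

theorem dual (hI2 : ∀ s ∈ I, s * s = 1) (hIc : ∀ s ∈ I, ∀ t ∈ I, s * t = t * s)
    (hB : ∀ x ∈ B, ∀ y ∈ B, x * y = y * x) (hn : I ≤ 𝐍(B)) (ho : Odd (Nat.card B)) (hf : I ⊓ 𝐂(B) = ⊥) (n : ℕ) :
    ∀ J : Subgroup G, J ≤ I → Nat.card J = 2 ^ n → ∃ a x : Fin n → G,
      (∀ i, a i ∈ J ∧ x i ∈ B ∧ (orderOf (x i)).Prime ∧ a i * x i * (a i)⁻¹ = (x i)⁻¹ ∧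
        ∀ s ∈ I, s * x i * s⁻¹ = x i ∨ s * x i * s⁻¹ = (x i)⁻¹) ∧
      (∀ i j, i ≠ j → a i * x j * (a i)⁻¹ = x j) ∧ (∀ s ∈ J, (∀ i, s * x i * s⁻¹ = x i) → s = 1) ∧
      J ≤ ⨆ i, zpowers (a i) := by
  have hm : ∀ s x : G, s ∈ 𝐂[x] ↔ s * x * s⁻¹ = x := fun s x => by
    rw [mem_centralizer_singleton_iff, mul_inv_eq_iff_eq_mul]
  induction n with
  | zero =>
    intro J _ hJ
    obtain rfl := card_eq_one.1 hJ
    exact ⟨Fin.elim0, Fin.elim0, fun i => i.elim0, fun i => i.elim0, fun s hs _ => hs, bot_le⟩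
  | succ n ih =>
    intro J hJI hJ
    have hJ0 : J ≠ ⊥ := fun e => by
      rw [e, card_bot] at hJ
      exact (Nat.one_lt_two_pow (Nat.succ_ne_zero n)).ne hJ
    obtain ⟨⟨t, ht⟩, ht1⟩ := ne_bot_iff_exists_ne_one.1 hJ0
    obtain ⟨b, hb, hbt⟩ : ∃ b ∈ B, t * b * t⁻¹ ≠ b := by
      by_contra h
      push Not at h
      have : t ∈ I ⊓ 𝐂(B) := ⟨hJI ht, fun b hb => (mul_inv_eq_iff_eq_mul.1 (h b hb)).symm⟩
      rw [hf, mem_bot] at this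
      exact ht1 (Subtype.ext this)
    obtain ⟨y, ⟨hyB, hyt⟩, hyp, hy⟩ := exists_eig hI2 hIc _ (negSub B hB t) rfl (fun a ha b hb => hB a ha.1 b hb.1)
      (norm_negSub hIc hB hn (hJI ht)) (negSub_ne_bot hB (hI2 t (hJI ht)) (hn (hJI ht)) hb hbt)
    have hyi : y⁻¹ ≠ y := ne_inv_of_odd hyp (ho.of_dvd_nat (B.orderOf_dvd_natCard hyB))
    have h2 := relIndex_two (fun s hs => hy s (hJI hs)) ht (hyt ▸ hyi)
    have h3 : Nat.card (𝐂[y] ⊓ J : Subgroup G) = 2 ^ n := by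
      have := card_inf_mul_relIndex 𝐂[y] J
      rw [h2, hJ, pow_succ] at this
      omega
    obtain ⟨a, x, k1, k2, k3, k4⟩ := ih _ (inf_le_right.trans hJI) h3
    have h4 : (⨅ i, 𝐂[x i]) ⊓ J ≠ ⊥ := fun e => by
      have h5 := card_inf_mul_relIndex (⨅ i, 𝐂[x i]) J
      have h6 : (⨅ i, 𝐂[x i]).relIndex J ≤ 2 ^ n := (relIndex_iInf_le _).trans
        ((Finset.prod_le_pow_card _ _ 2 fun i _ => relIndex_le_two fun s hs => (k1 i).2.2.2.2 s (hJI hs)).trans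
          (by simp))
      rw [e, card_bot, one_mul, hJ] at h5
      rw [h5, pow_succ] at h6
      have := Nat.two_pow_pos n
      omega
    obtain ⟨⟨c, hc, hcJ⟩, hc1⟩ := ne_bot_iff_exists_ne_one.1 h4
    have hcx : ∀ i, c * x i * c⁻¹ = x i := fun i => (hm _ _).1 (mem_iInf.1 hc i)
    have hcy : c ∉ 𝐂[y] := fun h => hc1 (Subtype.ext (k3 c ⟨h, hcJ⟩ hcx))
    refine ⟨Fin.cons c a, Fin.cons y x, fun i => ?_, fun i j => ?_, fun s hs h => ?_, fun s hs => ?_⟩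
    · induction i using Fin.cases with
      | zero => exact ⟨hcJ, hyB, hyp, (hy c (hJI hcJ)).resolve_left ((hm _ _).not.1 hcy), hy⟩
      | succ i => exact ⟨(k1 i).1.2, (k1 i).2⟩
    · induction i using Fin.cases <;> induction j using Fin.cases
      · exact fun h => absurd rfl h
      · exact fun _ => hcx _
      · exact fun _ => (hm _ _).1 (k1 _).1.1
      · exact fun h => k2 _ _ fun e => h (congrArg Fin.succ e)
    · exact k3 s ⟨(hm _ _).2 (h 0), hs⟩ fun i => h i.succ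
    · have h7 : (⨆ i, zpowers (a i)) ≤ ⨆ i, zpowers ((Fin.cons c a : Fin (n + 1) → G) i) :=
        iSup_le fun i => le_iSup_of_le i.succ le_rfl
      have h8 : c ∈ ⨆ i, zpowers ((Fin.cons c a : Fin (n + 1) → G) i) := mem_iSup_of_mem 0 (mem_zpowers _)
      by_cases h : s ∈ 𝐂[y]
      · exact h7 (k4 ⟨h, hs⟩)
      · refine (mul_mem_cancel_right h8).1 (h7 (k4 ⟨(hm _ _).2 ?_, mul_mem hs hcJ⟩))
        calc s * c * y * (s * c)⁻¹ = s * (c * y * c⁻¹) * s⁻¹ := by group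
          _ = (s * y * s⁻¹)⁻¹ := by rw [(hy c (hJI hcJ)).resolve_left ((hm _ _).not.1 hcy)]; group
          _ = y := by rw [(hy s (hJI hs)).resolve_left ((hm _ _).not.1 h), inv_inv]

/-- main form -/
theorem main {n : ℕ} (hI : IsElementaryAbelian 2 I) (hc : Nat.card I = 2 ^ n) (hF : Group.IsNilpotent F)
    (ho : Odd (Nat.card F)) (hn : I ≤ 𝐍(F)) (hf : I ⊓ 𝐂(F) = ⊥) : ∃ a x : Fin n → G,
      (∀ i, a i ∈ I ∧ x i ∈ F ∧ (orderOf (x i)).Prime ∧ a i * x i * (a i)⁻¹ = (x i)⁻¹ ∧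
        ∀ s ∈ I, s * x i * s⁻¹ = x i ∨ s * x i * s⁻¹ = (x i)⁻¹) ∧
      (∀ i j, i ≠ j → a i * x j * (a i)⁻¹ = x j) ∧ (∀ s ∈ I, (∀ i, s * x i * s⁻¹ = x i) → s = 1) ∧
      I ≤ (⨆ i, zpowers (a i)) ∧ ∀ i j, x i * x j = x j * x i := by
  have hI2 : ∀ s ∈ I, s * s = 1 := fun s hs => by rw [← sq]; exact hI.2 s hs
  have hIc : ∀ s ∈ I, ∀ t ∈ I, s * t = t * s := fun s hs t ht => PGrp.comm_of_mem hI.1 hs ht
  obtain ⟨B, h1, h2, h3, h4, h5⟩ := exists_ab hI2 hIc hF hn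
  have hB : ∀ x ∈ B, ∀ y ∈ B, x * y = y * x := fun x hx y hy => h2 hy x hx
  have h6 : I ⊓ 𝐂(B) = ⊥ := by
    refine eq_bot_iff.2 (hf ▸ le_inf inf_le_left (cent_of_selfcent h3 h1 h5 (inf_le_left.trans hn) inf_le_right ?_
      (.inr (solvable_of_nilpotent hF))))
    refine Nat.Coprime.coprime_dvd_left (card_dvd_of_le inf_le_left) ?_
    rw [hc]
    exact Nat.Coprime.pow_left _ (Nat.coprime_two_left.2 ho)
  obtain ⟨a, x, k1, k2, k3, k4⟩ := dual hI2 hIc hB h4 (odd_card_of_le h1 ho) h6 n I le_rfl hc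
  exact ⟨a, x, fun i => ⟨(k1 i).1, h1 (k1 i).2.1, (k1 i).2.2⟩, k2, k3, k4, fun i j => hB _ (k1 i).2.1 _ (k1 j).2.1⟩

end Cfsg.Lib.Layer.TDih
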