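import Cfsg.Agent.Lib.Layer.Misc
import Cfsg.Agent.Lib.PGrp.MaxClass

/-! TI-subgroups of `p`-groups. -/

set_option autoImplicit false
set_option linter.unusedSectionVars false

namespace Cfsg.Lib.Layer
open Subgroup Cfsg.Lib.Core Cfsg.Lib.Amalg Cfsg.Lib.BG1

variable {G : Type*} [Group G] [Finite G] {p : ℕ} {A B P : Subgroup G}

theorem ti_comm_of_norm [Fact p.Prime] (hA : IsPGroup p A) (hB : IsPGroup p B)
    (hti : ∀ g : G, cj g B = B ∨ cj g B ⊓ B = ⊥) (hle : Nat.card A ≤ Nat.card B) (hAB : A ⊓ B = ⊥)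
    (hN : B ≤ 𝐍(A)) : ⁅A, B⁆ = ⊥ := by
  refine eq_bot_iff.2 ((le_inf (comm_le_left hN) (comm_le_right (by_contra fun c => ?_))).trans hAB.le)
  have h1 : (A ⊓ 𝐍(B)) ⊔ B < A ⊔ B := (sup_le_sup_right inf_le_left B).lt_of_ne fun e =>
    c (le_sup_left.trans (e.ge.trans (sup_le inf_le_right le_normalizer)))
  obtain ⟨x, hx, h2⟩ := SetLike.exists_of_lt (lt_inf_normalizer_of_lt (hA.to_sup_of_normal_left' hB hN) h1)
  have h3 : cj x B ≤ (A ⊓ 𝐍(B)) ⊔ B := (cj_mono x le_sup_right).trans (cj_of_mem_normalizer hx.2).le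
  rcases hti x with h | h
  · obtain ⟨a, ha, b, hb, rfl⟩ := (mem_sup_of_le_normalizer_left hN).1 hx.1
    refine h2 (mul_mem (mem_sup_left ⟨ha, ?_⟩) (mem_sup_right hb))
    simpa using mul_mem (mem_normalizer_of_cj_le h.le) (inv_mem (le_normalizer hb))
  · have h4 := card_le_of_le (sup_le h3 le_sup_right)
    rw [card_sup_of_disjoint (h3.trans (sup_le inf_le_right le_normalizer)) h, card_cj,
      card_sup_of_disjoint inf_le_right (eq_bot_iff.2 ((inf_le_inf_right B inf_le_left).trans hAB.le))] at h4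
    exact c (inf_eq_left.1 (eq_of_le_of_card_ge inf_le_left (hle.trans (Nat.le_of_mul_le_mul_right h4 Nat.card_pos))))

theorem ti_cj (hti : ∀ g : G, cj g A = A ∨ cj g A ⊓ A = ⊥) (g h : G) : cj g A = cj h A ∨ cj g A ⊓ cj h A = ⊥ :=
  (hti (h⁻¹ * g)).imp (fun e => by have : cj h _ = cj h _ := congrArg _ e; rwa [← cj_mul, mul_inv_cancel_left] at this) fun e => by
    have : cj h _ = cj h _ := congrArg _ e
    rwa [cj_inf, ← cj_mul, mul_inv_cancel_left, cj_bot] at this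

theorem ti_family {Δ : Set (Subgroup G)} (hinv : ∀ s, ∀ R ∈ Δ, cj s R ∈ Δ) (hΦ : ∀ R ∈ Δ, ∃ x ∈ R, x ^ 2 ≠ 1)
    (hord : ∀ R ∈ Δ, ∀ T ∈ Δ, Nat.card R = Nat.card T) (hti : ∀ R ∈ Δ, ∀ T ∈ Δ, R = T ∨ R ⊓ T = ⊥)
    (hP : IsPGroup 2 P) : ∀ R ∈ Δ, ∀ T ∈ Δ, R ≤ P → T ≤ P → R ≠ T → ⁅R, T⁆ = ⊥ := by
  induction P using WellFoundedLT.induction with
  | _ P ih =>
  have k : ∀ R ∈ Δ, ∀ T ∈ Δ, R ≤ P → T ≤ P → R ≠ T → ∀ t ∈ T, t ∉ 𝐍(R) → R ≤ 𝐂(cj t R) ∧ R ⊓ cj t R = ⊥ := by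
    intro R hR T hT h1 h2 h3 t ht h4
    have h5 : R ≠ cj t R := fun e => h4 (mem_normalizer_of_cj_le e.ge)
    refine ⟨?_, (hti R hR _ (hinv t R hR)).resolve_left h5⟩
    rcases h1.eq_or_lt with rfl | h
    · exact absurd (le_normalizer (h2 ht)) h4
    obtain ⟨M, a, b, c⟩ := exists_maximal_lt h
    have hn := lt_inf_normalizer_of_lt hP b
    exact comm_eq_bot_iff.1 (ih M b (hP.to_le b.le) R hR _ (hinv t R hR) a ((cj_mono t a).trans (cj_of_mem_normalizer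
      (((c _ hn.le inf_le_left).resolve_left hn.ne').ge (h2 ht)).2).le) h5)
  intro R hR T hT h1 h2 h3
  have hd := (hti R hR T hT).resolve_left h3
  have l : ∀ R ∈ Δ, ∀ g, cj g R = R ∨ cj g R ⊓ R = ⊥ := fun R hR g => hti _ (hinv g R hR) R hR
  by_cases a : T ≤ 𝐍(R)
  · exact ti_comm_of_norm (hP.to_le h1) (hP.to_le h2) (l T hT) (hord R hR T hT).le hd a
  by_cases b : R ≤ 𝐍(T)
  · rw [Subgroup.commutator_comm]
    exact ti_comm_of_norm (hP.to_le h2) (hP.to_le h1) (l R hR) (hord T hT R hR).le (inf_comm R T ▸ hd) b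
  exfalso
  obtain ⟨t₀, ht₀, ht₀'⟩ := SetLike.not_le_iff_exists.1 a
  obtain ⟨n, hn⟩ := hP ⟨t₀, h2 ht₀⟩
  obtain ⟨j, ht, ht2⟩ := PGrp.exists_pow_not_mem_pow_mem (x := t₀) (congrArg Subtype.val hn) ht₀'
  have htT : t₀ ^ j ∈ T := pow_mem ht₀ j
  generalize t₀ ^ j = t at *
  obtain ⟨c1, c2⟩ := k R hR T hT h1 h2 h3 t htT ht
  have e1 : ∀ x ∈ R, ∀ y ∈ R, t * x * t⁻¹ * y = y * (t * x * t⁻¹) := fun x hx y hy => c1 hy _ (conj_mem_cj _ hx)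
  have e2 : ∀ x ∈ R, t * x * t⁻¹ ∈ R → x = 1 := fun x hx h => by
    simpa using mem_bot.1 (c2.le ⟨h, conj_mem_cj _ hx⟩)
  have inv : ∀ r ∈ R, r ∉ 𝐍(T) → r ^ 2 = 1 := fun r hr hr' => by
    have c3 := (k T hT R hR h2 h1 h3.symm r⁻¹ (inv_mem hr) fun c => hr' (inv_inv r ▸ inv_mem c)).1
    have e3 : r⁻¹ * t * r * t⁻¹ = t⁻¹ * (r⁻¹ * t * r) := by simpa using c3 (inv_mem htT) _ (conj_mem_cj _ htT)
    refine e2 _ (pow_mem hr 2) ?_
    have : t * r ^ 2 * t⁻¹ = r * (t ^ 2 * r * (t ^ 2)⁻¹) :=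
      calc _ = r * r * (r⁻¹ * (r⁻¹ * (t * r * t⁻¹)) * (t * r * t⁻¹)) := by rw [pow_two]; group
        _ = r * r * (r⁻¹ * t * r * (t⁻¹ * (r⁻¹ * t * r)) * t⁻¹) := by rw [← e1 r hr _ (inv_mem hr)]; group
        _ = _ := by rw [← e3, pow_two]; group
    exact this ▸ mul_mem hr ((mem_normalizer_iff.1 ht2 r).1 hr)
  obtain ⟨w, hw, hw'⟩ := hΦ R hR
  obtain ⟨n, hn⟩ := hP ⟨w ^ 2, h1 (pow_mem hw 2)⟩
  obtain ⟨j, hv, hv2⟩ := PGrp.exists_pow_not_mem_pow_mem (H := ⊥) (x := w ^ 2) (congrArg Subtype.val hn) hw'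
  rw [← pow_mul w 2 j, mul_comm, pow_mul, mem_bot] at hv hv2
  have hvR : w ^ j ∈ R := pow_mem hw j
  generalize w ^ j = v at *
  have hvN : v ∈ 𝐍(T) := by_contra fun c => hv (inv v hvR c)
  obtain ⟨r, hr, hr'⟩ := SetLike.not_le_iff_exists.1 b
  have h4 := inv _ (mul_mem hr hvR) fun c => hr' (by simpa using mul_mem c (inv_mem hvN))
  have h5 := inv r hr hr'
  have c4 := (k T hT R hR h2 h1 h3.symm r hr hr').2
  have hu : (v⁻¹ * t * v⁻¹⁻¹ * t⁻¹) ^ 2 ∈ T := pow_mem (mul_mem ((mem_normalizer_iff.1 (inv_mem hvN) t).1 htT) (inv_mem htT)) 2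
  have e4 : (v⁻¹ * t * v⁻¹⁻¹ * t⁻¹) ^ 2 = (v ^ 2)⁻¹ * (t * v ^ 2 * t⁻¹) :=
    calc _ = v⁻¹ * (t * v * t⁻¹ * v⁻¹) * (t * v * t⁻¹) := by rw [pow_two]; group
      _ = _ := by rw [e1 v hvR _ (inv_mem hvR), pow_two]; group
  rw [e4] at hu
  have e5 : r * (v ^ 2)⁻¹ * r⁻¹ = (v ^ 2)⁻¹ := by
    have e : r * v * r⁻¹ = v⁻¹ := by
      rw [pow_two] at h4 h5
      rw [inv_eq_of_mul_eq_one_right h5]; exact eq_inv_of_mul_eq_one_left (by rw [← h4]; group)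
    rw [← conj_inv, ← conj_pow, e, inv_pow, inv_inv]
    exact eq_inv_of_mul_eq_one_left (by rw [← pow_two, hv2])
  have e6 : r * ((v ^ 2)⁻¹ * (t * v ^ 2 * t⁻¹)) * r⁻¹ = (v ^ 2)⁻¹ * (t * v ^ 2 * t⁻¹) :=
    calc _ = r * (v ^ 2)⁻¹ * (t * v ^ 2 * t⁻¹ * r⁻¹) := by group
      _ = _ := by rw [e1 _ (pow_mem hvR 2) _ (inv_mem hr), ← mul_assoc, e5]
  exact hv (e2 _ (pow_mem hvR 2) (inv_mul_eq_one.1 (mem_bot.1 (c4.le ⟨hu, e6 ▸ conj_mem_cj _ hu⟩)) ▸ pow_mem hvR 2))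

theorem le_pCore_of_comm_le_frattini [hp : Fact p.Prime] (h : 𝐂(pCore p G) ≤ pCore p G) {x : G}
    (hx : ∀ q ∈ pCore p G, q * x * q⁻¹ * x⁻¹ ∈ frattiniOf (pCore p G)) : x ∈ pCore p G := by
  haveI := pCore_normal p G
  haveI : (frattiniOf (pCore p G)).Normal := ConjAct.normal_of_characteristic_of_normal
  let f := QuotientGroup.mk' (frattiniOf (pCore p G))
  haveI := (pCore_normal p G).map f (QuotientGroup.mk'_surjective _)
  have k : ∀ y, y ∈ (𝐂((pCore p G).map f)).comap f ↔ ∀ q ∈ pCore p G, q * y * q⁻¹ * y⁻¹ ∈ frattiniOf (pCore p G) := by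
    intro y
    simp only [mem_comap, mem_centralizer_iff, SetLike.mem_coe, mem_map, forall_exists_index, and_imp,
      forall_apply_eq_imp_iff₂]
    refine forall₂_congr fun q _ => ?_
    rw [← QuotientGroup.eq_one_iff, ← QuotientGroup.mk'_apply, map_mul, map_mul, map_mul, map_inv, map_inv, mul_inv_eq_one,
      mul_inv_eq_iff_eq_mul]
  refine le_pCore (isPGroup_of_res_le (isPGroup_pCore p G) (res_le_of_forall_pPrime fun A h1 h2 => le_trans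
    (coprime_cent_frattini (by rw [normalizer_eq_top]; exact le_top) ?_ (commutator_le.2 fun q hq a ha => (k a).1 (h1 ha) q hq))
    h)) ((k x).2 hx)
  obtain ⟨n, hn⟩ := (isPGroup_pCore p G).exists_card_eq
  exact hn ▸ h2.pow_right n

end Cfsg.Lib.Layer
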