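import Cfsg.Agent.Lib.Layer.Alp

/-! Alperin's fusion theorem for tame intersections, as an induction principle. -/

set_option autoImplicit false

namespace Cfsg.Lib.Layer
open Subgroup Cfsg.Lib.Core Cfsg.Lib.Amalg Cfsg.Lib.BG1

variable {G : Type*} [Group G] [Finite G] {p : ℕ} [Fact p.Prime] {R : Subgroup G → G → Prop}

theorem tame_ind (P : Sylow p G) (mono : ∀ D E g, R D g → E ≤ D → R E g)
    (comp : ∀ D g h, R D g → R (cj g D) h → R D (h * g)) (one : ∀ D, R D 1)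
    (loc : ∀ Q : Sylow p G, Syl p (P ⊓ 𝐍((P : Subgroup G) ⊓ Q)) 𝐍((P : Subgroup G) ⊓ Q) →
      Syl p (Q ⊓ 𝐍((P : Subgroup G) ⊓ Q)) 𝐍((P : Subgroup G) ⊓ Q) → ∀ n ∈ 𝐍((P : Subgroup G) ⊓ Q),
      ((Q : Subgroup G) = P ∨ ∃ k : ℕ, orderOf n = p ^ k) → R (P ⊓ Q) n) :
    ∀ D ≤ (P : Subgroup G), ∀ g, cj g D ≤ P → R D g := by
  refine alp_ind (syl_top P) mono comp fun D hD hS ih => ?_
  have key : ∀ n ∈ 𝐍(D), (D = P ∨ ∃ k : ℕ, orderOf n = p ^ k) → R D n := fun n hn h => by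
    have hDQ : D ≤ cj n⁻¹ (P : Subgroup G) := (cj_of_mem_normalizer (inv_mem hn)).ge.trans (cj_mono _ hD)
    rcases (le_inf hD hDQ).eq_or_lt with e | hlt
    · have e' : (P : Subgroup G) ⊓ (n⁻¹ • P : Sylow p G) = D := by rw [coe_smul_sylow, ← e]
      have := loc (n⁻¹ • P)
      rw [e'] at this
      refine this hS ?_ n hn (h.imp_left fun h => by rw [coe_smul_sylow, ← h, cj_of_mem_normalizer (inv_mem hn)])
      have := hS.conj_of_mem (inv_mem hn)
      rwa [cj_inf, cj_normalizer, cj_of_mem_normalizer (inv_mem hn), ← coe_smul_sylow] at this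
    · exact mono _ _ _ (ih _ inf_le_left hlt n (by rw [cj_inf, cj_cj_inv]; exact inf_le_right)) hlt.le
  rcases hD.eq_or_lt with e | hlt
  · exact fun n hn => key n hn (Or.inl e)
  have h3 := lt_inf_normalizer_of_lt P.isPGroup' hlt
  refine fun n hn => (((hS.pec.frattini (pec_le _) (le_norm_pec _)).ge.trans (sup_le ?_ fun m hm => ⟨hm.1, mono _ _ _
    (ih _ inf_le_left h3 m ((cj_of_mem_normalizer hm.2).le.trans inf_le_left)) h3.le⟩) : _ ≤ rsub R comp D (one D)) hn).2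
  exact (closure_le _).2 fun x hx => ⟨hx.1, key x hx.1 (Or.inr hx.2)⟩

end Cfsg.Lib.Layer
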