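import Mathlib

set_option autoImplicit false

open Complex
open scoped Real

namespace Cfsg.Lib.Layer.Theta

variable {n : ℕ}

/-- complex quadratic form of a real matrix -/
noncomputable def qc (A : Matrix (Fin n) (Fin n) ℝ) (w : Fin n → ℂ) : ℂ :=
  ∑ i, ∑ j, w i * (A i j : ℂ) * w j

noncomputable def qr (A : Matrix (Fin n) (Fin n) ℝ) (w : Fin n → ℝ) : ℝ :=
  ∑ i, ∑ j, w i * A i j * w j

noncomputable def lc (b w : Fin n → ℂ) : ℂ := ∑ i, b i * w i

structure PD (A C : Matrix (Fin n) (Fin n) ℝ) : Prop where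
  sA : ∀ i j, A i j = A j i
  sC : ∀ i j, C i j = C j i
  mul : A * C = 1
  psd : ∀ x, 0 ≤ qr A x

lemma qc_ofReal (A : Matrix (Fin n) (Fin n) ℝ) (w : Fin n → ℝ) :
    qc A (fun i => (w i : ℂ)) = (qr A w : ℝ) := by
  simp [qc, qr]

lemma qc_add (A : Matrix (Fin n) (Fin n) ℝ) (hA : ∀ i j, A i j = A j i) (x w : Fin n → ℂ) :
    qc A (fun i => x i + w i) = qc A x + 2 * lc (fun i => ∑ j, (A i j : ℂ) * w j) x + qc A w := by
  have h1 : ∑ i, ∑ j, w i * (A i j : ℂ) * x j = ∑ i, ∑ j, x i * (A i j : ℂ) * w j := by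
    rw [Finset.sum_comm]
    refine Finset.sum_congr rfl fun i _ => Finset.sum_congr rfl fun j _ => ?_
    rw [hA j i]; ring
  have h2 : lc (fun i => ∑ j, (A i j : ℂ) * w j) x = ∑ i, ∑ j, x i * (A i j : ℂ) * w j := by
    unfold lc
    refine Finset.sum_congr rfl fun i _ => ?_
    rw [Finset.sum_mul]
    refine Finset.sum_congr rfl fun j _ => ?_
    ring
  rw [h2, two_mul]
  nth_rewrite 1 [← h1]
  unfold qc
  simp only [← Finset.sum_add_distrib]
  refine Finset.sum_congr rfl fun i _ => Finset.sum_congr rfl fun j _ => ?_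
  ring

lemma qr_add (A : Matrix (Fin n) (Fin n) ℝ) (hA : ∀ i j, A i j = A j i) (x w : Fin n → ℝ) (s : ℝ) :
    qr A (fun i => x i + s * w i) =
      qr A w * (s * s) + 2 * (∑ i, x i * ∑ j, A i j * w j) * s + qr A x := by
  have h1 : ∑ i, ∑ j, w i * A i j * x j = ∑ i, ∑ j, x i * A i j * w j := by
    rw [Finset.sum_comm]
    refine Finset.sum_congr rfl fun i _ => Finset.sum_congr rfl fun j _ => ?_
    rw [hA j i]; ring
  have h2 : (∑ i, x i * ∑ j, A i j * w j) = ∑ i, ∑ j, x i * A i j * w j := by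
    refine Finset.sum_congr rfl fun i _ => ?_
    rw [Finset.mul_sum]
    refine Finset.sum_congr rfl fun j _ => ?_
    ring
  rw [h2, two_mul]
  nth_rewrite 1 [← h1]
  unfold qr
  simp only [add_mul, Finset.sum_mul, ← Finset.sum_add_distrib]
  refine Finset.sum_congr rfl fun i _ => Finset.sum_congr rfl fun j _ => ?_
  ring

lemma PD.ent {A C : Matrix (Fin n) (Fin n) ℝ} (h : PD A C) (i j : Fin n) :
    ∑ k, A i k * C k j = if i = j then 1 else 0 := by
  have := congrFun (congrFun h.mul i) j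
  rw [Matrix.mul_apply, Matrix.one_apply] at this
  exact this

lemma PD.qr_col {A C : Matrix (Fin n) (Fin n) ℝ} (h : PD A C) (y : Fin n → ℝ) :
    qr A (fun i => ∑ k, C i k * y k) = qr C y := by
  have h1 : ∀ i, ∑ j, A i j * ∑ k, C j k * y k = y i := by
    intro i
    simp only [Finset.mul_sum]
    rw [Finset.sum_comm]
    simp only [← mul_assoc, ← Finset.sum_mul, h.ent]
    simp
  unfold qr
  simp only [mul_assoc, ← Finset.mul_sum, h1]
  refine Finset.sum_congr rfl fun i _ => ?_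
  ring

lemma PD.symm {A C : Matrix (Fin n) (Fin n) ℝ} (h : PD A C) : PD C A where
  sA := h.sC
  sC := h.sA
  mul := mul_eq_one_comm.mp h.mul
  psd := fun y => by rw [← h.qr_col]; exact h.psd _

lemma qr_single (C : Matrix (Fin n) (Fin n) ℝ) (i : Fin n) :
    qr C (Pi.single i 1) = C i i := by
  simp [qr, Pi.single_apply]

lemma PD.sq_le {A C : Matrix (Fin n) (Fin n) ℝ} (h : PD A C) (x : Fin n → ℝ) (i : Fin n) :
    x i ^ 2 ≤ C i i * qr A x := by
  have key : ∀ s : ℝ, 0 ≤ C i i * (s * s) + 2 * x i * s + qr A x := by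
    intro s
    have h1 := h.psd (fun j => x j + s * ∑ k, C j k * (Pi.single i (1 : ℝ) : Fin n → ℝ) k)
    rw [qr_add A h.sA, h.qr_col, qr_single] at h1
    have h2 : ∑ j, x j * ∑ l, A j l * ∑ k, C l k * (Pi.single i (1 : ℝ) : Fin n → ℝ) k = x i := by
      simp [Pi.single_apply, h.ent]
    rwa [h2] at h1
  have := discrim_le_zero key
  unfold discrim at this
  nlinarith

lemma PD.diag_nonneg {A C : Matrix (Fin n) (Fin n) ℝ} (h : PD A C) (i : Fin n) : 0 ≤ A i i := by
  rw [← qr_single A i]; exact h.psd _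

lemma PD.diag_pos {A C : Matrix (Fin n) (Fin n) ℝ} (h : PD A C) (i : Fin n) : 0 < A i i := by
  have h1 := h.sq_le (Pi.single i 1) i
  rw [qr_single] at h1
  simp only [Pi.single_eq_same, one_pow] at h1
  rcases (h.diag_nonneg i).lt_or_eq with h2 | h2
  · exact h2
  · rw [← h2] at h1; norm_num at h1

lemma PD.lower {A C : Matrix (Fin n) (Fin n) ℝ} (h : PD A C) :
    ∃ δ : ℝ, 0 < δ ∧ ∀ x : Fin n → ℝ, δ * ∑ i, x i ^ 2 ≤ qr A x := by
  have hT : 0 ≤ ∑ i, C i i := Finset.sum_nonneg fun i _ => h.symm.diag_nonneg i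
  refine ⟨1 / (1 + ∑ i, C i i), by positivity, fun x => ?_⟩
  have h1 : ∑ i, x i ^ 2 ≤ (∑ i, C i i) * qr A x := by
    rw [Finset.sum_mul]; exact Finset.sum_le_sum fun i _ => h.sq_le x i
  have h2 := h.psd x
  rw [div_mul_eq_mul_div, one_mul, div_le_iff₀ (by positivity)]
  nlinarith

lemma summable_pi_prod : ∀ (n : ℕ) (f : Fin n → ℤ → ℝ), (∀ i x, 0 ≤ f i x) →
    (∀ i, Summable (f i)) → Summable fun x : Fin n → ℤ => ∏ i, f i (x i)
  | 0, f, _, _ => Summable.of_finite
  | n + 1, f, h0, hs => by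
    have ih := summable_pi_prod n (fun i => f i.succ) (fun i => h0 _) (fun i => hs _)
    have := (hs 0).mul_of_nonneg ih (h0 0) (fun x => Finset.prod_nonneg fun i _ => h0 _ _)
    rw [← (Fin.consEquiv fun _ => ℤ).summable_iff]
    refine this.congr fun p => ?_
    simp [Fin.prod_univ_succ, Fin.consEquiv]

lemma summable_one (c d : ℝ) (hc : 0 < c) :
    Summable fun m : ℤ => Real.exp (-c * (m : ℝ) ^ 2 + d * m) := by
  have hpi := Real.pi_pos
  have h1 : Summable fun m : ℤ => jacobiTheta₂_term m (-I * d / (2 * π)) (I * c / π) := by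
    rw [summable_jacobiTheta₂_term_iff]
    have : (I * c / π : ℂ) = ((c / π : ℝ) : ℂ) * I := by push_cast; ring
    rw [this]; simp only [mul_I_im, ofReal_re]; positivity
  refine (summable_norm_iff.mpr h1).congr fun m => ?_
  have h2 : jacobiTheta₂_term m (-I * d / (2 * π)) (I * c / π) =
      ((Real.exp (-c * (m : ℝ) ^ 2 + d * m) : ℝ) : ℂ) := by
    unfold jacobiTheta₂_term
    have hpi' : (π : ℂ) ≠ 0 := by exact_mod_cast hpi.ne'
    push_cast
    congr 1
    field_simp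
    ring_nf
    simp only [I_sq]
    ring
  rw [h2, norm_real, Real.norm_of_nonneg (Real.exp_pos _).le]

lemma PD.summable {A C : Matrix (Fin n) (Fin n) ℝ} (h : PD A C) {t : ℂ} (ht : 0 < t.re)
    (b : Fin n → ℂ) : Summable fun x : Fin n → ℤ =>
      ‖cexp (-π * t * qc A (fun i => (x i : ℂ)) + 2 * π * lc b (fun i => (x i : ℂ)))‖ := by
  obtain ⟨δ, hδ, hl⟩ := h.lower
  have hpi := Real.pi_pos
  have h1 := summable_pi_prod n
    (fun i m => Real.exp (-(π * t.re * δ) * (m : ℝ) ^ 2 + (2 * π * (b i).re) * m))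
    (fun i m => (Real.exp_pos _).le) (fun i => summable_one _ _ (by positivity))
  refine h1.of_nonneg_of_le (fun x => norm_nonneg _) fun x => ?_
  rw [norm_exp, ← Real.exp_sum, Real.exp_le_exp]
  have h2 : qc A (fun i => (x i : ℂ)) = (qr A (fun i => (x i : ℝ)) : ℝ) := by
    rw [← qc_ofReal]; simp
  have h3 := hl fun i => (x i : ℝ)
  have h4 : (lc b (fun i => (x i : ℂ))).re = ∑ i, (b i).re * x i := by
    simp [lc]
  have h5 : (-π * t * qc A (fun i => (x i : ℂ)) + 2 * π * lc b (fun i => (x i : ℂ))).re =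
      -π * t.re * qr A (fun i => (x i : ℝ)) + 2 * π * ∑ i, (b i).re * x i := by
    rw [h2, ← h4]; simp
  rw [h5, Finset.sum_add_distrib, ← Finset.mul_sum]
  have h6 : ∑ i, 2 * π * (b i).re * (x i : ℝ) = 2 * π * ∑ i, (b i).re * x i := by
    rw [Finset.mul_sum]; exact Finset.sum_congr rfl fun i _ => by ring
  rw [h6]
  have h7 : 0 < π * t.re := by positivity
  nlinarith

lemma re_inv_pos {t : ℂ} (ht : 0 < t.re) : 0 < (t⁻¹).re := by
  rw [inv_re]
  have : t ≠ 0 := by rintro rfl; simp at ht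
  exact div_pos ht (normSq_pos.mpr this)

lemma PD.summable' {A C : Matrix (Fin n) (Fin n) ℝ} (h : PD A C) {t : ℂ} (ht : 0 < t.re)
    (w : Fin n → ℂ) : Summable fun y : Fin n → ℤ =>
      ‖cexp (-π / t * qc C (fun i => (y i : ℂ) + w i))‖ := by
  have h1 := (h.symm.summable (re_inv_pos ht)
    (fun i => -t⁻¹ * ∑ j, (C i j : ℂ) * w j)).mul_right ‖cexp (-π / t * qc C w)‖
  refine h1.congr fun y => ?_
  rw [← norm_mul, ← exp_add, qc_add C h.sC]
  congr 2
  have : lc (fun i => -t⁻¹ * ∑ j, (C i j : ℂ) * w j) (fun i => (y i : ℂ)) =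
      -t⁻¹ * lc (fun i => ∑ j, (C i j : ℂ) * w j) (fun i => (y i : ℂ)) := by
    unfold lc; rw [Finset.mul_sum]; exact Finset.sum_congr rfl fun i _ => by ring
  rw [this]; ring

end Cfsg.Lib.Layer.Theta
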