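import Cfsg.Agent.Lib.Layer.Theta1

set_option autoImplicit false

open Complex
open scoped Real

namespace Cfsg.Lib.Layer.Theta

variable {n : ℕ}

/-- Schur complement -/
noncomputable def schur (A : Matrix (Fin (n + 1)) (Fin (n + 1)) ℝ) : Matrix (Fin n) (Fin n) ℝ :=
  Matrix.of fun i j => A i.succ j.succ - A 0 i.succ * A 0 j.succ / A 0 0

def low (C : Matrix (Fin (n + 1)) (Fin (n + 1)) ℝ) : Matrix (Fin n) (Fin n) ℝ :=
  Matrix.of fun i j => C i.succ j.succ

lemma qc_cons (A : Matrix (Fin (n + 1)) (Fin (n + 1)) ℝ) (hA : ∀ i j, A i j = A j i)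
    (w : Fin (n + 1) → ℂ) :
    qc A w = A 0 0 * w 0 ^ 2 + 2 * w 0 * lc (fun j : Fin n => (A 0 j.succ : ℂ)) (fun j => w j.succ) +
      qc (low A) (fun j => w j.succ) := by
  unfold qc lc low
  simp only [Fin.sum_univ_succ, Finset.sum_add_distrib, Matrix.of_apply]
  have h1 : ∑ i : Fin n, w i.succ * (A i.succ 0 : ℂ) * w 0 =
      w 0 * ∑ j : Fin n, (A 0 j.succ : ℂ) * w j.succ := by
    rw [Finset.mul_sum]; refine Finset.sum_congr rfl fun i _ => ?_; rw [hA i.succ 0]; ring
  have h2 : ∑ i : Fin n, w 0 * (A 0 i.succ : ℂ) * w i.succ =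
      w 0 * ∑ j : Fin n, (A 0 j.succ : ℂ) * w j.succ := by
    rw [Finset.mul_sum]; refine Finset.sum_congr rfl fun i _ => ?_; ring
  rw [h1, h2]; ring

lemma qc_schur (A : Matrix (Fin (n + 1)) (Fin (n + 1)) ℝ) (w : Fin n → ℂ) :
    qc (schur A) w = qc (low A) w - lc (fun j : Fin n => (A 0 j.succ : ℂ)) w ^ 2 / A 0 0 := by
  unfold qc lc low schur
  simp only [Matrix.of_apply]
  rw [pow_two, Finset.sum_mul_sum, Finset.sum_div, ← Finset.sum_sub_distrib]
  refine Finset.sum_congr rfl fun i _ => ?_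
  rw [Finset.sum_div, ← Finset.sum_sub_distrib]
  refine Finset.sum_congr rfl fun j _ => ?_
  push_cast; ring

lemma PD.row0 {A C : Matrix (Fin (n + 1)) (Fin (n + 1)) ℝ} (h : PD A C) (j : Fin n) :
    ∑ k : Fin n, A 0 k.succ * C k.succ j.succ = -(A 0 0 * C 0 j.succ) := by
  have := h.ent 0 j.succ
  rw [Fin.sum_univ_succ, if_neg (Fin.succ_ne_zero j).symm] at this
  linarith

lemma PD.row00 {A C : Matrix (Fin (n + 1)) (Fin (n + 1)) ℝ} (h : PD A C) :
    ∑ k : Fin n, A 0 k.succ * C 0 k.succ = 1 - A 0 0 * C 0 0 := by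
  have := h.ent 0 0
  rw [Fin.sum_univ_succ, if_pos rfl] at this
  simp only [h.sC _ 0] at this
  linarith

lemma PD.schur {A C : Matrix (Fin (n + 1)) (Fin (n + 1)) ℝ} (h : PD A C) :
    PD (schur A) (low C) where
  sA := fun i j => by simp only [Theta.schur, Matrix.of_apply]; rw [h.sA i.succ]; ring
  sC := fun i j => by simp only [low, Matrix.of_apply]; rw [h.sC]
  mul := by
    have ha := (h.diag_pos 0).ne'
    ext i j
    have h1 := h.ent i.succ j.succ
    have h2 := h.row0 j
    rw [Fin.sum_univ_succ] at h1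
    simp only [Fin.succ_inj] at h1
    rw [Matrix.mul_apply, Matrix.one_apply, ← h1]
    simp only [Theta.schur, low, Matrix.of_apply, sub_mul, Finset.sum_sub_distrib]
    have h3 : ∑ k : Fin n, A 0 i.succ * A 0 k.succ / A 0 0 * C k.succ j.succ =
        A 0 i.succ / A 0 0 * ∑ k : Fin n, A 0 k.succ * C k.succ j.succ := by
      rw [Finset.mul_sum]; exact Finset.sum_congr rfl fun k _ => by ring
    rw [h3, h2, h.sA i.succ 0]
    field_simp
    ring
  psd := fun x => by
    have ha := (h.diag_pos 0).ne'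
    have ha' : (A 0 0 : ℂ) ≠ 0 := by exact_mod_cast ha
    set s : ℝ := ∑ j : Fin n, A 0 j.succ * x j with hs
    have h1 := h.psd (Fin.cons (-s / A 0 0) x)
    have h2 : qr A (Fin.cons (-s / A 0 0) x) = qr (Theta.schur A) x := by
      apply ofReal_injective
      rw [← qc_ofReal, ← qc_ofReal, qc_cons A h.sA, qc_schur]
      simp only [Fin.cons_zero, Fin.cons_succ]
      have h3 : lc (fun j : Fin n => (A 0 j.succ : ℂ)) (fun j => (x j : ℂ)) = s := by
        simp [lc, hs]
      rw [h3]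
      push_cast
      field_simp
      ring
    rwa [h2] at h1

lemma PD.qc_inv {A C : Matrix (Fin (n + 1)) (Fin (n + 1)) ℝ} (h : PD A C)
    (w : Fin (n + 1) → ℂ) :
    qc C w = w 0 ^ 2 / A 0 0 +
      qc (low C) (fun j => w j.succ + (-(w 0) / A 0 0) * (A 0 j.succ : ℂ)) := by
  have ha := (h.diag_pos 0).ne'
  have ha' : (A 0 0 : ℂ) ≠ 0 := by exact_mod_cast ha
  rw [qc_cons C h.sC, qc_add _ h.schur.sC]
  have h1 : ∀ i : Fin n, ∑ j : Fin n, (low C i j : ℂ) * ((-(w 0) / A 0 0) * (A 0 j.succ : ℂ)) =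
      w 0 * C 0 i.succ := by
    intro i
    have h2 := congrArg (fun r : ℝ => (r : ℂ)) (h.row0 i)
    push_cast at h2
    have h3 : ∑ j : Fin n, (low C i j : ℂ) * ((-(w 0) / A 0 0) * (A 0 j.succ : ℂ)) =
        (-(w 0) / A 0 0) * ∑ k : Fin n, (A 0 k.succ : ℂ) * C k.succ i.succ := by
      rw [Finset.mul_sum]; refine Finset.sum_congr rfl fun k _ => ?_
      simp only [low, Matrix.of_apply]; rw [h.sC i.succ]; ring
    rw [h3, h2]; field_simp
  have h4 : qc (low C) (fun j => (-(w 0) / A 0 0) * (A 0 j.succ : ℂ)) =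
      (-(w 0) / A 0 0) * w 0 * (1 - A 0 0 * C 0 0) := by
    have h5 := congrArg (fun r : ℝ => (r : ℂ)) h.row00
    push_cast at h5
    rw [← h5, Finset.mul_sum]
    unfold qc
    refine Finset.sum_congr rfl fun i _ => ?_
    simp only [mul_assoc _ (low C i _ : ℂ), ← Finset.mul_sum, h1]
    ring
  simp only [h1, h4]
  have h6 : lc (fun i : Fin n => w 0 * (C 0 i.succ : ℂ)) (fun j => w j.succ) =
      w 0 * lc (fun j : Fin n => (C 0 j.succ : ℂ)) (fun j => w j.succ) := by
    unfold lc; rw [Finset.mul_sum]; exact Finset.sum_congr rfl fun i _ => by ring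
  rw [h6]
  field_simp
  ring

lemma lc_add_smul (b v w : Fin n → ℂ) (s : ℂ) :
    lc (fun j => b j + s * v j) w = lc b w + s * lc v w := by
  unfold lc
  rw [Finset.mul_sum, ← Finset.sum_add_distrib]
  exact Finset.sum_congr rfl fun i _ => by ring

lemma cpow_half_mul {t : ℂ} (ht : t ≠ 0) {a : ℝ} (ha : 0 < a) :
    1 / (t * a) ^ (1 / 2 : ℂ) = cexp (-(Real.log a) / 2) * (1 / t ^ (1 / 2 : ℂ)) := by
  have ha' : (a : ℂ) ≠ 0 := by exact_mod_cast ha.ne'
  rw [cpow_def_of_ne_zero (mul_ne_zero ht ha'), cpow_def_of_ne_zero ht, mul_comm t,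
    log_ofReal_mul ha ht, one_div, one_div (cexp _), ← exp_neg, ← exp_neg, ← exp_add]
  congr 1; ring

/-- Poisson summation for Gaussians on `ℤ^n`. -/
theorem poisson : ∀ (n : ℕ) (A C : Matrix (Fin n) (Fin n) ℝ), PD A C → ∃ κ : ℂ,
    ∀ t : ℂ, 0 < t.re → ∀ b : Fin n → ℂ,
    ∑' x : Fin n → ℤ, cexp (-π * t * qc A (fun i => (x i : ℂ)) + 2 * π * lc b (fun i => (x i : ℂ))) =
      κ * (1 / t ^ (1 / 2 : ℂ)) ^ n *
        ∑' y : Fin n → ℤ, cexp (-π / t * qc C (fun i => (y i : ℂ) + I * b i))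
  | 0, A, C, _ => ⟨1, fun t _ b => by simp [qc, lc]⟩
  | n + 1, A, C, h => by
    obtain ⟨κ, hκ⟩ := poisson n _ _ h.schur
    have ha := h.diag_pos 0
    have ha' : (A 0 0 : ℂ) ≠ 0 := by exact_mod_cast ha.ne'
    refine ⟨cexp (-(Real.log (A 0 0)) / 2) * κ, fun t ht b => ?_⟩
    have ht0 : t ≠ 0 := by rintro rfl; simp at ht
    have hta : 0 < (t * A 0 0).re := by simpa using mul_pos ht ha
    set a : ℂ := (A 0 0 : ℂ) with hadef
    set v : Fin n → ℂ := fun j => (A 0 j.succ : ℂ) with hv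
    set b' : Fin n → ℂ := fun j => b j.succ with hb'
    let e : ℤ × (Fin n → ℤ) ≃ (Fin (n + 1) → ℤ) := Fin.consEquiv fun _ => ℤ
    have he0 : ∀ p, e p 0 = p.1 := fun p => rfl
    have hes : ∀ p j, e p (Fin.succ j) = p.2 j := fun p j => rfl
    -- middle family
    let H : ℤ → (Fin n → ℤ) → ℂ := fun y x =>
      cexp (-π / (t * a) * ((y : ℂ) + I * b 0) ^ 2) *
        cexp (-π * t * qc (schur A) (fun i => (x i : ℂ)) +
          2 * π * lc (fun j => b' j + (I * ((y : ℂ) + I * b 0) / a) * v j) (fun i => (x i : ℂ)))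
    have hH : Summable (Function.uncurry H) := by
      have s1 : Summable fun y : ℤ => ‖cexp (-π / (t * a) * ((y : ℂ) + I * b 0) ^ 2)‖ := by
        have hpd : PD (n := 1) (Matrix.of fun _ _ => 1) (Matrix.of fun _ _ => 1) :=
          ⟨fun _ _ => rfl, fun _ _ => rfl, by ext i j; simp [Matrix.mul_apply, Matrix.one_apply,
            Subsingleton.elim i j], fun x => by simp [qr, mul_self_nonneg]⟩
        have := hpd.summable' hta (fun _ => I * b 0)
        rw [← (Equiv.funUnique (Fin 1) ℤ).symm.summable_iff] at this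
        refine this.congr fun y => ?_
        simp [qc, pow_two]
      have s2 := h.schur.summable ht (fun j => b' j + (I * (I * b 0) / a) * v j)
      refine Summable.of_norm ((s1.mul_of_nonneg s2 (fun _ => norm_nonneg _)
        (fun _ => norm_nonneg _)).congr fun p => ?_)
      simp only [Function.uncurry, H, norm_mul]
      congr 1
      rw [lc_add_smul, lc_add_smul]
      have h1 : lc v (fun i => (p.2 i : ℂ)) = ((∑ j : Fin n, A 0 j.succ * p.2 j : ℝ) : ℂ) := by
        simp [lc, hv]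
      have h2 : -π * t * qc (schur A) (fun i => (p.2 i : ℂ)) + 2 * π * (lc b' (fun i => (p.2 i : ℂ)) +
          I * ((p.1 : ℂ) + I * b 0) / a * lc v (fun i => (p.2 i : ℂ))) =
          (-π * t * qc (schur A) (fun i => (p.2 i : ℂ)) + 2 * π * (lc b' (fun i => (p.2 i : ℂ)) +
          I * (I * b 0) / a * lc v (fun i => (p.2 i : ℂ)))) +
          ((2 * π * p.1 / A 0 0 * ∑ j : Fin n, A 0 j.succ * p.2 j : ℝ) : ℂ) * I := by
        rw [h1]; push_cast; ring
      rw [h2, exp_add _ (_ * I), norm_mul, norm_exp_ofReal_mul_I, mul_one]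
    -- left side
    have hL := (h.summable ht b).of_norm
    rw [← e.summable_iff] at hL
    simp only [Function.comp_def] at hL
    rw [← e.tsum_eq, hL.tsum_prod, ← (show Summable (Function.uncurry fun (x0 : ℤ) (x : Fin n → ℤ) =>
      cexp (-π * t * qc A (fun i => (e (x0, x) i : ℂ)) + 2 * π * lc b (fun i => (e (x0, x) i : ℂ))))
      from hL).tsum_comm]
    have hB : ∀ x : Fin n → ℤ, ∑' x0 : ℤ,
        cexp (-π * t * qc A (fun i => (e (x0, x) i : ℂ)) + 2 * π * lc b (fun i => (e (x0, x) i : ℂ))) =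
        1 / (t * a) ^ (1 / 2 : ℂ) * ∑' y : ℤ, H y x := by
      intro x
      have h1 := tsum_exp_neg_quadratic hta (b 0 - t * lc v (fun i => (x i : ℂ)))
      have h2 : ∀ x0 : ℤ,
          cexp (-π * t * qc A (fun i => (e (x0, x) i : ℂ)) + 2 * π * lc b (fun i => (e (x0, x) i : ℂ))) =
          cexp (-π * (t * a) * x0 ^ 2 + 2 * π * (b 0 - t * lc v (fun i => (x i : ℂ))) * x0) *
            cexp (-π * t * qc (low A) (fun i => (x i : ℂ)) + 2 * π * lc b' (fun i => (x i : ℂ))) := by
        intro x0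
        rw [← exp_add, qc_cons A h.sA]
        have h3 : lc b (fun i => (e (x0, x) i : ℂ)) = b 0 * x0 + lc b' (fun i => (x i : ℂ)) := by
          simp only [lc, Fin.sum_univ_succ, he0, hes, hb']
        rw [h3]
        simp only [he0, hes]
        congr 1; ring
      simp only [h2]
      rw [tsum_mul_right, h1, mul_assoc, ← tsum_mul_right]
      congr 1
      refine tsum_congr fun y => ?_
      simp only [H]
      rw [← exp_add, ← exp_add, lc_add_smul, qc_schur, ← hv, ← hadef]
      congr 1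
      field_simp
      ring_nf
      simp only [I_sq]
      ring
    simp only [hB]
    rw [tsum_mul_left, hH.tsum_comm]
    -- right side
    have hR := (h.summable' ht (fun i => I * b i)).of_norm
    rw [← e.summable_iff] at hR
    simp only [Function.comp_def] at hR
    rw [← e.tsum_eq, hR.tsum_prod]
    have hD : ∀ y0 : ℤ, ∑' x, H y0 x = κ * (1 / t ^ (1 / 2 : ℂ)) ^ n *
        ∑' y : Fin n → ℤ, cexp (-π / t * qc C (fun i => (e (y0, y) i : ℂ) + I * b i)) := by
      intro y0
      simp only [H]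
      rw [tsum_mul_left, hκ t ht, mul_left_comm, ← tsum_mul_left]
      congr 1
      refine tsum_congr fun y => ?_
      rw [← exp_add, h.qc_inv]
      simp only [he0, hes]
      congr 1
      have h4 : (fun i => (y i : ℂ) + I * (b' i + I * ((y0 : ℂ) + I * b 0) / a * v i)) =
          fun j => (y j : ℂ) + I * b j.succ + -((y0 : ℂ) + I * b 0) / a * (A 0 j.succ : ℂ) := by
        funext j
        simp only [hb', hv]
        ring_nf
        simp only [I_sq, I_pow_three]
        ring
      rw [h4, ← hadef]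
      generalize qc (low C) _ = z
      field_simp
      ring
    simp only [hD]
    rw [tsum_mul_left, cpow_half_mul ht0 ha]
    ring

end Cfsg.Lib.Layer.Theta
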