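import Cfsg.Agent.Lib.Layer.Theta2

set_option autoImplicit false

open Complex Matrix
open scoped Real

namespace Cfsg.Lib.Layer.Theta

variable {n : ℕ}

lemma qr_int (B : Matrix (Fin n) (Fin n) ℤ) (x : Fin n → ℤ) :
    qr (B.map (Int.cast : ℤ → ℝ)) (fun i => (x i : ℝ)) = ((x ⬝ᵥ (B *ᵥ x) : ℤ) : ℝ) := by
  simp [qr, dotProduct, mulVec, Finset.mul_sum, mul_assoc]

lemma qc_int (B : Matrix (Fin n) (Fin n) ℤ) (x : Fin n → ℤ) :
    qc (B.map (Int.cast : ℤ → ℝ)) (fun i => (x i : ℂ)) = ((x ⬝ᵥ (B *ᵥ x) : ℤ) : ℂ) := by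
  simp [qc, dotProduct, mulVec, Finset.mul_sum, mul_assoc]

lemma qr_smul (A : Matrix (Fin n) (Fin n) ℝ) (s : ℝ) (x : Fin n → ℝ) :
    qr A (fun i => s * x i) = s ^ 2 * qr A x := by
  unfold qr
  simp only [Finset.mul_sum]
  refine Finset.sum_congr rfl fun i _ => Finset.sum_congr rfl fun j _ => by ring

lemma psd_of_int (B : Matrix (Fin n) (Fin n) ℤ) (hpos : ∀ x : Fin n → ℤ, 0 ≤ x ⬝ᵥ (B *ᵥ x))
    (x : Fin n → ℝ) : 0 ≤ qr (B.map (Int.cast : ℤ → ℝ)) x := by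
  have hd : DenseRange (fun q : Fin n → ℚ => fun i => (q i : ℝ)) :=
    DenseRange.piMap (fun _ => Rat.denseRange_cast)
  have hc : Continuous (qr (B.map (Int.cast : ℤ → ℝ))) := by
    unfold qr; fun_prop
  refine hd.induction_on x (isClosed_le continuous_const hc) fun q => ?_
  obtain ⟨d, hd⟩ := IsLocalization.exist_integer_multiples_of_finite (nonZeroDivisors ℤ) q
  choose z hz using hd
  have hd0 : ((d : ℤ) : ℝ) ≠ 0 := by exact_mod_cast nonZeroDivisors.coe_ne_zero d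
  have h1 : (fun i => (z i : ℝ)) = fun i => ((d : ℤ) : ℝ) * (q i : ℝ) := by
    funext i
    have := congrArg (fun r : ℚ => (r : ℝ)) (hz i)
    simpa using this
  have h2 := qr_int B z
  rw [h1, qr_smul] at h2
  have h3 : (0 : ℝ) ≤ ((z ⬝ᵥ (B *ᵥ z) : ℤ) : ℝ) := by exact_mod_cast hpos z
  rw [← h2] at h3
  exact (mul_nonneg_iff_of_pos_left (by positivity)).mp h3

lemma pd_of_int (B : Matrix (Fin n) (Fin n) ℤ) (hs : B.IsSymm)
    (hpos : ∀ x : Fin n → ℤ, 0 ≤ x ⬝ᵥ (B *ᵥ x)) (hdet : B.det = 1) :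
    PD (B.map (Int.cast : ℤ → ℝ)) (B.adjugate.map (Int.cast : ℤ → ℝ)) where
  sA := fun i j => by simp only [map_apply]; rw [hs.apply i j]
  sC := fun i j => by
    have : B.adjugate.IsSymm := by
      unfold Matrix.IsSymm; rw [adjugate_transpose, hs.eq]
    simp only [map_apply]; rw [this.apply i j]
  mul := by
    have := congrArg (fun M : Matrix (Fin n) (Fin n) ℤ => M.map (Int.castRingHom ℝ)) B.mul_adjugate
    simp only [hdet, one_smul, Matrix.map_mul] at this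
    rw [Matrix.map_one _ (map_zero _) (map_one _)] at this
    exact this
  psd := psd_of_int B hpos

/-- theta series as a function of `t = -iτ`. -/
noncomputable def th (B : Matrix (Fin n) (Fin n) ℤ) (t : ℂ) : ℂ :=
  ∑' x : Fin n → ℤ, cexp (-π * t * ((x ⬝ᵥ (B *ᵥ x) : ℤ) : ℂ))

lemma th_summable (B : Matrix (Fin n) (Fin n) ℤ) (hs : B.IsSymm)
    (hpos : ∀ x : Fin n → ℤ, 0 ≤ x ⬝ᵥ (B *ᵥ x)) (hdet : B.det = 1) {t : ℂ} (ht : 0 < t.re) :
    Summable fun x : Fin n → ℤ => ‖cexp (-π * t * ((x ⬝ᵥ (B *ᵥ x) : ℤ) : ℂ))‖ := by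
  have := (pd_of_int B hs hpos hdet).summable ht 0
  simpa only [qc_int, lc, Pi.zero_apply, zero_mul, Finset.sum_const_zero, mul_zero, add_zero]
    using this

lemma th_inv (B : Matrix (Fin n) (Fin n) ℤ) (hs : B.IsSymm)
    (hpos : ∀ x : Fin n → ℤ, 0 ≤ x ⬝ᵥ (B *ᵥ x)) (hdet : B.det = 1) {t : ℂ} (ht : 0 < t.re) :
    th B t = (1 / t ^ (1 / 2 : ℂ)) ^ n * th B t⁻¹ := by
  obtain ⟨κ, hκ⟩ := poisson n _ _ (pd_of_int B hs hpos hdet)
  have h1 : B * B.adjugate = 1 := by rw [B.mul_adjugate, hdet, one_smul]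
  have h2 : B.adjugate * B = 1 := by rw [B.adjugate_mul, hdet, one_smul]
  let e : (Fin n → ℤ) ≃ (Fin n → ℤ) :=
    ⟨fun x => B *ᵥ x, fun y => B.adjugate *ᵥ y, fun x => by simp [mulVec_mulVec, h2],
      fun y => by simp [mulVec_mulVec, h1]⟩
  have key : ∀ t : ℂ, 0 < t.re → th B t = κ * (1 / t ^ (1 / 2 : ℂ)) ^ n * th B t⁻¹ := by
    intro t ht
    have := hκ t ht 0
    simp only [qc_int, lc, Pi.zero_apply, zero_mul, Finset.sum_const_zero, mul_zero, add_zero]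
      at this
    unfold th
    rw [this, ← e.tsum_eq]
    congr 1
    refine tsum_congr fun x => ?_
    have h3 : e x ⬝ᵥ (B.adjugate *ᵥ e x) = x ⬝ᵥ (B *ᵥ x) := by
      change (B *ᵥ x) ⬝ᵥ (B.adjugate *ᵥ (B *ᵥ x)) = _
      rw [mulVec_mulVec, h2, one_mulVec, dotProduct_comm]
    rw [h3, div_eq_mul_inv]
  have h4 : th B 1 ≠ 0 := by
    have h5 : th B 1 = ((∑' x : Fin n → ℤ, Real.exp (-π * ((x ⬝ᵥ (B *ᵥ x) : ℤ) : ℝ)) : ℝ) : ℂ) := by
      unfold th; push_cast; simp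
    have h6 : Summable fun x : Fin n → ℤ => Real.exp (-π * ((x ⬝ᵥ (B *ᵥ x) : ℤ) : ℝ)) := by
      refine (th_summable B hs hpos hdet (t := 1) (by simp)).congr fun x => ?_
      rw [norm_exp]; simp
    rw [h5]
    exact_mod_cast (h6.tsum_pos (fun _ => (Real.exp_pos _).le) 0 (Real.exp_pos _)).ne'
  have h7 := key 1 (by simp)
  simp only [one_cpow, div_one, one_pow, mul_one, inv_one] at h7
  have h8 : κ = 1 := by
    have : (κ - 1) * th B 1 = 0 := by linear_combination -h7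
    exact sub_eq_zero.mp ((mul_eq_zero.mp this).resolve_right h4)
  rw [key t ht, h8, one_mul]

end Cfsg.Lib.Layer.Theta
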