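import Cfsg.Agent.Lib.Layer.Theta3

set_option autoImplicit false

open Complex Matrix SlashInvariantForm MatrixGroups ModularForm EisensteinSeries
open UpperHalfPlane hiding I
open scoped Real

namespace Cfsg.Lib.Layer.Theta

structure EU (B : Matrix (Fin 24) (Fin 24) ℤ) : Prop where
  hs : B.IsSymm
  hpos : ∀ x : Fin 24 → ℤ, 0 ≤ x ⬝ᵥ (B *ᵥ x)
  hdet : B.det = 1
  heven : ∀ x : Fin 24 → ℤ, (2 : ℤ) ∣ x ⬝ᵥ (B *ᵥ x)

variable {B : Matrix (Fin 24) (Fin 24) ℤ}

noncomputable def Th (B : Matrix (Fin 24) (Fin 24) ℤ) (τ : ℍ) : ℂ := th B (-I * τ)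

lemma re_pos (τ : ℍ) : 0 < (-I * (τ : ℂ)).re := by simpa using τ.im_pos

/-- half norm -/
def hn (B : Matrix (Fin 24) (Fin 24) ℤ) (x : Fin 24 → ℤ) : ℕ := (x ⬝ᵥ (B *ᵥ x) / 2).toNat

lemma EU.hn_eq (h : EU B) (x : Fin 24 → ℤ) : x ⬝ᵥ (B *ᵥ x) = 2 * (hn B x : ℤ) := by
  have h1 := h.hpos x
  have h2 := h.heven x
  unfold hn; omega

lemma EU.term (h : EU B) (τ : ℂ) (x : Fin 24 → ℤ) :
    cexp (-π * (-I * τ) * ((x ⬝ᵥ (B *ᵥ x) : ℤ) : ℂ)) = Function.Periodic.qParam 1 τ ^ hn B x := by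
  rw [h.hn_eq, Function.Periodic.qParam, ← exp_nat_mul]
  congr 1; push_cast; ring

lemma EU.hasSum (h : EU B) (τ : ℍ) :
    HasSum (fun m : ℕ => (({x | hn B x = m}.ncard : ℕ) : ℂ) • Function.Periodic.qParam 1 τ ^ m)
      (Th B τ) := by
  have h1 := th_summable B h.hs h.hpos h.hdet (re_pos τ)
  have h2 : HasSum (fun x => Function.Periodic.qParam 1 τ ^ hn B x) (Th B τ) := by
    have := h1.of_norm.hasSum
    simp only [h.term] at this
    unfold Th th
    simpa only [h.term] using this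
  simp only [h.term] at h1
  rw [← (Equiv.sigmaFiberEquiv (hn B)).hasSum_iff] at h2
  rw [← (Equiv.sigmaFiberEquiv (hn B)).summable_iff] at h1
  refine h2.sigma fun m => ?_
  have h3 : Summable fun _ : {x // hn B x = m} => ‖Function.Periodic.qParam 1 (τ : ℂ) ^ m‖ := by
    refine (h1.sigma_factor m).congr fun x => ?_
    simp [Equiv.sigmaFiberEquiv, x.2]
  have : Finite {x // hn B x = m} := Finite.of_summable_const
    (norm_pos_iff.mpr (pow_ne_zero _ (Function.Periodic.qParam_ne_zero _))) h3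
  have := Fintype.ofFinite {x // hn B x = m}
  have h4 := hasSum_fintype (fun _ : {x // hn B x = m} => Function.Periodic.qParam 1 (τ : ℂ) ^ m)
  have h5 : {x | hn B x = m}.ncard = Fintype.card {x // hn B x = m} := by
    rw [← Nat.card_coe_set_eq, ← Nat.card_eq_fintype_card]; rfl
  rw [h5]
  convert h4 using 1
  · funext x; simp [Equiv.sigmaFiberEquiv, x.2]
  · simp

lemma EU.T_inv (h : EU B) : (Th B ∣[(12 : ℤ)] ModularGroup.T) = Th B := by
  ext z
  rw [SL_slash_apply, modular_T_smul]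
  have : Th B ((1 : ℝ) +ᵥ z) = Th B z := by
    refine (h.hasSum _).unique ?_
    have h1 : Function.Periodic.qParam 1 (((1 : ℝ) +ᵥ z : ℍ) : ℂ) = Function.Periodic.qParam 1 z := by
      simp only [Function.Periodic.qParam, coe_vadd]
      rw [← exp_periodic (2 * π * I * z / (1 : ℝ))]
      congr 1; push_cast; ring
    rw [h1]; exact h.hasSum z
  rw [this]
  have hd : denom ModularGroup.T z = 1 := by
    rw [ModularGroup.denom_apply, ModularGroup.coe_T]; simp
  rw [hd]; simp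

lemma EU.S_inv (h : EU B) : (Th B ∣[(12 : ℤ)] ModularGroup.S) = Th B := by
  ext z
  have hz := z.ne_zero
  suffices th B (-I * (-(z : ℂ))⁻¹) * ((z : ℂ) ^ 12)⁻¹ = th B (-I * z) by
    rw [SL_slash_apply, UpperHalfPlane.modular_S_smul, ModularGroup.denom_S]
    simpa [Th] using this
  have ht : -I * (z : ℂ) ≠ 0 := mul_ne_zero (neg_ne_zero.mpr I_ne_zero) hz
  rw [th_inv B h.hs h.hpos h.hdet (re_pos z)]
  have h1 : (-I * (z : ℂ))⁻¹ = -I * (-(z : ℂ))⁻¹ := by
    rw [mul_inv, inv_neg, inv_I, inv_neg]; ring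
  have h2 : ((-I * (z : ℂ)) ^ (1 / 2 : ℂ)) ^ 24 = (z : ℂ) ^ 12 := by
    rw [show 24 = 2 * 12 from rfl, pow_mul, show (1 / 2 : ℂ) = ((2 : ℕ) : ℂ)⁻¹ by norm_num,
      cpow_nat_inv_pow _ two_ne_zero, mul_pow, show (-I) ^ 12 = 1 by
        rw [show 12 = 2 * 6 from rfl, pow_mul, neg_sq, I_sq]; norm_num, one_mul]
  rw [h1, div_pow, h2]; ring

lemma EU.holo (h : EU B) : DifferentiableOn ℂ (Th B ∘ ofComplex) {z | 0 < z.im} := by
  have key : ∀ z : ℂ, 0 < z.im → DifferentiableAt ℂ (fun w : ℂ => th B (-I * w)) z := by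
    intro z hz
    have hU : IsOpen {w : ℂ | z.im / 2 < w.im} := isOpen_lt continuous_const continuous_im
    have h1 := th_summable B h.hs h.hpos h.hdet (t := ((z.im / 2 : ℝ) : ℂ)) (by simpa using hz)
    have h2 := differentiableOn_tsum_of_summable_norm (U := {w : ℂ | z.im / 2 < w.im})
      (F := fun (x : Fin 24 → ℤ) (w : ℂ) => cexp (-π * (-I * w) * ((x ⬝ᵥ (B *ᵥ x) : ℤ) : ℂ))) h1
      (fun x => by fun_prop) hU (fun x w hw => by
        rw [norm_exp, norm_exp, Real.exp_le_exp]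
        have h3 : (0 : ℝ) ≤ ((x ⬝ᵥ (B *ᵥ x) : ℤ) : ℝ) := by exact_mod_cast h.hpos x
        have h4 : z.im / 2 < w.im := hw
        generalize (x ⬝ᵥ (B *ᵥ x) : ℤ) = N at h3
        simp only [neg_mul, mul_neg, neg_neg, mul_re, ofReal_re, Complex.I_re, zero_mul, Complex.I_im, one_mul,
          zero_sub, ofReal_im, mul_im, zero_add, intCast_re, intCast_im, mul_zero, sub_zero, neg_re,
          add_zero]
        have := mul_nonneg (mul_nonneg Real.pi_pos.le h3) (sub_pos.mpr h4).le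
        nlinarith)
    exact h2.differentiableAt (hU.mem_nhds (by simp only [Set.mem_ofPred_eq]; linarith))
  refine DifferentiableOn.congr (fun z hz => (key z hz).differentiableWithinAt) fun z hz => ?_
  simp [Th, ofComplex_apply_of_im_pos hz]

noncomputable def EU.mf (h : EU B) : ModularForm 𝒮ℒ 12 where
  toFun := Th B
  slash_action_eq' A hA := by
    obtain ⟨A, rfl⟩ := hA
    exact slash_action_generators_SL2Z h.S_inv h.T_inv A
  holo' := by
    rw [UpperHalfPlane.mdifferentiable_iff]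
    exact h.holo
  bdd_at_cusps' hc := by
    rw [OnePoint.isBoundedAt_iff_forall_SL2Z hc]
    intro γ _
    rw [slash_action_generators_SL2Z h.S_inv h.T_inv]
    exact isBoundedAtImInfty_of_hasSum_qExpansion one_pos h.hasSum

lemma EU.coeff (h : EU B) (m : ℕ) :
    (qExpansion 1 h.mf).coeff m = (({x | hn B x = m}.ncard : ℕ) : ℂ) :=
  (ModularFormClass.qExpansion_coeff_unique one_pos one_mem_strictPeriods_SL (f := h.mf)
    h.hasSum m).symm

noncomputable def leechForm : ModularForm 𝒮ℒ 12 :=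
  (7 / 12 : ℂ) • ModularForm.mcast (by decide) (E₄.pow 3) +
    (5 / 12 : ℂ) • ModularForm.mcast (by decide) (E₆.pow 2)

lemma leechForm_q : qExpansion 1 leechForm =
    (7 / 12 : ℂ) • (qExpansion 1 E₄ * qExpansion 1 E₄ * qExpansion 1 E₄) +
      (5 / 12 : ℂ) • (qExpansion 1 E₆ * qExpansion 1 E₆) := by
  unfold leechForm
  rw [FunLike.coe_add, ModularForm.qExpansion_add one_pos one_mem_strictPeriods_SL,
    FunLike.coe_smul, FunLike.coe_smul,
    ModularForm.qExpansion_smul one_pos one_mem_strictPeriods_SL,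
    ModularForm.qExpansion_smul one_pos one_mem_strictPeriods_SL]
  simp only [coe_mcast, ModularForm.qExpansion_pow one_pos one_mem_strictPeriods_SL]
  ring_nf

lemma E4_coeff : (qExpansion 1 E₄).coeff 0 = 1 ∧ (qExpansion 1 E₄).coeff 1 = 240 ∧
    (qExpansion 1 E₄).coeff 2 = 2160 ∧ (qExpansion 1 E₄).coeff 3 = 6720 ∧
    (qExpansion 1 E₄).coeff 4 = 17520 := by
  have h2 : ArithmeticFunction.sigma 3 2 = 9 := by decide +kernel
  have h3 : ArithmeticFunction.sigma 3 3 = 28 := by decide +kernel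
  have h4 : ArithmeticFunction.sigma 3 4 = 73 := by decide +kernel
  norm_num [E_qExpansion_coeff _ ⟨2, rfl⟩, show bernoulli 4 = -1 / 30 by decide +kernel, h2, h3, h4]

lemma E6_coeff : (qExpansion 1 E₆).coeff 0 = 1 ∧ (qExpansion 1 E₆).coeff 1 = -504 ∧
    (qExpansion 1 E₆).coeff 2 = -16632 ∧ (qExpansion 1 E₆).coeff 3 = -122976 ∧
    (qExpansion 1 E₆).coeff 4 = -532728 := by
  have h2 : ArithmeticFunction.sigma 5 2 = 33 := by decide +kernel
  have h3 : ArithmeticFunction.sigma 5 3 = 244 := by decide +kernel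
  have h4 : ArithmeticFunction.sigma 5 4 = 1057 := by decide +kernel
  norm_num [E_qExpansion_coeff _ ⟨3, rfl⟩, show bernoulli 6 = 1 / 42 by decide +kernel, h2, h3, h4]

lemma leech_coeff : (qExpansion 1 leechForm).coeff 0 = 1 ∧ (qExpansion 1 leechForm).coeff 1 = 0 ∧
    (qExpansion 1 leechForm).coeff 2 = 196560 ∧ (qExpansion 1 leechForm).coeff 3 = 16773120 ∧
    (qExpansion 1 leechForm).coeff 4 = 398034000 := by
  obtain ⟨a0, a1, a2, a3, a4⟩ := E4_coeff
  obtain ⟨b0, b1, b2, b3, b4⟩ := E6_coeff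
  rw [leechForm_q]
  norm_num [PowerSeries.coeff_mul, Finset.Nat.antidiagonal_succ, a0, a1, a2, a3, a4, b0, b1, b2,
    b3, b4, -PowerSeries.coeff_zero_eq_constantCoeff]

lemma EU.eq_leech (h : EU B) (h0 : {x | hn B x = 0}.ncard = 1) (h1 : {x | hn B x = 1}.ncard = 0) :
    h.mf = leechForm := by
  rw [← sub_eq_zero]
  apply sturm_bound_levelOne
  rw [FunLike.coe_sub, ModularForm.qExpansion_sub one_pos one_mem_strictPeriods_SL]
  refine lt_of_lt_of_le (b := ((2 : ℕ) : ℕ∞)) (by decide) (PowerSeries.nat_le_order _ 2 fun i hi => ?_)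
  interval_cases i
  · rw [map_sub, h.coeff, h0, leech_coeff.1]; simp
  · rw [map_sub, h.coeff, h1, leech_coeff.2.1]; simp

end Cfsg.Lib.Layer.Theta
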