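import Cfsg.Agent.Lib.Amalg.RelNorm
import Cfsg.Agent.Lib.BG1.AppA
import Cfsg.Agent.Lib.Layer.Misc

/-! The weakly closed elements of a Sylow subgroup as a direct factor of its centre. -/

set_option autoImplicit false

namespace Cfsg.Lib.Layer
open Subgroup Cfsg.Lib.Core Cfsg.Lib.Amalg Cfsg.Lib.BG1

variable {G : Type*} [Group G] [Finite G] {p : ℕ} [Fact p.Prime] {S Q : Subgroup G}

theorem wc_split (hS : Syl p S ⊤) (hQ : Q ≤ S) (hn : S ≤ 𝐍 Q) (hZ : S ⊓ 𝐂 S ≤ Q)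
    (h : ∀ x ∈ Q ⊓ 𝐂 (𝐍 Q), ∀ g : G, g * x * g⁻¹ ∈ S → g * x * g⁻¹ = x) :
    ∃ W K : Subgroup G, (∀ x : G, x ∈ W ↔ (x ∈ S ∧ ∀ g : G, g * x * g⁻¹ ∈ S → g * x * g⁻¹ = x)) ∧
      K ≤ S ⊓ 𝐂 S ∧ W ⊓ K = ⊥ ∧ W ⊔ K = S ⊓ 𝐂 S := by
  obtain ⟨K, h1, h2, -, -⟩ := exists_relNorm_compl (p := p) (S := S) (D := 𝐍 Q) (isMulCommutative_inf_cent Q)
    (hS.isPGroup.to_le (inf_le_left.trans hQ)) hn
    (le_normalizer_inf le_rfl (normalizer_le_normalizer_centralizer Q))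
    (hS.of_le hn le_top).not_dvd_relIndex
  have e : Q ⊓ 𝐂 Q ⊓ 𝐂 S = S ⊓ 𝐂 S :=
    le_antisymm (inf_le_inf_right _ (inf_le_left.trans hQ))
      (le_inf (le_inf hZ (inf_le_right.trans (centralizer_le hQ))) inf_le_right)
  rw [e] at h2
  refine ⟨Q ⊓ 𝐂 Q ⊓ 𝐂 (𝐍 Q), K, fun x => ⟨fun hx => ⟨hQ hx.1.1, h x ⟨hx.1.1, hx.2⟩⟩, fun hx => ?_⟩,
    h2 ▸ le_sup_right, ?_, h2⟩
  · have a : x ∈ 𝐂 S := mem_centralizer_iff.2 fun s hs => by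
      have := hx.2 s (S.mul_mem (S.mul_mem hs hx.1) (S.inv_mem hs))
      rw [mul_inv_eq_iff_eq_mul] at this; exact this
    have b : x ∈ Q := hZ ⟨hx.1, a⟩
    refine ⟨⟨b, centralizer_le hQ a⟩, mem_centralizer_iff.2 fun s hs => ?_⟩
    have := hx.2 s (hQ ((mem_normalizer_iff.1 hs x).1 b))
    rw [mul_inv_eq_iff_eq_mul] at this; exact this
  · rw [eq_bot_iff, ← h1]; exact le_inf inf_le_right (inf_le_left.trans inf_le_right)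

theorem wc_split_of_le (hS : Syl p S ⊤) (hZ : S ⊓ 𝐂 S ≤ pPrimePCoreOf p ⊤) :
    ∃ W K : Subgroup G, (∀ x : G, x ∈ W ↔ (x ∈ S ∧ ∀ g : G, g * x * g⁻¹ ∈ S → g * x * g⁻¹ = x)) ∧
      K ≤ S ⊓ 𝐂 S ∧ W ⊓ K = ⊥ ∧ W ⊔ K = S ⊓ 𝐂 S := by
  have hN := le_norm_pPrimePCoreOf_self p (⊤ : Subgroup G)
  have hT : Syl p (S ⊓ pPrimePCoreOf p ⊤) (pPrimePCoreOf p ⊤) := hS.inf_normal le_top hN
  refine wc_split hS (Q := S ⊓ pPrimePCoreOf p ⊤) inf_le_left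
    (le_normalizer_inf le_normalizer (le_top.trans hN)) (le_inf inf_le_left hZ) fun x hx g hg => ?_
  obtain ⟨n, hn, a, ha, rfl⟩ := hT.frattini_mem (hN (mem_top g))
  rw [← pPrimePCoreOf_eq_sup hT] at hn
  obtain ⟨u, hu, v, hv, rfl⟩ := (mem_sup_of_le_normalizer_left
    (le_top.trans (le_norm_piCoreOf_self _ _))).1 hn
  have c : v * a * x = x * (v * a) :=
    mem_centralizer_iff.1 hx.2 _ (mul_mem (le_normalizer hv) ha)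
  have e : u * v * a * x * (u * v * a)⁻¹ = u * x * u⁻¹ := by
    rw [mul_assoc u v a, mul_assoc u, c]; group
  rw [e] at hg ⊢
  have m : u * x * u⁻¹ * x⁻¹ ∈ S ⊓ 𝐎'[p](⊤) := ⟨S.mul_mem hg (S.inv_mem hx.1.1), by
    rw [mul_assoc, mul_assoc]
    refine mul_mem hu ?_
    rw [← mul_assoc]
    exact (mem_normalizer_iff.1 (le_norm_piCoreOf_self _ _ (mem_top x)) _).1 (inv_mem hu)⟩
  rw [isPGroup_eq_bot_of_not_dvd (hS.isPGroup.to_le inf_le_left) inf_le_right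
    (not_dvd_card_pPrimeCoreOf Fact.out _), mem_bot, mul_inv_eq_one] at m
  exact m

end Cfsg.Lib.Layer
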