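import Cfsg.Agent.Lib.Exc.G3b
import Cfsg.Agent.Lib.Block.Column
import Cfsg.Agent.Lib.Block2.Ker
import Cfsg.Agent.Lib.Block2.Frob
import Cfsg.Agent.Lib.Clifford.Amb

/-!
# Characters on the section of an involution with a 2-constrained centralizer
-/

set_option autoImplicit false
set_option linter.unusedSectionVars false

namespace Cfsg.Lib.Layer.Wong

open Cfsg Cfsg.Lib.Clifford Cfsg.Lib.Char Cfsg.Lib.Block Cfsg.Lib.Block2 Subgroup
open Cfsg.Lib.PF hiding mem_cent
open scoped ComplexConjugate Pointwise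

variable {G : Type*} [Group G] [Finite G]

theorem mem_zpowers_part {t g x : G} (ht : orderOf t = 2) (hx : IsPPart 2 g x) (h : t ∈ zpowers g) : t ∈ zpowers x := by
  obtain ⟨y, rfl, hc, ⟨k, hk⟩, hy⟩ := hx
  obtain ⟨n, hn⟩ := (mem_powers_iff_mem_zpowers.2 h :)
  simp only at hn
  have h1 : t ^ orderOf y = t := by
    obtain ⟨m, hm⟩ : Odd (orderOf y) := Nat.odd_iff.2 (by omega)
    rw [hm, pow_succ, pow_mul, ← ht, pow_orderOf_eq_one, one_pow, one_mul]
  rw [← h1, ← hn, ← pow_mul, hc.mul_pow, mul_comm n, pow_mul y, pow_orderOf_eq_one, one_pow, mul_one]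
  exact pow_mem (mem_zpowers x) _

/-- on the section of `t` an irreducible character is constant on `ker π`-cosets, or has zero averages -/
theorem dich {t : G} (ht : orderOf t = 2) {X : Type*} [Group X] [Finite X] (π : centralizer ({t} : Set G) →* X)
    (hs : Function.Surjective π) (ho : ¬ 2 ∣ Nat.card π.ker) {P : Subgroup X} [P.Normal] (hP : IsPGroup 2 P)
    (hC : centralizer (P : Set X) ≤ P) {χ : G → ℂ} (hχ : IsIrrCharacter G χ) [Fintype π.ker] :
    (∀ h : centralizer ({t} : Set G), t ∈ zpowers (h : G) → Nat.card π.ker * χ h = ∑ n : π.ker, χ (n * h)) ∨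
      ∀ h : centralizer ({t} : Set G), t ∈ zpowers (h : G) → ∑ n : π.ker, χ (n * h) = 0 := by
  classical
  have := Fact.mk Nat.prime_two
  obtain ⟨M, hM⟩ := exists_isPModular Nat.prime_two
  have := hM.2.1
  have := Fintype.ofFinite G
  have := Fintype.ofFinite (centralizer ({t} : Set G))
  have hB : principalBlock M (centralizer ({t} : Set G)) = {ψ | π.ker ≤ charKer ψ.1} := by
    ext ψ
    refine ⟨fun h => le_charKer_of_mem_principalBlock hM h ho, fun h => ?_⟩
    obtain ⟨φ, hφ, e⟩ := ψ.2.exists_comp_of_surjective π hs h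
    have := comp_mem_principalBlock (M := M) (ψ := ⟨φ, hφ⟩)
      (sameBlock_of_cent_le hM hP hC (principalIrr X) ⟨φ, hφ⟩) hs
    convert this using 1
    exact Subtype.ext e
  have key : ∀ h : centralizer ({t} : Set G), t ∈ zpowers (h : G) →
      Nat.card π.ker * blockPart (principalBlock M G) χ h = ∑ n : π.ker, χ (n * h) := fun h hh => by
    obtain ⟨x, hx⟩ := exists_isPPart Nat.prime_two (h : G)
    have h2 : centralizer ({x} : Set G) ≤ centralizer {t} := fun g hg => by
      obtain ⟨k, e⟩ := mem_zpowers_part ht hx hh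
      exact Invol.mem_cent.2 (e ▸ (Invol.mem_cent.1 hg).zpow_right k)
    have h1 := (allInd_centralizer_singleton hM ⟨1, ht⟩).blockPart_principal hM hx h2 hχ.isClassFunction
    rw [hB, blockPart_apply_eq_charExt _ (hχ.isClassFunction.restrict _), idem_le_charKer, charExt_mul_single] at h1
    rw [h1, Finset.mul_sum]
    symm
    refine Finset.sum_of_injOn (fun n : π.ker => (n : centralizer ({t} : Set G)))
      (fun a _ b _ e => Subtype.ext e) (fun _ _ => Finset.mem_univ _) (fun g _ hg => ?_) (fun n _ => ?_)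
    · rw [coeff_avgN_of_notMem, zero_mul, mul_zero]
      exact fun hm => hg ⟨⟨g, hm⟩, by simp, rfl⟩
    · rw [coeff_avgN_of_mem n.2, ← mul_assoc, mul_inv_cancel₀ (Clifford.card_ne_zero _), one_mul]
      rfl
  have hb : blockPart (principalBlock M G) χ = if (⟨χ, hχ⟩ : IrrCharacter G) ∈ principalBlock M G then χ else 0 := by
    refine (isClassFunction_blockPart _ _).ext_classInner (by
      split_ifs
      exacts [hχ.isClassFunction, isClassFunction_zero]) fun ψ hψ => ?_
    rw [classInner_blockPart _ _ ⟨ψ, hψ⟩]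
    by_cases e : χ = ψ
    · subst e
      split_ifs
      exacts [rfl, (classInner_zero_left _).symm]
    · have h0 : classInner χ ψ = 0 := by
        have := classInner_irr (⟨χ, hχ⟩ : IrrCharacter G) ⟨ψ, hψ⟩
        rwa [if_neg (fun h => e (congrArg Subtype.val h))] at this
      split_ifs <;> simp [h0, classInner_zero_left]
  by_cases h : (⟨χ, hχ⟩ : IrrCharacter G) ∈ principalBlock M G
  · rw [if_pos h] at hb
    exact Or.inl fun g hg => by rw [← key g hg, hb]
  · rw [if_neg h] at hb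
    exact Or.inr fun g hg => by rw [← key g hg, hb]; simp

/-- a character of small degree which is constant on the cosets `u B`, `1 ≠ u ∈ Q`, is trivial on `B` -/
theorem triv_of_const {χ : G → ℂ} (hχ : IsCharacter G χ) {Q B : Subgroup G} (hB : Odd (Nat.card B))
    (hBc : ∀ a ∈ B, ∀ b ∈ B, a * b = b * a) (hQB : Q ⊓ B = ⊥) (hc : ∀ u ∈ Q, ∀ b ∈ B, u * b = b * u)
    (hr : ∀ b ∈ B, χ b⁻¹ = χ b) (h : ∀ u ∈ Q, u ≠ 1 → ∀ b ∈ B, χ (u * b) = χ u)
    (hd : charDegree χ < 2 * Nat.card Q) : ∀ b ∈ B, χ b = χ 1 := by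
  classical
  have hχB := charOn_of_isCharacter hχ B
  have hcomp : IsComplIn Q B (Q ⊔ B) := ⟨le_sup_left, le_sup_right, hQB, fun m hm => by
    have : B ≤ normalizer (Q : Set G) := fun b hb => (mem_normalizer_iff).2 fun u => by
      constructor
      · intro hu; rwa [← hc u hu b hb, mul_inv_cancel_right]
      · intro hu
        have := hc _ hu b⁻¹ (inv_mem hb)
        rwa [show u = b * u * b⁻¹ by
          calc u = b⁻¹ * (b * u * b⁻¹) * b := by group
            _ = b * u * b⁻¹ := by rw [← this]; group]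
    have h2 : m ∈ ((Q : Set G) * (B : Set G)) := by rw [← coe_mul_of_right_le_normalizer_left _ _ this]; exact hm
    obtain ⟨a, ha, b, hb, e⟩ := h2
    exact ⟨a, ha, b, hb, e.symm⟩⟩
  obtain ⟨f, hf1, hf2⟩ := exists_proj hcomp (dprod_nrm hcomp hc)
  have key : ∀ θ ∈ Irr B, θ ≠ cut B 1 → Nat.card Q ∣ mult B χ θ := fun θ hθ h1 => by
    have h2 := (charOn_of_isCharacter hχ (Q ⊔ B)).dot_eq_mult (morph_charOn f hf1 (irrOn_of_mem hθ).charOn)
    have h3 := sum_elems_prod le_sup_left le_sup_right hcomp.2.2.2 fun x => χ x * conj (morph f θ x)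
    have h4 : ∑ b ∈ elems B, conj (θ b) = 0 := by
      have := dot_irr_of_ne (cut_one_mem B) hθ (Ne.symm h1)
      rw [dot_cut_left, dot] at this
      simpa [Nat.card_pos.ne'] using this
    rw [hQB, Finset.sum_eq_single_of_mem 1 (mem_elems.2 (one_mem Q)) (fun u hu h1 => by
      rw [Finset.sum_congr rfl (g := fun b => χ u * conj (θ b)) fun b hb => by
        have hm : u * b ∈ Q ⊔ B := mul_mem_sup (mem_elems.1 hu) (mem_elems.1 hb)
        rw [h u (mem_elems.1 hu) h1 b (mem_elems.1 hb), morph_of_mem _ _ hm,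
          hf2 ⟨_, hm⟩ u (mem_elems.1 hu) b (mem_elems.1 hb) rfl], ← Finset.mul_sum, h4, mul_zero]),
      Finset.sum_congr rfl (g := fun b => χ b * conj (θ b)) fun b hb => by
        have hm : 1 * b ∈ Q ⊔ B := mul_mem_sup (one_mem Q) (mem_elems.1 hb)
        rw [morph_of_mem _ _ hm, hf2 ⟨_, hm⟩ 1 (one_mem Q) b (mem_elems.1 hb) rfl, one_mul]] at h3
    have h5 := hχB.dot_eq_mult (irrOn_of_mem hθ).charOn
    have h6 := card_mul_card_of_prod le_sup_left le_sup_right hcomp.2.2.2
    rw [hQB] at h6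
    simp only [Subgroup.card_bot, Nat.cast_one, one_mul] at h3 h6
    rw [dot] at h2 h5
    rw [← h3, ← h6] at h2
    refine ⟨mult (Q ⊔ B) χ (morph f θ), ?_⟩
    have n1 := Clifford.card_ne_zero Q
    have n2 := Clifford.card_ne_zero B
    have : (mult B χ θ : ℂ) = Nat.card Q * mult (Q ⊔ B) χ (morph f θ) := by
      rw [← h2, ← h5]; push_cast; field_simp
    exact_mod_cast this
  have deg : ∀ θ ∈ Irr B, θ 1 = 1 := fun θ hθ => (irrOn_of_mem hθ).degree_one_of_comm hBc
  have hsum : charDegree χ = ∑ θ ∈ Irr B, mult B χ θ := by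
    have := hχB.classOn.eq_sum (one_mem B)
    rw [hχB.one_eq, Finset.sum_congr rfl (g := fun θ => (mult B χ θ : ℂ)) fun θ hθ => by
      rw [deg θ hθ, mul_one, hχB.dot_eq_mult (irrOn_of_mem hθ).charOn]] at this
    exact_mod_cast this
  have z : ∀ θ ∈ Irr B, θ ≠ cut B 1 → mult B χ θ = 0 := fun θ hθ h1 => by
    by_contra h0
    have hs : star θ ∈ Irr B := star_mem_Irr hθ
    have hne : star θ ≠ θ := fun e => h1 (irr_eq_one_iff hθ |>.2
      ((irrOn_of_mem hθ).eq_one_of_odd hB fun x _ => congrFun e x))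
    have he : mult B χ (star θ) = mult B χ θ := by
      have h1 : dot B χ (star θ) = dot B χ θ := by
        rw [dot, dot, ← sum_elems_inv]
        congr 1
        refine Finset.sum_congr rfl fun x hx => ?_
        rw [hr x (mem_elems.1 hx), Pi.star_apply, (irrOn_of_mem hθ).charOn.apply_inv (mem_elems.1 hx)]
        simp
      rw [hχB.dot_eq_mult (irrOn_of_mem hθ).charOn, hχB.dot_eq_mult (irrOn_of_mem hs).charOn] at h1
      exact_mod_cast h1
    have h2 := Nat.le_of_dvd (Nat.pos_of_ne_zero h0) (key θ hθ h1)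
    have h3 : ∑ θ' ∈ ({star θ, θ} : Finset _), mult B χ θ' ≤ ∑ θ ∈ Irr B, mult B χ θ :=
      Finset.sum_le_sum_of_subset (by simp [Finset.insert_subset_iff, hs, hθ])
    rw [Finset.sum_pair hne] at h3
    omega
  have fin : ∀ b ∈ B, χ b = dot B χ (cut B 1) := fun b hb => by
    rw [hχB.classOn.eq_sum hb, Finset.sum_eq_single_of_mem _ (cut_one_mem B) fun θ hθ h1 => by
      rw [hχB.dot_eq_mult (irrOn_of_mem hθ).charOn, z θ hθ h1]; simp, cut_of_mem _ hb]
    simp
  exact fun b hb => by rw [fin b hb, fin 1 (one_mem B)]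

end Cfsg.Lib.Layer.Wong
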