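import Cfsg.Agent.Lib.Layer.Wong1

/-!
# An involution centralizer `C` with `C/O(C) ≅ GL₂(3)` and `O(C)` inverted by the other involutions has `O(C) = 1`
-/

set_option autoImplicit false
set_option maxRecDepth 100000
set_option linter.unusedSectionVars false

namespace Cfsg.Lib.Layer.Wong

open Cfsg Cfsg.Lib.Clifford Cfsg.Lib.Char Cfsg.Lib.Invol Cfsg.Lib.Transfer Cfsg.Lib.Exc Cfsg.Lib.Exc.G3 Subgroup
open Cfsg.Lib.PF hiding mem_cent
open scoped ComplexConjugate

variable {G : Type*} [Group G] [Finite G]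

theorem card_comp {H X : Type*} [Group H] [Finite H] [Group X] [Finite X] (f : H →* X) (hf : Function.Surjective f)
    (P : X → Prop) : Nat.card {u // P (f u)} = Nat.card f.ker * Nat.card {m // P m} := by
  classical
  have := Fintype.ofFinite {m // P m}
  rw [← Nat.card_congr (Equiv.sigmaSubtypeFiberEquivSubtype f (p := fun u => P (f u)) (q := P) fun _ => Iff.rfl),
    Nat.card_sigma, Finset.sum_congr rfl (g := fun _ => Nat.card f.ker) fun m _ =>
      Nat.card_congr (f.fiberEquivKerOfSurjective hf m.1), Finset.sum_const, Finset.card_univ, smul_eq_mul, mul_comm,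
    Nat.card_eq_fintype_card (α := {m // P m})]

/-- the quaternion subgroup -/
def Q8 : Subgroup M where
  carrier := {g | g.det = 1 ∧ g * g * (g * g) = 1}
  mul_mem' := fun {g k} => by revert g k; decide +kernel
  one_mem' := by decide
  inv_mem' := fun {g} => by revert g; decide +kernel

instance : DecidablePred (· ∈ Q8) := fun g => inferInstanceAs (Decidable (g.det = 1 ∧ g * g * (g * g) = 1))
instance : Q8.Normal := ⟨by decide +kernel⟩
theorem card_Q8 : Nat.card Q8 = 8 := by rw [Nat.card_eq_fintype_card]; decide +kernel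
theorem cent_Q8 : centralizer (Q8 : Set M) ≤ Q8 := fun g hg =>
  (by decide +kernel : ∀ g : M, (∀ k ∈ Q8, k * g = g * k) → g ∈ Q8) g hg

/-- `π` maps the centralizer of the involution `t` onto `GL₂(3)` with kernel of odd order -/
structure RG (t : G) (π : centralizer ({t} : Set G) →* M) : Prop where
  two : orderOf t = 2
  surj : Function.Surjective π
  odd : Odd (Nat.card π.ker)
  one : ∀ u, orderOf u = 2 → IsConj t u
  cos : ∀ u, π u * π u = 1 → π u ≠ 1 → π u ≠ z → u * u = 1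
  syl : ∃ S : Subgroup G, SylowIn 2 S ⊤ ∧ normalizer (S : Set G) ≤ centralizer {t}
  core : ∀ N : Subgroup G, N.Normal → Odd (Nat.card N) → N = ⊥

/-- `t` as an element of its centralizer -/
abbrev tt (t : G) : centralizer ({t} : Set G) := ⟨t, mem_cent.2 (Commute.refl t)⟩

namespace RG

variable {t : G} {π : centralizer ({t} : Set G) →* M} (h : RG t π)
include h

theorem odd_ord {a : centralizer ({t} : Set G)} (ha : π a = 1) : Odd (orderOf a) :=
  h.odd.of_dvd_nat (π.ker.orderOf_dvd_natCard ha)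

theorem ne_one {u : centralizer ({t} : Set G)} (hu : orderOf (u : G) = 2) : π u ≠ 1 := fun e => by
  have := h.odd_ord e
  rw [← orderOf_coe, hu] at this
  exact absurd this (by decide)

omit h in
theorem comm (u : centralizer ({t} : Set G)) : Commute u (tt t) := Subtype.ext (mem_cent.1 u.2).eq

theorem pz : π (tt t) = z := (center_M _ fun k => by
  obtain ⟨u, rfl⟩ := h.surj k
  exact ((comm u).map π).eq).resolve_left (h.ne_one h.two)

theorem tt_sq : tt t * tt t = 1 := Subtype.ext (mul_self_of_two h.two)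

theorem mem_D {u : centralizer ({t} : Set G)} : t ∈ zpowers (u : G) ↔ Dm (π u) := by
  rw [dm_iff]
  constructor
  · rintro ⟨k, e⟩
    exact ⟨k, by simp only [← map_zpow, ← h.pz]; exact congrArg π (Subtype.ext e)⟩
  · rintro ⟨k, e⟩
    have h1 : π (tt t * u ^ k) = 1 := by rw [map_mul, map_zpow, h.pz]; simp only at e; rw [e]; decide
    obtain ⟨m, hm⟩ := h.odd_ord h1
    have h2 := pow_orderOf_eq_one (tt t * u ^ k)
    rw [(comm _).symm.mul_pow, hm, pow_succ, pow_mul, sq, h.tt_sq, one_pow, one_mul, ← hm] at h2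
    have h3 : (u ^ k) ^ orderOf (tt t * u ^ k) = tt t := by
      rw [← inv_eq_of_mul_eq_one_right h2, inv_eq_of_mul_eq_one_right h.tt_sq]
    have h4 : tt t ∈ zpowers u := h3 ▸ pow_mem (zpow_mem (mem_zpowers u) k) _
    obtain ⟨j, e⟩ := h4
    exact ⟨j, congrArg Subtype.val e⟩

omit h in
theorem mem_C {x : G} (hx : t ∈ zpowers x) : x ∈ centralizer ({t} : Set G) := by
  obtain ⟨k, e⟩ := hx
  exact mem_cent.2 (e ▸ Commute.self_zpow x k)

theorem ti : NormedTI {x | t ∈ zpowers x} ⊤ (centralizer {t}) := by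
  refine ⟨⟨_, mem_zpowers _⟩, le_top, fun a ha g _ => ?_⟩
  have h1 : g * t * g⁻¹ ∈ zpowers (g * a * g⁻¹) := by
    obtain ⟨k, e⟩ := ha
    exact ⟨k, by simp only [← e, conj_zpow]⟩
  rw [mem_cent]
  exact ⟨fun e => mul_inv_eq_iff_eq_mul.1 (eq_of_mem_zpowers h1 e (by rw [orderOf_conj, h.two]) h.two),
    fun e => by rwa [e.eq, mul_inv_cancel_right] at h1⟩

theorem card_C : Nat.card (centralizer ({t} : Set G)) = 48 * Nat.card π.ker := by
  rw [← π.ker.card_mul_index, index_ker, MonoidHom.range_eq_top.2 h.surj, card_top, card_M, mul_comm]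

theorem odd_ix : Odd (ix t) := Nat.not_even_iff_odd.1 fun e => by
  obtain ⟨S, hS, h1⟩ := h.syl
  exact hS.3 (by rw [relIndex_top_right]; exact e.two_dvd.trans (index_dvd_of_le (le_normalizer.trans h1)))

theorem dot_e (φ ψ : M → ℂ) : dot (centralizer {t}) (morph π φ) (morph π ψ) = dot ⊤ φ ψ := by
  rw [dot_morph, MonoidHom.range_eq_top.2 h.surj]

theorem al_vcon (i : Fin 5) : morph π (ι ∘ al i) ∈ VCon (centralizer {t}) {x | t ∈ zpowers x} := by
  refine ⟨morph_vc _ (fun _ => mem_top _) (v_al i).1, fun x hx => ?_⟩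
  by_cases h1 : x ∈ centralizer ({t} : Set G)
  · rw [morph_of_mem _ _ h1, Function.comp_apply, al_zero i _ fun e => hx ((h.mem_D (u := ⟨x, h1⟩)).2 e), map_zero]
  · exact morph_of_notMem _ _ h1

/-- the induced virtual characters -/
noncomputable def be (_ : RG t π) (i : Fin 5) : G → ℂ := ind (centralizer {t}) ⊤ (morph π (ι ∘ al i))

theorem be_vc (i : Fin 5) : h.be i ∈ VC (⊤ : Subgroup G) := vc_ind le_top (h.al_vcon i).1

theorem be_one (i : Fin 5) : h.be i 1 = 0 := by
  rw [be, ind_one le_top, morph_at_one, Function.comp_apply, al_zero i 1 (by decide), map_zero, mul_zero]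

theorem be_gram (i j : Fin 5) : dot ⊤ (h.be i) (h.be j) = gram i j := by
  rw [be, be, h.ti.dot_ind (vcon_cfon (h.al_vcon i)) (vcon_cfon (h.al_vcon j)), h.dot_e, dot_ι _ _ (al_gram i j)]

theorem be_dot (i : Fin 5) {χ : G → ℂ} (hχ : χ ∈ CF (⊤ : Subgroup G)) {ψ : M → R} (c : ℕ)
    (e : ∀ u : centralizer ({t} : Set G), Dm (π u) → χ u = c * ι (ψ (π u)))
    {n : ℤ} (hn : ∑ g, al i g * star (ψ g) = 48 * n) : dot ⊤ (h.be i) χ = c * n := by
  rw [be, dot_ind_cf le_top _ hχ, ← dot_ι _ _ hn, ← h.dot_e, ← Complex.conj_natCast, ← dot_smul_right]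
  refine dot_congr_on (fun x _ => (h.al_vcon i).2 x) fun x hx => ?_
  rw [Pi.smul_apply, morph_of_mem _ _ (mem_C hx), e ⟨x, mem_C hx⟩ (h.mem_D.1 hx)]
  rfl

theorem pairCount_eq {u : centralizer ({t} : Set G)} (hu : Dm (π u)) :
    pairCount t t u = Nat.card π.ker * pc (π u) := by
  rw [pc, ← card_eq_filter, pairCount, ← card_comp π h.surj]
  have key : ∀ w : centralizer ({t} : Set G), π w * π w = 1 ∧ π w ≠ 1 → π w ≠ z → IsConj t w := fun w h1 h2 =>
    h.one _ (two_of_mul_self (congrArg Subtype.val (h.cos w h1.1 h1.2 h2)) fun e => h1.2 (by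
      rw [show w = 1 from Subtype.ext e, map_one]))
  have ord : ∀ w, IsConj t w → orderOf w = 2 := fun w e => orderOf_of_isConj e ▸ h.two
  refine (card_eq_of_bij Subtype.val (fun w hw => ?_) (fun _ _ _ _ e => Subtype.ext e) fun w hw => ?_).symm
  · obtain ⟨h1, h2⟩ := (by decide +kernel : ∀ m k : M, Dm m → (k * k = 1 ∧ k ≠ 1) ∧ k⁻¹ * m * (k⁻¹ * m) = 1 ∧
      k⁻¹ * m ≠ 1 → k ≠ z ∧ k⁻¹ * m ≠ z) _ _ hu hw
    exact ⟨key w hw.1 h1, key (w⁻¹ * u) (by rw [map_mul, map_inv]; exact hw.2) (by rwa [map_mul, map_inv])⟩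
  · have h1' := ord _ hw.1
    have h2' := ord _ hw.2
    have h3 := left_inverts (mul_self_of_two h1') (mul_self_of_two h2')
    rw [mul_inv_cancel_left] at h3
    have h4 := (h.ti.mem_iff _ (h.mem_D.2 hu) w (mem_top w)).1 (by
      rw [h3, Set.mem_ofPred_eq, zpowers_inv]; exact h.mem_D.2 hu)
    refine ⟨⟨w, h4⟩, ⟨⟨?_, h.ne_one h1'⟩, ?_, ?_⟩, rfl⟩
    · rw [← map_mul, show (⟨w, h4⟩ * ⟨w, h4⟩ : centralizer ({t} : Set G)) = 1 from Subtype.ext (mul_self_of_two h1'), map_one]
    · rw [← map_inv, ← map_mul, ← map_mul, show ((⟨w, h4⟩⁻¹ * u) * (⟨w, h4⟩⁻¹ * u) : centralizer ({t} : Set G)) = 1 from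
        Subtype.ext (mul_self_of_two h2'), map_one]
    · rw [← map_inv, ← map_mul]; exact h.ne_one h2'

/-- constant on the cosets of the kernel in the section of `t` -/
def Cst (_ : RG t π) (θ : G → ℂ) : Prop :=
  ∀ u a : centralizer ({t} : Set G), Dm (π u) → π a = 1 → θ (a * u) = θ u

theorem cst {θ : G → ℂ} (hθ : Dirr ⊤ θ) {i : Fin 5} (hi : dot ⊤ (h.be i) θ ≠ 0) : h.Cst θ := by
  classical
  wlog h1 : θ ∈ Irr ⊤ generalizing θ
  · intro u a hu ha
    exact neg_injective (this hθ.neg (by rwa [dot_neg_right, neg_ne_zero]) (hθ.resolve_left h1) u a hu ha)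
  have := Fintype.ofFinite π.ker
  have := Fintype.ofFinite (centralizer ({t} : Set G))
  have := Fact.mk Nat.prime_two
  rcases dich h.two π h.surj (Nat.odd_iff.1 h.odd |> fun e => by omega) (IsPGroup.of_card (n := 3) card_Q8) cent_Q8
    (mem_Irr_top.1 h1) with e | e
  · intro u a hu ha
    refine mul_left_cancel₀ (Clifford.card_ne_zero π.ker) ?_
    rw [e u (h.mem_D.2 hu), ← coe_mul, e (a * u) (h.mem_D.2 (by rwa [map_mul, ha, one_mul])),
      ← Equiv.sum_comp (Equiv.mulRight (⟨a, ha⟩ : π.ker)) fun n : π.ker => θ (n * u)]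
    simp [mul_assoc]
  · refine absurd (mul_left_cancel₀ (Clifford.card_ne_zero π.ker) ?_) hi
    rw [be, dot_ind_cf le_top _ hθ.cf, dot, sum_elems, mul_left_comm, mul_zero, Nat.card_eq_fintype_card (α := π.ker),
      ← nsmul_eq_mul, ← Finset.card_univ, ← Finset.sum_const, Finset.sum_congr rfl fun (n : π.ker) _ =>
        (Equiv.sum_comp (Equiv.mulLeft (n : centralizer ({t} : Set G))) fun x => morph π (ι ∘ al i) x * conj (θ x)).symm,
      Finset.sum_comm, Finset.sum_eq_zero fun u _ => ?_, mul_zero]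
    simp only [Equiv.coe_mulLeft, morph_coe, map_mul, MonoidHom.mem_ker.1 (Subtype.prop _), one_mul]
    simp only [← Finset.mul_sum, ← map_sum, coe_mul]
    by_cases hu : Dm (π u)
    · rw [e u (h.mem_D.2 hu), map_zero, mul_zero]
    · rw [Function.comp_apply, al_zero i _ hu, map_zero, zero_mul]

theorem value {θ : G → ℂ} (hθ : θ ∈ CF (⊤ : Subgroup G)) (hc : h.Cst θ) : θ t = conj (2 * dot ⊤ (h.be 0 + h.be 1) θ +
    3 * dot ⊤ (h.be 2) θ + 3 * dot ⊤ (h.be 3) θ - 2 * dot ⊤ (h.be 4) θ) := by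
  classical
  have := Fintype.ofFinite (centralizer ({t} : Set G))
  have h1 : ∀ x ∈ (Finset.univ : Finset (centralizer ({t} : Set G))), (2 * morph π (ι ∘ al 0) x + 2 * morph π (ι ∘ al 1) x +
      3 * morph π (ι ∘ al 2) x + 3 * morph π (ι ∘ al 3) x - 2 * morph π (ι ∘ al 4) x) * conj (θ x) =
      if π x = z then 48 * conj (θ t) else 0 := fun x _ => by
    have := congrArg ι (al_delta (π x))
    simp only [map_sub, map_add, map_mul, map_ofNat, apply_ite ι, map_zero] at this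
    simp only [morph_coe, Function.comp_apply, this, ite_mul, zero_mul]
    split_ifs with e
    · have := hc (tt t) (x * tt t) (h.pz ▸ by decide) (by rw [map_mul, e, h.pz]; decide)
      rw [← coe_mul, mul_assoc, h.tt_sq, mul_one] at this
      rw [this]
    · rfl
  have h2 := Finset.sum_congr rfl h1
  rw [← Finset.sum_filter, Finset.sum_const, ← card_eq_filter, card_comp π h.surj (· = z), Nat.card_unique (α := {m // m = z}), mul_one,
    nsmul_eq_mul] at h2
  simp only [add_mul, sub_mul, mul_assoc, Finset.sum_add_distrib, Finset.sum_sub_distrib, ← Finset.mul_sum] at h2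
  rw [← Complex.conj_conj (θ t), dot_add_left]
  simp only [be, dot_ind_cf le_top _ hθ]
  simp only [dot, h.card_C, sum_elems]
  congr 1
  have := Clifford.card_ne_zero π.ker
  push_cast
  field_simp
  linear_combination -h2

theorem exists_inv {a : centralizer ({t} : Set G)} (ha : π a = 1) :
    ∃ u : centralizer ({t} : Set G), u * u = 1 ∧ u * a * (u * a) = 1 := by
  obtain ⟨u, hu⟩ := h.surj s
  exact ⟨u, h.cos u (hu ▸ by decide) (hu ▸ by decide) (hu ▸ by decide), h.cos _ (by rw [map_mul, hu, ha]; decide)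
    (by rw [map_mul, hu, ha]; decide) (by rw [map_mul, hu, ha]; decide)⟩

theorem eq_top {N : Subgroup G} [hN : N.Normal] (ht : t ∈ N) : N = ⊤ := by
  have := fact_two
  have h1 : ∀ u : centralizer ({t} : Set G), u * u = 1 → (u : G) ∈ N := fun u e => by
    by_cases h1 : (u : G) = 1
    · simp [h1]
    · obtain ⟨g, e'⟩ := isConj_iff.1 (h.one u (two_of_mul_self (congrArg Subtype.val e) h1))
      exact e' ▸ hN.conj_mem t ht g
  have h2 : ∀ u : centralizer ({t} : Set G), π u = 1 → (u : G) ∈ N := fun a e => by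
    obtain ⟨u, h2, h3⟩ := h.exists_inv e
    simpa [N.mul_mem_cancel_left (h1 u h2)] using h1 _ h3
  have h3 : ∀ u : centralizer ({t} : Set G), π u * π u = 1 → (u : G) ∈ N := fun u e => by
    by_cases e1 : π u = 1
    · exact h2 u e1
    by_cases e2 : π u = z
    · simpa [N.mul_mem_cancel_left ht] using h2 (tt t * u) (by rw [map_mul, e2, h.pz]; decide)
    · exact h1 u (h.cos u e e1 e2)
  have h4 : centralizer {t} ≤ N := fun g hg => by
    obtain ⟨a, ha, b, hb, e⟩ := (by decide +kernel : ∀ m : M, ∃ a : M, a * a = 1 ∧ ∃ b : M, b * b = 1 ∧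
      a * b * m * (a * b * m) = 1) (π ⟨g, hg⟩)
    obtain ⟨a, rfl⟩ := h.surj a
    obtain ⟨b, rfl⟩ := h.surj b
    have := h3 (a * b * ⟨g, hg⟩) (by simpa only [map_mul] using e)
    rwa [coe_mul, coe_mul, N.mul_mem_cancel_left (mul_mem (h3 a ha) (h3 b hb))] at this
  obtain ⟨S, hS, h5⟩ := h.syl
  refine top_le_iff.1 ?_
  rw [← (hS.mono ((le_normalizer.trans h5).trans h4) le_top).frattini_sup le_top le_normalizer_of_normal]
  exact sup_le le_rfl (inf_le_right.trans (h5.trans h4))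

theorem exists_small : ∃ χ : G → ℂ, IsIrrCharacter G χ ∧ charDegree χ < 16 ∧ χ t ≠ χ 1 ∧ h.Cst χ := by
  have hg := h.be_gram
  have ho := fun i => h.be_dot i one_cf_top (ψ := 1) 1 (fun _ _ => by simp) (al_one i)
  have hp := fun i => h.be_dot i (pcf_cf t t) (ψ := fun g => pc g) (Nat.card π.ker)
    (fun m hm => by simp [pcf, h.pairCount_eq hm]) (al_pc i)
  obtain ⟨x, y, v, w, hx, hy, hv, hw, eA, eB, vo, ⟨x1, x2, x3, x4⟩, ⟨y1, y2, y3, y4⟩, ⟨v1, v2, v3, v4⟩, w1, w2, w3, w4⟩ :=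
    decomp (add_mem (h.be_vc 0) (h.be_vc 1)) (h.be_vc 2) (h.be_vc 3) (h.be_vc 4) (h.be_one 2) (h.be_one 3) (h.be_one 4)
      (by simp [dot_add_left, dot_add_right, hg, gram]; norm_num) (by simp [dot_add_left, ho])
      (by simp [dot_add_left, hg, gram]) (by simp [dot_add_left, hg, gram]) (by simp [dot_add_left, hg, gram])
      (by simp [hg, gram]) (by simp [ho]) (by simp [hg, gram]) (by simp [hg, gram]) (by simp [hg, gram]) (by simp [ho])
      (by simp [hg, gram]) (by simp [hg, gram]) (by simp [ho])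
  have xc := h.cst hx (i := 2) (x2 ▸ one_ne_zero)
  have yc := h.cst hy (i := 2) (y2 ▸ one_ne_zero)
  have vc := h.cst hv (i := 3) (v3 ▸ one_ne_zero)
  have wc := h.cst hw (i := 3) (w3 ▸ one_ne_zero)
  have xt : x t = 3 := by rw [h.value hx.cf xc, x1, x2, x3, x4]; simp [map_ofNat]
  have yt : y t = 4 := by rw [h.value hy.cf yc, y1, y2, y3, y4]; norm_num [map_ofNat]
  have vt : v t = 1 := by rw [h.value hv.cf vc, v1, v2, v3, v4]; norm_num
  have wt : w t = 3 := by rw [h.value hw.cf wc, w1, w2, w3, w4]; simp [map_ofNat]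
  obtain ⟨m, hm⟩ := vc_one_int hy.vc
  obtain ⟨n, hn⟩ := vc_one_int hv.vc
  have e1 := congrFun eA 1
  have e2 := congrFun eB 1
  simp only [h.be_one, Pi.add_apply, Pi.one_apply, hm, hn] at e1 e2
  have p1 := congrArg ((Nat.card G : ℂ) * ·) (hp 2)
  have p2 := congrArg ((Nat.card G : ℂ) * ·) (hp 3)
  simp only [eA, eB, dot_add_left, mul_add, one_dot_pcf, Dirr.dot_pcf hx, Dirr.dot_pcf hy, Dirr.dot_pcf hv,
    Dirr.dot_pcf hw, xt, yt, vt, wt, hm, hn] at p1 p2
  have n1 := hx.one_ne_zero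
  have n2 := hm ▸ hy.one_ne_zero
  have n3 := hn ▸ hv.one_ne_zero
  have n4 := hw.one_ne_zero
  have w0 : w 1 = -(m + n) := by linear_combination -e2
  rw [show x 1 = -(m + 1) by linear_combination -e1] at n1 p1
  rw [w0] at n4 p2
  rw [neg_ne_zero] at n1 n4
  rw [div_neg] at p1 p2
  have n5 : (ix t : ℂ) ≠ 0 := Nat.cast_ne_zero.2 (ix_pos _).ne'
  rw [← cc_mul_ix t, cc, h.card_C] at p1 p2
  simp only [Matrix.cons_val, Nat.cast_mul, Nat.cast_ofNat, Int.cast_ofNat] at p1 p2
  have q1 : (ix t : ℤ) * (m + 4) ^ 2 = 192 * (Nat.card π.ker) ^ 2 * m * (m + 1) := by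
    field_simp at p1
    exact_mod_cast (by linear_combination p1 : (ix t : ℂ) * (m + 4) ^ 2 = 192 * (Nat.card π.ker) ^ 2 * m * (m + 1))
  have q2 : (n - 1) * ((m - 8) * n + m * (m + 1)) = 0 := by
    have := mul_left_cancel₀ (mul_ne_zero n5 n5)
      (by linear_combination p1 - p2 : (ix t : ℂ) * ix t * (1 - 9 / (m + 1)) = ix t * ix t * (1 / n - 9 / (m + n)))
    field_simp at this
    exact_mod_cast (by linear_combination this : ((n : ℂ) - 1) * ((m - 8) * n + m * (m + 1)) = 0)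
  have q3 : n ≠ 1 := by
    rintro rfl
    have h1 := hv.mem_Irr (by rw [deg_of_eq_int hn]; norm_num)
    have h2 := mem_Irr_top.1 h1
    have := h2.charKer_normal
    have h3 := h2.charKer_eq_top_iff.1 (h.eq_top (h2.mem_charKer.2 (by rw [vt, hn]; simp)))
    have h4 := irr_dot_self h1
    rw [h3] at vo h4
    exact one_ne_zero (h4.symm.trans vo)
  have q5 := (mul_eq_zero.1 q2).resolve_left (sub_ne_zero.2 q3)
  have q4 : m - 8 ∣ 72 := ⟨-n - m - 9, by linear_combination q5⟩
  have q6 : m = 12 ∨ m = 44 := by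
    obtain ⟨k, hk⟩ := h.odd_ix
    obtain ⟨j, hj⟩ := h.odd.pow (n := 2)
    have hj' : (Nat.card π.ker : ℤ) ^ 2 = 2 * j + 1 := by exact_mod_cast hj
    rw [hk, hj'] at q1
    have q5 := Int.le_of_dvd (by norm_num) q4
    have q6 := Int.le_of_dvd (by norm_num) (Int.neg_dvd.2 q4)
    obtain ⟨q7, q8⟩ : -64 ≤ m ∧ m ≤ 80 := by omega
    obtain ⟨c, q4⟩ := q4
    push_cast at q1
    clear * - q1 q4 q7 q8
    interval_cases m <;> omega
  rcases q6 with rfl | rfl
  · refine ⟨y, mem_Irr_top.1 (hy.mem_Irr (by rw [deg_of_eq_int hm]; norm_num)), ?_, ?_, yc⟩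
    · rw [charDegree_of_eq (n := 12) (by rw [hm]; norm_num)]; norm_num
    · rw [yt, hm]; norm_num
  · obtain rfl : n = -55 := by omega
    have w0' : w 1 = (11 : ℤ) := by rw [w0]; norm_num
    refine ⟨w, mem_Irr_top.1 (hw.mem_Irr (by rw [deg_of_eq_int w0']; norm_num)), ?_, ?_, wc⟩
    · rw [charDegree_of_eq (n := 11) (by rw [w0']; norm_num)]; norm_num
    · rw [wt, w0']; norm_num

theorem inj : Function.Injective π := by
  have := fact_two
  obtain ⟨χ, hχ, hd, ht, hc⟩ := h.exists_small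
  have := hχ.charKer_normal
  have h1 : charKer χ = ⊥ := h.core _ this (Nat.not_even_iff_odd.1 fun e => by
    obtain ⟨u, hu⟩ := exists_prime_orderOf_dvd_card' (G := charKer χ) 2 e.two_dvd
    obtain ⟨g, e⟩ := isConj_iff.1 (h.one u ((orderOf_coe u).trans hu)).symm
    exact ht (hχ.mem_charKer.1 (e ▸ this.conj_mem _ u.2 g)))
  obtain ⟨Q, hQ⟩ := exists_sylowIn (p := 2) (Q8.comap π)
  have inv : ∀ u a : centralizer ({t} : Set G), π u * π u = 1 → π u ≠ 1 → π u ≠ z → π a = 1 → u * a * u⁻¹ = a⁻¹ :=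
    fun u a h1 h2 h3 h4 => by
      have e1 := h.cos u h1 h2 h3
      have e2 := h.cos (u * a) (by simpa [h4] using h1) (by simpa [h4] using h2) (by simpa [h4] using h3)
      rw [inv_eq_of_mul_eq_one_right e1]
      exact eq_inv_of_mul_eq_one_left (by simpa only [mul_assoc] using e2)
  have hA : ∀ a b : centralizer ({t} : Set G), π a = 1 → π b = 1 → a * b = b * a := fun a b ha hb => by
    obtain ⟨u, hu⟩ := h.surj s
    have i := fun c => inv u c (hu ▸ by decide) (hu ▸ by decide) (hu ▸ by decide)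
    have := i (a * b) (by rw [map_mul, ha, hb, one_mul])
    rw [← conj_mul, i a ha, i b hb, ← mul_inv_rev] at this
    exact (inv_injective this).symm
  have hK : ∀ u a : centralizer ({t} : Set G), π u ∈ Q8 → π a = 1 → u * a = a * u := fun u a hu ha => by
    obtain ⟨m, ⟨h1, h2, h3⟩, h4⟩ := (by decide +kernel : ∀ q ∈ Q8, ∃ m : M, (m * m = 1 ∧ m ≠ 1 ∧ m ≠ z) ∧
      (q = 1 ∨ m * q * (m * q) = 1 ∧ m * q ≠ 1 ∧ m * q ≠ z)) _ hu
    rcases h4 with h4 | ⟨h4, h5, h6⟩
    · exact hA u a h4 ha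
    obtain ⟨m, rfl⟩ := h.surj m
    rw [← map_mul] at h4 h5 h6
    have e1 := inv m a h1 h2 h3 ha
    have e2 := inv _ a h4 h5 h6 ha
    rw [← e1] at e2
    exact mul_inv_eq_iff_eq_mul.1 ((MulAut.conj m).injective (by simpa [mul_assoc] using e2))
  have hQ1 : ∀ u ∈ Q, π u = 1 → u = 1 := fun u hu e => by
    obtain ⟨k, hk⟩ := IsPGroup.iff_orderOf.1 hQ.2 ⟨u, hu⟩
    have := h.odd_ord e
    rw [← orderOf_coe] at hk
    rcases k with _ | k
    · exact orderOf_eq_one_iff.1 hk
    · rw [hk, pow_succ] at this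
      exact absurd this (by simp)
  have hQ8 : 8 ≤ Nat.card Q := by
    have h2 : Nat.card (Q8.comap π) = Nat.card π.ker * 8 := card_Q8 ▸ card_comp π h.surj (· ∈ Q8)
    rw [← Transfer.card_mul_relIndex hQ.1] at h2
    exact Nat.le_of_dvd Nat.card_pos ((Nat.Coprime.pow_left 3 ((Nat.Prime.coprime_iff_not_dvd Nat.prime_two).2 hQ.3)).dvd_of_dvd_mul_right
      (h2 ▸ dvd_mul_left _ _))
  have key := triv_of_const hχ.isCharacter (Q := Q.map (Subgroup.subtype _)) (B := π.ker.map (Subgroup.subtype _))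
    (by rw [card_map_of_injective (subtype_injective _)]; exact h.odd)
    (by rintro _ ⟨a, ha, rfl⟩ _ ⟨b, hb, rfl⟩; exact congrArg Subtype.val (hA a b ha hb))
    (by rw [← map_inf _ _ _ (subtype_injective _), (eq_bot_iff_forall (Q ⊓ π.ker)).2 fun u hu => hQ1 u hu.1 hu.2, Subgroup.map_bot])
    (by rintro _ ⟨a, ha, rfl⟩ _ ⟨b, hb, rfl⟩; exact congrArg Subtype.val (hK a b (hQ.1 ha) hb))
    (by
      rintro _ ⟨a, ha, rfl⟩
      obtain ⟨u, hu⟩ := h.surj s
      have := congrArg Subtype.val (inv u a (hu ▸ by decide) (hu ▸ by decide) (hu ▸ by decide) ha)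
      exact (congrArg χ this).symm.trans (hχ.isClassFunction _ _))
    (by
      rintro _ ⟨u, hu, rfl⟩ h2 _ ⟨b, hb, rfl⟩
      have := hc u b ((by decide +kernel : ∀ q ∈ Q8, q ≠ 1 → Dm q) _ (hQ.1 hu) fun e => h2 (by simp [hQ1 u hu e])) hb
      rwa [← coe_mul, ← hK u b (hQ.1 hu) hb] at this)
    (by rw [card_map_of_injective (subtype_injective _)]; omega)
  refine (injective_iff_map_eq_one π).2 fun a ha => Subtype.ext (mem_bot.1 (h1 ▸ hχ.mem_charKer.2 (key _ ⟨a, ha, rfl⟩)))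

theorem glt (hi : ∀ K : Subgroup G, K.index ≠ 2) : ∃ f : M →* G, GLT f :=
  exists_glt hi h.two ((MulEquiv.ofBijective π ⟨h.inj, h.surj⟩).trans eGL)

end RG

end Cfsg.Lib.Layer.Wong
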