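import Cfsg.Agent.Lib.Layer.Wong2
import Cfsg.Agent.Lib.ABG.QGrp
import Cfsg.Agent.Lib.GW.DGrp
import Cfsg.Agent.Lib.GW.Part2
import Cfsg.Agent.Lib.Exc.M11c

/-!
# Quasi-dihedral Sylow 2-subgroups and a self-centralizing four-group
-/

set_option autoImplicit false
set_option linter.unusedSectionVars false

namespace Cfsg.Lib.Layer.Wong

open Cfsg Cfsg.Lib.Invol Cfsg.Lib.Transfer Cfsg.Lib.Exc Cfsg.Lib.Exc.G3 Cfsg.Lib.ABG Subgroup
open Cfsg.Lib.GW (DC2 No2 Nc Kl Two)

variable {G : Type*} [Group G] [Finite G] {X : Type*} [Group X] [Finite X]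

theorem lift2 {f : G →* X} (hk : Odd (Nat.card f.ker)) {u : G} (h : f u * f u = 1) :
    ∃ a ∈ zpowers u, ∃ b ∈ zpowers u, a * a = 1 ∧ f a = f u ∧ Odd (orderOf b) ∧ u = a * b := by
  obtain ⟨a, ha, b, hb, h1, h2, e⟩ := GW.exists_two_odd u
  have h3 : f b = 1 := by
    obtain ⟨k, rfl⟩ := hb
    refine Two.eq_one ⟨1, ?_⟩ (h2.of_dvd_nat (orderOf_map_dvd _ _))
    rw [map_zpow, pow_one, ← zpow_natCast, ← zpow_mul, mul_comm, zpow_mul, zpow_natCast, sq, h, one_zpow]
  have h4 : f a = f u := by rw [e, map_mul, h3, mul_one]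
  refine ⟨a, ha, b, hb, Two.eq_one ?_ (hk.of_dvd_nat (f.ker.orderOf_dvd_natCard ?_)), h4, h2, e⟩
  · obtain ⟨k, hk⟩ := h1
    exact ⟨k, by rw [← sq, ← pow_mul, mul_comm, pow_mul, hk, one_pow]⟩
  · rw [MonoidHom.mem_ker, map_mul, h4, h]

omit [Finite G] in
theorem commute_of_mul_self {x y : G} (hx : x * x = 1) (hy : y * y = 1) (h : x * y * (x * y) = 1) : Commute x y := by
  rw [commute_iff_eq, ← inv_eq_of_mul_eq_one_right h, mul_inv_rev, inv_eq_of_mul_eq_one_right hx, inv_eq_of_mul_eq_one_right hy]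

/-- the four-group is self-centralizing -/
def SC (a b : G) : Prop := ∀ g, Commute g a → Commute g b → g ∈ closure ({a, b} : Set G)

theorem sc_all {S : Subgroup G} (hS : SylowIn 2 S ⊤) (hQ : IsQuasiDihedral S) {a b : G} (hk : Kl a b) (h : SC a b)
    {c d : G} (hk' : Kl c d) : SC c d := by
  have := fact_two
  obtain ⟨n, -, -, E, hε⟩ := exists_mc_qd hQ
  have key : ∀ {a b : G}, Kl a b → ∃ g, cj g (E.K 0) = closure {a, b} := fun {a b} hk => by
    obtain ⟨g, -, hg⟩ := hS.exists_cj_le hk.isPGroup le_top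
    have h1 : cj g (closure {a, b}) = closure {g * a * g⁻¹, g * b * g⁻¹} := by
      rw [cj_def, MonoidHom.map_closure, Set.image_pair]; rfl
    obtain ⟨i, h2, h3⟩ := E.klein_eq (h1 ▸ (hk.conj g).klein) hg
    obtain ⟨j, rfl⟩ := E.even_of_sq hε h2
    refine ⟨g⁻¹ * E.r ((1 + 2 * E.v) * j), ?_⟩
    rw [cj_mul, E.cj_D]
    exact (congrArg _ h3.symm).trans (cj_inv_cj _ _)
  obtain ⟨g, hg⟩ := key hk
  obtain ⟨g', hg'⟩ := key hk'
  have h1 : centralizer (closure {a, b} : Subgroup G) ≤ closure {a, b} := fun x hx =>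
    let ⟨h1, h2⟩ := hk.mem_cent_iff.1 hx; h x h1 h2
  rw [← hg, ← cj_centralizer, cj_le_cj] at h1
  intro x h2 h3
  have h4 := hk'.mem_cent_iff.2 ⟨h2, h3⟩
  rw [← hg', ← cj_centralizer] at h4
  exact hg' ▸ cj_mono g' h1 h4

theorem bar {T : Subgroup G} (hT : SylowIn 2 T ⊤) (hQ : IsQuasiDihedral T) (hO : pPrimeCore 2 G = ⊥) {t : G}
    (ht : orderOf t = 2) (hz : t ∈ center G) (hn : ¬ PNil 2 (⊤ : Subgroup G))
    (hC : ∀ u, Kl t u → ∀ g, Commute g u → g ∈ closure ({t, u} : Set G)) :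
    ∃ f : M →* G, Function.Bijective f ∧ f z = t := by
  have := fact_two
  obtain ⟨n, hn1, hc, E, hε⟩ := exists_mc_qd hQ
  have hN := GW.normal_zpowers hz
  have hz' : ∀ g, Commute g t := fun g => mem_center_iff.1 hz g
  have h1 : t = E.c := (E.mem_center_iff'.1 ⟨zpowers_le.1 (hT.le_of_le_normalizer (isPGroup_zpowers_two ht) le_top
    le_normalizer_of_normal), fun x _ => (hz' x).symm⟩).resolve_left fun e => by rw [e, orderOf_one] at ht; omega
  let φ := QuotientGroup.mk' (zpowers t)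
  have hφ : Function.Surjective φ := QuotientGroup.mk'_surjective _
  have hk : ∀ g, φ g = 1 ↔ g = 1 ∨ g = t := fun g => by
    rw [← MonoidHom.mem_ker, QuotientGroup.ker_mk', h1, E.mem_zpowers_c]
  have hD : DC2 (G ⧸ zpowers t) := QW.dc2 hT (Or.inl hQ) hφ fun x _ => by rw [hk, E.center_eq, E.mem_zpowers_c, h1]
  have hO' := core_quotient_eq_bot hO (isPGroup_zpowers_two ht) (zpowers_le.2 hz)
  have h2 : ¬ IsPGroup 2 (G ⧸ zpowers t) := fun h => hn (pnil_of_isPGroup (by
    have := (h.to_subgroup ⊤).comap_of_ker_isPGroup φ (by rw [QuotientGroup.ker_mk']; exact isPGroup_zpowers_two ht)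
    rwa [comap_top] at this))
  have ks : Kl t (E.s 0) := ⟨ht, E.s_two_iff.2 E.s_zero_sq, h1 ▸ E.s_ne_r _ _, hz' _⟩
  have hs1 : φ (E.s 0) ≠ 1 := fun e => ((hk _).1 e).elim (E.s_ne_one 0) ks.ne
  have hs : orderOf (φ (E.s 0)) = 2 := two_iff.2 ⟨by rw [← map_mul, E.s_zero_sq, map_one], hs1⟩
  -- the centralizer of the image of `s` has exponent two
  have h3 : ∀ x, Commute x (φ (E.s 0)) → x * x = 1 := fun x hx => by
    obtain ⟨x, rfl⟩ := hφ x
    have tt := mul_self_of_two ht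
    have sq : ∀ g ∈ closure ({t, E.s 0} : Set G), g * g = 1 := fun g hg => by
      rcases (ks.mem_iff g).1 hg with rfl | rfl | rfl | rfl
      exacts [mul_one _, tt, E.s_zero_sq, mul_self_of_two ks.hab]
    have h4 : φ (x * E.s 0 * x⁻¹ * (E.s 0)⁻¹) = 1 := by
      simp only [map_mul, map_inv]; rw [hx.eq]; group
    rw [← map_mul, hk]
    rcases (hk _).1 h4 with e | e
    · exact Or.inl (sq _ (hC _ ks x (by rw [mul_inv_eq_one, mul_inv_eq_iff_eq_mul] at e; exact e)))
    · have e1 : x * E.s 0 * x⁻¹ = t * E.s 0 := mul_inv_eq_iff_eq_mul.1 e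
      have e2 : Commute (x * x) (E.s 0) := by
        rw [commute_iff_eq, ← mul_inv_eq_iff_eq_mul, ← GW.conj_mul', e1, ← conj_mul, e1, (hz' x).eq,
          mul_inv_cancel_right, ← mul_assoc, tt, one_mul]
      have e3 : x * (x * x) * x⁻¹ = x * x := by group
      rcases (ks.mem_iff _).1 (hC _ ks _ e2) with e4 | e4 | e4 | e4
      · exact Or.inl e4
      · exact Or.inr e4
      · rw [e4, e1] at e3; exact absurd (mul_eq_right.1 e3) fun e => by rw [e, orderOf_one] at ht; omega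
      · rw [e4, ← conj_mul, e1, (hz' x).eq, mul_inv_cancel_right] at e3
        exact absurd (mul_eq_right.1 (mul_left_cancel e3)) fun e => by rw [e, orderOf_one] at ht; omega
  -- an element of order at least four in the quotient
  have h4 : φ (E.r E.v) * φ (E.r E.v) ≠ 1 := fun e => by
    rw [← map_mul, E.rr, ← two_mul, ← E.w_eq hε, hk] at e
    have := E.order_w
    rcases e with e | e <;> rw [e] at this
    · rw [orderOf_one] at this; omega
    · omega
  have h5 : Two (φ (E.r E.v)) := (Two.of_mem hT.2 (E.r_mem _)).map φ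
  have h6 : layer (G ⧸ zpowers t) = ⊥ := by
    by_contra hE
    obtain ⟨-, hM, -⟩ := hD.known_layer hO' hE
    have := Layer.layer_normal (G := G ⧸ zpowers t)
    by_cases hτ : φ (E.s 0) ∈ layer (G ⧸ zpowers t)
    · obtain ⟨P, p1, p2⟩ := exists_sylowIn_ge (H := ⊤) h5.isPGroup le_top
      obtain ⟨P, rfl⟩ := p2.exists_sylow_top
      obtain ⟨j, j1, -, j2, j3⟩ := GW.exists_central_inf (p := 2) (by rw [← hs]; exact (layer _).orderOf_dvd_natCard hτ) P
      obtain ⟨g, -, hg⟩ := hD.oneClass_of_perfect Layer.layer_commutator_self j j1 _ hτ j2 hs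
      have h7 := h3 (g * φ (E.r E.v) * g⁻¹) (hg ▸ commute_conj g (j3 _ (p1 (mem_zpowers _))))
      rw [conj_mul, mul_inv_eq_one, mul_eq_left] at h7
      exact h4 h7
    · rcases hM.type with ⟨a, b, hL⟩ | hA
      · obtain ⟨c, hc, -, h7⟩ := hL.tor _ hs
        have h8 := orderOf_le_of_pow_eq_one (x := c) two_pos (by rw [sq]; exact h3 c hc.comm)
        have := hL.three_le
        rw [h7 hτ] at h8; omega
      · exact hτ (hA.top ▸ mem_top _)
  obtain ⟨A, -, -, ⟨e⟩, h7 | ⟨-, ⟨e'⟩⟩⟩ := hD.str_solv hO' h6 h2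
  · subst h7
    let ψ := e.toMonoidHom.comp (topEquiv (G := G ⧸ zpowers t)).symm.toMonoidHom
    have hψ : Function.Injective ψ := e.injective.comp topEquiv.symm.injective
    rcases (by decide : ∀ g : Equiv.Perm (Fin 4), Equiv.Perm.sign g = 1 → g * g = 1 ∨ g ^ 3 = 1) _ (ψ (φ (E.r E.v))).2 with h8 | h8
    · exact absurd (hψ (by rw [map_mul, map_one]; exact Subtype.ext h8)) h4
    · have h9 : φ (E.r E.v) ^ 3 = 1 := hψ (by rw [map_pow, map_one]; exact Subtype.ext h8)
      rw [h5.eq_one ((by decide : Odd 3).of_dvd_nat (orderOf_dvd_of_pow_eq_one h9)), mul_one] at h4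
      exact absurd rfl h4
  refine M11.cover (φ := e'.toMonoidHom.comp φ) ?_ ht hz' (e'.surjective.comp hφ) (fun g => ?_) (fun K hK h8 => ?_) ks.hb ks.ne
  · rw [card_eq_card_quotient_mul_card_subgroup (zpowers t), Nat.card_congr e'.toEquiv, Nat.card_zpowers, ht]
    simp [Fintype.card_perm, Nat.factorial]
  · rw [← hk]; exact e'.map_eq_one_iff
  · obtain ⟨u, h9, h10⟩ : ∃ u ∈ K, u ∉ zpowers t := by
      by_contra! h9
      have := card_le_of_le h9
      rw [hK, Nat.card_zpowers, ht] at this; omega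
    have k : Kl t u := ⟨ht, two_iff.2 ⟨h8 u h9, fun e => h10 (e ▸ one_mem _)⟩, fun e => h10 (e ▸ mem_zpowers _), hz' u⟩
    have := card_le_of_le (show K ≤ _ from fun g hg => hC u k g (commute_of_mul_self (h8 g hg) (h8 u h9) (h8 _ (mul_mem hg h9))))
    rw [hK, k.card] at this; omega

theorem qd_glt {S : Subgroup G} (hS : SylowIn 2 S ⊤) (hQ : IsQuasiDihedral S) (hO : pPrimeCore 2 G = ⊥) (h2 : No2 G)
    {a b : G} (hk : Kl a b) (h : SC a b) : ∃ f : M →* G, GLT f := by
  have := fact_two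
  obtain ⟨n, -, -, E, hε⟩ := exists_mc_qd hQ
  have ht := E.two_c
  set t := E.c with htc
  have hSC : S ≤ centralizer {t} := fun g hg => mem_cent.2 (E.commute_c hg)
  let φ := QuotientGroup.mk' (pPrimeCore 2 (centralizer ({t} : Set G)))
  have hφ : Function.Surjective φ := QuotientGroup.mk'_surjective _
  have ho : Odd (Nat.card φ.ker) := GW.odd_ker_core
  have hT : SylowIn 2 (S.subgroupOf (centralizer {t})) ⊤ := (hS.mono hSC le_top).coe_toSylow ▸ sylowIn_top _
  have hi : Function.Injective (φ.comp (S.subgroupOf (centralizer {t})).subtype) := by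
    rw [injective_iff_map_eq_one]
    intro x hx
    exact Subtype.ext ((Two.of_mem hT.2 x.2).eq_one (ho.of_dvd_nat (φ.ker.orderOf_dvd_natCard hx)))
  have hQ' : IsQuasiDihedral ((S.subgroupOf (centralizer {t})).map φ) := by
    obtain ⟨m, h1, h2, x, y, h3, h4, h5⟩ := hQ
    let e := ((subgroupOfEquivOfLe hSC).symm.trans (MonoidHom.ofInjective hi)).trans (MulEquiv.subgroupCongr
      (show _ = (S.subgroupOf (centralizer {t})).map φ by rw [MonoidHom.range_comp, range_subtype]))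
    exact ⟨m, h1, (Nat.card_congr e.toEquiv).symm.trans h2, e x, e y, by simpa, by simpa, by simp [← map_pow, ← h5]⟩
  have tt2 : orderOf (tt t) = 2 := by rw [← orderOf_coe]; exact ht
  have lift : ∀ u : centralizer ({t} : Set G), φ u * φ u = 1 → φ u ≠ 1 → φ u ≠ φ (tt t) → ∃ a ∈ zpowers u, ∃ b ∈ zpowers u,
      Kl (tt t) a ∧ φ a = φ u ∧ Odd (orderOf b) ∧ u = a * b ∧ ∀ g, Commute g a → g ∈ closure {tt t, a} := fun u h1 h3 h4 => by
    obtain ⟨a, a1, b, b1, a2, a3, b2, e⟩ := lift2 ho h1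
    have k : Kl (tt t) a := ⟨tt2, two_iff.2 ⟨a2, fun e => h3 (by rw [← a3, e, map_one])⟩, fun e => h4 (by rw [← a3, e]),
      RG.comm a⟩
    refine ⟨a, a1, b, b1, k, a3, b2, e, fun g hg => ?_⟩
    have k' : Kl t a := ⟨ht, (orderOf_coe a).trans k.hb, fun e => k.ne (Subtype.ext e), mem_cent.1 a.2⟩
    rcases (k'.mem_iff _).1 (sc_all hS hQ hk h k' g (mem_cent.1 g.2) (hg.map (Subgroup.subtype _))) with e | e | e | e
    all_goals rw [k.mem_iff]; simp only [Subtype.ext_iff, e, coe_mul, coe_one, true_or, or_true]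
  refine (bar (by simpa [map_top_of_surjective φ hφ] using hT.map φ) hQ' Core.pPrimeCore_quotient_pPrimeCore
    (GW.two_map' ho tt2) (mem_center_iff.2 fun g => let ⟨u, e⟩ := hφ g; e ▸ ((RG.comm u).map φ).eq) (fun e => ?_)
    fun u hu g hg => ?_).elim fun f ⟨hf, hz⟩ => ?_
  rotate_right
  · let e := MulEquiv.ofBijective f hf
    have h3 : ∀ u, e.symm (φ u) = z ↔ φ u = φ (tt t) := fun u => by rw [e.symm_apply_eq, ← hz]; rfl
    have hker : (e.symm.toMonoidHom.comp φ).ker = φ.ker := by ext; simp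
    refine RG.glt (t := t) (π := e.symm.toMonoidHom.comp φ) ⟨ht, e.symm.surjective.comp hφ, hker ▸ ho, fun u hu => ?_,
      fun u h4 h5 h6 => ?_, ⟨S, hS, fun g hg => mem_cent.2 (mul_inv_eq_iff_eq_mul.1 ?_)⟩, fun N _ hN => ?_⟩ h2
    · exact (E.two_cases' hε hS hu).elim id (E.fused_of_no2 hε hS h2).1.isConj.trans
    · obtain ⟨a, a1, b, b1, k, -, b2, e1, h7⟩ := lift u (e.symm.injective (by rw [map_mul, map_one]; exact h4))
        (fun e1 => h5 (by simp [e1])) (mt (h3 u).2 h6)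
      have h8 : Commute b a := by
        obtain ⟨i, rfl⟩ := a1
        obtain ⟨j, rfl⟩ := b1
        exact Commute.zpow_zpow_self _ _ _
      rw [e1, (Two.of_mem k.isPGroup (h7 b h8)).eq_one b2, mul_one, mul_self_of_two k.hb]
    · refine (E.mem_center_iff'.1 ⟨conj_mem_of_mem_normalizer hg (E.r_mem _), fun x hx => ?_⟩).resolve_left
        (ne_one_of_two ((orderOf_conj _ _).trans ht))
      have := commute_conj g (E.commute_c (conj_mem_of_mem_normalizer (inv_mem hg) hx)).symm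
      simpa [mul_assoc] using this
    · exact le_bot_iff.1 (hO ▸ Core.le_pPrimeCore (Nat.coprime_two_right.2 hN))
  · obtain ⟨T, -, -, -, h3⟩ := exists_center hS (Or.inl hQ) h2 ht
    refine h3 (hasNormalPComplement_iff.1 (hasNormalPComplement_iff_top.2 (PNil.of_map φ ?_ ?_)))
    · rwa [map_top_of_surjective φ hφ]
    · rw [inf_top_eq]; exact fun e => Nat.not_even_iff_odd.2 ho (even_iff_two_dvd.2 e)
  · obtain ⟨u, rfl⟩ := hφ u
    obtain ⟨g, rfl⟩ := hφ g
    obtain ⟨a, -, b, -, k, a3, -, -, h7⟩ := lift u (mul_self_of_two hu.hb) (ne_one_of_two hu.hb) hu.ne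
    obtain ⟨c, c1, c2⟩ := GW.exists_cent_of_map ho (mul_self_of_two k.hb) (a3 ▸ hg)
    rw [← c2, ← a3, ← Set.image_pair, ← MonoidHom.map_closure]
    exact mem_map_of_mem _ (h7 c c1)

end Cfsg.Lib.Layer.Wong
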