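import Cfsg.Agent.Lib.Layer.Wong3
import Cfsg.Agent.Lib.Exc.SC3c
import Cfsg.Agent.Lib.Linear.AutAlt
import Cfsg.Agent.Lib.Linear.SmallRec
import Cfsg.Agent.S5891
import Cfsg.Agent.S5892
import Cfsg.Agent.S5893

/-!
# Non-solvable groups with a core-free maximal subgroup `Z₃`, `S₃` or `D₁₂`
-/

set_option autoImplicit false
set_option linter.unusedSectionVars false

namespace Cfsg.Lib.Layer.Wong

open Cfsg Cfsg.Lib.Invol Cfsg.Lib.Transfer Cfsg.Lib.Exc Cfsg.Lib.Linear Subgroup
open Cfsg.Lib.GW (DC2 No2 Nc Kl Two IsPL2)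

/-- the groups of Wong's theorem -/
def Ans (G : Type*) [Group G] : Prop :=
    Nonempty (G ≃* alternatingGroup (Fin 5)) ∨ Nonempty (G ≃* Equiv.Perm (Fin 5)) ∨
      Nonempty (G ≃* GL (Fin 2) (ZMod 7) ⧸ Subgroup.center (GL (Fin 2) (ZMod 7))) ∨
      Nonempty (G ≃* Matrix.ProjectiveSpecialLinearGroup (Fin 2) (ZMod 11)) ∨
      Nonempty (G ≃* Matrix.ProjectiveSpecialLinearGroup (Fin 2) (ZMod 13)) ∨
      (∃ p : ℕ, p.Prime ∧ (p % 16 = 1 ∨ p % 16 = 15) ∧ Nonempty (G ≃* Matrix.ProjectiveSpecialLinearGroup (Fin 2) (ZMod p))) ∨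
      Nonempty (G ≃* Matrix.ProjectiveSpecialLinearGroup (Fin 3) (ZMod 3)) ∨
      (∃ N : Subgroup G, N.Normal ∧ N.index = 2 ∧ Subgroup.centralizer (N : Set G) = ⊥ ∧
        Nonempty (N ≃* Matrix.ProjectiveSpecialLinearGroup (Fin 3) (ZMod 3)))

variable {G : Type*} [Group G] [Finite G]

/-- a solvable core-free maximal subgroup of a non-solvable group -/
structure Cx (H : Subgroup G) : Prop where
  co : IsCoatom H
  core : H.normalCore = ⊥
  ns : ¬ Group.IsSolvable G
  sol : Group.IsSolvable H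

theorem psl_zmod {F : Type*} [Field F] [Fintype F] {p : ℕ} (hp : p.Prime) (h : Fintype.card F = p) :
    Nonempty (PSL2 F ≃* Matrix.ProjectiveSpecialLinearGroup (Fin 2) (ZMod p)) :=
  ⟨(pslMapEquiv (Fin 2) (ZMod.ringEquivOfPrime F hp h)).symm⟩

theorem cube_bound {q n : ℕ} (h : q * (q - 1) * (q + 1) = n) (hn : n < 60) : q ≤ 3 := by
  by_contra! e
  have := Nat.mul_le_mul (Nat.mul_le_mul e (show 3 ≤ q - 1 by omega)) (show 5 ≤ q + 1 by omega)
  omega

omit [Finite G] in
theorem exists_emb {H : Subgroup G} {P : Type*} [Group P] (e : H ≃* P) :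
    ∃ φ : P →* G, Function.Injective φ ∧ φ.range = H :=
  ⟨H.subtype.comp e.symm.toMonoidHom, H.subtype_injective.comp e.symm.injective, by
    rw [MonoidHom.range_comp, MonoidHom.range_eq_top.2 e.symm.surjective, ← MonoidHom.range_eq_map, range_subtype]⟩

theorem not_solv (h : IsPL2 G) : ¬ Group.IsSolvable G := fun _ => by
  obtain ⟨F, _, _, h1, ⟨⟨e⟩⟩ | ⟨-, ⟨e⟩⟩⟩ := h <;> refine not_isSolvable_PSL2 (F := F) (by rwa [Nat.card_eq_fintype_card]) ?_
  · exact isSolvable_of_equiv e.symm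
  · have := isSolvable_of_equiv e.symm
    exact Group.isSolvable_of_isSolvable_injective Matrix.ProjectiveSpecialLinearGroup.toPGL_injective

theorem dih_card {X : Type*} [Group X] {k : ℕ} (e : X ≃* DihedralGroup k) : Nat.card X = 2 * k :=
  (Nat.card_congr e.toEquiv).trans DihedralGroup.nat_card

namespace Cx

variable {H : Subgroup G} (h : Cx H)
include h

theorem not_le {N : Subgroup G} [N.Normal] (hN : N ≠ ⊥) : ¬ N ≤ H := fun e =>
  hN (le_bot_iff.1 (h.core ▸ normal_le_normalCore.2 e))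

theorem sup {N : Subgroup G} [N.Normal] (hN : N ≠ ⊥) : H ⊔ N = ⊤ := h.co.2 _ (left_lt_sup.2 (h.not_le hN))

theorem eq_bot {N : Subgroup G} [N.Normal] (hs : Group.IsSolvable N) : N = ⊥ := by
  by_contra e
  have := h.sol
  have := Core.isSolvable_sup_of_normal H N
  rw [sup_comm, h.sup e] at this
  exact h.ns (isSolvable_of_equiv topEquiv.symm)

theorem quot {N : Subgroup G} [N.Normal] (hN : N ≠ ⊥) : Group.IsSolvable (G ⧸ N) := by
  have := h.sol
  refine Group.isSolvable_of_surjective (f := (QuotientGroup.mk' N).comp H.subtype) (MonoidHom.range_eq_top.1 ?_)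
  rw [MonoidHom.range_comp, range_subtype, ← map_top_of_surjective _ (QuotientGroup.mk'_surjective N), ← h.sup hN, Subgroup.map_sup,
    (map_eq_bot_iff N).2 (QuotientGroup.ker_mk' N).ge, sup_bot_eq]

theorem norm {K : Subgroup G} (h0 : K ≠ ⊥) (h1 : K ≤ H) (h2 : H ≤ normalizer (K : Set G)) : normalizer (K : Set G) = H :=
  (h.co.le_iff.1 h2).resolve_left fun e => have := normalizer_eq_top_iff.1 e; h.not_le h0 h1

theorem oc : pPrimeCore 2 G = ⊥ := h.eq_bot (GW.solvable_of_odd (Core.odd_card_oddCore G))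

theorem cent {y : G} (h0 : y ≠ 1) (h1 : y ∈ H) (h2 : ∀ g ∈ H, Commute g y) : centralizer {y} = H :=
  le_antisymm ((h.norm (by rwa [Ne, zpowers_eq_bot]) (zpowers_le.2 h1) fun g hg =>
    centralizer_le_normalizer _ (by rw [zpowers_eq_closure, centralizer_closure]; exact mem_cent.2 (h2 g hg))) ▸
      fun g hg => centralizer_le_normalizer _ (by rwa [zpowers_eq_closure, centralizer_closure])) fun g hg => mem_cent.2 (h2 g hg)

theorem cent_bot {K : Subgroup G} [K.Normal] (hK : K.index = 2) : centralizer (K : Set G) = ⊥ := by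
  refine h.eq_bot (Group.isSolvable_of_comm fun ⟨c, hc⟩ ⟨d, hd⟩ => Subtype.ext ?_)
  by_cases h1 : d ∈ K
  · exact (hc d h1).symm
  by_cases h2 : c ∈ K
  · exact hd c h2
  have := hc _ ((mul_mem_iff_of_index_two hK).2 (iff_of_false h2 h1))
  exact mul_left_cancel (a := c) (by simpa [mul_assoc] using this.symm)

theorem map {X : Type*} [Group X] [Finite X] (e : G ≃* X) : Cx (H.map e.toMonoidHom) := by
  have := h.sol
  refine ⟨(OrderIso.isCoatom_iff (MulEquiv.mapSubgroup e) H).2 h.co, ?_, fun _ => h.ns (isSolvable_of_equiv e),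
    isSolvable_of_equiv (e.subgroupMap H).symm⟩
  rw [eq_bot_iff_forall]
  intro x hx
  obtain ⟨x, rfl⟩ := e.surjective x
  rw [(eq_bot_iff_forall _).1 h.core x fun g => ?_, map_one]
  obtain ⟨y, hy, e1⟩ := hx (e g)
  rwa [← e.injective (e1.trans (by simp) : e y = e (g * x * g⁻¹))]

theorem three {x : G} (hx : C3 x) (hH : Nat.card H ≤ 6) : Ans G := by
  rcases hx.main with ⟨N, _, h1, -, h2⟩ | ⟨N, _, h1, -, ⟨e⟩⟩ | ⟨⟨e⟩⟩
  · have : Group.IsSolvable (G ⧸ N) := by
      rcases h2 with h2 | ⟨⟨e⟩⟩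
      · exact isSolvable_of_isCyclic (have := Fact.mk Nat.prime_three; isCyclic_of_prime_card h2)
      · exact have := isSolvable_perm_of_le_four (n := 3) (by norm_num); isSolvable_of_equiv e
    exact absurd (Core.isSolvable_of_normal_of_quotient N) h.ns
  · obtain rfl := h.eq_bot (N := N) (Group.isSolvable_of_comm fun a b => h1.1.1 a b)
    exact Or.inl ⟨QuotientGroup.quotientBot.symm.trans e⟩
  · have := Fact.mk Nat.prime_seven
    have h1 : Nat.card (H.map e.toMonoidHom) ≤ 6 := by rwa [card_map_of_injective e.injective]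
    rcases Agent.S5892.result 7 (by simp; decide) (by simp) _ (h.map e).co with h2 | h2 | h2 | ⟨F, _, _, h2, -⟩ |
      ⟨F, _, _, r, r1, r2, h2, -⟩ | h2 | h2 | ⟨-, -, ⟨e'⟩⟩
    · rw [ZMod.card] at h2
      have h3 : 2 * Nat.card (H.map e.toMonoidHom) = 42 := h2
      omega
    · simp at h2
    · simp at h2
    · rw [ZMod.card] at h2; exact absurd (h2 ▸ Nat.prime_seven) (Nat.Prime.not_prime_pow le_rfl)
    · rw [ZMod.card] at h2; exact absurd (h2 ▸ Nat.prime_seven) (Nat.Prime.not_prime_pow r1.two_le)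
    · simp at h2
    · simp at h2
    · rw [Nat.card_congr e'.toEquiv] at h1; simp [Fintype.card_perm, Nat.factorial] at h1

theorem z3 (e : H ≃* Multiplicative (ZMod 3)) : Ans G := by
  have h3 : Nat.card H = 3 := by rw [Nat.card_congr e.toEquiv]; simp
  have := Fact.mk Nat.prime_three
  obtain ⟨x, hx⟩ := exists_prime_orderOf_dvd_card' 3 h3.symm.dvd
  have h1 : zpowers (x : G) = H := eq_of_le_of_card_ge (zpowers_le.2 x.2) (by rw [Nat.card_zpowers, orderOf_coe, hx, h3])
  have h2 := (orderOf_coe x).trans hx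
  refine h.three (x := x) ⟨h2, fun y hy => ?_⟩ (by omega)
  rw [h1, ← h.cent (y := x) (fun e => by rw [e, orderOf_one] at h2; omega) x.2 fun g hg => ?_]
  · exact mem_cent.2 hy
  · obtain ⟨k, rfl⟩ := h1.ge hg
    exact Commute.zpow_self _ _

theorem s3 (e : H ≃* Equiv.Perm (Fin 3)) : Ans G := by
  obtain ⟨φ, hφ, rfl⟩ := exists_emb e
  have h1 : orderOf (φ (finRotate 3)) = 3 := (orderOf_injective φ hφ _).trans (orderOf_eq_prime (by decide) (by decide))
  have h2 : ∀ p, p * finRotate 3 * p⁻¹ = finRotate 3 ∨ p * finRotate 3 * p⁻¹ = (finRotate 3)⁻¹ := by decide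
  have h3 : ∀ p, p * finRotate 3 = finRotate 3 * p → p = 1 ∨ p = finRotate 3 ∨ p = (finRotate 3)⁻¹ := by decide
  have h4 := h.norm (K := zpowers (φ (finRotate 3))) (by rw [Ne, zpowers_eq_bot]; rintro e; rw [e, orderOf_one] at h1; omega)
    (zpowers_le.2 ⟨_, rfl⟩) (by
      rintro _ ⟨p, rfl⟩
      refine mem_normalizer_of_cj_le (by
        rw [cj_def, MonoidHom.map_zpowers, zpowers_le]
        change φ p * _ * (φ p)⁻¹ ∈ _
        rw [← map_inv, ← map_mul, ← map_mul]
        rcases h2 p with e | e <;> rw [e]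
        exacts [mem_zpowers _, by rw [map_inv]; exact inv_mem (mem_zpowers _)]))
  refine h.three (x := φ (finRotate 3)) ⟨h1, fun y hy => ?_⟩ (by rw [Nat.card_congr e.toEquiv]; simp [Fintype.card_perm, Nat.factorial])
  obtain ⟨p, rfl⟩ := h4.le (centralizer_le_normalizer _ (by rw [zpowers_eq_closure, centralizer_closure]; exact mem_cent.2 hy))
  rcases h3 p (hφ (by rw [map_mul, map_mul]; exact hy.eq)) with rfl | rfl | rfl
  exacts [by rw [map_one]; exact one_mem _, mem_zpowers _, by rw [map_inv]; exact inv_mem (mem_zpowers _)]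

theorem s5 {K : Subgroup G} [K.Normal] (hK : K.index = 2) (e : K ≃* alternatingGroup (Fin 5)) :
    Nonempty (G ≃* Equiv.Perm (Fin 5)) := by
  let e' := MulEquiv.ofBijective _ (conjNormal_alt_bijective (α := Fin 5) (by simp) (by simp))
  refine nonempty_equiv_perm_of_injective (e'.symm.toMonoidHom.comp ((MulAut.congr e).toMonoidHom.comp MulAut.conjNormal))
    (e'.symm.injective.comp ((MulAut.congr e).injective.comp ((injective_iff_map_eq_one _).2 fun g hg => ?_))) ?_
  · rw [← mem_bot, ← h.cent_bot hK]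
    exact fun y hy => eq_mul_inv_iff_mul_eq.1 (congrArg Subtype.val (DFunLike.congr_fun hg ⟨y, hy⟩) :).symm
  · rw [← K.card_mul_index, hK, Nat.card_congr e.toEquiv, card_A5]; rfl

theorem d12 (e : H ≃* DihedralGroup 6) : Ans G := by
  have hc := dih_card e
  have h6 : ∀ {X : Type _} [Group X] (e : H ≃* X), ¬ ∀ g : X, g * g = 1 ∨ g ^ 3 = 1 := fun e' h6 => by
    rcases h6 (e' (e.symm (.r 1))) with h7 | h7
    · rw [← map_mul, e'.map_eq_one_iff, ← map_mul, e.symm.map_eq_one_iff] at h7; exact absurd h7 (by decide)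
    · rw [← map_pow, e'.map_eq_one_iff, ← map_pow, e.symm.map_eq_one_iff] at h7; exact absurd h7 (by decide)
  have h7 : ∀ g : alternatingGroup (Fin 4), g * g = 1 ∨ g ^ 3 = 1 := fun g => ((by decide : ∀ g : Equiv.Perm (Fin 4),
    Equiv.Perm.sign g = 1 → g * g = 1 ∨ g ^ 3 = 1) _ g.2).imp (fun e => Subtype.ext e) fun e => Subtype.ext e
  obtain ⟨N, _, -, h1⟩ : GW.PL2Quot G := by
    obtain ⟨φ, hφ, rfl⟩ := exists_emb e
    refine GW.dgroup (A := zpowers (φ (.r 1))) (lt_of_le_of_ne (zpowers_le.2 (MonoidHom.mem_range.2 ⟨_, rfl⟩)) fun e => ?_) ?_ (hc ▸ by decide)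
      (fun j j1 j2 j3 => h.cent (ne_one_of_two j2) j1 j3) h.ns
    · rw [← e, Nat.card_zpowers, orderOf_injective φ hφ, DihedralGroup.orderOf_r_one] at hc; omega
    · rintro _ ⟨i | i, rfl⟩ hx
      · exact absurd (by rw [← MonoidHom.map_zpowers]; exact mem_map_of_mem _ ⟨i.val, by simp⟩) hx
      · rw [← map_mul, DihedralGroup.sr_mul_self, map_one]
  obtain rfl : N = ⊥ := by_contra fun e => not_solv h1 (h.quot e)
  obtain ⟨F, _, _, h3, ⟨⟨f⟩⟩ | ⟨ho, ⟨f⟩⟩⟩ := h1.of_equiv QuotientGroup.quotientBot.symm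
  all_goals have e1 : H.map f.toMonoidHom ≃* H := (f.subgroupMap H).symm
  all_goals have c1 := (Nat.card_congr e1.toEquiv).trans hc
  · rcases Nat.even_or_odd (Fintype.card F) with ho | ho
    · rcases Agent.S5893.result ho h3 _ (h.map f).co with h2 | ⟨⟨e2⟩⟩ | ⟨⟨e2⟩⟩ | ⟨K, _, _, r, r1, r2, h2, ⟨e2⟩⟩
      · obtain ⟨e2⟩ := psl2_four_equiv (F := F) (by
          rw [Nat.card_eq_fintype_card]
          by_contra h4
          have := Nat.mul_le_mul (show 5 ≤ Fintype.card F by omega) (show 4 ≤ Fintype.card F - 1 by omega)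
          erw [c1] at h2; omega)
        exact Or.inl ⟨f.trans e2⟩
      · have := (dih_card e2).symm.trans c1
        obtain ⟨m, hm⟩ := ho; omega
      · have := (dih_card e2).symm.trans c1
        obtain ⟨m, hm⟩ := ho; omega
      · have h4 := card_PSL_two_of_even (F := K) (by
          rw [Nat.card_eq_fintype_card]; exact (Nat.even_pow.1 (h2 ▸ ho)).1)
        rw [← Nat.card_congr e2.toEquiv] at h4
        erw [c1] at h4
        have h5 := cube_bound h4.symm (by norm_num)
        generalize Nat.card K = q at h4 h5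
        interval_cases q <;> omega
    · obtain ⟨p, hp⟩ := CharP.exists F
      have := Fact.mk (CharP.char_is_prime F p)
      rcases Agent.S5892.result p ho (by obtain ⟨m, hm⟩ := ho; omega) _ (h.map f).co with h2 | ⟨-, k, h2, ⟨e2⟩⟩ |
        ⟨-, -, k, h2, ⟨e2⟩⟩ | ⟨K, _, _, -, ⟨e2⟩⟩ | ⟨K, _, _, r, r1, r2, h2, ⟨e2⟩⟩ | ⟨-, -, ⟨e2⟩⟩ | ⟨-, -, -, ⟨e2⟩⟩ | ⟨-, -, ⟨e2⟩⟩
      · erw [c1] at h2
        have h4 : Fintype.card F ≤ 5 := by
          by_contra! h4
          have := Nat.mul_le_mul h4 (show 5 ≤ Fintype.card F - 1 by omega); omega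
        generalize Fintype.card F = q at h2 h3 h4
        interval_cases q <;> omega
      · have := (dih_card e2).symm.trans c1
        obtain ⟨e3⟩ := psl_zmod (F := F) (p := 13) (by norm_num) (by omega)
        exact Or.inr (Or.inr (Or.inr (Or.inr (Or.inl ⟨f.trans e3⟩))))
      · have := (dih_card e2).symm.trans c1
        obtain ⟨e3⟩ := psl_zmod (F := F) (p := 11) (by norm_num) (by omega)
        exact Or.inr (Or.inr (Or.inr (Or.inl ⟨f.trans e3⟩)))
      · have h4 := card_PGL_two (F := K)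
        rw [← Nat.card_congr e2.toEquiv] at h4
        erw [c1] at h4
        have h5 := cube_bound h4.symm (by norm_num)
        generalize Nat.card K = q at h4 h5
        interval_cases q <;> omega
      · have h4 := card_PSL_two_of_odd (F := K) (by
          rw [Nat.card_eq_fintype_card]; exact (Nat.odd_pow_iff r1.ne_zero).1 (h2 ▸ ho))
        rw [← Nat.card_congr e2.toEquiv] at h4
        erw [c1] at h4
        have h5 := cube_bound h4.symm (by norm_num)
        obtain ⟨e3⟩ := psl2_three_equiv (F := K) (by generalize Nat.card K = q at h4 h5; interval_cases q <;> omega)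
        exact absurd h7 (h6 ((e1.symm.trans e2).trans e3))
      · rw [Nat.card_congr e2.toEquiv, card_A5] at c1; omega
      · exact absurd h7 (h6 (e1.symm.trans e2))
      · rw [Nat.card_congr e2.toEquiv] at c1; simp [Fintype.card_perm, Nat.factorial] at c1
  · have := Finite.of_equiv _ f.toEquiv
    have h2 : (2 : F) ≠ 0 := Known.two_ne_zero_of_odd (by rwa [Nat.card_eq_fintype_card])
    have hi := index_LL h2
    have hn := normal_of_index_eq_two hi
    have h8 : ¬ (Matrix.ProjGenLinGroup.mk.comp Matrix.SpecialLinearGroup.toGL).range ≤ H.map f.toMonoidHom := fun e2 => by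
      refine (h.map f).not_le (N := LL F) (fun e3 => ?_) ?_
      · rw [e3, index_bot] at hi
        exact (h.map f).ns (isSolvable_of_isCyclic (have := Fact.mk Nat.prime_two; isCyclic_of_prime_card hi))
      · rintro _ ⟨x, rfl⟩
        obtain ⟨x, rfl⟩ := QuotientGroup.mk_surjective x
        exact e2 ⟨x, rfl⟩
    rcases Agent.S5891.result ho h3 _ (h.map f).co h8 with
      h4 | ⟨-, ⟨e2⟩⟩ | ⟨⟨e2⟩⟩ | ⟨-, -, ⟨e2⟩⟩ | ⟨K, _, _, r, -, -, -, ⟨e2⟩⟩
    · erw [c1] at h4
      have := Nat.mul_le_mul (show 5 ≤ Fintype.card F by obtain ⟨m, hm⟩ := ho; omega)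
        (show 4 ≤ Fintype.card F - 1 by obtain ⟨m, hm⟩ := ho; omega)
      omega
    · have := (dih_card e2).symm.trans c1
      exact Or.inr (Or.inr (Or.inl ⟨f.trans (pglMapEquiv (Fin 2) (ZMod.ringEquivOfPrime F Nat.prime_seven (by omega))).symm⟩))
    · have := (dih_card e2).symm.trans c1
      obtain ⟨e3⟩ := psl2_five_equiv (F := F) (by rw [Nat.card_eq_fintype_card]; omega)
      obtain ⟨e4⟩ := (h.map f).s5 hi ((MonoidHom.ofInjective Matrix.ProjectiveSpecialLinearGroup.toPGL_injective).symm.trans e3)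
      exact Or.inr (Or.inl ⟨f.trans e4⟩)
    · rw [Nat.card_congr e2.toEquiv] at c1; simp [Fintype.card_perm, Nat.factorial] at c1
    · have h4 := card_PGL_two (F := K)
      rw [← Nat.card_congr e2.toEquiv] at h4
      erw [c1] at h4
      have h5 := cube_bound h4.symm (by norm_num)
      generalize Nat.card K = q at h4 h5
      interval_cases q <;> omega

end Cx

end Cfsg.Lib.Layer.Wong
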