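import Cfsg.Agent.Lib.Layer.Wong4
import Cfsg.Agent.Lib.Golay.Stab

/-!
# Non-solvable groups with a core-free maximal subgroup `S₄`
-/

set_option autoImplicit false
set_option maxRecDepth 100000
set_option linter.unusedSectionVars false

namespace Cfsg.Lib.Layer.Wong

open Cfsg Cfsg.Lib.Invol Cfsg.Lib.Transfer Cfsg.Lib.Exc Cfsg.Lib.Linear Subgroup
open Cfsg.Lib.GW (DC2 No2 Nc Kl Two IsPL2)
open scoped Pointwise commutatorElement

variable {G : Type*} [Group G] [Finite G]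

theorem not_m11 {H V : Subgroup Spor.M11} (h : IsCoatom H) (hc : Nat.card H = 24) (hV : IsPGroup 2 V) (h0 : V ≠ ⊥)
    (hn : H ≤ normalizer (V : Set Spor.M11)) : False := by
  classical
  have := fact_two
  have T := Golay.twoTrans_M11
  let Ω := MulAction.orbit Spor.M11 (some 1 : GolayPt)
  have hΩ : Ω = ((Golay.om 0x5335f).erase (some 0) : Finset GolayPt) := Set.ext fun x =>
    ⟨by rintro ⟨g, rfl⟩; exact T.inv g g.2 _ T.mem, fun hx => let ⟨g, hg, e⟩ := T.one x hx; ⟨⟨g, hg⟩, e⟩⟩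
  have := Fintype.ofFinite Ω
  have h11 : Fintype.card Ω = 11 := by
    rw [← Nat.card_eq_fintype_card, hΩ, Nat.card_coe_set_eq, Set.ncard_coe_finset, Finset.card_erase_of_mem Golay.zero_mem_D0,
      Golay.card_D0]
  let A : Finset Ω := Finset.univ.filter fun p => ∀ v ∈ V, v • p = p
  have hA : ∀ p, p ∈ A ↔ ∀ v ∈ V, v • p = p := fun p => by simp [A]
  obtain ⟨p, hp⟩ := hV.nonempty_fixed_point_of_prime_not_dvd_card Ω (by rw [Nat.card_eq_fintype_card, h11]; decide)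
  have hp' : p ∈ A := (hA p).2 fun v hv => hp ⟨v, hv⟩
  have h3 : A.card ≤ 3 := by
    by_contra! h3
    obtain ⟨B, hB, h4⟩ := Finset.exists_subset_card_eq h3
    let e := B.equivFinOfCardEq h4
    have h5 : ∀ i, ((e.symm i : Ω) : GolayPt) ∈ (Golay.om 0x5335f).erase (some 0) := fun i => hΩ.le (e.symm i).1.2
    refine h0 ((eq_bot_iff_forall _).2 fun v hv => Subtype.ext (Golay.M12_eq_one_of_fix_emb v.2.1
      ⟨Fin.cons (some 0) fun i => ((e.symm i : Ω) : GolayPt), Fin.cons_injective_iff.2 ⟨?_, ?_⟩⟩ (Fin.cases Golay.zero_mem_D0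
        fun i => Finset.mem_of_mem_erase (h5 i)) (Fin.cases v.2.2 fun i => ?_)))
    · rintro ⟨i, hi⟩; exact Finset.ne_of_mem_erase (h5 i) hi
    · exact Subtype.val_injective.comp (Subtype.val_injective.comp e.symm.injective)
    · exact congrArg Subtype.val ((hA _).1 (hB (e.symm i).2) v hv)
  have h4 : H ≤ MulAction.stabilizer Spor.M11 A := fun g hg => by
    refine Finset.eq_of_subset_of_card_le (fun q hq => ?_) (Finset.card_smul_finset _ _).ge
    obtain ⟨q, h5, rfl⟩ := Finset.mem_smul_finset.1 hq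
    refine (hA _).2 fun v hv => ?_
    rw [← mul_smul, show v * g = g * (g⁻¹ * v * g⁻¹⁻¹) by group, mul_smul,
      (hA _).1 h5 _ (conj_mem_of_mem_normalizer (inv_mem (hn hg)) hv)]
  rcases h.le_iff.1 h4 with e | e
  · obtain ⟨q, hq⟩ : ∃ q, q ∉ A := by
      by_contra! h5
      rw [Finset.eq_univ_of_forall h5, Finset.card_univ] at h3; omega
    obtain ⟨g, rfl⟩ := MulAction.exists_smul_eq Spor.M11 p q
    exact hq (MulAction.mem_stabilizer_iff.1 (e.ge (mem_top g)) ▸ Finset.smul_mem_smul_finset hp')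
  · have h5 := H.card_mul_index
    rw [hc, Golay.card_M11, ← e, MulAction.index_stabilizer] at h5
    have h6 : (MulAction.orbit Spor.M11 A).ncard ≤ (Finset.powersetCard A.card (Finset.univ : Finset Ω)).card := by
      rw [← Set.ncard_coe_finset]
      exact Set.ncard_le_ncard (by rintro _ ⟨g, rfl⟩; simp)
    rw [Finset.card_powersetCard, Finset.card_univ, h11] at h6
    have h7 : ∀ k ≤ 3, Nat.choose 11 k ≤ 165 := by decide
    have := h7 _ h3
    omega

theorem dq {a b : G} (hk : Kl a b) (h : SC a b) : DC2 G ∨ ∃ S : Subgroup G, SylowIn 2 S ⊤ ∧ IsQuasiDihedral S := by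
  have := fact_two
  obtain ⟨S, h1, hS⟩ := exists_sylowIn_ge (H := ⊤) hk.isPGroup le_top
  have ha := h1 (Kl.mem_left a b)
  have hb := h1 (Kl.mem_right a b)
  obtain ⟨c, c1, c2, c3⟩ := exists_central hS.2 fun e => ne_one_of_two hk.ha (mem_bot.1 (e ▸ ha))
  obtain ⟨s, s1, s2⟩ : ∃ s ∈ S, S ⊓ centralizer {s} = closure {a, b} := by
    have h2 : ∀ s ∈ closure ({a, b} : Set G), closure ({a, b} : Set G) ≤ S ⊓ centralizer {s} := fun s hs =>
      le_inf h1 fun x hx => mem_cent.2 (commute_of_mulComm hk.isComm hx hs)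
    rcases (hk.mem_iff c).1 (h c (c3 a ha) (c3 b hb)) with rfl | rfl | rfl | rfl
    · exact absurd rfl (ne_one_of_two c2)
    · exact ⟨b, hb, le_antisymm (fun x hx => h x (c3 x hx.1).symm (mem_cent.1 hx.2)) (h2 _ (Kl.mem_right _ _))⟩
    · exact ⟨a, ha, le_antisymm (fun x hx => h x (mem_cent.1 hx.2) (c3 x hx.1).symm) (h2 _ (Kl.mem_left _ _))⟩
    · refine ⟨a, ha, le_antisymm (fun x hx => h x (mem_cent.1 hx.2) ?_) (h2 _ (Kl.mem_left _ _))⟩
      exact hk.a_ab ▸ (mem_cent.1 hx.2).mul_right (c3 x hx.1).symm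
  obtain ⟨S, rfl⟩ := hS.exists_sylow_top
  exact (GW.dc2_or_qd S (z := ⟨s, s1⟩) ((GW.card_cent_subtype _).trans (by rw [s2, hk.card])) ⟨a, trivial, b, trivial, hk⟩).imp_right
    fun e => ⟨S, hS, e⟩

theorem exists_norm {H T : Subgroup G} {g : G} (h3 : (H ⊓ cj g H).relIndex H = 3) {k : ℕ} (hc : Nat.card H = 2 ^ k * 3)
    (hT : SylowIn 2 T H) : ∃ n ∈ normalizer (T : Set G), n ∉ H := by
  have := fact_two
  have h1 := Transfer.card_mul_relIndex (inf_le_left : H ⊓ cj g H ≤ H)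
  rw [h3, hc] at h1
  have h2 : IsPGroup 2 ↥(H ⊓ cj g H) := IsPGroup.of_card (Nat.eq_of_mul_eq_mul_right three_pos h1)
  have h4 : SylowIn 2 (H ⊓ cj g H) H := ⟨inf_le_left, h2, by rw [h3]; decide⟩
  obtain ⟨a, a1, a2⟩ := h4.exists_cj_eq hT
  obtain ⟨b, b1, b2⟩ := (h4.of_card_le (U := cj g⁻¹ (H ⊓ cj g H)) ((cj_mono _ inf_le_right).trans (cj_inv_cj g H).le)
    (isPGroup_cj _ h2) (card_cj _ _).ge).exists_cj_eq hT
  refine ⟨b * g⁻¹ * a⁻¹, cj_eq_iff.1 (by rw [cj_mul, cj_mul, ← a2, cj_inv_cj, b2, a2]), fun e => ?_⟩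
  rw [mul_mem_cancel_right (inv_mem a1), mul_mem_cancel_left b1, inv_mem_iff] at e
  rw [cj_eq_of_mem e, inf_idem, relIndex_self] at h3
  omega

/-- a double transposition -/
abbrev z0 : Equiv.Perm (Fin 4) := Equiv.swap 0 1 * Equiv.swap 2 3
/-- another double transposition -/
abbrev b0 : Equiv.Perm (Fin 4) := Equiv.swap 0 2 * Equiv.swap 1 3

instance {P : Type*} [Group P] [DecidableEq P] (a : P) : DecidablePred (· ∈ centralizer ({a} : Set P)) :=
  fun g => decidable_of_iff (g * a = a * g) mem_centralizer_singleton_iff.symm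

omit [Finite G] in
theorem kl_map {P : Type*} [Group P] {φ : P →* G} (hφ : Function.Injective φ) {a b : P} (h : a * a = 1 ∧ a ≠ 1 ∧ b * b = 1 ∧
    b ≠ 1 ∧ b ≠ a ∧ b * a = a * b) : Kl (φ a) (φ b) :=
  ⟨(orderOf_injective φ hφ _).trans (two_iff.2 ⟨h.1, h.2.1⟩), (orderOf_injective φ hφ _).trans (two_iff.2 ⟨h.2.2.1, h.2.2.2.1⟩),
    fun e => h.2.2.2.2.1 (hφ e), Commute.map h.2.2.2.2.2 φ⟩

theorem Kl.norm {a b g : G} (h1 : g * a * g⁻¹ ∈ closure ({a, b} : Set G)) (h2 : g * b * g⁻¹ ∈ closure ({a, b} : Set G)) :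
    g ∈ normalizer (closure ({a, b} : Set G) : Set G) :=
  mem_normalizer_of_cj_le (by
    rw [cj_def, MonoidHom.map_closure, Set.image_pair]; exact Kl.closure_le h1 h2)

theorem mem_kl {P : Type*} [Group P] {φ : P →* G} {a b p : P} (h : p = 1 ∨ p = a ∨ p = b ∨ p = a * b) :
    φ p ∈ closure ({φ a, φ b} : Set G) := by
  rcases h with rfl | rfl | rfl | rfl
  exacts [by rw [map_one]; exact one_mem _, Kl.mem_left _ _, Kl.mem_right _ _,
    by rw [map_mul]; exact mul_mem (Kl.mem_left _ _) (Kl.mem_right _ _)]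

theorem sixteen {q : ℕ} (h1 : q % 2 = 1) {n : ℕ} (h : 2 * n = q * (q - 1) * (q + 1)) (h16 : 16 ∣ n) :
    q % 16 = 1 ∨ q % 16 = 15 := by
  obtain ⟨m, rfl⟩ := h16
  obtain ⟨q, rfl⟩ : ∃ r, q = r + 1 := ⟨q - 1, by omega⟩
  have h2 : (q + 1) * q * (q + 2) % 32 = 0 := by rw [Nat.add_sub_cancel] at h; rw [← h]; omega
  have h3 : ∀ r < 32, (r + 1) % 2 = 1 → (r + 1) * r * (r + 2) % 32 = 0 → (r + 1) % 16 = 1 ∨ (r + 1) % 16 = 15 := by decide
  have := h3 (q % 32) (Nat.mod_lt _ (by norm_num)) (by omega) (by rw [← h2]; simp [Nat.mul_mod, Nat.add_mod])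
  omega

theorem Cx.s4 {H : Subgroup G} (h : Cx H) {g : G} (h3 : (H ⊓ cj g H).relIndex H = 3) (e : H ≃* Equiv.Perm (Fin 4)) : Ans G := by
  have := fact_two
  have hc : Nat.card H = 24 := by rw [Nat.card_congr e.toEquiv]; simp [Fintype.card_perm, Nat.factorial]
  obtain ⟨φ, hφ, rfl⟩ := exists_emb e
  have hk : Kl (φ z0) (φ b0) := kl_map hφ (by decide)
  have hV : ∀ p, Equiv.Perm.sign p = 1 → p * p = 1 → φ p ∈ closure ({φ z0, φ b0} : Set G) := fun p h1 h2 => mem_kl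
    ((by decide : ∀ p : Equiv.Perm (Fin 4), Equiv.Perm.sign p = 1 → p * p = 1 → p = 1 ∨ p = z0 ∨ p = b0 ∨ p = z0 * b0) p h1 h2)
  have hN : normalizer (closure ({φ z0, φ b0} : Set G) : Set G) = φ.range := h.norm
    (fun e => ne_one_of_two hk.ha (mem_bot.1 (e ▸ Kl.mem_left _ _))) (Kl.closure_le ⟨_, rfl⟩ ⟨_, rfl⟩) (by
      rintro _ ⟨p, rfl⟩
      refine Kl.norm ?_ ?_ <;> rw [← map_inv, ← map_mul, ← map_mul] <;> refine hV _ ?_ ?_ <;> revert p <;> decide)
  have hS : SC (φ z0) (φ b0) := fun x h1 h2 => by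
    obtain ⟨p, rfl⟩ := hN.le (centralizer_le_normalizer _ (hk.mem_cent_iff.2 ⟨h1, h2⟩))
    obtain ⟨h4, h5⟩ := (by decide : ∀ p : Equiv.Perm (Fin 4), p * z0 = z0 * p → p * b0 = b0 * p →
      Equiv.Perm.sign p = 1 ∧ p * p = 1) p (hφ (by simpa using h1.eq)) (hφ (by simpa using h2.eq))
    exact hV p h4 h5
  have c8 : Nat.card ((centralizer {z0}).map φ) = 8 := by
    rw [card_map_of_injective hφ, Nat.card_eq_fintype_card]; decide
  have hT : SylowIn 2 ((centralizer {z0}).map φ) φ.range := ⟨map_le_range _ _, IsPGroup.of_card (n := 3) c8, by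
    have := Transfer.card_mul_relIndex (map_le_range φ (centralizer {z0}))
    rw [c8, hc] at this; omega⟩
  obtain ⟨n, n1, n2⟩ := exists_norm h3 (k := 3) hc hT
  have key : ∀ p, p * z0 = z0 * p → ∃ q, q * z0 = z0 * q ∧ φ q = n * φ p * n⁻¹ := fun p hp =>
    let ⟨q, h1, h2⟩ := conj_mem_of_mem_normalizer n1 (mem_map_of_mem φ (mem_cent.2 hp)); ⟨q, mem_cent.1 h1, h2⟩
  have nz : n * φ z0 * n⁻¹ = φ z0 := by
    obtain ⟨r, r1, r2⟩ := key (Equiv.swap 0 1 * b0) (by decide)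
    have h1 : n * φ z0 * n⁻¹ = φ (r * r) := by
      rw [φ.map_mul r r, r2, conj_mul, ← map_mul]; congr 3; decide
    rcases (by decide : ∀ r : Equiv.Perm (Fin 4), r * z0 = z0 * r → r * r = 1 ∨ r * r = z0) r r1 with e | e <;> rw [e] at h1
    · exact absurd (by simpa using h1) (ne_one_of_two hk.ha)
    · exact h1
  obtain ⟨p, p1, p2⟩ := key b0 (by decide)
  have p3 : p * p = 1 := hφ (by rw [map_mul, p2, conj_mul, mul_self_of_two hk.hb]; simp)
  have p4 : Equiv.Perm.sign p ≠ 1 := fun e => n2 (hN.le (Kl.norm (nz.symm ▸ Kl.mem_left _ _) (p2 ▸ hV p e p3)))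
  have n3 : n * n ∈ (centralizer {z0}).map φ := by
    obtain ⟨q, q1, q2⟩ := key p p1
    have q3 : q * q = 1 := hφ (by rw [map_mul, q2, conj_mul, ← map_mul, p3]; simp)
    have q4 : Equiv.Perm.sign q = 1 := by_contra fun q4 => by
      rcases (by decide : ∀ p q : Equiv.Perm (Fin 4), p * z0 = z0 * p → p * p = 1 → Equiv.Perm.sign p ≠ 1 → q * z0 = z0 * q →
        q * q = 1 → Equiv.Perm.sign q ≠ 1 → q = p ∨ q = z0 * p) p q p1 p3 p4 q1 q3 q4 with e | e
      · rw [e, p2, mul_left_inj, mul_right_inj, ← p2] at q2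
        exact p4 (hφ q2 ▸ by decide)
      · rw [e, map_mul, ← nz, p2, conj_mul, mul_left_inj, mul_right_inj, ← p2, ← map_mul] at q2
        exact p4 (hφ q2 ▸ by decide)
    have h1 : n * n * φ z0 * (n * n)⁻¹ = φ z0 := by rw [← GW.conj_mul', nz, nz]
    obtain ⟨r, hr⟩ := hN.le (Kl.norm (g := n * n) (h1.symm ▸ Kl.mem_left _ _) (by
      rw [← GW.conj_mul', ← p2, ← q2]; exact hV q q4 q3))
    exact ⟨r, mem_cent.2 (hφ (by rw [φ.map_mul r, φ.map_mul _ r, hr]; exact mul_inv_eq_iff_eq_mul.1 h1)), hr⟩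
  have h16 : 16 ∣ Nat.card G := by
    obtain ⟨S, s1, s2⟩ := exists_sylowIn_ge (H := ⊤) hT.2 le_top
    obtain ⟨k, hk⟩ := IsPGroup.iff_card.1 s2.2
    refine (dvd_trans ?_ (card_subgroup_dvd_card S))
    rw [hk]
    refine pow_dvd_pow 2 (show 4 ≤ k from by_contra fun e => n2 (hT.1 ?_))
    have h1 := s2.of_card_le le_top hT.2 (by rw [hk, c8]; exact Nat.pow_le_pow_right two_pos (show k ≤ 3 by omega))
    obtain ⟨j, hj⟩ := Two.of_mem hT.2 n3
    exact h1.le_of_normalizes (Two.isPGroup ⟨j + 1, by rw [pow_succ', pow_mul, sq, hj]⟩) le_top (zpowers_le.2 n1) (mem_zpowers n)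
  have hP : ⁅(⊤ : Subgroup G), (⊤ : Subgroup G)⁆ = ⊤ := by
    have h1 : ∀ q, Equiv.Perm.sign q = 1 → φ q ∈ ⁅(⊤ : Subgroup G), (⊤ : Subgroup G)⁆ := fun q hq => by
      obtain ⟨a, b, rfl⟩ := (by decide +kernel : ∀ g : Equiv.Perm (Fin 4), Equiv.Perm.sign g = 1 →
        ∃ a b : Equiv.Perm (Fin 4), ⁅a, b⁆ = g) q hq
      rw [map_commutatorElement]; exact commutator_mem_commutator trivial trivial
    have h2 : φ p ∈ ⁅(⊤ : Subgroup G), (⊤ : Subgroup G)⁆ := p2 ▸ Normal.conj_mem inferInstance _ (h1 _ (by decide)) n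
    refine (h.co.le_iff.1 ?_).resolve_right fun e => h.not_le (fun e1 => ?_) e.le
    · rintro _ ⟨q, rfl⟩
      by_cases hq : Equiv.Perm.sign q = 1
      · exact h1 q hq
      · rw [← mul_mem_cancel_right h2, ← map_mul]
        exact h1 _ (by rw [map_mul, (Int.units_eq_one_or _).resolve_left hq, (Int.units_eq_one_or _).resolve_left p4]; rfl)
    · rw [← e, e1, card_bot] at hc; omega
  rcases dq hk hS with hD | ⟨S, s1, s2⟩
  · rcases hD.known_of_perfect h.oc hP (fun e => h.co.1 (top_le_iff.1 (e.le.trans bot_le))) with ⟨F, _, _, ho, h4, ⟨f⟩⟩ | ⟨⟨f⟩⟩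
    swap
    · rw [Nat.card_congr f.toEquiv, nat_card_alternatingGroup] at h16; simp [Nat.factorial] at h16
    have e1 : φ.range.map f.toMonoidHom ≃* φ.range := (f.subgroupMap _).symm
    have c1 := (Nat.card_congr e1.toEquiv).trans hc
    have c2 := card_PSL_two_of_odd (F := F) (by rwa [Nat.card_eq_fintype_card])
    rw [← Nat.card_congr f.toEquiv, Nat.card_eq_fintype_card (α := F)] at c2
    have c3 := sixteen (Nat.odd_iff.1 ho) c2 h16
    obtain ⟨p, hp⟩ := CharP.exists F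
    have hp' := Fact.mk (CharP.char_is_prime F p)
    rcases Agent.S5892.result p ho (by omega) _ (h.map f).co with h2 | ⟨-, k, h2, ⟨e2⟩⟩ |
      ⟨-, -, k, h2, ⟨e2⟩⟩ | ⟨K, _, _, h2, ⟨e2⟩⟩ | ⟨K, _, _, r, r1, r2, h2, ⟨e2⟩⟩ | ⟨-, -, ⟨e2⟩⟩ | ⟨-, -, -, ⟨e2⟩⟩ | ⟨h2, -, -⟩
    · rw [c1] at h2
      have := Nat.mul_le_mul (show 15 ≤ Fintype.card F by omega) (show 14 ≤ Fintype.card F - 1 by omega); omega
    · have := (dih_card e2).symm.trans c1; omega
    · have := (dih_card e2).symm.trans c1; omega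
    · have h4 := card_PGL_two (F := K)
      rw [← Nat.card_congr e2.toEquiv, c1, Nat.card_eq_fintype_card] at h4
      have := Nat.pow_le_pow_left (cube_bound h4.symm (by norm_num)) 2
      omega
    · have h4 := card_PSL_two_of_odd (F := K) (by
        rw [Nat.card_eq_fintype_card]; exact (Nat.odd_pow_iff r1.ne_zero).1 (h2 ▸ ho))
      rw [← Nat.card_congr e2.toEquiv, c1] at h4
      have h5 := cube_bound h4.symm (by norm_num)
      generalize Nat.card K = q at h4 h5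
      interval_cases q <;> omega
    · rw [Nat.card_congr e2.toEquiv, card_A5] at c1; omega
    · rw [Nat.card_congr e2.toEquiv, card_A4] at c1; omega
    · obtain ⟨e3⟩ := psl_zmod hp'.out h2
      exact Or.inr (Or.inr (Or.inr (Or.inr (Or.inr (Or.inl ⟨p, hp'.out, h2 ▸ c3, ⟨f.trans e3⟩⟩)))))
  · refine (qd_glt s1 s2 h.oc (fun K hK => ?_) hk hS).elim fun f hf => ?_
    swap
    · rcases hf.iso with e1 | ⟨⟨e1⟩⟩
      · exact Or.inr (Or.inr (Or.inr (Or.inr (Or.inr (Or.inr (Or.inl e1))))))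
      · refine (not_m11 (h.map e1).co (by rwa [card_map_of_injective e1.injective]) (hk.isPGroup.map e1.toMonoidHom)
          (fun e => ?_) ((map_mono hN.ge).trans (le_normalizer_map _))).elim
        exact ne_one_of_two hk.ha (mem_bot.1 ((map_eq_bot_iff_of_injective _ e1.injective).1 e ▸ Kl.mem_left _ _))
    · have := commutator_le_of_index_two hK
      rw [_root_.commutator_def, hP, top_le_iff] at this
      rw [this, index_top] at hK; omega

end Cfsg.Lib.Layer.Wong
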