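import Cfsg.Agent.Lib.Layer.Wong5
import Cfsg.Agent.Lib.Amalg.Extremal
import Cfsg.Agent.S2060

/-!
# Non-solvable groups with a core-free maximal subgroup `S₄ × Z₂`
-/

set_option autoImplicit false
set_option maxRecDepth 100000
set_option synthInstance.maxSize 100000
set_option synthInstance.maxHeartbeats 200000
set_option linter.unusedSectionVars false

namespace Cfsg.Lib.Layer.Wong

open Cfsg Cfsg.Lib.Invol Cfsg.Lib.Transfer Cfsg.Lib.Exc Cfsg.Lib.Linear Subgroup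
open Cfsg.Lib.GW (DC2 No2 Nc Kl Two IsPL2)
open Equiv.Perm (sign)
open scoped Pointwise commutatorElement

variable {G : Type*} [Group G] [Finite G]

/-- `S₄ × Z₂` -/
abbrev PP : Type := Equiv.Perm (Fin 4) × Multiplicative (ZMod 2)
/-- a square -/
def z1 : PP := (z0, 1)
/-- a conjugate of the square -/
def b1 : PP := (b0, 1)
/-- the central involution -/
def y1 : PP := (1, Multiplicative.ofAdd 1)
/-- the Sylow subgroup -/
abbrev T1 : Subgroup PP := centralizer {z1}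
/-- the largest normal `2`-subgroup -/
def E1 : Subgroup PP where
  carrier := {p | sign p.1 = 1 ∧ p * p = 1}
  mul_mem' := fun {p q} => by revert p q; decide +kernel
  one_mem' := by decide
  inv_mem' := fun {p} => by revert p; decide +kernel
instance : DecidablePred (· ∈ E1) := fun p => inferInstanceAs (Decidable (sign p.1 = 1 ∧ p * p = 1))
instance : E1.Normal := ⟨by decide +kernel⟩
/-- a dihedral complement -/
def D1 (ε : Multiplicative (ZMod 2)) : Subgroup PP where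
  carrier := {p | p * z1 = z1 * p ∧ p.2 = if sign p.1 = 1 then 1 else ε}
  mul_mem' := fun {p q} => by revert ε p q; decide +kernel
  one_mem' := by revert ε; decide
  inv_mem' := fun {p} => by revert ε p; decide +kernel
instance (ε : Multiplicative (ZMod 2)) : DecidablePred (· ∈ D1 ε) := fun p =>
  inferInstanceAs (Decidable (p * z1 = z1 * p ∧ p.2 = if sign p.1 = 1 then 1 else ε))

theorem pow_two_sq {k m : ℕ} (h : 2 * 2 ^ k + 1 = m ^ 2 ∨ 2 * 2 ^ k = m ^ 2 + 1) (h1 : Odd (m ^ 2))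
    (h2 : m ^ 2 % 16 = 1 ∨ m ^ 2 % 16 = 15) : m ^ 2 ≤ 3 := by
  obtain ⟨m, rfl⟩ := (Nat.odd_pow_iff two_ne_zero).1 h1
  rcases h with h | h
  · have h3 : 2 ^ (k + 1) = m * (m + 1) * 4 := by rw [pow_succ]; nlinarith
    have h4 : ∀ a, Odd a → a ∣ 2 ^ (k + 1) → a = 1 := fun a ha =>
      ((Nat.coprime_two_right.2 ha).pow_right _).eq_one_of_dvd
    rcases Nat.even_or_odd m with h5 | h5
    · obtain rfl : m = 0 := by simpa using h4 _ h5.add_one ⟨m * 4, by rw [h3]; ring⟩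
      simp
    · obtain rfl := h4 _ h5 ⟨(m + 1) * 4, by rw [h3]; ring⟩
      simp at h2
  · rcases k with _ | k
    · omega
    · rw [pow_succ, show (2 * m + 1) ^ 2 = 4 * (m * m + m) + 1 by ring] at h; omega

/-- the configuration -/
structure C5 (φ : PP →* G) (n : G) : Prop extends Cx φ.range where
  inj : Function.Injective φ
  n1 : n ∈ normalizer (T1.map φ : Set G)
  n2 : n ∉ φ.range

namespace C5

variable {φ : PP →* G} {n : G} (h : C5 φ n)
include h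

theorem cy : centralizer {φ y1} = φ.range := h.cent (by rw [Ne, map_eq_one_iff _ h.inj]; decide) ⟨_, rfl⟩ (by
  rintro _ ⟨p, rfl⟩
  exact Commute.map ((by decide +kernel : ∀ p, p * y1 = y1 * p) p) φ)

theorem nE : normalizer (E1.map φ : Set G) = φ.range := h.norm
  (by rw [Ne, map_eq_bot_iff_of_injective _ h.inj, eq_bot_iff_forall]; decide +kernel) (map_le_range _ _)
  (by rw [MonoidHom.range_eq_map, ← normalizer_eq_top E1]; exact le_normalizer_map _)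

theorem kl : Kl (φ z1) (φ b1) := kl_map h.inj (by decide)

theorem nV : normalizer (closure ({φ z1, φ b1} : Set G) : Set G) = φ.range := h.norm
  (fun e => ne_one_of_two h.kl.ha (mem_bot.1 (e ▸ Kl.mem_left _ _))) (Kl.closure_le ⟨_, rfl⟩ ⟨_, rfl⟩) (by
    rintro _ ⟨p, rfl⟩
    refine Kl.norm ?_ ?_ <;> rw [← map_inv, ← map_mul, ← map_mul] <;> refine mem_kl ?_ <;> revert p <;> decide +kernel)

theorem c16 : Nat.card (T1.map φ) = 16 := by rw [card_map_of_injective h.inj, Nat.card_eq_fintype_card]; decide +kernel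

theorem pT : IsPGroup 2 (T1.map φ) := IsPGroup.of_card (n := 4) h.c16

omit h in
theorem key {m : G} (hm : m ∈ normalizer (T1.map φ : Set G)) {p : PP} (hp : p ∈ T1) : ∃ q ∈ T1, φ q = m * φ p * m⁻¹ :=
  conj_mem_of_mem_normalizer hm (mem_map_of_mem φ hp)

theorem nz {m : G} (hm : m ∈ normalizer (T1.map φ : Set G)) : m * φ z1 * m⁻¹ = φ z1 := by
  obtain ⟨r, r1, r2⟩ := key hm (p := (Equiv.swap 0 1, 1) * b1) (by decide +kernel)
  have h1 : m * φ z1 * m⁻¹ = φ (r * r) := by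
    rw [φ.map_mul r r, r2, conj_mul, ← map_mul]; congr 3; decide +kernel
  rcases (by decide +kernel : ∀ r ∈ T1, r * r = 1 ∨ r * r = z1) r r1 with e | e <;> rw [e] at h1
  · exact absurd (by simpa using h1) (ne_one_of_two h.kl.ha)
  · exact h1

theorem memT {m : G} (hm : m ∈ normalizer (T1.map φ : Set G)) (h1 : m ∈ φ.range) : m ∈ T1.map φ := by
  obtain ⟨p, rfl⟩ := h1
  exact mem_map_of_mem _ (mem_cent.2 (h.inj (by rw [map_mul, map_mul]; exact mul_inv_eq_iff_eq_mul.1 (h.nz hm))))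

theorem ny : n * φ y1 * n⁻¹ = φ (z1 * y1) := by
  obtain ⟨q, q1, q2⟩ := key h.n1 (p := y1) (by decide +kernel)
  have h1 : ∀ t ∈ T1, t * q = q * t := fun t ht => h.inj (by
    obtain ⟨s, -, s2⟩ := key (inv_mem h.n1) ht
    have := commute_conj n (mem_cent.1 (h.cy.ge ⟨s, rfl⟩))
    rw [s2, ← q2] at this
    simpa [mul_assoc] using this.eq)
  rcases (by decide +kernel : ∀ q ∈ T1, (∀ t ∈ T1, t * q = q * t) → q = 1 ∨ q = z1 ∨ q = y1 ∨ q = z1 * y1) q q1 h1 with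
    rfl | rfl | rfl | rfl
  · rw [map_one, eq_comm, mul_inv_eq_one, mul_eq_left, map_eq_one_iff _ h.inj] at q2
    exact absurd q2 (by decide)
  · rw [← h.nz h.n1, mul_left_inj, mul_right_inj] at q2
    exact absurd (h.inj q2) (by decide)
  · exact absurd (h.cy.le (mem_cent.2 (mul_inv_eq_iff_eq_mul.1 q2.symm))) h.n2
  · exact q2.symm

theorem of {m : G} (h1 : m ∈ normalizer (T1.map φ : Set G)) (h2 : m ∉ T1.map φ) : C5 φ m :=
  { h with n1 := h1, n2 := fun e => h2 (h.memT h1 e) }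

theorem mul_mem {m : G} (h1 : m ∈ normalizer (T1.map φ : Set G)) (h2 : m ∉ T1.map φ) : n * m ∈ T1.map φ :=
  h.memT (Subgroup.mul_mem _ h.n1 h1) (h.cy.le (mem_cent.2 (mul_inv_eq_iff_eq_mul.1 (by
    rw [← GW.conj_mul', (h.of h1 h2).ny, map_mul, ← conj_mul, h.nz h.n1, h.ny, ← map_mul]; congr 1; decide +kernel))))

theorem notT : n ∉ T1.map φ := fun e => h.n2 (map_le_range _ _ e)

theorem rel : (T1.map φ).relIndex (normalizer (T1.map φ : Set G)) = 2 := by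
  refine relIndex_eq_two_iff.2 ⟨n, h.n1, fun m hm => ?_⟩
  by_cases e : m ∈ T1.map φ
  · exact Or.inr ⟨e, fun e1 => h.notT ((mul_mem_cancel_left e).1 e1)⟩
  · exact Or.inl ⟨(h.of hm e).mul_mem h.n1 h.notT, e⟩

theorem c32 : Nat.card (normalizer (T1.map φ : Set G)) = 32 := by
  rw [← Transfer.card_mul_relIndex le_normalizer, h.c16, h.rel]

theorem nb : ∃ p ∈ T1, p * p = 1 ∧ sign p.1 ≠ 1 ∧ φ p = n * φ b1 * n⁻¹ := by
  obtain ⟨p, p1, p2⟩ := key h.n1 (p := b1) (by decide +kernel)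
  have p3 : p * p = 1 := h.inj (by rw [map_mul, p2, conj_mul, mul_self_of_two h.kl.hb]; simp)
  refine ⟨p, p1, p3, fun e => h.n2 (h.nE.le (mem_normalizer_of_cj_le (cj_le_iff.2 ?_))), p2⟩
  rintro _ ⟨q, hq, rfl⟩
  obtain ⟨i, j, k, rfl⟩ := (by decide +kernel : ∀ q ∈ E1, ∃ i j k : Fin 2, q = z1 ^ i.1 * b1 ^ j.1 * y1 ^ k.1) q hq
  simp only [map_mul, map_pow, ← conj_mul, ← conj_pow, h.nz h.n1, h.ny, ← p2]
  refine Subgroup.mul_mem _ (Subgroup.mul_mem _ (pow_mem ?_ _) (pow_mem ?_ _)) (pow_mem (Subgroup.mul_mem _ ?_ ?_) _) <;>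
    refine mem_map_of_mem _ ?_
  exacts [by decide +kernel, ⟨e, p3⟩, by decide +kernel, by decide +kernel]

theorem np {p : PP} (hp : φ p = n * φ b1 * n⁻¹) {r : PP} (hr : φ r = n * n) : n * φ p * n⁻¹ = φ (r * b1 * r⁻¹) := by
  rw [hp, GW.conj_mul', map_mul, map_mul, map_inv, hr]

theorem fix {t : G} (ht : t ∈ T1.map φ) (h1 : t * t = 1) (h2 : Commute n t) : t ∈ zpowers (φ z1) := by
  obtain ⟨q, hq, rfl⟩ := ht
  obtain ⟨p, p1, p2, p3, p4⟩ := h.nb
  obtain ⟨r, r1, r2⟩ := h.mul_mem h.n1 h.notT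
  rcases (by decide +kernel : ∀ p ∈ T1, p * p = 1 → sign p.1 ≠ 1 → ∀ r ∈ T1, ∀ q ∈ T1, q * q = 1 → q = 1 ∨ q = z1 ∨
    ∃ i j k l : Fin 2, q = z1 ^ i.1 * b1 ^ j.1 * p ^ k.1 * y1 ^ l.1 ∧
      q ≠ z1 ^ i.1 * p ^ j.1 * (r * b1 * r⁻¹) ^ k.1 * (z1 * y1) ^ l.1) p p1 p2 p3 r r1 q hq (h.inj (by simpa using h1)) with
    rfl | rfl | ⟨i, j, k, l, e, e1⟩
  · rw [map_one]; exact one_mem _
  · exact mem_zpowers _
  · refine absurd (h.inj ((mul_inv_eq_iff_eq_mul.2 h2.eq).symm.trans ?_)) e1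
    rw [e]
    simp only [φ.map_mul _ (_ ^ _), map_pow, ← conj_mul, ← conj_pow, h.nz h.n1, h.ny, ← p4, h.np p4 r2]

theorem cjE {g : G} (hg : cj g (E1.map φ) ≤ normalizer (T1.map φ : Set G)) : cj g (E1.map φ) ≤ T1.map φ := by
  by_contra e
  obtain ⟨u, u1, u2⟩ := SetLike.not_le_iff_exists.1 e
  have sq : ∀ x ∈ cj g (E1.map φ), x * x = 1 := by
    rintro _ ⟨_, ⟨p, hp, rfl⟩, rfl⟩
    rw [← map_mul, ← map_mul, hp.2, map_one, map_one]
  have h1 := card_le_of_le (show T1.map φ ⊓ cj g (E1.map φ) ≤ _ from fun t ht => (h.of (hg u1) u2).fix ht.1 (sq t ht.2)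
    (commute_of_mul_self (sq u u1) (sq t ht.2) (sq _ (Subgroup.mul_mem _ u1 ht.2))))
  have h2 := Transfer.card_mul_relIndex (inf_le_right : T1.map φ ⊓ cj g (E1.map φ) ≤ _)
  have h3 := relIndex_le_of_le_right (H := T1.map φ) hg (by rw [h.rel]; decide)
  rw [inf_relIndex_right, card_cj, card_map_of_injective h.inj, Nat.card_eq_fintype_card (α := E1),
    show Fintype.card E1 = 8 by decide +kernel] at h2
  rw [Nat.card_zpowers, h.kl.ha] at h1
  have := Nat.mul_le_mul h1 (h3.trans h.rel.le)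
  omega

theorem cjT {g : G} (hg : cj g (T1.map φ) ≤ normalizer (T1.map φ : Set G)) : g ∈ normalizer (T1.map φ : Set G) := by
  obtain ⟨p, p1, p2, p3, p4⟩ := h.nb
  have h0 : E1.map φ ≤ T1.map φ := map_mono (by decide +kernel : ∀ p ∈ E1, p ∈ T1)
  have h1 := cj_le_iff.1 (h.cjE ((cj_mono g h0).trans hg))
  have h2 := cj_le_iff.1 (h.cjE (g := g * n) ((cj_mono _ h0).trans (by rwa [cj_mul, cj_eq_of_mem_normalizer h.n1])))
    _ (mem_map_of_mem φ (show b1 ∈ E1 by decide +kernel))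
  rw [← GW.conj_mul', ← p4] at h2
  refine mem_normalizer_of_cj_le (cj_le_iff.2 ?_)
  rintro _ ⟨q, hq, rfl⟩
  rcases (by decide +kernel : ∀ p ∈ T1, p * p = 1 → sign p.1 ≠ 1 → ∀ q ∈ T1, ∃ e ∈ E1, q = e ∨ q = e * p) p p1 p2 p3 q hq with
    ⟨e, he, rfl | rfl⟩
  · exact h1 _ (mem_map_of_mem φ he)
  · rw [map_mul, ← conj_mul]; exact Subgroup.mul_mem _ (h1 _ (mem_map_of_mem φ he)) h2

theorem syl : SylowIn 2 (normalizer (T1.map φ : Set G)) ⊤ := by
  have := fact_two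
  refine sylowIn_of_maximal le_top (IsPGroup.of_card (n := 5) h.c32) fun Q hQ h1 _ => by_contra fun e => ?_
  obtain ⟨m, m1, m2⟩ := SetLike.exists_of_lt (lt_inf_normalizer hQ (lt_of_le_of_ne h1 fun e1 => e e1.ge))
  exact m2 (h.cjT ((cj_mono m le_normalizer).trans (cj_eq_of_mem_normalizer m1.2).le))

theorem idx : ¬ No2 G := fun h2 => by
  obtain ⟨p, p1, p2, p3, p4⟩ := h.nb
  obtain ⟨r, r1, r2⟩ := h.mul_mem h.n1 h.notT
  have hD : n ∈ normalizer ((D1 p.2).map φ : Set G) := mem_normalizer_of_cj_le (cj_le_iff.2 (by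
    rintro _ ⟨q, hq, rfl⟩
    obtain ⟨i, j, k, rfl, e⟩ := (by decide +kernel : ∀ p ∈ T1, p * p = 1 → sign p.1 ≠ 1 → ∀ r ∈ T1, ∀ q ∈ D1 p.2,
      ∃ i j k : Fin 2, q = z1 ^ i.1 * b1 ^ j.1 * p ^ k.1 ∧ z1 ^ i.1 * p ^ j.1 * (r * b1 * r⁻¹) ^ k.1 ∈ D1 p.2) p p1 p2 p3 r r1 q hq
    refine ⟨_, e, ?_⟩
    simp only [φ.map_mul _ (_ ^ _), map_pow, ← conj_mul, ← conj_pow, h.nz h.n1, ← p4, h.np p4 r2]))
  have hn : n * n ∈ (D1 p.2).map φ := by
    refine ⟨r, ((by decide +kernel : ∀ p ∈ T1, p * p = 1 → sign p.1 ≠ 1 → ∀ r ∈ T1, r ∈ D1 p.2 ∨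
      ∃ i j k : Fin 2, r = z1 ^ i.1 * b1 ^ j.1 * p ^ k.1 * y1 ∧
        r ≠ z1 ^ i.1 * p ^ j.1 * (r * b1 * r⁻¹) ^ k.1 * (z1 * y1)) p p1 p2 p3 r r1).resolve_right ?_, r2⟩
    rintro ⟨i, j, k, e, e1⟩
    refine e1 (h.inj ((show φ r = n * φ r * n⁻¹ by rw [r2]; group).trans ?_))
    conv_lhs => rw [e]
    simp only [φ.map_mul _ (_ ^ _), φ.map_mul (_ * _ ^ _), map_pow, ← conj_mul, ← conj_pow, h.nz h.n1, h.ny, ← p4, h.np p4 r2]
  have c1 := fun x => conj_mem_of_mem_normalizer (x := x) hD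
  have c2 := fun x => conj_mem_of_mem_normalizer (x := x) (inv_mem hD)
  let M : Subgroup G :=
    { carrier := {g | g ∈ (D1 p.2).map φ ∨ n * g ∈ (D1 p.2).map φ}
      mul_mem' := by
        rintro a b (ha | ha) (hb | hb)
        · exact Or.inl (Subgroup.mul_mem _ ha hb)
        · exact Or.inr (by simpa [mul_assoc] using Subgroup.mul_mem _ (c1 _ ha) hb)
        · exact Or.inr (by simpa [mul_assoc] using Subgroup.mul_mem _ ha hb)
        · exact Or.inl (by simpa [mul_assoc] using Subgroup.mul_mem _ (Subgroup.mul_mem _ (c2 _ ha) (inv_mem hn)) hb)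
      one_mem' := Or.inl (one_mem _)
      inv_mem' := by
        rintro a (ha | ha)
        · exact Or.inl (inv_mem ha)
        · exact Or.inr (by simpa [mul_assoc] using Subgroup.mul_mem _ (c1 _ (inv_mem ha)) hn) }
  have hle : (D1 p.2).map φ ≤ T1.map φ := map_mono fun q hq => mem_cent.2 hq.1
  have h3 : ∀ q, φ q ∈ M ↔ q ∈ D1 p.2 := fun q => ⟨fun e => e.elim (mem_map_iff_mem h.inj).1 fun e =>
    absurd ((mul_mem_cancel_right (show φ q ∈ φ.range from ⟨q, rfl⟩)).1 (map_le_range _ _ e)) h.n2,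
      fun e => Or.inl (mem_map_of_mem φ e)⟩
  have h4 : n ∈ M := Or.inr hn
  have h5 : ∀ ε, ∀ q ∈ T1, Xor (q * y1 ∈ D1 ε) (q ∈ D1 ε) := by decide +kernel
  have hM : M.relIndex (normalizer (T1.map φ : Set G)) = 2 := by
    refine relIndex_eq_two_iff.2 ⟨φ y1, le_normalizer (mem_map_of_mem φ (by decide +kernel)), fun m hm => ?_⟩
    by_cases e : m ∈ T1.map φ
    · obtain ⟨q, hq, rfl⟩ := e
      rw [← map_mul, h3, h3]; exact h5 _ q hq
    · obtain ⟨q, hq, e1⟩ := h.mul_mem hm e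
      rw [← mul_mem_cancel_left h4, ← mul_mem_cancel_left (y := m) h4, ← mul_assoc, ← e1, ← map_mul, h3, h3]; exact h5 _ q hq
  obtain ⟨g, g1, g2⟩ := Amalg.thompson_transfer_extremal h2 (Nat.not_even_iff_odd.1 fun e => h.syl.3 (by
    rw [relIndex_top_right]; exact e.two_dvd)) hM (t := φ y1) ((orderOf_injective φ h.inj _).trans (two_iff.2 (by decide)))
    h.pT ((map_le_range _ _).trans h.cy.ge)
  have g3 := h.cjT (g := g⁻¹) (cj_le_iff.2 (by simpa using g2))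
  rw [← inv_inv g, inv_inv g⁻¹] at g1
  by_cases e : g⁻¹ ∈ T1.map φ
  · rw [mul_inv_eq_iff_eq_mul.2 (mem_cent.1 (h.cy.ge (map_le_range _ _ e))).eq, h3] at g1
    exact (by decide +kernel : ∀ ε, y1 ∉ D1 ε) _ g1
  · rw [(h.of g3 e).ny, h3] at g1
    exact (by decide +kernel : ∀ ε, z1 * y1 ∉ D1 ε) _ g1

end C5

end Cfsg.Lib.Layer.Wong
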