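import Cfsg.Agent.Lib.Layer.Wong6

/-!
# Wong's theorem on primitive groups with a suborbit of length three
-/

set_option autoImplicit false
set_option maxRecDepth 100000
set_option synthInstance.maxSize 100000
set_option synthInstance.maxHeartbeats 200000
set_option linter.unusedSectionVars false

namespace Cfsg.Lib.Layer.Wong

open Cfsg Cfsg.Lib.Invol Cfsg.Lib.Transfer Cfsg.Lib.Exc Cfsg.Lib.Linear Subgroup
open Cfsg.Lib.GW (DC2 No2 Nc Kl Two IsPL2 UU)
open Equiv.Perm (sign)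
open scoped commutatorElement

variable {G : Type*} [Group G] [Finite G]

namespace C5

variable {φ : PP →* G} {n : G} (h : C5 φ n)
include h

theorem cov {N : Subgroup G} [hN : N.Normal] (h1 : ∀ q, sign q = 1 → φ (q, 1) ∈ N) (g : G) : g ∈ N ∨ g * φ y1 ∈ N := by
  obtain ⟨p, p1, p2, p3, p4⟩ := h.nb
  have h2 : φ p ∈ N := p4 ▸ hN.conj_mem _ (h1 b0 (by decide)) n
  have h3 : N ≠ ⊥ := fun e => ne_one_of_two h.kl.hb (mem_bot.1 (e ▸ h1 b0 (by decide)))
  obtain ⟨_, ⟨q, rfl⟩, v, hv, rfl⟩ := mem_sup_of_normal_right.1 ((h.sup h3).ge (mem_top g))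
  have h4 : φ q * v * φ y1 ∈ N ↔ φ (q * y1) ∈ N := by
    rw [map_mul, show φ q * v * φ y1 = φ q * v * (φ q)⁻¹ * (φ q * φ y1) by group, mul_mem_cancel_left (hN.conj_mem _ hv _)]
  rw [h4, mul_mem_cancel_right hv, ← mul_mem_cancel_right h2, ← map_mul, ← mul_mem_cancel_right (y := φ (q * y1)) h2, ← map_mul]
  rcases (by decide +kernel : ∀ p : PP, sign p.1 ≠ 1 → ∀ q : PP, ∃ a, sign a = 1 ∧ (q * p = (a, 1) ∨ q * p = (a, 1) * p ∨
    q * y1 * p = (a, 1) ∨ q * y1 * p = (a, 1) * p)) p p3 q with ⟨a, ha, e | e | e | e⟩ <;> rw [e]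
  exacts [Or.inl (h1 a ha), Or.inl (by rw [map_mul]; exact Subgroup.mul_mem _ (h1 a ha) h2), Or.inr (h1 a ha),
    Or.inr (by rw [map_mul]; exact Subgroup.mul_mem _ (h1 a ha) h2)]

omit h in
theorem der {N : Subgroup G} (h1 : ∀ a, ∃ e, φ (a, e) ∈ N) (q : Equiv.Perm (Fin 4)) (hq : sign q = 1) : φ (q, 1) ∈ ⁅N, N⁆ := by
  obtain ⟨a, b, rfl⟩ := (by decide +kernel : ∀ g : Equiv.Perm (Fin 4), sign g = 1 →
    ∃ a b : Equiv.Perm (Fin 4), ⁅a, b⁆ = g) q hq
  obtain ⟨e, he⟩ := h1 a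
  obtain ⟨f, hf⟩ := h1 b
  have := commutator_mem_commutator he hf
  rwa [← map_commutatorElement, show ⁅(a, e), (b, f)⁆ = (⁅a, b⁆, 1) from
    Prod.ext rfl (commutatorElement_eq_one_iff_mul_comm.2 (mul_comm e f))] at this

theorem uu (ho : Odd (Nat.card (UU (φ z1)))) : UU (φ z1) = ⊥ := by
  have k : Kl (φ b1) (φ y1) := kl_map h.inj (by decide)
  have c : ∀ p, p * z1 = z1 * p → Commute (φ p) (φ z1) := fun p hp => Commute.map hp φ
  have four : ∀ u ∈ UU (φ z1), ∀ m p, φ p = m⁻¹ * u * m → p ^ 4 = 1 → u ∈ (⊥ : Subgroup G) := fun u hu m p e hp => by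
    refine Two.eq_one ⟨2, ?_⟩ (ho.of_dvd_nat (orderOf_dvd_natCard _ hu))
    rw [show u = m * φ p * m⁻¹ by rw [e]; group, conj_pow, ← map_pow, show 2 ^ 2 = 4 from rfl, hp]; simp
  refine le_bot_iff.1 (k.gen ho (GW.mem_norm_UU (c _ (by decide))) (GW.mem_norm_UU (c _ (by decide)))
    (fun u hu => ?_) (fun u hu => ?_) fun u hu => ?_)
  · obtain ⟨p, rfl⟩ := h.nV.le (centralizer_le_normalizer _ (h.kl.mem_cent_iff.2 ⟨GW.UU_comm hu.1, mem_cent.1 hu.2⟩))
    exact four _ hu.1 1 p (by simp) ((by decide +kernel : ∀ p, p * z1 = z1 * p → p ^ 4 = 1) p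
      (h.inj (by simpa using (GW.UU_comm hu.1).eq)))
  · obtain ⟨p, rfl⟩ := h.cy.le hu.2
    exact four _ hu.1 1 p (by simp) ((by decide +kernel : ∀ p, p * z1 = z1 * p → p ^ 4 = 1) p
      (h.inj (by simpa using (GW.UU_comm hu.1).eq)))
  · obtain ⟨x, hx⟩ := (by decide +kernel : ∃ x, x * (z1 * y1) * x⁻¹ = b1 * y1)
    have e : φ x * n * φ y1 * (φ x * n)⁻¹ = φ b1 * φ y1 := by
      rw [← GW.conj_mul', h.ny, ← map_inv, ← map_mul, ← map_mul, hx, map_mul]
    have key : ∀ v, Commute v (φ b1 * φ y1) → ∃ p, φ p = (φ x * n)⁻¹ * v * (φ x * n) := fun v hv => h.cy.le (mem_cent.2 (by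
      have := commute_conj (φ x * n)⁻¹ hv
      rw [← e] at this
      simpa [mul_assoc] using this))
    obtain ⟨p, hp⟩ := key u (mem_cent.1 hu.2)
    obtain ⟨q, hq⟩ := key (φ z1) (by rw [← map_mul]; exact (c _ (by decide)).symm)
    refine four _ hu.1 _ p hp ((by decide +kernel : ∀ p q : PP, q * q = 1 → q ≠ 1 → q ≠ y1 → p * q = q * p → p ^ 4 = 1) p q
      (h.inj ?_) (fun e1 => ?_) (fun e1 => ?_) (h.inj ?_))
    · rw [map_mul, hq, map_one, ← inv_inv (φ x * n), inv_inv (φ x * n)⁻¹, conj_mul, mul_self_of_two h.kl.ha]; simp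
    · rw [e1, map_one, eq_comm, mul_assoc, inv_mul_eq_one, eq_comm, mul_eq_right] at hq; exact ne_one_of_two h.kl.ha hq
    · rw [e1] at hq
      rw [← map_mul φ b1, hq, show φ x * n * ((φ x * n)⁻¹ * φ z1 * (φ x * n)) * (φ x * n)⁻¹ = φ z1 by group] at e
      exact absurd (h.inj e) (by decide)
    · have := commute_conj (φ x * n)⁻¹ (GW.UU_comm hu.1)
      rw [inv_inv] at this
      rw [map_mul, map_mul, hp, hq, this.eq]

theorem ans : Ans G := by
  have y2 : φ y1 * φ y1 = 1 := by rw [← map_mul, (by decide +kernel : y1 * y1 = 1), map_one]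
  let K : Subgroup G := ⁅(⊤ : Subgroup G), (⊤ : Subgroup G)⁆
  have k1 : ∀ q, sign q = 1 → φ (q, 1) ∈ K := der fun a => ⟨1, trivial⟩
  have k2 := h.cov k1
  have k3 : φ y1 ∉ K := fun e => h.idx fun L hL => by
    have : L = ⊤ := eq_top_iff.2 fun g _ => commutator_le_of_index_two hL ((k2 g).elim id (mul_mem_cancel_right e).1)
    rw [this, index_top] at hL; omega
  have k4 : K.index = 2 := index_eq_two_iff.2 ⟨φ y1, fun g => (k2 g).elim
    (fun e => Or.inr ⟨e, fun e1 => k3 ((mul_mem_cancel_left e).1 e1)⟩)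
    fun e => Or.inl ⟨e, fun e1 => k3 ((mul_mem_cancel_left e1).1 e)⟩⟩
  have k5 : ⁅K, K⁆ = K := le_antisymm (commutator_le_self K) fun g hg => (h.cov (der fun a => (k2 (φ (a, 1))).elim
    (fun e => ⟨1, e⟩) fun e => ⟨_, by rw [← map_mul] at e; simpa [y1] using e⟩) g).resolve_right
      fun e => k3 ((mul_mem_cancel_left hg).1 (commutator_le_self K e))
  have k6 : ⁅(⊤ : Subgroup K), (⊤ : Subgroup K)⁆ = ⊤ := map_injective K.subtype_injective (by
    rw [map_commutator, ← MonoidHom.range_eq_map, range_subtype, k5])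
  have kc := h.cent_bot k4
  have k16 : 16 ∣ Nat.card K := by
    have := card_subgroup_dvd_card (normalizer (T1.map φ : Set G))
    rw [h.c32, ← K.card_mul_index, k4] at this
    omega
  let z' : K := ⟨φ z1, k1 _ (by decide)⟩
  let b' : K := ⟨φ b1, k1 _ (by decide)⟩
  have hk : Kl z' b' := ⟨(orderOf_coe z').symm.trans h.kl.ha, (orderOf_coe b').symm.trans h.kl.hb,
    fun e => h.kl.ne (congrArg Subtype.val e), Subtype.ext h.kl.comm.eq⟩
  have hS : SC z' b' := fun ⟨g, hg⟩ h1 h2 => by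
    have h3 : Commute g (φ z1) := congrArg Subtype.val h1.eq
    have h4 : Commute g (φ b1) := congrArg Subtype.val h2.eq
    obtain ⟨p, rfl⟩ := h.nV.le (centralizer_le_normalizer _ (h.kl.mem_cent_iff.2 ⟨h3, h4⟩))
    rcases (by decide +kernel : ∀ p, p * z1 = z1 * p → p * b1 = b1 * p → (p = 1 ∨ p = z1 ∨ p = b1 ∨ p = z1 * b1) ∨
      ∃ a, sign a = 1 ∧ p = (a, 1) * y1) p (h.inj (by simpa using h3.eq)) (h.inj (by simpa using h4.eq)) with e | ⟨a, ha, rfl⟩
    · rw [hk.mem_iff]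
      simp only [Subtype.ext_iff]
      exact (h.kl.mem_iff _).1 (mem_kl e)
    · rw [map_mul, mul_mem_cancel_left (k1 a ha)] at hg; exact absurd hg k3
  have hO := Core.pPrimeCore_eq_bot_of_normal h.oc K
  rcases dq hk hS with hD | ⟨S, s1, s2⟩
  · exfalso
    rcases hD.known_of_perfect hO k6 (fun e => ne_one_of_two hk.ha (mem_bot.1 (e ▸ mem_top _))) with ⟨F, _, _, ho, h4, ⟨e⟩⟩ | ⟨⟨e⟩⟩
    swap
    · rw [Nat.card_congr e.toEquiv, nat_card_alternatingGroup] at k16; simp [Nat.factorial] at k16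
    obtain ⟨f⟩ := GW.nonempty_fr K kc e
    have ho' : Odd (Nat.card F) := by rwa [Nat.card_eq_fintype_card]
    have h2 := Known.two_ne_zero_of_odd ho'
    by_cases hy : f.Φ (φ y1) = 1
    · have h5 : ∀ g, f.Φ g = 1 := fun g => (k2 g).elim f.ΦE fun e => by simpa [hy] using f.ΦE e
      have h6 : orderOf (f.κ (φ y1)) = 2 := (f.order hy).trans (two_iff.2 ⟨y2, fun e => k3 (e ▸ one_mem _)⟩)
      have h7 : ∀ p : PP, p * p ≠ 1 → f.κ (φ p) ∈ tor (f.κ (φ y1)) := fun p hp => by_contra fun e => by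
        have := mul_self_of_two ((f.order (h5 _)).symm.trans (orderOf_of_not_mem_tor h2
          ((f.comm_iff (h5 _) hy).2 (mem_cent.1 (h.cy.ge ⟨p, rfl⟩))) e))
        exact hp (h.inj (by simpa using this))
      obtain ⟨p, q, hp, hq, e⟩ := (by decide +kernel : ∃ p q : PP, p * p ≠ 1 ∧ q * q ≠ 1 ∧ p * q ≠ q * p)
      have := isCyclic_tor h2 h6
      have h8 : Commute (f.κ (φ p)) (f.κ (φ q)) := commute_of_mulComm inferInstance (h7 p hp) (h7 q hq)
      exact e (h.inj (by simpa using ((f.comm_iff (h5 _) (h5 _)).1 h8).eq))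
    · have h5 := card_fixed_pow (f.Φ (φ y1))
      rw [two_iff.2 ⟨by rw [← map_mul, y2, map_one], hy⟩] at h5
      have z1' := f.ΦE z'.2
      obtain ⟨c, c1, c2⟩ := exists_gen_tor h2 ((f.order z1').trans h.kl.ha)
      obtain ⟨c, c3, rfl⟩ := f.exists_E (c1.le (mem_zpowers c)).2
      have c4 := (f.comm_iff (f.ΦE c3) z1').1 (commute_of_mem_tor (c1.le (mem_zpowers _)).1)
      have hU := h.uu ((hD.odd_UU hk.ha).of_dvd_nat (by
        rw [← card_map_of_injective K.subtype_injective]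
        refine card_dvd_of_le (resOf_le_iff.2 fun g g1 g2 => ?_)
        have g3 : g ∈ K := by
          obtain ⟨m, hm⟩ := Nat.coprime_two_right.1 g2
          have := pow_mem (sq_mem_of_index_two k4 g) (m + 1)
          rwa [← pow_mul, show 2 * (m + 1) = orderOf g + 1 by omega, pow_succ, pow_orderOf_eq_one, one_mul] at this
        exact ⟨⟨g, g3⟩, GW.mem_UU (Subtype.ext (mem_cent.1 g1).eq) (by rw [← orderOf_coe]; exact Nat.coprime_two_right.1 g2), rfl⟩))
      obtain ⟨a, -, b, hb, ⟨k, a1⟩, b1, e1⟩ := GW.exists_two_odd c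
      rw [mem_bot.1 (hU.le (GW.mem_UU (mem_cent.1 (zpowers_le.2 (mem_cent.2 c4) hb)) b1)), mul_one] at e1
      obtain ⟨j, -, hj⟩ := (Nat.dvd_prime_pow Nat.prime_two).1 (orderOf_dvd_of_pow_eq_one (e1 ▸ a1))
      rw [f.order (f.ΦE c3), hj, ← h5] at c2
      have c5 := card_PSL_two_of_odd ho'
      rw [← Nat.card_congr e.toEquiv] at c5
      have := pow_two_sq c2 (h5 ▸ ho') (h5 ▸ sixteen (Nat.odd_iff.1 ho') c5 k16)
      rw [h5, Nat.card_eq_fintype_card] at this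
      omega
  · refine (qd_glt s1 s2 hO (fun L hL => ?_) hk hS).elim fun f hf => ?_
    · have := commutator_le_of_index_two hL
      rw [_root_.commutator_def, k6, top_le_iff] at this
      rw [this, index_top] at hL; omega
    rcases hf.iso with e1 | ⟨⟨e1⟩⟩
    · exact Or.inr (Or.inr (Or.inr (Or.inr (Or.inr (Or.inr (Or.inr ⟨K, inferInstance, k4, kc, e1⟩))))))
    · have h1 : Inn Spor.M11 = ⊤ := index_eq_one.1 Agent.S2060.result
      obtain ⟨g, hg⟩ := h1.ge (mem_top (MulAut.congr e1 (MulAut.conjNormal (φ y1))))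
      obtain ⟨g, rfl⟩ := e1.surjective g
      have h2 : (g : G)⁻¹ * φ y1 ∈ centralizer (K : Set G) := fun x hx => by
        have h3 := congrArg Subtype.val (e1.injective ((show e1 (g * ⟨x, hx⟩ * g⁻¹) = _ by simp).trans
          ((DFunLike.congr_fun hg (e1 ⟨x, hx⟩)).trans (show _ = e1 (MulAut.conjNormal (φ y1) ⟨x, hx⟩) by simp))))
        have h4 : (g : G) * x * (g : G)⁻¹ = φ y1 * x * (φ y1)⁻¹ := h3
        rw [mul_assoc (g : G)⁻¹, eq_inv_mul_iff_mul_eq, mul_inv_eq_iff_eq_mul.1 h4.symm]; group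
      rw [kc, mem_bot, inv_mul_eq_one] at h2
      exact absurd (h2 ▸ g.2) k3

end C5

theorem Cx.s42 {H : Subgroup G} (h : Cx H) {g : G} (h3 : (H ⊓ cj g H).relIndex H = 3) (e : H ≃* PP) : Ans G := by
  have hc : Nat.card H = 48 := by rw [Nat.card_congr e.toEquiv]; simp [Fintype.card_perm, Nat.factorial]
  obtain ⟨φ, hφ, rfl⟩ := exists_emb e
  have c16 : Nat.card (T1.map φ) = 16 := by rw [card_map_of_injective hφ, Nat.card_eq_fintype_card]; decide +kernel
  obtain ⟨n, n1, n2⟩ := exists_norm h3 (k := 4) hc (T := T1.map φ) ⟨map_le_range _ _, IsPGroup.of_card (n := 4) c16, by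
    have := Transfer.card_mul_relIndex (map_le_range φ T1)
    rw [c16, hc] at this; omega⟩
  exact C5.ans ⟨h, hφ, n1, n2⟩

end Cfsg.Lib.Layer.Wong
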